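import Groth.Agent.Div89.Stalk
import Groth.Agent.QC70.Sections
import Groth.Prelude.Def_CohB1
import Groth.Prelude.Def_CInt

/-!
Consequences of the affine description of weakly associated points.
-/

set_option autoImplicit false
set_option linter.style.haveILetI false
set_option backward.isDefEq.respectTransparency.types false

noncomputable section

universe u

open CategoryTheory CategoryTheory.Limits AlgebraicGeometry Opposite TopologicalSpace

namespace Groth.Agent.Div89

variable {X : Scheme.{u}}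

/-- A nonzero section over an affine open has nonzero germ at some weakly associated point. -/
lemma exists_weakAssPoint_of_ne_zero (F : X.Modules) (hF : Coh.IsQCoh F) (U : X.affineOpens)
    (m : Γ(F, U.1)) (hm : m ≠ 0) :
    ∃ (x : X) (hx : x ∈ U.1), Curv2.IsWeakAssPoint F x ∧ F.presheaf.germ U.1 x hx m ≠ 0 := by
  obtain ⟨p, hp, hann⟩ := CAlg5.exists_mem_weakAss (R := Γ(X, U.1)) hm
  haveI := CAlg5.weakAss_isPrime hp
  obtain ⟨x, hx, rfl⟩ := exists_point U p
  refine ⟨x, hx, (isWeakAssPoint_iff F hF U x hx).2 hp, fun h => ?_⟩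
  obtain ⟨t, ht, htm⟩ := (germ_eq_zero_iff F hF U x hx m).1 h
  exact ht (hann t htm)

lemma eq_zero_of_germ_weakAss (F : X.Modules) (hF : Coh.IsQCoh F) (U : X.affineOpens)
    (m : Γ(F, U.1))
    (h : ∀ (x : X) (hx : x ∈ U.1), Curv2.IsWeakAssPoint F x → F.presheaf.germ U.1 x hx m = 0) :
    m = 0 := by
  by_contra hm
  obtain ⟨x, hx, hw, hne⟩ := exists_weakAssPoint_of_ne_zero F hF U m hm
  exact hne (h x hx hw)

/-- A section vanishes as soon as its germs at the weakly associated points do. -/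
lemma section_eq_zero_of_germ_weakAss (F : X.Modules) (hF : Coh.IsQCoh F) {V : X.Opens}
    (m : Γ(F, V))
    (h : ∀ (x : X) (hx : x ∈ V), Curv2.IsWeakAssPoint F x → F.presheaf.germ V x hx m = 0) :
    m = 0 := by
  refine QC70.section_ext F m 0 fun p hp => ?_
  obtain ⟨W, hW, hpW, hWV⟩ := exists_isAffineOpen_mem_and_subset (X := X) (x := p) (U := V) hp
  replace hWV : W ≤ V := hWV
  refine ⟨W, hWV, hpW, ?_⟩
  rw [QC70.res_zero]
  refine eq_zero_of_germ_weakAss F hF ⟨W, hW⟩ _ fun x hx hw => ?_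
  rw [QC70.res, TopCat.Presheaf.germ_res_apply]
  exact h x (hWV hx) hw

lemma res_injective_of_weakAss_subset (F : X.Modules) (hF : Coh.IsQCoh F) (U V : X.Opens)
    (hle : U ≤ V) (hU : ∀ x ∈ V, Curv2.IsWeakAssPoint F x → x ∈ U) :
    Function.Injective (F.presheaf.map (homOfLE hle).op) := by
  rw [← AddMonoidHom.coe_coe, injective_iff_map_eq_zero]
  intro m hm
  refine section_eq_zero_of_germ_weakAss F hF m fun x hx hw => ?_
  rw [← TopCat.Presheaf.germ_res_apply F.presheaf (homOfLE hle) x (hU x hx hw) m]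
  exact (congrArg _ hm).trans (map_zero _)

lemma mono_of_germ_injective {F G : X.Modules} (φ : F ⟶ G) (hF : Coh.IsQCoh F)
    (h : ∀ x : X, Function.Injective
        ((TopCat.Presheaf.stalkFunctor AddCommGrpCat.{u} x).map φ.mapPresheaf) ∨
      ¬ Curv2.IsWeakAssPoint F x) : Mono φ := by
  refine QC70.mono_of_app_injective φ fun U => ?_
  rw [← AddMonoidHom.coe_coe, injective_iff_map_eq_zero]
  intro m hm
  refine section_eq_zero_of_germ_weakAss F hF m fun x hx hw => ?_
  refine ((h x).resolve_right (not_not_intro hw)) ?_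
  exact ((TopCat.Presheaf.stalkFunctor_map_germ_apply U x hx φ.mapPresheaf m).trans
    ((congrArg _ hm).trans (map_zero _))).trans (map_zero _).symm

lemma isZero_of_no_weakAss (F : X.Modules) (hF : Coh.IsQCoh F)
    (h : ∀ x : X, ¬ Curv2.IsWeakAssPoint F x) : IsZero F := by
  rw [IsZero.iff_id_eq_zero]
  ext U m
  have hm : m = 0 := section_eq_zero_of_germ_weakAss F hF m fun x _ hw => absurd hw (h x)
  rw [hm, map_zero, map_zero]

lemma not_isWeakAssPoint_of_isZero (F : X.Modules) (hF : IsZero F) (x : X) :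
    ¬ Curv2.IsWeakAssPoint F x := by
  rintro ⟨m, hm⟩
  have : m = 0 := by
    obtain ⟨V, hxV, v, rfl⟩ := F.presheaf.exists_germ_eq m
    have h1 : (𝟙 F : F ⟶ F) = 0 := hF.eq_of_src _ _
    have h2 : v = 0 := congr((Scheme.Modules.Hom.app $h1 V) v)
    rw [h2, map_zero]
  subst this
  refine (IsLocalRing.maximalIdeal.isMaximal (X.presheaf.stalk x)).ne_top (hm.symm.trans ?_)
  rw [LinearMap.toSpanSingleton_zero, LinearMap.ker_zero, Ideal.radical_top]

lemma isWeakAssPoint_of_maximal_support (F : X.Modules) (hF : Coh.IsQCoh F) (x : X)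
    (hx : x ∈ CohB1.support F) (hmax : ∀ y ∈ CohB1.support F, y ⤳ x → y = x) :
    Curv2.IsWeakAssPoint F x := by
  obtain ⟨U, hxU⟩ := exists_affine_mem x
  obtain ⟨m, hm⟩ := (mem_support_iff_exists F hF U x hxU).1 hx
  rw [isWeakAssPoint_iff F hF U x hxU]
  refine ⟨m, ⟨inferInstance, fun t ht => hm t (CAlg5.mem_ann.1 ht)⟩, fun q hq hle => ?_⟩
  haveI := hq.1
  obtain ⟨y, hy, rfl⟩ := exists_point U q
  have hys : y ∈ CohB1.support F :=
    (mem_support_iff_exists F hF U y hy).2 ⟨m, fun t ht => hq.2 (CAlg5.mem_ann.2 ht)⟩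
  obtain rfl := hmax y hys ((specializes_iff_primeAt_le U hxU hy).2 hle)
  exact le_rfl

/-- The section maps of a morphism of modules, linear over the functions. -/
def appLin {F G : X.Modules} (φ : F ⟶ G) (U : X.Opens) : Γ(F, U) →ₗ[Γ(X, U)] Γ(G, U) where
  toFun := φ.app U
  map_add' := map_add _
  map_smul' r m := Scheme.Modules.Hom.app_smul φ r m

lemma isWeakAssPoint_of_mono {F G : X.Modules} (φ : F ⟶ G) [Mono φ] (hF : Coh.IsQCoh F)
    (hG : Coh.IsQCoh G) (x : X) (hx : Curv2.IsWeakAssPoint F x) : Curv2.IsWeakAssPoint G x := by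
  obtain ⟨U, hxU⟩ := exists_affine_mem x
  rw [isWeakAssPoint_iff _ hF U x hxU] at hx
  rw [isWeakAssPoint_iff _ hG U x hxU]
  exact CAlg5.weakAss_subset_of_injective (appLin φ U.1) (QC70.app_injective_of_mono φ U.1) hx

lemma isWeakAssPoint_middle (S : ShortComplex X.Modules) (hS : S.ShortExact)
    (h₁ : Coh.IsQCoh S.X₁) (h₂ : Coh.IsQCoh S.X₂) (h₃ : Coh.IsQCoh S.X₃) (x : X)
    (hx : Curv2.IsWeakAssPoint S.X₂ x) :
    Curv2.IsWeakAssPoint S.X₁ x ∨ Curv2.IsWeakAssPoint S.X₃ x := by
  have := hS.mono_f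
  obtain ⟨U, hxU⟩ := exists_affine_mem x
  rw [isWeakAssPoint_iff _ h₂ U x hxU] at hx
  rw [isWeakAssPoint_iff _ h₁ U x hxU, isWeakAssPoint_iff _ h₃ U x hxU]
  refine CAlg5.weakAss_subset_union (appLin S.f U.1) (appLin S.g U.1)
    (QC70.app_injective_of_mono S.f U.1) (fun y => ⟨fun hy => ?_, ?_⟩) hx
  · exact QC70.exists_app_eq_of_exact S hS.exact U.1 y hy
  · rintro ⟨z, rfl⟩
    exact QC70.app_f_g S U.1 z

/-! ### The structure sheaf -/

lemma isQCoh_structureModule (X : Scheme.{u}) : Coh.IsQCoh (Coh.structureModule X) :=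
  QC70.isQuasicoherent_of_forall_isLocAt _ fun U hU => by
    constructor
    · intro f s
      haveI := hU.isLocalization_basicOpen f
      obtain ⟨⟨t, ⟨_, n, rfl⟩⟩, ht⟩ :=
        IsLocalization.surj (Submonoid.powers f) (show Γ(X, X.basicOpen f) from s)
      refine ⟨n, t, ht.symm.trans ?_⟩
      rw [mul_comm]
      exact congrArg (fun a : Γ(X, X.basicOpen f) => a * (show Γ(X, X.basicOpen f) from s))
        (map_pow (X.presheaf.map (homOfLE (X.basicOpen_le f)).op).hom f n)
    · intro f t ht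
      haveI := hU.isLocalization_basicOpen f
      obtain ⟨⟨_, n, rfl⟩, hn⟩ := (IsLocalization.map_eq_zero_iff (Submonoid.powers f)
        Γ(X, X.basicOpen f) (show Γ(X, U) from t)).1 ht
      exact ⟨n, hn⟩

lemma isWeakAssPoint_structureModule_iff (U : X.affineOpens) (x : X) (hx : x ∈ U.1) :
    Curv2.IsWeakAssPoint (Coh.structureModule X) x ↔
      primeAt U x hx ∈ FlatCA.weakAss Γ(X, U.1) Γ(X, U.1) :=
  isWeakAssPoint_iff _ (isQCoh_structureModule X) U x hx

/-- The same for the local ring as a module over itself. -/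
lemma isAssociatedPrime_maximalIdeal_iff (U : X.affineOpens) (x : X) (hx : x ∈ U.1) :
    IsAssociatedPrime (IsLocalRing.maximalIdeal (X.presheaf.stalk x)) (X.presheaf.stalk x) ↔
      primeAt U x hx ∈ FlatCA.weakAss Γ(X, U.1) Γ(X, U.1) := by
  letI := stalkAlg U.1 x hx
  haveI := isLocalization_stalk U x hx
  haveI : IsLocalizedModule (primeAt U x hx).primeCompl
      (Algebra.linearMap Γ(X, U.1) (X.presheaf.stalk x)) :=
    (isLocalizedModule_iff_isLocalization' _ _).2 inferInstance
  have hc : (IsLocalRing.maximalIdeal (X.presheaf.stalk x)).comap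
      (algebraMap Γ(X, U.1) (X.presheaf.stalk x)) = primeAt U x hx :=
    IsLocalization.AtPrime.under_maximalIdeal (X.presheaf.stalk x) (primeAt U x hx)
  have hd : Disjoint ((primeAt U x hx).primeCompl : Set Γ(X, U.1))
      (primeAt U x hx : Set Γ(X, U.1)) :=
    Set.disjoint_left.2 fun a ha hb => ha hb
  have h : IsAssociatedPrime (IsLocalRing.maximalIdeal (X.presheaf.stalk x)) (X.presheaf.stalk x) ↔
      IsLocalRing.maximalIdeal (X.presheaf.stalk x) ∈
        FlatCA.weakAss (X.presheaf.stalk x) (X.presheaf.stalk x) := by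
    have e : ∀ m : X.presheaf.stalk x, (⊥ : Submodule (X.presheaf.stalk x) (X.presheaf.stalk x)).colon {m} =
        (Submodule.span (X.presheaf.stalk x) {m}).annihilator := by
      intro m
      ext r
      rw [CAlg5.mem_ann, Submodule.mem_colon_singleton, Submodule.mem_bot]
    constructor
    · rintro ⟨-, m, hm⟩
      rw [e] at hm
      exact ⟨m, ⟨inferInstance, Ideal.le_radical.trans hm.ge⟩,
        fun q hq _ => hm.le.trans (hq.1.radical_le_iff.2 hq.2)⟩
    · rintro ⟨m, hm⟩
      refine ⟨inferInstance, m, ?_⟩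
      rw [e]
      refine le_antisymm ?_ ((IsLocalRing.maximalIdeal.isMaximal _).isPrime.radical_le_iff.2 hm.1.2)
      rw [Ideal.radical_eq_sInf]
      exact le_sInf fun q hq => hm.2 ⟨hq.2, hq.1⟩ (IsLocalRing.le_maximalIdeal hq.2.ne_top)
  rw [h, CAlg5.mem_weakAss_iff_comap_mem (primeAt U x hx).primeCompl (X.presheaf.stalk x), hc,
    ← CAlg5.mem_weakAss_localized_iff (primeAt U x hx).primeCompl
      (Algebra.linearMap Γ(X, U.1) (X.presheaf.stalk x)) hd]

lemma isWeakAssPoint_structureModule_iff' (x : X) :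
    Curv2.IsWeakAssPoint (Coh.structureModule X) x ↔
      IsAssociatedPrime (IsLocalRing.maximalIdeal (X.presheaf.stalk x)) (X.presheaf.stalk x) := by
  obtain ⟨U, hx⟩ := exists_affine_mem x
  rw [isWeakAssPoint_structureModule_iff U x hx, isAssociatedPrime_maximalIdeal_iff U x hx]

lemma isSchematicallyDense_of_weakAss (U : X.Opens)
    (h : ∀ x : X, Curv2.IsWeakAssPoint (Coh.structureModule X) x → x ∈ U) :
    CInt.IsSchematicallyDense U := fun V =>
  res_injective_of_weakAss_subset (Coh.structureModule X) (isQCoh_structureModule X)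
    (V ⊓ U) V inf_le_left fun x hx hw => ⟨hx, h x hw⟩

lemma mem_of_isSchematicallyDense [IsLocallyNoetherian X] {U : X.Opens}
    (hU : CInt.IsSchematicallyDense U) (x : X)
    (hx : Curv2.IsWeakAssPoint (Coh.structureModule X) x) : x ∈ U := by
  by_contra hxU
  obtain ⟨W, hxW⟩ := exists_affine_mem x
  set p := primeAt W x hxW with hp
  have : IsNoetherianRing Γ(X, W.1) := IsLocallyNoetherian.component_noetherian W
  obtain ⟨m, h1, h2⟩ := CAlg5.mem_weakAss_iff.1 ((isWeakAssPoint_structureModule_iff W x hxW).1 hx)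
  obtain ⟨T, hT⟩ := (IsNoetherian.noetherian p : p.FG)
  have hTp : ∀ r ∈ T, r ∈ p := fun r hr => hT ▸ Ideal.subset_span hr
  choose! s hs n hn using fun r (hr : r ∈ T) => h2 r (hTp r hr)
  classical
  have hsp : (∏ r ∈ T, s r) ∉ p :=
    prod_mem (S := p.primeCompl) fun r hr => hs r hr
  have hne : (∏ r ∈ T, s r) * m ≠ 0 := fun h => hsp (h1 _ h)
  refine hne (hU W.1 ?_)
  rw [map_zero]
  refine TopCat.Presheaf.section_ext X.sheaf (W.1 ⊓ U) _ 0 fun z hz => ?_
  show X.presheaf.germ (W.1 ⊓ U) z hz _ = X.presheaf.germ (W.1 ⊓ U) z hz 0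
  rw [map_zero, TopCat.Presheaf.germ_res_apply]
  have hnle : ¬ p ≤ primeAt W z hz.1 := fun hle =>
    hxU (mem_affine_of_specializes ((specializes_iff_primeAt_le W hz.1 hxW).2 hle) hz.2)
  obtain ⟨r, hr, hrz⟩ : ∃ r ∈ T, r ∉ primeAt W z hz.1 := by
    by_contra! hall
    exact hnle (hT ▸ Ideal.span_le.2 hall)
  have hu : IsUnit ((X.presheaf.germ W.1 z hz.1).hom r ^ n r) :=
    ((germ_isUnit_iff W z hz.1 r).2 hrz).pow _
  refine hu.mul_right_eq_zero.1 ?_
  rw [← map_pow, ← map_mul]
  refine (congrArg _ ?_).trans (map_zero (X.presheaf.germ W.1 z hz.1).hom)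
  obtain ⟨c, hc⟩ := Finset.dvd_prod_of_mem s hr
  have := hn r hr
  rw [smul_eq_mul] at this
  rw [hc]
  linear_combination c * this

end Groth.Agent.Div89
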