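import Groth.Agent.Div89.Basic

/-!
The ideal generated by an inverse image ideal sheaf in a local ring.
-/

set_option autoImplicit false
set_option linter.style.haveILetI false

universe u

open CategoryTheory AlgebraicGeometry Opposite

namespace Groth.Agent.Div89

variable {X Y Z : Scheme.{u}}

/-- Compatibility of the inverse image of `I` with stalk maps at a point. -/
def ComapStalk (f : X ⟶ Y) (I : Y.IdealSheafData) (x : X) : Prop :=
  stalkIdeal (I.comap f) x = (stalkIdeal I (f x)).map (f.stalkMap x).hom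

lemma ideal_comap_top_of_isAffine [IsAffine X] [IsAffine Y] (f : X ⟶ Y) (I : Y.IdealSheafData) :
    (I.comap f).ideal ⟨⊤, isAffineOpen_top X⟩ =
      (I.ideal ⟨⊤, isAffineOpen_top Y⟩).map f.appTop.hom := by
  refine le_antisymm ?_ ?_
  · let J : X.IdealSheafData :=
      .ofIdealTop ((I.ideal ⟨⊤, isAffineOpen_top Y⟩).map f.appTop.hom)
    have hJ : J.ideal ⟨⊤, isAffineOpen_top X⟩ =
        (I.ideal ⟨⊤, isAffineOpen_top Y⟩).map f.appTop.hom :=
      Scheme.IdealSheafData.equivOfIsAffine.apply_symm_apply _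
    have h : I.comap f ≤ J := by
      refine (Scheme.IdealSheafData.le_map_iff_comap_le).1 ?_
      refine Scheme.IdealSheafData.le_of_isAffine ?_
      rw [Scheme.IdealSheafData.ideal_map_of_isAffineHom]
      refine (Ideal.map_le_iff_le_comap).1 ?_
      exact hJ.ge
    exact (h _).trans hJ.le
  · rw [Ideal.map_le_iff_le_comap]
    refine (I.le_map_comap f ⟨⊤, isAffineOpen_top Y⟩).trans ?_
    rw [Scheme.IdealSheafData.ideal_map_of_isAffineHom]
    exact le_rfl

lemma comapStalk_of_isAffine [IsAffine X] [IsAffine Y] (f : X ⟶ Y) (I : Y.IdealSheafData) (x : X) :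
    ComapStalk f I x := by
  rw [ComapStalk, stalkIdeal_eq _ ⟨⊤, isAffineOpen_top X⟩ x trivial,
    stalkIdeal_eq _ ⟨⊤, isAffineOpen_top Y⟩ (f x) trivial, ideal_comap_top_of_isAffine,
    Ideal.map_map, Ideal.map_map, ← CommRingCat.hom_comp, ← CommRingCat.hom_comp]
  congr 2
  exact (Scheme.Hom.germ_stalkMap f ⊤ x trivial).symm

lemma comapStalk_of_isOpenImmersion (f : X ⟶ Y) [IsOpenImmersion f] (I : Y.IdealSheafData)
    (x : X) : ComapStalk f I x := by
  obtain ⟨U, hx⟩ := exists_affine_mem x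
  have hxV : f x ∈ f ''ᵁ U.1 := ⟨x, hx, rfl⟩
  rw [ComapStalk, stalkIdeal_eq _ U x hx,
    stalkIdeal_eq _ ⟨f ''ᵁ U.1, U.2.image_of_isOpenImmersion f⟩ (f x) hxV,
    Scheme.IdealSheafData.ideal_comap_of_isOpenImmersion]
  generalize I.ideal ⟨f ''ᵁ U.1, U.2.image_of_isOpenImmersion f⟩ = J
  have hc : J.comap (f.appIso U.1).inv.hom = J.map (f.appIso U.1).hom.hom :=
    (Ideal.map_comap_of_equiv (f.appIso U.1).commRingCatIsoToRingEquiv).symm
  rw [hc, Ideal.map_map, Ideal.map_map, ← CommRingCat.hom_comp, ← CommRingCat.hom_comp]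
  congr 2
  rw [Scheme.Hom.germ_stalkMap, Scheme.Hom.appIso_hom, Category.assoc, X.presheaf.germ_res]

lemma comapStalk_comp (f : X ⟶ Y) (g : Y ⟶ Z) (I : Z.IdealSheafData) (x : X)
    (hf : ComapStalk f (I.comap g) x) (hg : ComapStalk g I (f x)) : ComapStalk (f ≫ g) I x := by
  unfold ComapStalk at *
  rw [Scheme.IdealSheafData.comap_comp, hf, hg, Ideal.map_map, Scheme.Hom.stalkMap_comp]
  rfl

/-- The inverse image of an ideal sheaf generates the extended ideal in each local ring. -/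
theorem stalkIdeal_comap (f : X ⟶ Y) (I : Y.IdealSheafData) (x : X) :
    stalkIdeal (I.comap f) x = (stalkIdeal I (f x)).map (f.stalkMap x).hom := by
  obtain ⟨U, hU, hfx, -⟩ :=
    exists_isAffineOpen_mem_and_subset (X := Y) (x := f x) (U := ⊤) trivial
  obtain ⟨V, hV, hx, hVU⟩ :=
    exists_isAffineOpen_mem_and_subset (X := X) (x := x) (U := f ⁻¹ᵁ U) hfx
  replace hVU : V ≤ f ⁻¹ᵁ U := hVU
  have : IsAffine V.toScheme := hV
  have : IsAffine U.toScheme := hU
  let v : V.toScheme := ⟨x, hx⟩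
  have hP : ComapStalk (f.resLE U V hVU ≫ U.ι) I v :=
    comapStalk_comp _ _ _ _ (comapStalk_of_isAffine _ _ _) (comapStalk_of_isOpenImmersion _ _ _)
  rw [Scheme.Hom.resLE_comp_ι] at hP
  have hι := comapStalk_of_isOpenImmersion V.ι (I.comap f) v
  unfold ComapStalk at hP hι
  rw [Scheme.IdealSheafData.comap_comp, hι, Scheme.Hom.stalkMap_comp] at hP
  have hb : Function.Bijective (V.ι.stalkMap v).hom :=
    ConcreteCategory.bijective_of_isIso (V.ι.stalkMap v)
  have h2 : (stalkIdeal (I.comap f) x).map (V.ι.stalkMap v).hom =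
      ((stalkIdeal I (f x)).map (f.stalkMap x).hom).map (V.ι.stalkMap v).hom :=
    hP.trans (Ideal.map_map _ _).symm
  have h3 := congrArg (Ideal.comap (V.ι.stalkMap v).hom) h2
  exact (Ideal.comap_map_of_bijective _ hb).symm.trans (h3.trans (Ideal.comap_map_of_bijective _ hb))

lemma comap_mul (f : X ⟶ Y) (I J : Y.IdealSheafData) :
    (I * J).comap f = I.comap f * J.comap f := by
  refine ext_stalkIdeal fun x => ?_
  rw [stalkIdeal_comap, stalkIdeal_mul, stalkIdeal_mul, stalkIdeal_comap, stalkIdeal_comap,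
    Ideal.map_mul]

lemma comap_pow (f : X ⟶ Y) (I : Y.IdealSheafData) (n : ℕ) :
    (I ^ n).comap f = I.comap f ^ n := by
  refine ext_stalkIdeal fun x => ?_
  rw [stalkIdeal_comap, stalkIdeal_pow, stalkIdeal_pow, stalkIdeal_comap, Ideal.map_pow]

end Groth.Agent.Div89
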