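import Mathlib.AlgebraicGeometry.IdealSheaf.Functorial
import Mathlib.AlgebraicGeometry.Noetherian
import Mathlib.AlgebraicGeometry.Properties
import Mathlib.RingTheory.Ideal.KrullsHeightTheorem

/-!
Affine-local and stalk-local calculus for quasi-coherent ideal sheaves.
-/

set_option autoImplicit false
set_option linter.style.haveILetI false

universe u

open CategoryTheory AlgebraicGeometry Opposite

namespace Groth.Agent.Div89

variable {X : Scheme.{u}}

/-- The prime of `Γ(X, U)` corresponding to a point of the affine open `U`. -/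
noncomputable def primeAt (U : X.affineOpens) (x : X) (hx : x ∈ U.1) : Ideal Γ(X, U.1) :=
  (U.2.primeIdealOf ⟨x, hx⟩).asIdeal

instance primeAt_isPrime (U : X.affineOpens) (x : X) (hx : x ∈ U.1) : (primeAt U x hx).IsPrime :=
  (U.2.primeIdealOf ⟨x, hx⟩).isPrime

/-- The algebra structure of the stalk over the sections on an open containing the point. -/
noncomputable abbrev stalkAlg (U : X.Opens) (x : X) (hx : x ∈ U) :
    Algebra Γ(X, U) (X.presheaf.stalk x) :=
  (X.presheaf.germ U x hx).hom.toAlgebra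

lemma isLocalization_stalk (U : X.affineOpens) (x : X) (hx : x ∈ U.1) :
    letI := stalkAlg U.1 x hx
    IsLocalization.AtPrime (X.presheaf.stalk x) (primeAt U x hx) :=
  U.2.isLocalization_stalk ⟨x, hx⟩

lemma germ_isUnit_iff (U : X.affineOpens) (x : X) (hx : x ∈ U.1) (f : Γ(X, U.1)) :
    IsUnit ((X.presheaf.germ U.1 x hx).hom f) ↔ f ∉ primeAt U x hx := by
  letI := stalkAlg U.1 x hx
  haveI := isLocalization_stalk U x hx
  exact IsLocalization.AtPrime.isUnit_to_map_iff (X.presheaf.stalk x) (primeAt U x hx) f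

lemma mem_basicOpen_iff_notMem (U : X.affineOpens) (x : X) (hx : x ∈ U.1) (f : Γ(X, U.1)) :
    x ∈ X.basicOpen f ↔ f ∉ primeAt U x hx := by
  rw [X.mem_basicOpen f x hx]
  exact germ_isUnit_iff U x hx f

lemma mem_primeAt_iff (U : X.affineOpens) (x : X) (hx : x ∈ U.1) (f : Γ(X, U.1)) :
    f ∈ primeAt U x hx ↔ x ∉ X.basicOpen f := by
  rw [mem_basicOpen_iff_notMem U x hx f, not_not]

lemma mem_affine_of_specializes {U : X.Opens} {x y : X} (h : y ⤳ x) (hx : x ∈ U) : y ∈ U :=
  h.mem_open U.isOpen hx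

lemma specializes_iff_primeAt_le (U : X.affineOpens) {x y : X} (hx : x ∈ U.1) (hy : y ∈ U.1) :
    y ⤳ x ↔ primeAt U y hy ≤ primeAt U x hx := by
  have hU : IsAffineOpen U.1 := U.2
  have h : hU.primeIdealOf ⟨y, hy⟩ ⤳ hU.primeIdealOf ⟨x, hx⟩ ↔ y ⤳ x := by
    have h1 := hU.fromSpec.isOpenEmbedding.isEmbedding.isInducing.specializes_iff
      (x := hU.primeIdealOf ⟨y, hy⟩) (y := hU.primeIdealOf ⟨x, hx⟩)
    rw [hU.fromSpec_primeIdealOf ⟨y, hy⟩, hU.fromSpec_primeIdealOf ⟨x, hx⟩] at h1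
    exact h1.symm
  rw [← h, ← PrimeSpectrum.le_iff_specializes]
  rfl

lemma exists_point (U : X.affineOpens) (p : Ideal Γ(X, U.1)) [hp : p.IsPrime] :
    ∃ (x : X) (hx : x ∈ U.1), primeAt U x hx = p := by
  have hU : IsAffineOpen U.1 := U.2
  have hmem : hU.fromSpec ⟨p, hp⟩ ∈ U.1 := by
    have := Set.mem_range_self (f := hU.fromSpec) ⟨p, hp⟩
    rwa [hU.range_fromSpec] at this
  refine ⟨_, hmem, ?_⟩
  have h2 : hU.primeIdealOf ⟨_, hmem⟩ = ⟨p, hp⟩ :=
    hU.fromSpec.isOpenEmbedding.injective (hU.fromSpec_primeIdealOf ⟨_, hmem⟩)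
  exact congrArg PrimeSpectrum.asIdeal h2

lemma primeAt_inj (U : X.affineOpens) {x y : X} (hx : x ∈ U.1) (hy : y ∈ U.1)
    (h : primeAt U x hx = primeAt U y hy) : x = y :=
  Specializes.antisymm ((specializes_iff_primeAt_le U hy hx).2 h.le)
    ((specializes_iff_primeAt_le U hx hy).2 h.ge) |>.eq

lemma mem_support_iff_le (I : X.IdealSheafData) (U : X.affineOpens) (x : X) (hx : x ∈ U.1) :
    x ∈ I.support ↔ I.ideal U ≤ primeAt U x hx := by
  rw [I.mem_support_iff_of_mem hx, Scheme.mem_zeroLocus_iff]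
  constructor
  · intro h f hf
    exact (mem_primeAt_iff U x hx f).2 (h f hf)
  · intro h f hf
    exact (mem_primeAt_iff U x hx f).1 (h hf)

lemma ringKrullDim_stalk_eq_height (U : X.affineOpens) (x : X) (hx : x ∈ U.1) :
    ringKrullDim (X.presheaf.stalk x) = (primeAt U x hx).height := by
  letI := stalkAlg U.1 x hx
  haveI := isLocalization_stalk U x hx
  exact IsLocalization.AtPrime.ringKrullDim_eq_height (primeAt U x hx) _

/-! ### Stalks of ideal sheaves -/

/-- The ideal generated by an ideal sheaf in the local ring at a point. -/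
noncomputable def stalkIdeal (I : X.IdealSheafData) (x : X) : Ideal (X.presheaf.stalk x) :=
  ⨆ (U : X.affineOpens) (hx : x ∈ U.1), (I.ideal U).map (X.presheaf.germ U.1 x hx).hom

lemma map_germ_ideal_eq (I : X.IdealSheafData) {U V : X.affineOpens} (x : X) (hU : x ∈ U.1)
    (hV : x ∈ V.1) :
    (I.ideal U).map (X.presheaf.germ U.1 x hU).hom =
      (I.ideal V).map (X.presheaf.germ V.1 x hV).hom := by
  obtain ⟨W, hW, hxW, hWle⟩ := X.isBasis_affineOpens.exists_subset_of_mem_open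
    (show x ∈ ((U.1 ⊓ V.1 : X.Opens) : Set X) from ⟨hU, hV⟩) (U.1 ⊓ V.1).isOpen
  obtain ⟨W, hWaff, rfl⟩ := hW
  have key : ∀ (T : X.affineOpens) (hT : x ∈ T.1) (hle : W ≤ T.1),
      (I.ideal T).map (X.presheaf.germ T.1 x hT).hom =
        (I.ideal ⟨W, hWaff⟩).map (X.presheaf.germ W x hxW).hom := by
    intro T hT hle
    rw [← I.map_ideal (U := ⟨W, hWaff⟩) (V := T) hle, Ideal.map_map, ← CommRingCat.hom_comp]
    erw [TopCat.Presheaf.germ_res]
  rw [key U hU (fun y hy => (hWle hy).1), key V hV (fun y hy => (hWle hy).2)]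

lemma stalkIdeal_eq (I : X.IdealSheafData) (U : X.affineOpens) (x : X) (hx : x ∈ U.1) :
    stalkIdeal I x = (I.ideal U).map (X.presheaf.germ U.1 x hx).hom := by
  refine le_antisymm (iSup₂_le fun V hV => (map_germ_ideal_eq I x hV hx).le) ?_
  exact le_iSup₂_of_le U hx le_rfl

lemma exists_affine_mem (x : X) : ∃ U : X.affineOpens, x ∈ U.1 := by
  obtain ⟨U, hU, hx, -⟩ := exists_isAffineOpen_mem_and_subset (X := X) (x := x) (U := ⊤) trivial
  exact ⟨⟨U, hU⟩, hx⟩

lemma mem_support_iff_stalkIdeal (I : X.IdealSheafData) (x : X) :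
    x ∈ I.support ↔ stalkIdeal I x ≤ IsLocalRing.maximalIdeal (X.presheaf.stalk x) := by
  obtain ⟨U, hx⟩ := exists_affine_mem x
  rw [mem_support_iff_le I U x hx, stalkIdeal_eq I U x hx, Ideal.map_le_iff_le_comap]
  letI := stalkAlg U.1 x hx
  haveI := isLocalization_stalk U x hx
  rw [show Ideal.comap (X.presheaf.germ U.1 x hx).hom (IsLocalRing.maximalIdeal _) =
    primeAt U x hx from IsLocalization.AtPrime.under_maximalIdeal (X.presheaf.stalk x) (primeAt U x hx)]

lemma notMem_support_iff_stalkIdeal (I : X.IdealSheafData) (x : X) :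
    x ∉ I.support ↔ stalkIdeal I x = ⊤ := by
  rw [mem_support_iff_stalkIdeal]
  constructor
  · intro h
    by_contra h'
    exact h (IsLocalRing.le_maximalIdeal h')
  · intro h h'
    rw [h, top_le_iff] at h'
    exact (IsLocalRing.maximalIdeal.isMaximal _).ne_top h'

lemma le_iff_stalkIdeal (I J : X.IdealSheafData) :
    I ≤ J ↔ ∀ x, stalkIdeal I x ≤ stalkIdeal J x := by
  constructor
  · intro h x
    obtain ⟨U, hx⟩ := exists_affine_mem x
    rw [stalkIdeal_eq I U x hx, stalkIdeal_eq J U x hx]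
    exact Ideal.map_mono (h U)
  · intro h U
    rw [U.2.ideal_le_iff]
    intro x hx
    rw [← stalkIdeal_eq I U x hx, ← stalkIdeal_eq J U x hx]
    exact h x

lemma ext_stalkIdeal {I J : X.IdealSheafData} (h : ∀ x, stalkIdeal I x = stalkIdeal J x) :
    I = J :=
  le_antisymm ((le_iff_stalkIdeal I J).2 fun x => (h x).le)
    ((le_iff_stalkIdeal J I).2 fun x => (h x).ge)

lemma stalkIdeal_mul (I J : X.IdealSheafData) (x : X) :
    stalkIdeal (I * J) x = stalkIdeal I x * stalkIdeal J x := by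
  obtain ⟨U, hx⟩ := exists_affine_mem x
  rw [stalkIdeal_eq _ U x hx, stalkIdeal_eq _ U x hx, stalkIdeal_eq _ U x hx, Scheme.IdealSheafData.ideal_mul,
    Pi.mul_apply, Ideal.map_mul]

lemma stalkIdeal_pow (I : X.IdealSheafData) (n : ℕ) (x : X) :
    stalkIdeal (I ^ n) x = stalkIdeal I x ^ n := by
  obtain ⟨U, hx⟩ := exists_affine_mem x
  rw [stalkIdeal_eq _ U x hx, stalkIdeal_eq _ U x hx, Scheme.IdealSheafData.ideal_pow,
    Pi.pow_apply, Ideal.map_pow]

lemma stalkIdeal_top (x : X) : stalkIdeal (⊤ : X.IdealSheafData) x = ⊤ := by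
  obtain ⟨U, hx⟩ := exists_affine_mem x
  rw [stalkIdeal_eq _ U x hx, Scheme.IdealSheafData.ideal_top, Pi.top_apply, Ideal.map_top]

lemma stalkIdeal_bot (x : X) : stalkIdeal (⊥ : X.IdealSheafData) x = ⊥ := by
  obtain ⟨U, hx⟩ := exists_affine_mem x
  rw [stalkIdeal_eq _ U x hx, Scheme.IdealSheafData.ideal_bot, Pi.bot_apply, Ideal.map_bot]

lemma stalkIdeal_sup (I J : X.IdealSheafData) (x : X) :
    stalkIdeal (I ⊔ J) x = stalkIdeal I x ⊔ stalkIdeal J x := by
  obtain ⟨U, hx⟩ := exists_affine_mem x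
  rw [stalkIdeal_eq _ U x hx, stalkIdeal_eq _ U x hx, stalkIdeal_eq _ U x hx,
    Scheme.IdealSheafData.ideal_sup, Pi.sup_apply, Ideal.map_sup]

end Groth.Agent.Div89
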