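import Groth.Agent.Div89.Comap
import Groth.Prelude.Def_BlowUp2
import Groth.Prelude.Def_CurvBase

/-!
Effective Cartier ideal sheaves: stalk criteria, products, factors and complements.
-/

set_option autoImplicit false
set_option linter.style.haveILetI false

universe u

open CategoryTheory AlgebraicGeometry Opposite nonZeroDivisors

namespace Groth.Agent.Div89

variable {X Y : Scheme.{u}}

lemma exists_affine_le {U : X.Opens} {x : X} (hx : x ∈ U) :
    ∃ W : X.affineOpens, x ∈ W.1 ∧ W.1 ≤ U := by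
  obtain ⟨W, hW, hxW, hle⟩ := exists_isAffineOpen_mem_and_subset (X := X) (x := x) (U := U) hx
  exact ⟨⟨W, hW⟩, hxW, hle⟩

lemma germ_res_affine {U V : X.affineOpens} (h : V.1 ≤ U.1) (x : X) (hx : x ∈ V.1)
    (f : Γ(X, U.1)) :
    (X.presheaf.germ V.1 x hx).hom ((X.presheaf.map (homOfLE h).op).hom f) =
      (X.presheaf.germ U.1 x (h hx)).hom f :=
  X.presheaf.germ_res_apply (homOfLE h) x hx f

lemma germ_mem_nonZeroDivisors (U : X.affineOpens) {f : Γ(X, U.1)} (hf : f ∈ Γ(X, U.1)⁰)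
    (x : X) (hx : x ∈ U.1) :
    (X.presheaf.germ U.1 x hx).hom f ∈ (X.presheaf.stalk x)⁰ := by
  letI := stalkAlg U.1 x hx
  haveI := isLocalization_stalk U x hx
  exact IsLocalization.map_nonZeroDivisors_le (primeAt U x hx).primeCompl (X.presheaf.stalk x)
    (Submonoid.mem_map_of_mem _ hf)

lemma eq_zero_of_germ (U : X.affineOpens) (f : Γ(X, U.1))
    (h : ∀ (x : X) (hx : x ∈ U.1), (X.presheaf.germ U.1 x hx).hom f = 0) : f = 0 := by
  have : f ∈ (⊥ : Ideal Γ(X, U.1)) := by
    rw [IsAffineOpen.mem_ideal_iff U.2]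
    intro x hx
    rw [Ideal.map_bot, Ideal.mem_bot]
    exact h x hx
  exact this

lemma mem_nonZeroDivisors_of_germ (U : X.affineOpens) (f : Γ(X, U.1))
    (h : ∀ (x : X) (hx : x ∈ U.1), (X.presheaf.germ U.1 x hx).hom f ∈ (X.presheaf.stalk x)⁰) :
    f ∈ Γ(X, U.1)⁰ := by
  rw [mem_nonZeroDivisors_iff_right]
  intro a ha
  refine eq_zero_of_germ U a fun x hx => ?_
  refine (mem_nonZeroDivisors_iff_right.1 (h x hx)) _ ?_
  rw [← map_mul, ha, map_zero]

lemma res_mem_nonZeroDivisors {U V : X.affineOpens} (h : V.1 ≤ U.1) {f : Γ(X, U.1)}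
    (hf : f ∈ Γ(X, U.1)⁰) : (X.presheaf.map (homOfLE h).op).hom f ∈ Γ(X, V.1)⁰ :=
  mem_nonZeroDivisors_of_germ V _ fun x hx => by
    rw [germ_res_affine h x hx]; exact germ_mem_nonZeroDivisors U hf x (h hx)

lemma ideal_res_span {I : X.IdealSheafData} {U V : X.affineOpens} (h : V.1 ≤ U.1) {f : Γ(X, U.1)}
    (hf : I.ideal U = Ideal.span {f}) :
    I.ideal V = Ideal.span {(X.presheaf.map (homOfLE h).op).hom f} := by
  rw [← I.map_ideal (U := V) (V := U) h, hf, Ideal.map_span, Set.image_singleton]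
  rfl

lemma stalkIdeal_eq_span {I : X.IdealSheafData} {U : X.affineOpens} {f : Γ(X, U.1)}
    (hf : I.ideal U = Ideal.span {f}) (x : X) (hx : x ∈ U.1) :
    stalkIdeal I x = Ideal.span {(X.presheaf.germ U.1 x hx).hom f} := by
  rw [stalkIdeal_eq I U x hx, hf, Ideal.map_span, Set.image_singleton]

lemma ideal_eq_span_of_stalk {I : X.IdealSheafData} {U : X.affineOpens} {f : Γ(X, U.1)}
    (h : ∀ (x : X) (hx : x ∈ U.1), stalkIdeal I x = Ideal.span {(X.presheaf.germ U.1 x hx).hom f}) :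
    I.ideal U = Ideal.span {f} := by
  rw [IsAffineOpen.ideal_ext_iff U.2]
  intro x hx
  rw [← stalkIdeal_eq I U x hx, h x hx, Ideal.map_span, Set.image_singleton]

lemma generator_mem_nonZeroDivisors {R : Type*} [CommRing R] {a g : R} (hg : g ∈ R⁰)
    (h : Ideal.span {a} = Ideal.span {g}) : a ∈ R⁰ := by
  obtain ⟨r, hr⟩ := Ideal.mem_span_singleton'.1 (h.le (Ideal.mem_span_singleton_self a))
  obtain ⟨s, hs⟩ := Ideal.mem_span_singleton'.1 (h.ge (Ideal.mem_span_singleton_self g))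
  have hrs : s * r = 1 := by
    refine sub_eq_zero.1 ((mem_nonZeroDivisors_iff_right.1 hg) _ ?_)
    rw [sub_mul, one_mul, mul_assoc, hr, hs, sub_self]
  rw [← hr]
  exact mul_mem ((IsUnit.of_mul_eq_one s (by rw [mul_comm]; exact hrs)).mem_nonZeroDivisors) hg

/-- An effective Cartier ideal sheaf is stalkwise generated by a non-zero-divisor. -/
lemma exists_stalk_generator {I : X.IdealSheafData} (hI : BlowUp.IsEffCartierIdeal I) (x : X) :
    ∃ g ∈ (X.presheaf.stalk x)⁰, stalkIdeal I x = Ideal.span {g} := by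
  obtain ⟨U, hx, f, hf, hfI⟩ := hI x
  exact ⟨_, germ_mem_nonZeroDivisors U hf x hx, stalkIdeal_eq_span hfI x hx⟩

lemma isEffCartier_of_local_generator {I : X.IdealSheafData}
    (hloc : ∀ x, ∃ U : X.affineOpens, x ∈ U.1 ∧ ∃ f : Γ(X, U.1), I.ideal U = Ideal.span {f})
    (h : ∀ x, ∃ g ∈ (X.presheaf.stalk x)⁰, stalkIdeal I x = Ideal.span {g}) :
    BlowUp.IsEffCartierIdeal I := by
  intro x
  obtain ⟨U, hx, f, hf⟩ := hloc x
  refine ⟨U, hx, f, mem_nonZeroDivisors_of_germ U f fun y hy => ?_, hf⟩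
  obtain ⟨g, hg, hgI⟩ := h y
  exact generator_mem_nonZeroDivisors hg ((stalkIdeal_eq_span hf y hy).symm.trans hgI)

lemma exists_local_generator_comap (f : X ⟶ Y) {I : Y.IdealSheafData}
    (hloc : ∀ y, ∃ U : Y.affineOpens, y ∈ U.1 ∧ ∃ a : Γ(Y, U.1), I.ideal U = Ideal.span {a})
    (x : X) :
    ∃ V : X.affineOpens, x ∈ V.1 ∧ ∃ a : Γ(X, V.1), (I.comap f).ideal V = Ideal.span {a} := by
  obtain ⟨U, hy, a, ha⟩ := hloc (f x)
  obtain ⟨V, hxV, hVU⟩ := exists_affine_le (U := f ⁻¹ᵁ U.1) (x := x) hy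
  refine ⟨V, hxV, (f.appLE U.1 V.1 hVU).hom a, ideal_eq_span_of_stalk fun z hz => ?_⟩
  rw [stalkIdeal_comap, stalkIdeal_eq_span ha (f z) (hVU hz), Ideal.map_span, Set.image_singleton]
  congr 2
  erw [Scheme.Hom.germ_stalkMap_apply]
  exact (X.presheaf.germ_res_apply (homOfLE hVU) z hz (f.app U.1 a)).symm

/-- The inverse image of an effective Cartier ideal is effective Cartier as soon as it is generated by
a non-zero-divisor in each local ring. -/
lemma isEffCartier_comap_of_stalk (f : X ⟶ Y) {I : Y.IdealSheafData}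
    (hI : BlowUp.IsEffCartierIdeal I)
    (h : ∀ x, ∀ g ∈ (Y.presheaf.stalk (f x))⁰, stalkIdeal I (f x) = Ideal.span {g} →
      (f.stalkMap x).hom g ∈ (X.presheaf.stalk x)⁰) :
    BlowUp.IsEffCartierIdeal (I.comap f) := by
  refine isEffCartier_of_local_generator (exists_local_generator_comap f fun y => ?_) fun x => ?_
  · obtain ⟨U, hy, a, -, ha⟩ := hI y
    exact ⟨U, hy, a, ha⟩
  · obtain ⟨g, hg, hgI⟩ := exists_stalk_generator hI (f x)
    exact ⟨_, h x g hg hgI, by rw [stalkIdeal_comap, hgI, Ideal.map_span, Set.image_singleton]⟩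

lemma isEffCartier_top : BlowUp.IsEffCartierIdeal (⊤ : X.IdealSheafData) := fun x => by
  obtain ⟨U, hx⟩ := exists_affine_mem x
  exact ⟨U, hx, 1, one_mem _, by simp⟩

lemma isEffCartier_mul {I J : X.IdealSheafData} (hI : BlowUp.IsEffCartierIdeal I)
    (hJ : BlowUp.IsEffCartierIdeal J) : BlowUp.IsEffCartierIdeal (I * J) := by
  intro x
  obtain ⟨U, hxU, f, hf, hfI⟩ := hI x
  obtain ⟨V, hxV, g, hg, hgJ⟩ := hJ x
  obtain ⟨W, hxW, hW⟩ := exists_affine_le (U := U.1 ⊓ V.1) (x := x) ⟨hxU, hxV⟩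
  refine ⟨W, hxW, _, mul_mem (res_mem_nonZeroDivisors (fun y hy => (hW hy).1) hf)
    (res_mem_nonZeroDivisors (fun y hy => (hW hy).2) hg), ?_⟩
  rw [Scheme.IdealSheafData.ideal_mul, Pi.mul_apply, ideal_res_span (fun y hy => (hW hy).1) hfI,
    ideal_res_span (fun y hy => (hW hy).2) hgJ, Ideal.span_singleton_mul_span_singleton]

lemma isEffCartier_pow {I : X.IdealSheafData} (hI : BlowUp.IsEffCartierIdeal I) (n : ℕ) :
    BlowUp.IsEffCartierIdeal (I ^ n) := by
  induction n with
  | zero =>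
    have : I ^ 0 = ⊤ := by ext U : 2; simp
    rw [this]; exact isEffCartier_top
  | succ n ih =>
    have : I ^ (n + 1) = I ^ n * I := by ext U : 2; simp [pow_succ]
    rw [this]; exact isEffCartier_mul ih hI

/-- A factor of an effective Cartier ideal is effective Cartier. -/
lemma isEffCartier_left_of_mul {I J : X.IdealSheafData} (h : BlowUp.IsEffCartierIdeal (I * J)) :
    BlowUp.IsEffCartierIdeal I := by
  intro x
  obtain ⟨U, hxU, d, hd, hdIJ⟩ := h x
  rw [Scheme.IdealSheafData.ideal_mul, Pi.mul_apply] at hdIJ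
  let p := primeAt U x hxU
  have hex : ∃ a ∈ I.ideal U, ∃ b ∈ J.ideal U, ∃ r : Γ(X, U.1), a * b = d * r ∧ r ∉ p := by
    by_contra! hne
    have hle : I.ideal U * J.ideal U ≤ Ideal.span {d} * p := by
      rw [Ideal.mul_le]
      intro a ha b hb
      obtain ⟨r, hr⟩ := Ideal.mem_span_singleton'.1 (hdIJ.le (Ideal.mul_mem_mul ha hb))
      refine Ideal.mem_span_singleton_mul.2 ⟨r, hne a ha b hb r ?_, ?_⟩ <;>
        rw [← hr, mul_comm]
    obtain ⟨r, hr, hdr⟩ := Ideal.mem_span_singleton_mul.1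
      (hle (hdIJ.ge (Ideal.mem_span_singleton_self d)))
    have hr1 : r = 1 := sub_eq_zero.1 ((mem_nonZeroDivisors_iff_right.1 hd) _ (by
      rw [sub_mul, one_mul, mul_comm, hdr, sub_self]))
    exact (primeAt_isPrime U x hxU).ne_top ((Ideal.eq_top_iff_one _).2 (hr1 ▸ hr))
  obtain ⟨a, ha, b, hb, r, hab, hr⟩ := hex
  let W : X.affineOpens := X.affineBasicOpen r
  have hWU : W.1 ≤ U.1 := X.basicOpen_le r
  have hxW : x ∈ W.1 := (mem_basicOpen_iff_notMem U x hxU r).2 hr
  have key : ∀ y (hy : y ∈ W.1), IsUnit ((X.presheaf.germ U.1 y (hWU hy)).hom r) := fun y hy =>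
    (X.mem_basicOpen r y (hWU hy)).1 hy
  refine ⟨W, hxW, (X.presheaf.map (homOfLE hWU).op).hom a,
    mem_nonZeroDivisors_of_germ W _ fun y hy => ?_, ideal_eq_span_of_stalk fun y hy => ?_⟩
  · rw [germ_res_affine hWU y hy]
    have hm : (X.presheaf.germ U.1 y (hWU hy)).hom (a * b) ∈ (X.presheaf.stalk y)⁰ := by
      rw [hab, map_mul]
      exact mul_mem (germ_mem_nonZeroDivisors U hd y (hWU hy)) (key y hy).mem_nonZeroDivisors
    rw [map_mul] at hm
    exact (mul_mem_nonZeroDivisors.1 hm).1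
  · rw [germ_res_affine hWU y hy, stalkIdeal_eq I U y (hWU hy)]
    refine le_antisymm (Ideal.map_le_iff_le_comap.2 fun c hc => ?_) ?_
    · obtain ⟨s, hs⟩ := Ideal.mem_span_singleton'.1 (hdIJ.le (Ideal.mul_mem_mul hc hb))
      have hcr : c * r = s * a := sub_eq_zero.1 ((mem_nonZeroDivisors_iff_right.1 hd) _ (by
        linear_combination (c * (hab.symm.trans rfl : d * r = a * b)) - a * hs))
      rw [Ideal.mem_comap, ← Ideal.mul_unit_mem_iff_mem _ (key y hy), ← map_mul, hcr, map_mul]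
      exact Ideal.mul_mem_left _ _ (Ideal.mem_span_singleton_self _)
    · rw [Ideal.span_singleton_le_iff_mem]
      exact Ideal.mem_map_of_mem _ ha

lemma isEffCartier_right_of_mul {I J : X.IdealSheafData} (h : BlowUp.IsEffCartierIdeal (I * J)) :
    BlowUp.IsEffCartierIdeal J := by
  rw [mul_comm] at h
  exact isEffCartier_left_of_mul h

/-- Stalk criterion on a locally Noetherian scheme. -/
lemma isEffCartier_of_stalk [IsLocallyNoetherian X] {I : X.IdealSheafData}
    (h : ∀ x ∈ I.support, ∃ g ∈ (X.presheaf.stalk x)⁰, stalkIdeal I x = Ideal.span {g}) :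
    BlowUp.IsEffCartierIdeal I := by
  have h' : ∀ x, ∃ g ∈ (X.presheaf.stalk x)⁰, stalkIdeal I x = Ideal.span {g} := by
    intro x
    by_cases hx : x ∈ I.support
    · exact h x hx
    · exact ⟨1, one_mem _, by rw [(notMem_support_iff_stalkIdeal I x).1 hx, Ideal.span_singleton_one]⟩
  refine isEffCartier_of_local_generator (fun x => ?_) h'
  obtain ⟨U, hx⟩ := exists_affine_mem x
  have : IsNoetherianRing Γ(X, U.1) := IsLocallyNoetherian.component_noetherian U
  obtain ⟨g, -, hgI⟩ := h' x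
  let R := Γ(X, U.1)
  let S := X.presheaf.stalk x
  letI := stalkAlg U.1 x hx
  haveI := isLocalization_stalk U x hx
  have hg : g ∈ (I.ideal U).map (algebraMap R S) :=
    (hgI.trans rfl).ge.trans (stalkIdeal_eq I U x hx).le (Ideal.mem_span_singleton_self g)
  obtain ⟨⟨⟨a, ha⟩, s⟩, has⟩ :=
    (IsLocalization.mem_map_algebraMap_iff (primeAt U x hx).primeCompl S).1 hg
  have hspan : (I.ideal U).map (algebraMap R S) = Ideal.span {algebraMap R S a} := by
    refine le_antisymm ?_ (by rw [Ideal.span_singleton_le_iff_mem]; exact Ideal.mem_map_of_mem _ ha)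
    refine (stalkIdeal_eq I U x hx).symm.le.trans ?_
    rw [hgI, Ideal.span_singleton_le_iff_mem, ← has,
      ← Ideal.mul_unit_mem_iff_mem _ (IsLocalization.map_units S s)]
    exact Ideal.mem_span_singleton_self _
  obtain ⟨gens, hgens⟩ := (IsNoetherian.noetherian (I.ideal U) : (I.ideal U).FG)
  have : ∀ c ∈ gens, ∃ t : R, t ∉ primeAt U x hx ∧ c * t ∈ Ideal.span ({a} : Set R) := by
    intro c hc
    have hc' : algebraMap R S c ∈ (Ideal.span {a}).map (algebraMap R S) := by
      rw [Ideal.map_span, Set.image_singleton, ← hspan]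
      exact Ideal.mem_map_of_mem _ (hgens ▸ Ideal.subset_span hc)
    obtain ⟨⟨⟨b, hb⟩, t⟩, hbt⟩ :=
      (IsLocalization.mem_map_algebraMap_iff (primeAt U x hx).primeCompl S).1 hc'
    rw [← map_mul] at hbt
    obtain ⟨w, hw⟩ := (IsLocalization.eq_iff_exists (primeAt U x hx).primeCompl S).1 hbt
    refine ⟨(w : R) * t, mul_mem (show (w : R) ∈ (primeAt U x hx).primeCompl from w.2) t.2, ?_⟩
    rw [show c * ((w : R) * t) = (w : R) * (c * t) by ring, hw]
    exact Ideal.mul_mem_left _ _ hb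
  choose! t ht htmem using this
  let r := ∏ c ∈ gens, t c
  have hr : r ∉ primeAt U x hx :=
    prod_mem (S := (primeAt U x hx).primeCompl) fun c hc => ht c hc
  let W : X.affineOpens := X.affineBasicOpen r
  have hWU : W.1 ≤ U.1 := X.basicOpen_le r
  refine ⟨W, (mem_basicOpen_iff_notMem U x hx r).2 hr, (X.presheaf.map (homOfLE hWU).op).hom a,
    ideal_eq_span_of_stalk fun y hy => ?_⟩
  rw [germ_res_affine hWU y hy, stalkIdeal_eq I U y (hWU hy)]
  refine le_antisymm ?_ (by rw [Ideal.span_singleton_le_iff_mem]; exact Ideal.mem_map_of_mem _ ha)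
  rw [Ideal.map_le_iff_le_comap, ← hgens, Ideal.span_le]
  intro c hc
  have hy' : IsUnit ((X.presheaf.germ U.1 y (hWU hy)).hom (t c)) :=
    isUnit_of_dvd_unit (map_dvd _ (Finset.dvd_prod_of_mem t hc)) ((X.mem_basicOpen r y (hWU hy)).1 hy)
  rw [SetLike.mem_coe, Ideal.mem_comap, ← Ideal.mul_unit_mem_iff_mem _ hy', ← map_mul,
    ← Set.image_singleton (f := (X.presheaf.germ U.1 y (hWU hy)).hom), ← Ideal.map_span]
  exact Ideal.mem_map_of_mem _ (htmem c hc)

/-! ### The complement of the support -/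

lemma inter_compl_support_eq_basicOpen {I : X.IdealSheafData} {U : X.affineOpens} {f : Γ(X, U.1)}
    (hf : I.ideal U = Ideal.span {f}) :
    U.1 ⊓ I.support.compl = X.basicOpen f := by
  ext x
  constructor
  · rintro ⟨hx, hxs⟩
    by_contra hc
    refine hxs ((mem_support_iff_le I U x hx).2 ?_)
    rw [hf, Ideal.span_singleton_le_iff_mem]
    exact (mem_primeAt_iff U x hx f).2 hc
  · intro hc
    have hx : x ∈ U.1 := X.basicOpen_le f hc
    refine ⟨hx, fun hxs => ?_⟩
    have := (mem_support_iff_le I U x hx).1 hxs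
    rw [hf, Ideal.span_singleton_le_iff_mem, mem_primeAt_iff U x hx] at this
    exact this hc

lemma exists_generator_of_isLocPrincipal {I : X.IdealSheafData} (h : Curv2.IsLocPrincipal I)
    (x : X) :
    ∃ U : X.affineOpens, x ∈ U.1 ∧ ∃ f : Γ(X, U.1), I.ideal U = Ideal.span {f} := by
  by_cases hx : x ∈ I.support
  · exact h x hx
  · obtain ⟨U, hxU, hU⟩ := exists_affine_le (U := I.support.compl) (x := x) hx
    refine ⟨U, hxU, 1, ideal_eq_span_of_stalk fun y hy => ?_⟩
    rw [map_one, Ideal.span_singleton_one, ← notMem_support_iff_stalkIdeal]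
    exact hU hy

lemma isAffineHom_compl_support {I : X.IdealSheafData}
    (h : ∀ x, ∃ U : X.affineOpens, x ∈ U.1 ∧ ∃ f : Γ(X, U.1), I.ideal U = Ideal.span {f}) :
    IsAffineHom (Scheme.Opens.ι (X := X) I.support.compl) := by
  refine isAffineHom_of_forall_exists_isAffineOpen _ fun x => ?_
  obtain ⟨U, hx, f, hf⟩ := h x
  refine ⟨U.1, hx, U.2, ?_⟩
  rw [← (Scheme.Opens.ι (X := X) I.support.compl).isAffineOpen_iff_of_isOpenImmersion,
    Scheme.Hom.image_preimage_eq_opensRange_inf, Scheme.Opens.opensRange_ι, inf_comm,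
    inter_compl_support_eq_basicOpen hf]
  exact U.2.basicOpen f

/-- Restriction to the complement of an effective Cartier divisor is injective. -/
lemma res_injective_compl_support {I : X.IdealSheafData} (hI : BlowUp.IsEffCartierIdeal I)
    (V : X.Opens) :
    Function.Injective
      (X.presheaf.map (homOfLE (inf_le_left : V ⊓ I.support.compl ≤ V)).op) := by
  rw [← AddMonoidHom.coe_coe, injective_iff_map_eq_zero]
  intro s hs
  refine TopCat.Presheaf.section_ext X.sheaf V s 0 fun x hx => ?_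
  show X.presheaf.germ V x hx s = X.presheaf.germ V x hx 0
  rw [map_zero]
  obtain ⟨U, hxU, f, hf, hfI⟩ := hI x
  obtain ⟨W, hxW, hW⟩ := exists_affine_le (U := U.1 ⊓ V) (x := x) ⟨hxU, hx⟩
  have hWU : W.1 ≤ U.1 := fun y hy => (hW hy).1
  have hWV : W.1 ≤ V := fun y hy => (hW hy).2
  let a := (X.presheaf.map (homOfLE hWU).op).hom f
  let t := (X.presheaf.map (homOfLE hWV).op).hom s
  suffices t = 0 by
    rw [← X.presheaf.germ_res_apply (homOfLE hWV) x hxW s]
    exact (congrArg _ this).trans (map_zero _)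
  have hD : X.basicOpen a ≤ V ⊓ I.support.compl := by
    rw [← inter_compl_support_eq_basicOpen (ideal_res_span hWU hfI)]
    exact inf_le_inf_right _ hWV
  haveI := IsAffineOpen.isLocalization_basicOpen W.2 a
  have ht : (X.presheaf.map (homOfLE (X.basicOpen_le a)).op).hom t = 0 := by
    show (X.presheaf.map _ ≫ X.presheaf.map _).hom s = 0
    rw [← Functor.map_comp, ← op_comp, homOfLE_comp,
      ← homOfLE_comp hD (inf_le_left : V ⊓ I.support.compl ≤ V), op_comp, Functor.map_comp]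
    exact (congrArg (X.presheaf.map (homOfLE hD).op).hom hs).trans
      (map_zero (X.presheaf.map (homOfLE hD).op).hom)
  obtain ⟨⟨_, n, rfl⟩, hn⟩ :=
    (IsLocalization.map_eq_zero_iff (Submonoid.powers a) Γ(X, X.basicOpen a) t).1 ht
  exact (mem_nonZeroDivisors_iff_left.1 (pow_mem (res_mem_nonZeroDivisors hWU hf) n)) t hn

end Groth.Agent.Div89
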