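import Groth.Agent.An92.Ample.Inverse
import Groth.Agent.Amp73.PullTensor
import Groth.Agent.Curves2.IdealFrame

/-! Pullback of the dual of an invertible module. -/

set_option autoImplicit false
set_option linter.style.haveILetI false
set_option backward.isDefEq.respectTransparency.types false

noncomputable section

universe u

open CategoryTheory AlgebraicGeometry
open Groth.Agent

namespace Groth.Agent.Div89

variable {X : Scheme.{u}}

/-- Tensor inverses are unique. -/
theorem inverse_unique {L A B : X.Modules} (a : CohB1.tensorMod A L ≅ Coh.structureModule X)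
    (b : CohB1.tensorMod B L ≅ Coh.structureModule X) : Nonempty (A ≅ B) :=
  ⟨(EGA73.tensUnitRight A).symm ≪≫ EGA73.tensIso (Iso.refl A) b.symm ≪≫ EGA73.tensIso (Iso.refl A) (EGA73.tensComm B L) ≪≫
    (EGA73.tensAssoc' A L B).symm ≪≫ EGA73.tensIso a (Iso.refl B) ≪≫ EGA73.tensUnitLeft B⟩

theorem exists_dual_tensor {L : X.Modules} (hL : PicF.IsInvertible L) :
    PicF.IsInvertible (RefHull.dual L) ∧ Nonempty (CohB1.tensorMod (RefHull.dual L) L ≅ Coh.structureModule X) := by
  have hframe : ∀ x : X, ∃ U : X.Opens, x ∈ U ∧ ∃ e : Γ(L, U), Var76.LineBundle.IsFrame L U e :=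
    Mero90.exists_frame' hL
  choose U hx e he using hframe
  have : IsIso (An92.InvMod.evPairing L).lift := (An92.InvMod.evPairing L).isIso_lift fun x =>
    ⟨U x, e x, _, hx x, he x, An92.InvMod.isFrame_dual (he x), by
      show Var76.LineBundle.IsFrame (Coh.structureModule X) (U x) (An92.InvMod.ev (e x) _)
      rw [An92.InvMod.ev_coord]; exact Amp73.isFrame_one (U x)⟩
  exact ⟨Mero90.isInvertible_of_frames fun x => ⟨U x, hx x, _, An92.InvMod.isFrame_dual (he x)⟩,
    ⟨EGA73.tensComm _ _ ≪≫ asIso (An92.InvMod.evPairing L).lift⟩⟩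

/-- The dual of the pullback of an invertible module. -/
theorem dual_pullback_iso {Y : Scheme.{u}} (f : X ⟶ Y) {L : Y.Modules} (hL : PicF.IsInvertible L) :
    Nonempty (RefHull.dual ((Scheme.Modules.pullback f).obj L) ≅ (Scheme.Modules.pullback f).obj (RefHull.dual L)) := by
  obtain ⟨hd, ⟨e⟩⟩ := exists_dual_tensor hL
  obtain ⟨-, ⟨a⟩⟩ := exists_dual_tensor (Amp73.isInvertible_pullback f hL)
  haveI := Amp73.isIso_pullTensHom f hd hL
  exact inverse_unique a ((asIso (Amp73.pullTensHom f (RefHull.dual L) L)).symm ≪≫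
    (Scheme.Modules.pullback f).mapIso e ≪≫ PicLoc.pullbackStructureIso f)

/-- The normal sheaf of an effective divisor. -/
theorem normalSheaf_iso (S : Scheme.{u}) (I : S.IdealSheafData) (hI : BlowUp.IsEffCartierIdeal I) :
    Nonempty (RefHull.dual (Omega.conormal I.subschemeι) ≅
      (Scheme.Modules.pullback I.subschemeι).obj (RefHull.dual (ClSub.idealMod I))) := by
  rw [Omega.conormal, I.ker_subschemeι]
  exact dual_pullback_iso _ ((Curves2.isInvertible_idealMod_iff I).2 hI)

end Groth.Agent.Div89
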