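import Groth.Agent.Div89.Basic
import Groth.Agent.QC70.Loc
import Groth.Agent.CAlg5.WeakAss
import Groth.Prelude.Def_CurvBase

/-!
Stalks of quasi-coherent modules over affine opens, and weakly associated points.
-/

set_option autoImplicit false
set_option linter.style.haveILetI false
set_option backward.isDefEq.respectTransparency.types false

noncomputable section

universe u

open CategoryTheory AlgebraicGeometry Opposite TopologicalSpace

namespace Groth.Agent.Div89

variable {X : Scheme.{u}}

lemma germ_smul (F : X.Modules) {U : X.Opens} (x : X) (hx : x ∈ U) (r : Γ(X, U)) (m : Γ(F, U)) :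
    F.presheaf.germ U x hx (r • m) = X.presheaf.germ U x hx r • F.presheaf.germ U x hx m :=
  PresheafOfModules.germ_smul (R := X.presheaf)
    (show PresheafOfModules (X.presheaf ⋙ forget₂ CommRingCat RingCat) from F.val) x U hx r m

/-- The stalk as a module over the sections on an open. -/
abbrev stalkModule (F : X.Modules) (U : X.Opens) (x : X) (hx : x ∈ U) :
    Module Γ(X, U) (F.presheaf.stalk x) :=
  Module.compHom (F.presheaf.stalk x) (X.presheaf.germ U x hx).hom

/-- The germ map, linear over the sections. -/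
def germLin (F : X.Modules) (U : X.Opens) (x : X) (hx : x ∈ U) :
    letI := stalkModule F U x hx
    Γ(F, U) →ₗ[Γ(X, U)] F.presheaf.stalk x :=
  letI := stalkModule F U x hx
  { toFun := fun m => F.presheaf.germ U x hx m
    map_add' := fun a b => map_add _ a b
    map_smul' := fun r m => germ_smul F x hx r m }

lemma stalkModule_smul (F : X.Modules) (U : X.Opens) (x : X) (hx : x ∈ U) (r : Γ(X, U))
    (s : F.presheaf.stalk x) :
    letI := stalkModule F U x hx
    r • s = X.presheaf.germ U x hx r • s := rfl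

lemma isScalarTower_stalk (F : X.Modules) (U : X.Opens) (x : X) (hx : x ∈ U) :
    letI := stalkModule F U x hx
    letI := stalkAlg U x hx
    IsScalarTower Γ(X, U) (X.presheaf.stalk x) (F.presheaf.stalk x) := by
  letI := stalkModule F U x hx
  letI := stalkAlg U x hx
  exact IsScalarTower.of_algebraMap_smul fun r s => rfl

theorem isLocalizedModule_germLin (F : X.Modules) (hF : Coh.IsQCoh F) (U : X.affineOpens) (x : X)
    (hx : x ∈ U.1) :
    letI := stalkModule F U.1 x hx
    IsLocalizedModule (primeAt U x hx).primeCompl (germLin F U.1 x hx) := by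
  letI := stalkModule F U.1 x hx
  haveI : F.IsQuasicoherent := hF
  have hU : IsAffineOpen U.1 := U.2
  have hloc := QC70.isLocAt_of_isQuasicoherent F hU
  have hunit : ∀ t : (primeAt U x hx).primeCompl,
      IsUnit ((X.presheaf.germ U.1 x hx).hom (t : Γ(X, U.1))) :=
    fun t => (germ_isUnit_iff U x hx t).2 t.2
  constructor
  · intro t
    rw [Module.End.isUnit_iff]
    exact ((hunit t).smul_bijective : Function.Bijective
      (fun s : F.presheaf.stalk x => (X.presheaf.germ U.1 x hx).hom (t : Γ(X, U.1)) • s))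
  · intro s
    obtain ⟨V, hxV, v, rfl⟩ := F.presheaf.exists_germ_eq s
    obtain ⟨f, hfle, hxf⟩ := hU.exists_basicOpen_le (V := V ⊓ U.1) ⟨x, hxV, hx⟩ hx
    have hfV : X.basicOpen f ≤ V := hfle.trans inf_le_left
    obtain ⟨n, m, hm⟩ := hloc.exists_of f (QC70.res F hfV v)
    have hfp : f ∉ primeAt U x hx := (mem_basicOpen_iff_notMem U x hx f).1 hxf
    refine ⟨⟨m, ⟨f ^ n, fun hh => hfp ((primeAt_isPrime U x hx).mem_of_pow_mem n hh)⟩⟩, ?_⟩
    have h1 := congrArg (F.presheaf.germ (X.basicOpen f) x hxf) hm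
    rw [germ_smul] at h1
    simp only [QC70.res, QC70.resO, TopCat.Presheaf.germ_res_apply, map_pow] at h1
    show X.presheaf.germ U.1 x hx (f ^ n) • F.presheaf.germ V x hxV v = F.presheaf.germ U.1 x hx m
    rw [map_pow]
    exact h1.symm
  · intro a b hab
    change F.presheaf.germ U.1 x hx a = F.presheaf.germ U.1 x hx b at hab
    obtain ⟨W, hxW, i₁, i₂, hW⟩ := F.presheaf.germ_eq x hx hx a b hab
    obtain ⟨f, hfle, hxf⟩ := hU.exists_basicOpen_le (V := W) ⟨x, hxW⟩ hx
    have h0 : QC70.res F (X.basicOpen_le f) (a - b) = 0 := by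
      rw [QC70.res_sub, sub_eq_zero]
      have := congrArg (QC70.res F hfle) (show QC70.res F i₁.le a = QC70.res F i₁.le b from hW)
      rwa [QC70.res_res, QC70.res_res] at this
    obtain ⟨n, hn⟩ := hloc.eq_zero_of f (a - b) h0
    have hfp : f ∉ primeAt U x hx := (mem_basicOpen_iff_notMem U x hx f).1 hxf
    refine ⟨⟨f ^ n, fun hh => hfp ((primeAt_isPrime U x hx).mem_of_pow_mem n hh)⟩, ?_⟩
    rw [Submonoid.smul_def, Submonoid.smul_def, ← sub_eq_zero, ← smul_sub]
    exact hn

lemma isWeakAssPoint_iff_mem_weakAss_stalk (F : X.Modules) (x : X) :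
    Curv2.IsWeakAssPoint F x ↔
      IsLocalRing.maximalIdeal (X.presheaf.stalk x) ∈
        FlatCA.weakAss (X.presheaf.stalk x) (F.presheaf.stalk x) := by
  refine exists_congr fun m => ?_
  have h : LinearMap.ker (LinearMap.toSpanSingleton (X.presheaf.stalk x) (F.presheaf.stalk x) m) =
      (Submodule.span (X.presheaf.stalk x) {m}).annihilator := by
    ext r
    rw [CAlg5.mem_ann, LinearMap.mem_ker]
    rfl
  rw [h]
  set I := (Submodule.span (X.presheaf.stalk x) {m}).annihilator
  constructor
  · intro hI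
    refine ⟨⟨inferInstance, I.le_radical.trans hI.le⟩, fun q hq hle => ?_⟩
    exact hI.ge.trans (hq.1.radical_le_iff.2 hq.2)
  · intro hI
    refine le_antisymm ((IsLocalRing.maximalIdeal.isMaximal _).isPrime.radical_le_iff.2 hI.1.2) ?_
    rw [Ideal.radical_eq_sInf]
    refine le_sInf fun q hq => ?_
    exact hI.2 ⟨hq.2, hq.1⟩ (IsLocalRing.le_maximalIdeal hq.2.ne_top)

/-- Mathlib's associated primes are defined with a radical, so these notions coincide. -/
lemma isAssPoint_iff_isWeakAssPoint (F : X.Modules) (x : X) :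
    Curv2.IsAssPoint F x ↔ Curv2.IsWeakAssPoint F x := by
  have h : ∀ m : F.presheaf.stalk x,
      LinearMap.ker (LinearMap.toSpanSingleton (X.presheaf.stalk x) (F.presheaf.stalk x) m) =
        (⊥ : Submodule (X.presheaf.stalk x) (F.presheaf.stalk x)).colon {m} := by
    intro m
    ext r
    rw [Submodule.mem_colon_singleton, Submodule.mem_bot, LinearMap.mem_ker]
    rfl
  constructor
  · rintro ⟨-, m, hm⟩
    exact ⟨m, by rw [h]; exact hm.symm⟩
  · rintro ⟨m, hm⟩
    exact ⟨inferInstance, m, by rw [← h]; exact hm.symm⟩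

/-- Weakly associated points of a quasi-coherent module, in an affine chart. -/
theorem isWeakAssPoint_iff (F : X.Modules) (hF : Coh.IsQCoh F) (U : X.affineOpens) (x : X)
    (hx : x ∈ U.1) :
    Curv2.IsWeakAssPoint F x ↔ primeAt U x hx ∈ FlatCA.weakAss Γ(X, U.1) Γ(F, U.1) := by
  letI := stalkModule F U.1 x hx
  letI := stalkAlg U.1 x hx
  haveI := isLocalization_stalk U x hx
  haveI := isLocalizedModule_germLin F hF U x hx
  haveI := isScalarTower_stalk F U.1 x hx
  have hc : (IsLocalRing.maximalIdeal (X.presheaf.stalk x)).comap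
      (algebraMap Γ(X, U.1) (X.presheaf.stalk x)) = primeAt U x hx :=
    IsLocalization.AtPrime.under_maximalIdeal (X.presheaf.stalk x) (primeAt U x hx)
  have hd : Disjoint ((primeAt U x hx).primeCompl : Set Γ(X, U.1))
      (primeAt U x hx : Set Γ(X, U.1)) :=
    Set.disjoint_left.2 fun a ha hb => ha hb
  rw [isWeakAssPoint_iff_mem_weakAss_stalk,
    CAlg5.mem_weakAss_iff_comap_mem (primeAt U x hx).primeCompl (X.presheaf.stalk x), hc,
    ← CAlg5.mem_weakAss_localized_iff (primeAt U x hx).primeCompl (germLin F U.1 x hx) hd]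

lemma germ_eq_zero_iff (F : X.Modules) (hF : Coh.IsQCoh F) (U : X.affineOpens) (x : X)
    (hx : x ∈ U.1) (m : Γ(F, U.1)) :
    F.presheaf.germ U.1 x hx m = 0 ↔ ∃ t : Γ(X, U.1), t ∉ primeAt U x hx ∧ t • m = 0 := by
  letI := stalkModule F U.1 x hx
  haveI := isLocalizedModule_germLin F hF U x hx
  refine (IsLocalizedModule.eq_zero_iff (primeAt U x hx).primeCompl (germLin F U.1 x hx) (m := m)).trans
    ⟨fun ⟨t, ht⟩ => ⟨t.1, t.2, ht⟩, fun ⟨t, ht, h⟩ => ⟨⟨t, ht⟩, h⟩⟩

lemma mem_support_iff_exists (F : X.Modules) (hF : Coh.IsQCoh F) (U : X.affineOpens) (x : X)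
    (hx : x ∈ U.1) :
    ¬ Subsingleton (F.presheaf.stalk x) ↔
      ∃ m : Γ(F, U.1), ∀ t : Γ(X, U.1), t • m = 0 → t ∈ primeAt U x hx := by
  letI := stalkModule F U.1 x hx
  haveI := isLocalizedModule_germLin F hF U x hx
  rw [not_subsingleton_iff_nontrivial]
  constructor
  · intro h
    obtain ⟨s, hs⟩ := exists_ne (0 : F.presheaf.stalk x)
    obtain ⟨⟨m, t⟩, hmt⟩ := IsLocalizedModule.surj (primeAt U x hx).primeCompl (germLin F U.1 x hx) s
    refine ⟨m, fun r hr => by_contra fun hrp => hs ?_⟩
    have h0 : germLin F U.1 x hx m = 0 := (germ_eq_zero_iff F hF U x hx m).2 ⟨r, hrp, hr⟩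
    rw [h0] at hmt
    exact IsLocalizedModule.smul_injective (germLin F U.1 x hx) t (hmt.trans (smul_zero _).symm)
  · rintro ⟨m, hm⟩
    refine ⟨F.presheaf.germ U.1 x hx m, 0, fun h => ?_⟩
    obtain ⟨t, ht, htm⟩ := (germ_eq_zero_iff F hF U x hx m).1 h
    exact ht (hm t htm)

end Groth.Agent.Div89
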