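import Groth.Agent.Props58.LocFree.Affine
import Groth.Agent.Props58.Stalks
import Groth.Agent.FlatMor68.DedekindFlat
import Groth.Agent.Div89.Basic
import Groth.Agent.Div89.Stalk
import Groth.Agent.LF71.Restrict
import Groth.Agent.CAlg1.SerreNormal

/-!
Free stalks: coherent modules on locally Noetherian schemes.
-/

set_option autoImplicit false
set_option linter.style.haveILetI false
set_option backward.isDefEq.respectTransparency.types false

noncomputable section

universe u

open CategoryTheory AlgebraicGeometry Opposite TopologicalSpace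
open Groth.Agent.QC70 Groth.Agent.Props58.LocFree

namespace Groth.Agent.Div89

variable {X : Scheme.{u}}

lemma isFP_of_isCoh [IsLocallyNoetherian X] {F : X.Modules} (hF : Coh.IsCoh F) : CohB1.IsFP F := by
  haveI : F.IsQuasicoherent := hF.1
  haveI : F.IsFiniteType := hF.2
  choose U hU using fun x : X => exists_affine_mem x
  refine isFP_of_sections F (fun x => (U x).1)
    (IsOpenCover.mk (top_le_iff.mp fun y _ => Opens.mem_iSup.mpr ⟨y, hU y⟩)) (fun x => (U x).2) fun x => ?_
  haveI : IsNoetherianRing Γ(X, (U x).1) := IsLocallyNoetherian.component_noetherian (U x)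
  haveI := finite_sections_of_isFiniteType F (U x).2
  exact Module.finitePresentation_of_finite _ _

theorem isFinLocFree_iff_free_stalks [IsLocallyNoetherian X] {F : X.Modules} (hF : Coh.IsCoh F) :
    FlatMod.IsFinLocFree F ↔ ∀ x : X, Module.Free (X.presheaf.stalk x) (F.presheaf.stalk x) :=
  ⟨free_stalk_of_isFinLocFree, isFinLocFree_of_isFP (isFP_of_isCoh hF)⟩

/-- A finite torsion free module over a regular local ring of dimension at most one is free. -/
theorem free_of_torsionFree_dim_le_one {A M : Type u} [CommRing A] [IsRegularLocalRing A]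
    [AddCommGroup M] [Module A M] [Module.Finite A M] (hd : ringKrullDim A ≤ 1)
    (htf : Module.IsTorsionFree A M) : Module.Free A M := by
  haveI := Groth.Agent.Ega11.RegLocal.isDomain A
  haveI := FlatMor68.DedekindFlat.isPrincipalIdealRing_of_regular A hd
  exact Module.free_of_finite_type_torsion_free'

/-- Absence of zero divisors is torsion freeness over a domain. -/
lemma isTorsionFree_of_noZeroSMulDivisors {A M : Type u} [CommRing A] [IsDomain A] [AddCommGroup M]
    [Module A M] (h : NoZeroSMulDivisors A M) : Module.IsTorsionFree A M :=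
  ⟨fun r hr a b hab => sub_eq_zero.1 ((eq_zero_or_eq_zero_of_smul_eq_zero
    (show r • (a - b) = 0 by rw [smul_sub]; exact sub_eq_zero.2 hab)).resolve_left hr.ne_zero)⟩

theorem isFinLocFree_iff_torsionFree_of_dim_le_one [IsIntegral X] [IsLocallyNoetherian X]
    (hreg : ∀ x : X, IsRegularLocalRing (X.presheaf.stalk x)) (hdim : topologicalKrullDim X ≤ 1)
    {F : X.Modules} (hF : Coh.IsCoh F) :
    (∀ x : X, NoZeroSMulDivisors (X.presheaf.stalk x) (F.presheaf.stalk x)) ↔ FlatMod.IsFinLocFree F := by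
  haveI : F.IsFiniteType := hF.2
  haveI := fun x : X => finite_stalk_of_isFiniteType (M := F) x
  rw [isFinLocFree_iff_free_stalks hF]
  refine forall_congr' fun x => ?_
  haveI := hreg x
  haveI := Groth.Agent.Ega11.RegLocal.isDomain (X.presheaf.stalk x)
  refine ⟨fun h => free_of_torsionFree_dim_le_one ((Props58.ringKrullDim_stalk_le X x).trans hdim)
    (isTorsionFree_of_noZeroSMulDivisors h), fun h => ?_⟩
  haveI := h
  exact ⟨fun {c v} hcv => smul_eq_zero.1 hcv⟩

lemma exists_nhd_free_of_free_stalk [IsLocallyNoetherian X] {F : X.Modules} (hF : Coh.IsCoh F) {x : X}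
    (hfree : Module.Free (X.presheaf.stalk x) (F.presheaf.stalk x)) :
    ∃ (W : X.Opens) (n : ℕ), x ∈ W ∧ Nonempty (F.restrict W.ι ≅ FlatMod.freeMod (↑W) n) := by
  haveI : F.IsQuasicoherent := hF.1
  haveI : F.IsFiniteType := hF.2
  haveI := isFP_of_isCoh hF
  obtain ⟨U, hU, hx, -⟩ := exists_isAffineOpen_mem_and_subset (show x ∈ (⊤ : X.Opens) from trivial)
  have := finitePresentation_sections F hU
  letI := QC70.stalkModule F hx
  letI : Algebra Γ(X, U) (X.presheaf.stalk x) := (X.presheaf.germ U x hx).hom.toAlgebra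
  haveI : IsScalarTower Γ(X, U) (X.presheaf.stalk x) (F.presheaf.stalk x) :=
    IsScalarTower.of_algebraMap_smul fun _ _ => rfl
  haveI : IsLocalization.AtPrime (X.presheaf.stalk x) (hU.primeIdealOf ⟨x, hx⟩).asIdeal :=
    hU.isLocalization_stalk ⟨x, hx⟩
  haveI := QC70.isLocalizedModule_germ (isLocAt_of_isQuasicoherent F hU) hU hx
  haveI := hfree
  obtain ⟨r, hr, hfr, -⟩ := Module.FinitePresentation.exists_free_localizedModule_powers
    (hU.primeIdealOf ⟨x, hx⟩).asIdeal.primeCompl (germLinear F hx) (X.presheaf.stalk x)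
  have hxr : x ∈ X.basicOpen r := (mem_basicOpen_iff_primeCompl hU hx r).mpr hr
  letI := resAlg (X.basicOpen_le r)
  letI := resModule F (X.basicOpen_le r)
  haveI := isScalarTower_res F (X.basicOpen_le r)
  haveI := isLocalization_resAlg hU r
  haveI := isLocalizedModule_resLin F (isLocAt_of_isQuasicoherent F hU) r
  haveI : Module.Free Γ(X, X.basicOpen r) Γ(F, X.basicOpen r) :=
    free_of_localization_free (Submonoid.powers r) (resLin F (X.basicOpen_le r)) hfr
  have := finite_sections_of_isFiniteType F (hU.basicOpen r)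
  haveI : Nontrivial Γ(X, X.basicOpen r) := (X.presheaf.germ _ x hxr).hom.domain_nontrivial
  exact ⟨X.basicOpen r, _, hxr,
    nonempty_iso_of_stalkBasis (stalkBasis_of_basis (hU.basicOpen r) (Module.finBasis _ _))⟩

/-- A coherent module is finite locally free on the open set of its free stalks. -/
theorem exists_open_freeLocus [IsLocallyNoetherian X] {F : X.Modules} (hF : Coh.IsCoh F) :
    ∃ U : X.Opens, (∀ x : X, x ∈ U ↔ Module.Free (X.presheaf.stalk x) (F.presheaf.stalk x)) ∧
      FlatMod.IsFinLocFree (F.restrict U.ι) := by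
  let U : X.Opens := ⟨{x | ∃ (W : X.Opens) (n : ℕ), x ∈ W ∧
      Nonempty (F.restrict W.ι ≅ FlatMod.freeMod (↑W) n)}, isOpen_iff_forall_mem_open.2
    fun x ⟨W, n, hxW, he⟩ => ⟨W, fun y hy => ⟨W, n, hy, he⟩, W.2, hxW⟩⟩
  refine ⟨U, fun x => ⟨?_, fun h => exists_nhd_free_of_free_stalk hF h⟩, fun x => ?_⟩
  · rintro ⟨W, n, hxW, ⟨e⟩⟩
    obtain ⟨s, hs⟩ := exists_stalkBasis_of_iso e
    exact hs.free_stalk x hxW
  · obtain ⟨W, n, hxW, ⟨e⟩⟩ := x.2
    refine ⟨U.ι ⁻¹ᵁ W, n, hxW, ⟨?_⟩⟩
    exact ((Scheme.Modules.restrictFunctorComp (U.ι ⁻¹ᵁ W).ι U.ι).app F).symm ≪≫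
      (Scheme.Modules.restrictFunctorCongr (morphismRestrict_ι U.ι W).symm).app F ≪≫
      (Scheme.Modules.restrictFunctorComp (U.ι ∣_ W) W.ι).app F ≪≫
      (Scheme.Modules.restrictFunctor (U.ι ∣_ W)).mapIso e ≪≫ LF71.restrictFree _ n

/-- A torsion free coherent module on a normal Noetherian scheme is free in codimension one. -/
theorem exists_big_open_finLocFree [IsLocallyNoetherian X] (hX : Pi1.IsNormalScheme X)
    {F : X.Modules} (hF : Coh.IsCoh F)
    (htf : ∀ x : X, Module.IsTorsionFree (X.presheaf.stalk x) (F.presheaf.stalk x)) :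
    ∃ U : X.Opens, (∀ x : X, x ∉ U → (2 : WithBot ℕ∞) ≤ ringKrullDim (X.presheaf.stalk x)) ∧
      FlatMod.IsFinLocFree (F.restrict U.ι) := by
  obtain ⟨U, hU, hfree⟩ := exists_open_freeLocus hF
  refine ⟨U, fun x hx => ?_, hfree⟩
  by_contra hd
  haveI := (hX x).1
  haveI := (hX x).2
  haveI : F.IsFiniteType := hF.2
  haveI := finite_stalk_of_isFiniteType (M := F) x
  have hd1 : ringKrullDim (X.presheaf.stalk x) ≤ 1 := by
    obtain ⟨m, hm⟩ := EGA4Alg4.exists_supportDim_eq (A := X.presheaf.stalk x) (M := X.presheaf.stalk x)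
    rw [Module.supportDim_self_eq_ringKrullDim] at hm
    rw [hm] at hd ⊢
    exact_mod_cast Nat.lt_succ_iff.1 (not_le.1 fun h2 : 2 ≤ m => hd (by exact_mod_cast h2))
  haveI := CAlg1.regular_of_isIntegrallyClosed_dim_le_one _ hd1
  exact hx ((hU x).2 (free_of_torsionFree_dim_le_one hd1 (htf x)))

end Groth.Agent.Div89
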