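import Groth.Agent.Div89.Cartier
import Mathlib.RingTheory.DiscreteValuationRing.TFAE
import Mathlib.RingTheory.Filtration
import Mathlib.RingTheory.Ideal.Quotient.Nilpotent

/-!
Dimension of the local ring at a maximal point of a locally principal closed subscheme.
-/

set_option autoImplicit false
set_option linter.style.haveILetI false

universe u

open CategoryTheory AlgebraicGeometry Opposite nonZeroDivisors

namespace Groth.Agent.Div89

variable {X : Scheme.{u}}

lemma primeAt_mem_minimalPrimes (D : X.IdealSheafData) (U : X.affineOpens) (ξ : X) (hU : ξ ∈ U.1)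
    (hξ : ξ ∈ D.support) (hgen : ∀ y ∈ D.support, y ⤳ ξ → y = ξ) :
    primeAt U ξ hU ∈ (D.ideal U).minimalPrimes := by
  refine ⟨⟨inferInstance, (mem_support_iff_le D U ξ hU).1 hξ⟩, ?_⟩
  rintro q ⟨hq, hIq⟩ hle
  obtain ⟨y, hy, rfl⟩ := exists_point U q
  have h := hgen y ((mem_support_iff_le D U y hy).2 hIq) ((specializes_iff_primeAt_le U hU hy).2 hle)
  subst h
  rfl

lemma dim_stalk_le_one_of_principal [IsLocallyNoetherian X] {D : X.IdealSheafData}
    {U : X.affineOpens} {f : Γ(X, U.1)} (hf : D.ideal U = Ideal.span {f}) {ξ : X} (hU : ξ ∈ U.1)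
    (hξ : ξ ∈ D.support) (hgen : ∀ y ∈ D.support, y ⤳ ξ → y = ξ) :
    ringKrullDim (X.presheaf.stalk ξ) ≤ 1 := by
  have : IsNoetherianRing Γ(X, U.1) := IsLocallyNoetherian.component_noetherian U
  have hp := primeAt_mem_minimalPrimes D U ξ hU hξ hgen
  rw [hf] at hp
  rw [ringKrullDim_stalk_eq_height U ξ hU]
  exact_mod_cast Ideal.height_le_one_of_isPrincipal_of_mem_minimalPrimes (Ideal.span {f}) _ hp

lemma one_le_height_primeAt {U : X.affineOpens} {f : Γ(X, U.1)} (hf : f ∈ Γ(X, U.1)⁰) {ξ : X}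
    (hU : ξ ∈ U.1) (hmem : f ∈ primeAt U ξ hU) :
    1 ≤ (primeAt U ξ hU).height := by
  rw [Order.one_le_iff_ne_zero, Ne, Ideal.height_eq_zero_iff]
  exact fun h => Set.disjoint_iff.mp (Ideal.disjoint_nonZeroDivisors_of_mem_minimalPrimes h)
    ⟨hmem, hf⟩

lemma dim_stalk_eq_one_of_effCartier [IsLocallyNoetherian X] {D : X.IdealSheafData}
    (hD : BlowUp.IsEffCartierIdeal D) {ξ : X}
    (hξ : ξ ∈ D.support) (hgen : ∀ y ∈ D.support, y ⤳ ξ → y = ξ) :
    ringKrullDim (X.presheaf.stalk ξ) = 1 := by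
  obtain ⟨U, hU, f, hf0, hf⟩ := hD ξ
  refine le_antisymm (dim_stalk_le_one_of_principal hf hU hξ hgen) ?_
  rw [ringKrullDim_stalk_eq_height U ξ hU]
  exact_mod_cast one_le_height_primeAt hf0 hU
    ((mem_support_iff_le D U ξ hU).1 hξ (hf.ge (Ideal.mem_span_singleton_self f)))

lemma ideal_isRadical_of_isReduced (D : X.IdealSheafData) [AlgebraicGeometry.IsReduced D.subscheme]
    (U : X.affineOpens) : (D.ideal U).IsRadical := by
  rw [Ideal.isRadical_iff_quotient_reduced]
  exact isReduced_of_injective (D.subschemeObjIso U).commRingCatIsoToRingEquiv.symm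
    (D.subschemeObjIso U).commRingCatIsoToRingEquiv.symm.injective

lemma ideal_eq_primeAt_of_genericPoint (D : X.IdealSheafData)
    [AlgebraicGeometry.IsReduced D.subscheme] {ξ : X}
    (hξ : IsGenericPoint ξ (D.support : Set X)) (U : X.affineOpens) (hU : ξ ∈ U.1) :
    D.ideal U = primeAt U ξ hU := by
  refine le_antisymm ((mem_support_iff_le D U ξ hU).1 hξ.mem) ?_
  rw [← (ideal_isRadical_of_isReduced D U).radical, Ideal.radical_eq_sInf]
  refine le_sInf fun q hq => ?_
  obtain ⟨hIq, hq'⟩ := hq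
  obtain ⟨y, hy, rfl⟩ := exists_point U q
  exact (specializes_iff_primeAt_le U hy hU).1 (hξ.specializes ((mem_support_iff_le D U y hy).2 hIq))

lemma stalkIdeal_eq_maximalIdeal_of_genericPoint (D : X.IdealSheafData)
    [AlgebraicGeometry.IsReduced D.subscheme] {ξ : X}
    (hξ : IsGenericPoint ξ (D.support : Set X)) :
    stalkIdeal D ξ = IsLocalRing.maximalIdeal (X.presheaf.stalk ξ) := by
  obtain ⟨U, hU⟩ := exists_affine_mem ξ
  letI := stalkAlg U.1 ξ hU
  haveI := isLocalization_stalk U ξ hU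
  rw [stalkIdeal_eq D U ξ hU, ideal_eq_primeAt_of_genericPoint D hξ U hU]
  exact IsLocalization.AtPrime.map_eq_maximalIdeal (primeAt U ξ hU) (X.presheaf.stalk ξ)

lemma isDiscreteValuationRing_of_principal_nzd (R : Type u) [CommRing R] [IsNoetherianRing R]
    [IsLocalRing R] {g : R} (hg : g ∈ R⁰) (hm : IsLocalRing.maximalIdeal R = Ideal.span {g}) :
    ∃ _ : IsDomain R, IsDiscreteValuationRing R := by
  have hgu : ¬ IsUnit g := fun h => (IsLocalRing.maximalIdeal.isMaximal R).ne_top
    (hm.trans (Ideal.span_singleton_eq_top.2 h))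
  have key : ∀ a : R, a ≠ 0 → ∃ (n : ℕ) (u : R), IsUnit u ∧ a = u * g ^ n := by
    intro a ha
    have hK := Ideal.iInf_pow_eq_bot_of_isLocalRing (IsLocalRing.maximalIdeal R)
      (IsLocalRing.maximalIdeal.isMaximal R).ne_top
    have : ∃ n, a ∉ IsLocalRing.maximalIdeal R ^ n := by
      by_contra! h
      exact ha ((Ideal.mem_bot).1 (hK.le ((Ideal.mem_iInf).2 h)))
    classical
    obtain ⟨n, hn⟩ : ∃ n, Nat.find this = n + 1 := by
      refine ⟨Nat.find this - 1, ?_⟩
      have : Nat.find this ≠ 0 := fun h => by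
        have := Nat.find_spec this
        rw [h, pow_zero, Ideal.one_eq_top] at this
        exact this Submodule.mem_top
      omega
    have h1 : a ∈ IsLocalRing.maximalIdeal R ^ n := not_not.1 (Nat.find_min this (by omega))
    have h2 : a ∉ IsLocalRing.maximalIdeal R ^ (n + 1) := hn ▸ Nat.find_spec this
    rw [hm, Ideal.span_singleton_pow] at h1 h2
    obtain ⟨u, rfl⟩ := Ideal.mem_span_singleton'.1 h1
    refine ⟨n, u, ?_, rfl⟩
    by_contra hu
    have : u ∈ IsLocalRing.maximalIdeal R := hu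
    rw [hm] at this
    obtain ⟨v, rfl⟩ := Ideal.mem_span_singleton'.1 this
    exact h2 (Ideal.mem_span_singleton'.2 ⟨v, by ring⟩)
  haveI : NoZeroDivisors R := ⟨fun {a b} hab => by
    by_contra! h
    obtain ⟨n, u, hu, rfl⟩ := key a h.1
    obtain ⟨m, v, hv, rfl⟩ := key b h.2
    have : (u * g ^ n) * (v * g ^ m) ∈ R⁰ := mul_mem (mul_mem hu.mem_nonZeroDivisors (pow_mem hg n))
      (mul_mem hv.mem_nonZeroDivisors (pow_mem hg m))
    rw [hab] at this
    exact zero_notMem_nonZeroDivisors this⟩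
  haveI hdom : IsDomain R := NoZeroDivisors.to_isDomain R
  refine ⟨hdom, ?_⟩
  have hf : ¬ IsField R := fun hF => by
    have : g ∈ (⊥ : Ideal R) := by
      rw [← IsLocalRing.isField_iff_maximalIdeal_eq.1 hF, hm]
      exact Ideal.mem_span_singleton_self g
    rw [Ideal.mem_bot.1 this] at hg
    exact zero_notMem_nonZeroDivisors hg
  exact ((IsDiscreteValuationRing.TFAE R hf).out 4 0).1 (show (IsLocalRing.maximalIdeal R).IsPrincipal from ⟨g, hm⟩)

end Groth.Agent.Div89
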