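import Groth.Agent.Div89.WeakAss
import Groth.Agent.Div89.Cartier
import Groth.Agent.Div89.Codim
import Groth.Prelude.Def_MeroSh
import Mathlib.AlgebraicGeometry.Morphisms.Flat
import Mathlib.RingTheory.Flat.Basic

/-!
When the pullbacks of regular sections and of effective Cartier divisors are defined.
-/

set_option autoImplicit false
set_option linter.style.haveILetI false
set_option backward.isDefEq.respectTransparency.types false

noncomputable section

universe u

open CategoryTheory AlgebraicGeometry Opposite TopologicalSpace nonZeroDivisors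

namespace Groth.Agent.Div89

variable {X Y : Scheme.{u}}

lemma flat_map_nonZeroDivisors {R S : Type u} [CommRing R] [CommRing S] {φ : R →+* S} (hφ : φ.Flat)
    {g : R} (hg : g ∈ R⁰) : φ g ∈ S⁰ := by
  algebraize [φ]
  have h := (isSMulRegular_iff_right_eq_zero_of_smul.2 fun (a : R) (ha : g • a = 0) =>
    (mem_nonZeroDivisors_iff_left.1 hg) a ha : IsSMulRegular R g).of_flat (S := S)
  exact mem_nonZeroDivisors_iff_left.2 fun s hs => h.right_eq_zero_of_smul hs

lemma app_mem_regSub_of_stalkMap (f : X ⟶ Y) (U : Y.Opens) (s : Γ(Y, U)) (hs : s ∈ Mero.regSub Y U)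
    (h : ∀ x, ∀ g ∈ Mero.regStalk Y (f x), (f.stalkMap x).hom g ∈ (X.presheaf.stalk x)⁰) :
    f.app U s ∈ Mero.regSub X (f ⁻¹ᵁ U) := by
  rintro ⟨x, hx⟩
  have := h x _ (Mero.germ_mem_regStalk (⟨f x, hx⟩ : U) hs)
  erw [Scheme.Hom.germ_stalkMap_apply] at this
  exact this

lemma app_mem_regSub_of_flat (f : X ⟶ Y) [Flat f] (U : Y.Opens) (s : Γ(Y, U))
    (hs : s ∈ Mero.regSub Y U) : f.app U s ∈ Mero.regSub X (f ⁻¹ᵁ U) :=
  app_mem_regSub_of_stalkMap f U s hs fun x _ hg =>
    flat_map_nonZeroDivisors (Flat.stalkMap f x) (Mero.regStalk_le_nonZeroDivisors _ hg)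

lemma isEffCartier_comap_of_flat (f : X ⟶ Y) [Flat f] {I : Y.IdealSheafData}
    (hI : BlowUp.IsEffCartierIdeal I) : BlowUp.IsEffCartierIdeal (I.comap f) :=
  isEffCartier_comap_of_stalk f hI fun x _ hg _ => flat_map_nonZeroDivisors (Flat.stalkMap f x) hg

lemma mem_nonZeroDivisors_of_forall_weakAss {R : Type u} [CommRing R] {a : R}
    (h : ∀ p ∈ FlatCA.weakAss R R, a ∉ p) : a ∈ R⁰ := by
  refine mem_nonZeroDivisors_iff_left.2 fun x hx => ?_
  by_contra hx0
  obtain ⟨p, hp, hple⟩ := CAlg5.exists_mem_weakAss (R := R) hx0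
  exact h p hp (hple a hx)

lemma germ_mem_nonZeroDivisors_of_weakAss {V : X.Opens} (a : Γ(X, V))
    (h : ∀ z (hz : z ∈ V), Curv2.IsWeakAssPoint (Coh.structureModule X) z →
      IsUnit ((X.presheaf.germ V z hz).hom a)) (x : X) (hx : x ∈ V) :
    (X.presheaf.germ V x hx).hom a ∈ (X.presheaf.stalk x)⁰ := by
  obtain ⟨W, hxW, hWV⟩ := exists_affine_le hx
  rw [← X.presheaf.germ_res_apply (homOfLE hWV) x hxW a]
  refine germ_mem_nonZeroDivisors W (mem_nonZeroDivisors_of_forall_weakAss fun p hp hap => ?_) x hxW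
  haveI := CAlg5.weakAss_isPrime hp
  obtain ⟨z, hz, rfl⟩ := exists_point W p
  have hu := h z (hWV hz) ((isWeakAssPoint_structureModule_iff W z hz).2 hp)
  rw [← X.presheaf.germ_res_apply (homOfLE hWV) z hz a] at hu
  exact (germ_isUnit_iff W z hz _).1 hu hap

lemma isEffCartier_comap_of_weakAss (f : X ⟶ Y) {I : Y.IdealSheafData}
    (hI : BlowUp.IsEffCartierIdeal I)
    (h : ∀ x, Curv2.IsWeakAssPoint (Coh.structureModule X) x → f x ∉ I.support) :
    BlowUp.IsEffCartierIdeal (I.comap f) := by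
  refine isEffCartier_comap_of_stalk f hI fun x g _ hgI => ?_
  obtain ⟨U, hxU, a, ha0, ha⟩ := hI (f x)
  have ha' : (X.presheaf.germ (f ⁻¹ᵁ U.1) x hxU).hom (f.app U.1 a) ∈ (X.presheaf.stalk x)⁰ := by
    refine germ_mem_nonZeroDivisors_of_weakAss _ (fun z hz hw => ?_) x hxU
    have hu : IsUnit ((Y.presheaf.germ U.1 (f z) hz).hom a) := by
      rw [← Ideal.span_singleton_eq_top, ← stalkIdeal_eq_span ha (f z) hz]
      exact (notMem_support_iff_stalkIdeal I (f z)).1 (h z hw)
    have := hu.map (f.stalkMap z).hom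
    erw [Scheme.Hom.germ_stalkMap_apply] at this
    exact this
  have hspan := (stalkIdeal_eq_span ha (f x) hxU).symm.trans hgI
  have hmap := congrArg (Ideal.map (f.stalkMap x).hom) hspan
  rw [Ideal.map_span, Ideal.map_span, Set.image_singleton, Set.image_singleton] at hmap
  refine generator_mem_nonZeroDivisors ha' (hmap.symm.trans ?_)
  congr 2
  erw [Scheme.Hom.germ_stalkMap_apply]

lemma ringKrullDim_stalk_eq_zero_of_maximal (y : Y) (hy : ∀ z : Y, z ⤳ y → z = y) :
    ringKrullDim (Y.presheaf.stalk y) = 0 := by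
  obtain ⟨U, hyU⟩ := exists_affine_mem y
  rw [ringKrullDim_stalk_eq_height U y hyU]
  suffices (primeAt U y hyU).height = 0 by rw [this]; rfl
  rw [Ideal.height_eq_zero_iff]
  refine ⟨⟨inferInstance, bot_le⟩, fun q hq hle => ?_⟩
  haveI := hq.1
  obtain ⟨z, hz, rfl⟩ := exists_point U q
  obtain rfl := hy z ((specializes_iff_primeAt_le U hyU hz).2 hle)
  exact le_rfl

lemma isUnit_of_nonZeroDivisor_of_maximal (y : Y) (hy : ∀ z : Y, z ⤳ y → z = y)
    {g : Y.presheaf.stalk y} (hg : g ∈ (Y.presheaf.stalk y)⁰) : IsUnit g := by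
  by_contra hu
  have hm : g ∈ IsLocalRing.maximalIdeal (Y.presheaf.stalk y) := hu
  have h0 : (IsLocalRing.maximalIdeal (Y.presheaf.stalk y)).height = 0 := by
    have := ringKrullDim_stalk_eq_zero_of_maximal y hy
    rw [← IsLocalRing.maximalIdeal_height_eq_ringKrullDim] at this
    exact_mod_cast this
  exact Set.disjoint_left.1 (Ideal.disjoint_nonZeroDivisors_of_mem_minimalPrimes
    (Ideal.height_eq_zero_iff.1 h0)) hm hg

lemma app_mem_regSub_of_weakAss (f : X ⟶ Y)
    (h : ∀ x, Curv2.IsWeakAssPoint (Coh.structureModule X) x → ∀ y : Y, y ⤳ f x → y = f x)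
    (U : Y.Opens) (s : Γ(Y, U)) (hs : s ∈ Mero.regSub Y U) :
    f.app U s ∈ Mero.regSub X (f ⁻¹ᵁ U) := by
  rintro ⟨x, hx⟩
  refine germ_mem_nonZeroDivisors_of_weakAss _ (fun z hz hw => ?_) x hx
  have hu := (isUnit_of_nonZeroDivisor_of_maximal (f z) (h z hw) (hs ⟨f z, hz⟩)).map (f.stalkMap z).hom
  erw [Scheme.Hom.germ_stalkMap_apply] at hu
  exact hu

end Groth.Agent.Div89
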