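import Groth.Agent.Div89.Punctured
import Groth.Agent.Div89.Pullback
import Groth.Prelude.Def_FEt

set_option autoImplicit false
set_option linter.style.haveILetI false

noncomputable section

universe u

open CategoryTheory AlgebraicGeometry IsLocalRing

namespace Groth.Agent.Div89

theorem ringKrullDim_le_one_of_isAffineOpen_punctured (A : CommRingCat.{u}) [IsNoetherianRing A]
    [IsLocalRing A] (U : (Spec A).Opens) (hU : IsAffineOpen U)
    (hmem : ∀ x : Spec A, x ∈ U ↔ x ≠ closedPoint A) :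
    ringKrullDim A ≤ 1 := by
  classical
  let e := Scheme.ΓSpecIso A
  let res : Γ(Spec A, ⊤) ⟶ Γ(Spec A, U) := (Spec A).presheaf.map (homOfLE le_top).op
  letI : Algebra A Γ(Spec A, U) := (e.inv ≫ res).hom.toAlgebra
  haveI : Algebra.FiniteType A Γ(Spec A, U) := by
    have h1 := LocallyOfFiniteType.finiteType_appLE (𝟙 (Spec A)) (isAffineOpen_top _) hU le_top
    have h3 : (𝟙 (Spec A) : Spec A ⟶ Spec A).appLE ⊤ U le_top = res := by
      simp [Scheme.Hom.appLE, res]
    rw [h3] at h1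
    have h2 : (e.inv ≫ res).hom.FiniteType :=
      h1.comp (RingHom.FiniteType.of_surjective e.inv.hom e.symm.commRingCatIsoToRingEquiv.surjective)
    exact h2
  let g : A → Γ(Spec A, ⊤) := e.inv
  have hbo : ∀ f : A, (Spec A).basicOpen (g f) = PrimeSpectrum.basicOpen f := basicOpen_eq_of_affine
  have hres : ∀ f : A, (Spec A).basicOpen (res (g f)) = U ⊓ (Spec A).basicOpen (g f) :=
    fun f => Scheme.basicOpen_res _ _ _
  have hfU : ∀ f ∈ maximalIdeal A, (Spec A).basicOpen (g f) ≤ U := by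
    intro f hf x hx
    rw [hbo] at hx
    exact (hmem x).2 fun h => (h ▸ hx) hf
  refine ringKrullDim_le_one_of_punctured A Γ(Spec A, U) ?_ ?_ ?_
  · rw [Ideal.map, ← hU.self_le_iSup_basicOpen_iff]
    intro x hx
    have hlt : x.asIdeal ≠ maximalIdeal A := fun h => (hmem x).1 hx (PrimeSpectrum.ext h)
    obtain ⟨f, hfm, hfx⟩ := SetLike.exists_of_lt (lt_of_le_of_ne (le_maximalIdeal x.2.ne_top) hlt)
    refine TopologicalSpace.Opens.mem_iSup.2 ⟨⟨_, f, hfm, rfl⟩, ?_⟩
    show x ∈ (Spec A).basicOpen (res (g f))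
    rw [hres, hbo]
    exact ⟨hx, hfx⟩
  · intro θ f hf
    have hV : (Spec A).basicOpen (g f) = (Spec A).basicOpen (res (g f)) := by
      rw [hres, inf_eq_right.2 (hfU f hf)]
    let r0 : Γ(Spec A, ⊤) ⟶ Γ(Spec A, (Spec A).basicOpen (g f)) :=
      (Spec A).presheaf.map (homOfLE le_top).op
    let r1 : Γ(Spec A, U) ⟶ Γ(Spec A, (Spec A).basicOpen (g f)) :=
      (Spec A).presheaf.map (homOfLE (hfU f hf)).op
    have hr : ∀ t, r1 (res t) = r0 t := fun t => by
      show ((Spec A).presheaf.map (homOfLE le_top).op ≫ (Spec A).presheaf.map _) t = _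
      rw [← Functor.map_comp]; rfl
    letI := r0.hom.toAlgebra
    haveI : IsLocalization.Away (g f) Γ(Spec A, (Spec A).basicOpen (g f)) :=
      (isAffineOpen_top _).isLocalization_of_eq_basicOpen (g f) (homOfLE le_top) rfl
    obtain ⟨⟨c0, ⟨_, n, rfl⟩⟩, hc⟩ := IsLocalization.surj (Submonoid.powers (g f)) (r1 θ)
    change r1 θ * r0 (g f ^ n) = r0 c0 at hc
    letI := r1.hom.toAlgebra
    haveI : IsLocalization.Away (res (g f)) Γ(Spec A, (Spec A).basicOpen (g f)) :=
      hU.isLocalization_of_eq_basicOpen _ (homOfLE (hfU f hf)) hV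
    have h0 : r1 (θ * res (g f ^ n)) = r1 (res c0) := by rw [map_mul, hr, hr, hc]
    obtain ⟨⟨_, m, rfl⟩, hm⟩ :=
      (IsLocalization.eq_iff_exists (Submonoid.powers (res (g f))) _).1 h0
    refine ⟨n + m, f ^ m * e.hom c0, ?_⟩
    rw [Algebra.smul_def]
    show res (g (f ^ (n + m))) * θ = res (g (f ^ m * e.hom c0))
    simp only [g, map_pow, map_mul, Iso.hom_inv_id_apply, pow_add] at hm ⊢
    linear_combination hm
  · intro f hf
    let r0 : Γ(Spec A, ⊤) ⟶ Γ(Spec A, (Spec A).basicOpen (g f)) :=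
      (Spec A).presheaf.map (homOfLE le_top).op
    let r1 : Γ(Spec A, U) ⟶ Γ(Spec A, (Spec A).basicOpen (g f)) :=
      (Spec A).presheaf.map (homOfLE (hfU f hf)).op
    letI := r0.hom.toAlgebra
    haveI : IsLocalization.Away (g f) Γ(Spec A, (Spec A).basicOpen (g f)) :=
      (isAffineOpen_top _).isLocalization_of_eq_basicOpen (g f) (homOfLE le_top) rfl
    have hu : IsUnit (((algebraMap A (Localization.Away f)).comp e.hom.hom) (g f)) := by
      simp only [RingHom.comp_apply, g, Iso.inv_hom_id_apply]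
      exact IsLocalization.Away.algebraMap_isUnit f
    refine ⟨{ toRingHom := (IsLocalization.Away.lift (g f) hu).comp r1.hom, commutes' := fun a => ?_ }⟩
    show IsLocalization.Away.lift (g f) hu (r1 (res (g a))) = _
    have hr : r1 (res (g a)) = r0 (g a) := by
      show ((Spec A).presheaf.map (homOfLE le_top).op ≫ (Spec A).presheaf.map _) _ = _
      rw [← Functor.map_comp]; rfl
    rw [hr]
    exact (IsLocalization.Away.lift_eq (g f) hu (g a)).trans (by simp [g])

theorem isAffineOpen_punctured_of_dim_le_one (A : CommRingCat.{u}) [IsNoetherianRing A]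
    [IsLocalRing A] (U : (Spec A).Opens)
    (hmem : ∀ x : Spec A, x ∈ U ↔ x ≠ closedPoint A) (hd : ringKrullDim A ≤ 1) :
    IsAffineOpen U := by
  classical
  have hfin : (minimalPrimes A \ {maximalIdeal A}).Finite :=
    (minimalPrimes.finite_of_isNoetherianRing A).subset Set.sdiff_subset
  obtain ⟨f, hfm, hfs⟩ : ∃ f ∈ maximalIdeal A, ∀ p ∈ hfin.toFinset, f ∉ p := by
    have : ¬ ((maximalIdeal A : Set A) ⊆ ⋃ p ∈ (hfin.toFinset : Set (Ideal A)), ((id p : Ideal A) : Set A)) := fun hsub => by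
      obtain ⟨p, hp, hle⟩ := (Ideal.subset_union_prime (f := id) ⊤ ⊤
        fun p hp _ _ => (hfin.mem_toFinset.1 hp).1.1.1).1 hsub
      obtain ⟨h1, h2⟩ := hfin.mem_toFinset.1 hp
      exact h2 ((maximalIdeal.isMaximal A).eq_of_le h1.1.1.ne_top hle).symm
    obtain ⟨f, hfm, hf⟩ := Set.not_subset.1 this
    exact ⟨f, hfm, fun p hp hfp => hf (Set.mem_iUnion₂.2 ⟨p, hp, hfp⟩)⟩
  have hU : U = PrimeSpectrum.basicOpen f := by
    ext x
    refine ⟨fun hx hfx => hfs x.asIdeal (hfin.mem_toFinset.2 ⟨?_, ?_⟩) hfx,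
      fun hx => (hmem x).2 fun h => (h ▸ hx) hfm⟩
    · rw [minimalPrimes]
      refine ⟨⟨x.2, bot_le⟩, fun q hq hle => ?_⟩
      by_contra hne
      have h1 : q < x.asIdeal := lt_of_le_not_ge hle hne
      have h2 : x.asIdeal < maximalIdeal A := lt_of_le_of_ne (le_maximalIdeal x.2.ne_top)
        fun h => (hmem x).1 hx (PrimeSpectrum.ext h)
      let l : LTSeries (PrimeSpectrum A) :=
        ((RelSeries.singleton _ ⟨q, hq.1⟩).snoc x h1).snoc (closedPoint A) (by simp; exact h2)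
      have := Order.LTSeries.length_le_krullDim l
      have h3 : ((2 : ℕ) : WithBot ℕ∞) ≤ 1 := this.trans hd
      exact absurd (WithBot.coe_le_coe.1 h3) (by norm_num)
    · exact fun h => (hmem x).1 hx (PrimeSpectrum.ext h)
  rw [hU]
  exact IsAffineOpen.Spec_basicOpen f

variable {X : Scheme.{u}} (U : X.Opens) (ξ : X)

theorem mem_preimage_fromSpecStalk_iff (hξ : ξ ∉ U) (hgen : ∀ y : X, y ∉ U → y ⤳ ξ → y = ξ)
    (x : Spec (X.presheaf.stalk ξ)) :
    x ∈ (X.fromSpecStalk ξ) ⁻¹ᵁ U ↔ x ≠ closedPoint (X.presheaf.stalk ξ) := by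
  show X.fromSpecStalk ξ x ∈ U ↔ _
  constructor
  · rintro h rfl
    rw [Scheme.fromSpecStalk_closedPoint] at h
    exact hξ h
  · intro h
    by_contra hx
    have hspec : X.fromSpecStalk ξ x ⤳ ξ := by
      have := Set.mem_range_self (f := X.fromSpecStalk ξ) x
      rwa [Scheme.range_fromSpecStalk] at this
    refine h ((X.fromSpecStalk ξ).isEmbedding.injective ?_)
    rw [hgen _ hx hspec, Scheme.fromSpecStalk_closedPoint]

theorem ringKrullDim_stalk_le_one_of_isAffineHom [IsLocallyNoetherian X] [IsAffineHom U.ι]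
    (hξ : ξ ∉ U) (hgen : ∀ y : X, y ∉ U → y ⤳ ξ → y = ξ) :
    ringKrullDim (X.presheaf.stalk ξ) ≤ 1 := by
  let f := X.fromSpecStalk ξ
  haveI : IsAffineHom (f ⁻¹ᵁ U).ι :=
    MorphismProperty.of_isPullback (P := @IsAffineHom) (isPullback_morphismRestrict f U) inferInstance
  haveI : IsAffine (f ⁻¹ᵁ U : Scheme.{u}) := isAffine_of_isAffineHom (f ⁻¹ᵁ U).ι
  exact ringKrullDim_le_one_of_isAffineOpen_punctured _ (f ⁻¹ᵁ U) ‹_›
    (mem_preimage_fromSpecStalk_iff U ξ hξ hgen)

lemma exists_nhd_of_maximal [IsLocallyNoetherian X] (ξ : X) (h : ∀ z : X, z ⤳ ξ → z = ξ) :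
    ∃ W : X.Opens, ξ ∈ W ∧ ∀ y ∈ W, ξ ⤳ y := by
  classical
  obtain ⟨V, hV⟩ := exists_affine_mem ξ
  haveI := IsLocallyNoetherian.component_noetherian V
  have hp : primeAt V ξ hV ∈ minimalPrimes Γ(X, V.1) := by
    refine ⟨⟨inferInstance, bot_le⟩, fun q hq hle => ?_⟩
    haveI := hq.1
    obtain ⟨z, hz, rfl⟩ := exists_point V q
    obtain rfl := h z ((specializes_iff_primeAt_le V hV hz).2 hle)
    exact le_rfl
  have hfin : (minimalPrimes Γ(X, V.1) \ {primeAt V ξ hV}).Finite :=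
    (minimalPrimes.finite_of_isNoetherianRing _).subset Set.sdiff_subset
  obtain ⟨g, hg, hgp⟩ : ∃ g, g ∈ hfin.toFinset.inf id ∧ g ∉ primeAt V ξ hV := by
    refine SetLike.not_le_iff_exists.1 fun hle => ?_
    obtain ⟨q, hq, hqle⟩ := (Ideal.IsPrime.inf_le' inferInstance).1 hle
    obtain ⟨h1, h2⟩ := hfin.mem_toFinset.1 hq
    exact h2 (le_antisymm hqle (hp.2 h1.1 hqle))
  refine ⟨X.basicOpen g, (mem_basicOpen_iff_notMem V ξ hV g).2 hgp, fun y hy => ?_⟩
  have hyV : y ∈ V.1 := X.basicOpen_le g hy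
  obtain ⟨q, hq, hqy⟩ := Ideal.exists_minimalPrimes_le (I := ⊥) (J := primeAt V y hyV) bot_le
  rw [specializes_iff_primeAt_le V hyV hV]
  by_cases hqe : q = primeAt V ξ hV
  · exact hqe ▸ hqy
  · exact absurd (hqy (Finset.inf_le (f := id) (hfin.mem_toFinset.2 ⟨hq, hqe⟩) hg))
      ((mem_basicOpen_iff_notMem V y hyV g).1 hy)

theorem ringKrullDim_stalk_eq_one_of_isAffineHom [IsLocallyNoetherian X] [IsAffineHom U.ι]
    (hξ : ξ ∉ U) (hgen : ∀ y : X, y ∉ U → y ⤳ ξ → y = ξ) (hcl : ξ ∈ closure (U : Set X)) :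
    ringKrullDim (X.presheaf.stalk ξ) = 1 := by
  refine le_antisymm (ringKrullDim_stalk_le_one_of_isAffineHom U ξ hξ hgen) ?_
  by_contra hlt
  haveI : Ring.KrullDimLE 0 (X.presheaf.stalk ξ) := by
    rw [Ring.krullDimLE_iff, ← IsLocalRing.maximalIdeal_height_eq_ringKrullDim]
    rw [← IsLocalRing.maximalIdeal_height_eq_ringKrullDim] at hlt
    have h1 : (maximalIdeal (X.presheaf.stalk ξ)).height < 1 := by
      rw [not_le] at hlt; exact_mod_cast hlt
    rw [Order.lt_one_iff.1 h1]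
    simp
  have hmax : ∀ z : X, z ⤳ ξ → z = ξ := by
    intro z hz
    have : z ∈ Set.range (X.fromSpecStalk ξ) := by rw [Scheme.range_fromSpecStalk]; exact hz
    obtain ⟨p, rfl⟩ := this
    rw [show p = closedPoint (X.presheaf.stalk ξ) from PrimeSpectrum.ext
      (IsLocalRing.eq_maximalIdeal p.2.isMaximal'), Scheme.fromSpecStalk_closedPoint]
  obtain ⟨W, hξW, hW⟩ := exists_nhd_of_maximal ξ hmax
  obtain ⟨y, hyW, hyU⟩ := mem_closure_iff.1 hcl W W.isOpen hξW
  exact hξ ((hW y hyW).mem_open U.isOpen hyU)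

end Groth.Agent.Div89
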