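import Mathlib.RingTheory.KrullDimension.Polynomial
import Mathlib.RingTheory.DiscreteValuationRing.TFAE
import Mathlib.RingTheory.Localization.AtPrime.Basic
import Mathlib.RingTheory.Ideal.KrullsHeightTheorem
import Mathlib.RingTheory.Polynomial.Quotient
import Mathlib.RingTheory.Flat.Localization

/-!
Height one primes of `A[X]`.
-/

set_option autoImplicit false
set_option linter.style.haveILetI false

universe u

open Polynomial

namespace Groth.Agent.Div89

variable {A : Type u} [CommRing A] [IsDomain A] [IsNoetherianRing A]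

lemma eq_of_le_of_height_eq_one {R : Type u} [CommRing R] [IsDomain R] [IsNoetherianRing R] {P Q : Ideal R} [P.IsPrime]
    [Q.IsPrime] (hP : P.height = 1) (hle : Q ≤ P) (hQ : Q ≠ ⊥) : Q = P := by
  by_contra hne
  have h1 : Q.height < P.height := by
    exact Ideal.height_strict_mono_of_isPrime (lt_of_le_of_ne hle hne)
  rw [hP, Order.lt_one_iff, Ideal.height_eq_zero_iff] at h1
  exact hQ (le_bot_iff.1 (h1.2 ⟨Ideal.isPrime_bot, bot_le⟩ bot_le))

lemma height_one_prime_polynomial (P : Ideal A[X]) [P.IsPrime] (hP : P.height = 1) :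
    P.comap (C : A →+* A[X]) = ⊥ ∨
      ((P.comap (C : A →+* A[X])).height = 1 ∧ P = (P.comap (C : A →+* A[X])).map C) := by
  set p := P.comap (C : A →+* A[X]) with hp
  by_cases hbot : p = ⊥
  · exact Or.inl hbot
  refine Or.inr ?_
  haveI : P.LiesOver p := ⟨rfl⟩
  haveI : (p.map (C : A →+* A[X])).IsPrime := Ideal.isPrime_map_C_of_isPrime
  have hne : p.map (C : A →+* A[X]) ≠ ⊥ := by
    rwa [Ne, Ideal.map_eq_bot_iff_of_injective C_injective]
  have heq := eq_of_le_of_height_eq_one hP Ideal.map_comap_le hne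
  refine ⟨le_antisymm ?_ ?_, heq.symm⟩
  · rw [← hP, Ideal.height_eq_height_add_of_liesOver_of_hasGoingDown p P]
    exact le_self_add
  · rw [Order.one_le_iff_ne_zero, Ne, Ideal.height_eq_zero_iff]
    exact fun h => hbot (le_bot_iff.1 (h.2 ⟨Ideal.isPrime_bot, bot_le⟩ bot_le))

lemma isDiscreteValuationRing_localization_of_generator {R : Type u} [CommRing R] [IsDomain R]
    [IsNoetherianRing R] (P : Ideal R) [P.IsPrime] (g : R) (hg : g ∈ P) (hg0 : g ≠ 0)
    (hgen : ∀ f ∈ P, ∃ s ∉ P, g ∣ s * f) :
    IsDiscreteValuationRing (Localization.AtPrime P) := by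
  let S := Localization.AtPrime P
  have hm : IsLocalRing.maximalIdeal S = Ideal.span {algebraMap R S g} := by
    refine le_antisymm ?_ ?_
    · rw [← Localization.AtPrime.map_eq_maximalIdeal, Ideal.map_le_iff_le_comap]
      intro f hf
      obtain ⟨s, hs, hdvd⟩ := hgen f hf
      rw [Ideal.mem_comap, Ideal.mem_span_singleton]
      have := map_dvd (algebraMap R S) hdvd
      rw [map_mul] at this
      exact (IsUnit.dvd_mul_left (IsLocalization.map_units S (⟨s, hs⟩ : P.primeCompl))).1 this
    · rw [Ideal.span_singleton_le_iff_mem]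
      exact (IsLocalization.AtPrime.to_map_mem_maximal_iff S P g).2 hg
  have hnf : ¬ IsField S := fun h => hg0 (IsLocalization.injective S P.primeCompl_le_nonZeroDivisors
    (by rw [map_zero]; exact Ideal.span_singleton_eq_bot.1 (hm ▸ IsLocalRing.isField_iff_maximalIdeal_eq.1 h)))
  have hpr : (IsLocalRing.maximalIdeal S).IsPrincipal := ⟨⟨_, hm⟩⟩
  exact ((IsDiscreteValuationRing.TFAE S hnf).out 4 0).1 hpr

lemma isDiscreteValuationRing_polynomial
    (hR1 : ∀ (p : Ideal A) [p.IsPrime], p.height = 1 → IsDiscreteValuationRing (Localization.AtPrime p))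
    (P : Ideal A[X]) [P.IsPrime] (hP : P.height = 1) :
    IsDiscreteValuationRing (Localization.AtPrime P) := by
  rcases height_one_prime_polynomial P hP with hbot | ⟨h1, heq⟩
  · -- horizontal
    have hP0 : P ≠ ⊥ := fun h => by simp [h] at hP
    obtain ⟨g0, hg0P, hg00⟩ := P.exists_mem_ne_zero_of_ne_bot hP0
    classical
    have hex : ∃ n, ∃ g ∈ P, g ≠ 0 ∧ g.natDegree = n := ⟨_, g0, hg0P, hg00, rfl⟩
    obtain ⟨g, hgP, hg0, hdeg⟩ := Nat.find_spec hex
    refine isDiscreteValuationRing_localization_of_generator P g hgP hg0 fun f hf => ?_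
    suffices ∀ n, ∀ f ∈ P, f.natDegree ≤ n → ∃ a : A, a ≠ 0 ∧ g ∣ C a * f by
      obtain ⟨a, ha, h⟩ := this f.natDegree f hf le_rfl
      exact ⟨C a, fun h' => ha (by simpa [hbot] using (show a ∈ P.comap C from h')), h⟩
    intro n
    induction n using Nat.strong_induction_on with
    | _ n ih =>
      intro f hf hn
      by_cases hf0 : f = 0
      · exact ⟨1, one_ne_zero, by simp [hf0]⟩
      have hgf : g.natDegree ≤ f.natDegree := hdeg ▸ Nat.find_le ⟨f, hf, hf0, rfl⟩
      let f' := C g.leadingCoeff * f - C f.leadingCoeff * X ^ (f.natDegree - g.natDegree) * g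
      have hf'P : f' ∈ P := P.sub_mem (P.mul_mem_left _ hf) (P.mul_mem_left _ hgP)
      have hga : g.leadingCoeff ≠ 0 := leadingCoeff_ne_zero.2 hg0
      by_cases hf'0 : f' = 0
      · exact ⟨g.leadingCoeff, hga, sub_eq_zero.1 hf'0 ▸ dvd_mul_left g _⟩
      have hlt : f'.natDegree < f.natDegree := by
        have hle : f'.natDegree ≤ f.natDegree := by
          refine (natDegree_sub_le _ _).trans (max_le (natDegree_C_mul_le _ _) ?_)
          refine natDegree_mul_le.trans ?_
          have := natDegree_C_mul_X_pow_le f.leadingCoeff (f.natDegree - g.natDegree)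
          omega
        refine lt_of_le_of_ne hle fun he => leadingCoeff_ne_zero.2 hf'0 ?_
        rw [leadingCoeff, he]
        simp only [f', coeff_sub, coeff_C_mul, mul_assoc, coeff_X_pow_mul', Nat.sub_le, if_true,
          Nat.sub_sub_self hgf, coeff_natDegree]
        ring
      obtain ⟨a, ha, hdvd⟩ := ih _ (hlt.trans_le hn) f' hf'P le_rfl
      refine ⟨a * g.leadingCoeff, mul_ne_zero ha hga, ?_⟩
      have : C (a * g.leadingCoeff) * f =
          C a * f' + C a * (C f.leadingCoeff * X ^ (f.natDegree - g.natDegree) * g) := by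
        simp only [f', map_mul]; ring
      rw [this]
      exact dvd_add hdvd (dvd_mul_of_dvd_right (dvd_mul_left g _) _)
  · -- vertical
    set p := P.comap (C : A →+* A[X]) with hp
    haveI := hR1 p h1
    obtain ⟨ϖ, hϖ⟩ := IsDiscreteValuationRing.exists_irreducible (Localization.AtPrime p)
    obtain ⟨π, s, rfl⟩ := IsLocalization.exists_mk'_eq p.primeCompl ϖ
    have hspan := (IsDiscreteValuationRing.irreducible_iff_uniformizer _).1 hϖ
    have hπp : π ∈ p := by
      have : IsLocalization.mk' (Localization.AtPrime p) π s ∈ IsLocalRing.maximalIdeal _ :=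
        hspan ▸ Ideal.mem_span_singleton_self _
      exact (IsLocalization.AtPrime.mk'_mem_maximal_iff (Localization.AtPrime p) p π s).1 this
    have hπ0 : π ≠ 0 := fun h => hϖ.ne_zero (by rw [h, IsLocalization.mk'_zero])
    refine isDiscreteValuationRing_localization_of_generator P (C π) hπp (C_ne_zero.2 hπ0) ?_
    intro f hf
    have hp' : ∀ a ∈ p, ∃ t ∉ p, π ∣ t * a := by
      intro a ha
      have : algebraMap A (Localization.AtPrime p) a ∈ IsLocalRing.maximalIdeal _ :=
        (IsLocalization.AtPrime.to_map_mem_maximal_iff _ p a).2 ha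
      rw [hspan, Ideal.mem_span_singleton] at this
      obtain ⟨c, hc⟩ := this
      obtain ⟨b, t, rfl⟩ := IsLocalization.exists_mk'_eq p.primeCompl c
      rw [← IsLocalization.mk'_mul, ← IsLocalization.mk'_one (M := p.primeCompl) (S := Localization.AtPrime p) a,
        IsLocalization.mk'_eq_iff_eq'] at hc
      refine ⟨↑(s * t), (s * t).2, b, IsLocalization.injective (Localization.AtPrime p)
        p.primeCompl_le_nonZeroDivisors ?_⟩
      simpa [mul_comm] using hc
    rw [heq] at hf
    have hne : ∀ t, t ∉ p → C t ∉ P := fun t ht h => ht h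
    induction hf using Submodule.span_induction with
    | mem y hy =>
      obtain ⟨a, ha, rfl⟩ := hy
      obtain ⟨t, ht, hd⟩ := hp' a ha
      exact ⟨C t, hne t ht, by rw [← map_mul]; exact map_dvd C hd⟩
    | zero => exact ⟨1, P.one_notMem, by simp⟩
    | add y z _ _ h1 h2 =>
      obtain ⟨t1, ht1, d1⟩ := h1
      obtain ⟨t2, ht2, d2⟩ := h2
      refine ⟨t1 * t2, fun h => (Ideal.IsPrime.mem_or_mem inferInstance h).elim ht1 ht2, ?_⟩
      rw [mul_add]
      refine dvd_add ?_ ?_
      · rw [mul_right_comm]; exact dvd_mul_of_dvd_left d1 _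
      · rw [mul_assoc]; exact dvd_mul_of_dvd_right d2 _
    | smul c y _ h =>
      obtain ⟨t, ht, d⟩ := h
      exact ⟨t, ht, by rw [smul_eq_mul, mul_left_comm]; exact dvd_mul_of_dvd_right d _⟩

end Groth.Agent.Div89
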