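import Groth.Agent.Div89.Codim
import Groth.Agent.Div89.PolyHeight
import Groth.Agent.Div89.AffineCompl
import Mathlib.AlgebraicGeometry.Morphisms.ClosedImmersion
import Mathlib.RingTheory.UniqueFactorizationDomain.Kaplansky
import Mathlib.RingTheory.Ideal.AssociatedPrime.Basic

/-!
Ideal sheaves of pure codimension one on schemes with factorial local rings.
-/

set_option autoImplicit false
set_option linter.style.haveILetI false

noncomputable section

universe u

open CategoryTheory AlgebraicGeometry Opposite nonZeroDivisors TopologicalSpace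

namespace Groth.Agent.Div89

theorem principal_of_associated_height_one {R : Type u} [CommRing R] [IsDomain R] [IsNoetherianRing R]
    [UniqueFactorizationMonoid R] (I : Ideal R)
    (h : ∀ P : Ideal R, P.IsPrime → ∀ e : R, (∀ c, c ∈ P ↔ c * e ∈ I) → P.height = 1) :
    ∃ f, f ≠ 0 ∧ I = Ideal.span {f} := by
  by_cases hI : I = ⊥
  · exact absurd (h ⊥ Ideal.isPrime_bot 1 (fun c => by rw [hI, mul_one]))
      (by rw [Ideal.height_bot]; exact zero_ne_one)
  obtain ⟨a, haI, ha⟩ := I.exists_mem_ne_zero_of_ne_bot hI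
  let S : Set R := {b | ∃ d, d * b = a ∧ I ≤ Ideal.span {d}}
  obtain ⟨b, ⟨d, hdb, hId⟩, hmin⟩ :=
    (wellFounded_dvdNotUnit (α := R)).has_min S ⟨a, 1, one_mul a, by simp⟩
  refine ⟨d, fun h0 => ha (by rw [← hdb, h0, zero_mul]), le_antisymm hId ?_⟩
  rw [Ideal.span_singleton_le_iff_mem]
  by_contra hd
  obtain ⟨P, hP, hle⟩ := exists_le_isAssociatedPrime_of_isNoetherianRing R
    (Ideal.Quotient.mk I d) (fun h0 => hd (Ideal.Quotient.eq_zero_iff_mem.1 h0))
  rw [isAssociatedPrime_iff] at hP
  obtain ⟨hPp, e', rfl⟩ := hP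
  obtain ⟨e, rfl⟩ := Ideal.Quotient.mk_surjective e'
  have hcol : ∀ (y c : R), c ∈ (⊥ : Submodule R (R ⧸ I)).colon {Ideal.Quotient.mk I y} ↔ c * y ∈ I := by
    intro y c
    rw [Submodule.mem_colon_singleton, Submodule.mem_bot, ← Ideal.Quotient.eq_zero_iff_mem, map_mul]
    rfl
  have hh := h _ hPp e (hcol e)
  obtain ⟨π, hπm, hπ⟩ := hPp.exists_mem_prime_of_ne_bot (fun h0 => by simp [h0] at hh)
  haveI := (Ideal.span_singleton_prime hπ.ne_zero).2 hπ
  haveI := hPp
  have hspan := eq_of_le_of_height_eq_one hh ((Ideal.span_singleton_le_iff_mem _).2 hπm)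
    (by simpa using hπ.ne_zero)
  have key : ∀ i ∈ I, ∃ y, i = d * (π * y) := by
    intro i hi
    obtain ⟨x, rfl⟩ := Ideal.mem_span_singleton'.1 (hId hi)
    obtain ⟨y, hy⟩ := Ideal.mem_span_singleton'.1 (hspan.ge (hle ((hcol d x).2 hi)))
    exact ⟨y, by rw [← hy]; ring⟩
  obtain ⟨b', hb'⟩ := key a haI
  have hbb : b = π * b' := mul_left_cancel₀ (fun h0 => ha (by rw [← hdb, h0, zero_mul])) (hdb.trans hb')
  refine hmin b' ⟨d * π, by rw [hb']; ring, fun i hi => ?_⟩
    ⟨fun h0 => ha (by rw [hb', h0, mul_zero, mul_zero]), π, hπ.not_isUnit, by rw [hbb, mul_comm]⟩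
  obtain ⟨y, hy⟩ := key i hi
  exact Ideal.mem_span_singleton'.2 ⟨y, by rw [hy]; ring⟩

theorem ufm_of_isLocalization {R S : Type u} [CommRing R] [IsDomain R] [UniqueFactorizationMonoid R]
    [IsNoetherianRing R] [CommRing S] [IsDomain S] [Algebra R S] (M : Submonoid R) [IsLocalization M S]
    (hM : M ≤ R⁰) : UniqueFactorizationMonoid S := by
  refine UniqueFactorizationMonoid.iff_exists_prime_mem_of_isPrime.2 fun Q hQ hQp => ?_
  have hinj := IsLocalization.injective S hM
  have hQ' : Q.comap (algebraMap R S) ≠ ⊥ := fun h => hQ (by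
    rw [← IsLocalization.map_under M S Q, Ideal.under_def, h, Ideal.map_bot])
  obtain ⟨π, hπm, hπ⟩ := (hQp.comap (algebraMap R S)).exists_mem_prime_of_ne_bot hQ'
  have hdisj : Disjoint (M : Set R) (Ideal.span {π} : Ideal R) :=
    Set.disjoint_left.2 fun m hm hmπ => hQp.ne_top (Ideal.eq_top_of_isUnit_mem _
      ((Ideal.span_singleton_le_iff_mem _).2 hπm hmπ) (IsLocalization.map_units S ⟨m, hm⟩))
  have h := IsLocalization.isPrime_of_isPrime_disjoint M S (Ideal.span {π})
    ((Ideal.span_singleton_prime hπ.ne_zero).2 hπ) hdisj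
  rw [Ideal.map_span, Set.image_singleton] at h
  exact ⟨_, hπm, (Ideal.span_singleton_prime ((map_ne_zero_iff _ hinj).2 hπ.ne_zero)).1 h⟩

theorem ringKrullDim_eq_one_of_colon {R : Type u} [CommRing R] [IsDomain R] [IsNoetherianRing R]
    [UniqueFactorizationMonoid R] [IsLocalRing R] {g e : R} (hg : g ≠ 0) (he : e ∉ Ideal.span {g})
    (hc : ∀ c ∈ IsLocalRing.maximalIdeal R, c * e ∈ Ideal.span {g}) : ringKrullDim R = 1 := by
  classical
  obtain ⟨π, hπ, hmπ⟩ : ∃ π, Prime π ∧ IsLocalRing.maximalIdeal R ≤ Ideal.span {π} := by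
    induction g using WfDvdMonoid.induction_on_irreducible generalizing e with
    | zero => exact absurd rfl hg
    | unit u hu => exact absurd (by rw [Ideal.span_singleton_eq_top.2 hu]; trivial) he
    | mul g π hg' hπ ih =>
      rcases em (π ∣ e) with ⟨e', rfl⟩ | hne
      · refine ih (e := e') hg' (fun h => he ?_) (fun c hcm => ?_)
        · rw [Ideal.mem_span_singleton] at h ⊢; exact mul_dvd_mul_left π h
        · have := hc c hcm
          rw [Ideal.mem_span_singleton] at this ⊢
          rw [mul_left_comm] at this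
          exact (mul_dvd_mul_iff_left hπ.ne_zero).1 this
      · refine ⟨π, hπ.prime, fun c hcm => Ideal.mem_span_singleton.2 ?_⟩
        exact (hπ.prime.dvd_or_dvd ((dvd_mul_right π g).trans (Ideal.mem_span_singleton.1 (hc c hcm)))).resolve_right hne
  have hm : IsLocalRing.maximalIdeal R = Ideal.span {π} := le_antisymm hmπ
    (IsLocalRing.le_maximalIdeal fun h => hπ.not_isUnit (Ideal.span_singleton_eq_top.1 h))
  rw [← IsLocalRing.maximalIdeal_height_eq_ringKrullDim]
  have h1 : (IsLocalRing.maximalIdeal R).height ≤ 1 := by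
    refine Ideal.height_le_one_of_isPrincipal_of_mem_minimalPrimes (Ideal.span {π}) _ ?_
    exact ⟨⟨inferInstance, hm.ge⟩, fun q hq _ => hm ▸ hq.2⟩
  have h2 : 1 ≤ (IsLocalRing.maximalIdeal R).height := by
    rw [Order.one_le_iff_ne_zero, Ne, Ideal.height_eq_zero_iff]
    intro h
    have := le_bot_iff.1 (h.2 ⟨Ideal.isPrime_bot, bot_le⟩ bot_le)
    rw [hm, Ideal.span_singleton_eq_bot] at this
    exact hπ.ne_zero this
  rw [le_antisymm h1 h2]
  rfl

variable {X : Scheme.{u}}

lemma germ_mem_stalkIdeal_iff (I : X.IdealSheafData) (U : X.affineOpens) (x : X) (hx : x ∈ U.1)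
    (a : Γ(X, U.1)) :
    (X.presheaf.germ U.1 x hx).hom a ∈ stalkIdeal I x ↔ ∃ t, t ∉ primeAt U x hx ∧ t * a ∈ I.ideal U := by
  letI := stalkAlg U.1 x hx
  haveI := isLocalization_stalk U x hx
  rw [stalkIdeal_eq I U x hx]
  exact IsLocalization.algebraMap_mem_map_algebraMap_iff (primeAt U x hx).primeCompl _ _ _

theorem exists_stalk_generator_of_ufd [IsLocallyNoetherian X] (I : X.IdealSheafData) (x : X)
    [IsDomain (X.presheaf.stalk x)] [UniqueFactorizationMonoid (X.presheaf.stalk x)]
    (h : ∀ z : X, z ⤳ x → ∀ e : X.presheaf.stalk z, e ∉ stalkIdeal I z →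
      (∀ c ∈ IsLocalRing.maximalIdeal (X.presheaf.stalk z), c * e ∈ stalkIdeal I z) →
        ringKrullDim (X.presheaf.stalk z) = 1) :
    ∃ g ∈ (X.presheaf.stalk x)⁰, stalkIdeal I x = Ideal.span {g} := by
  obtain ⟨U, hx⟩ := exists_affine_mem x
  haveI := IsLocallyNoetherian.component_noetherian U
  letI := stalkAlg U.1 x hx
  haveI := isLocalization_stalk U x hx
  haveI : IsNoetherianRing (X.presheaf.stalk x) :=
    IsLocalization.isNoetherianRing (primeAt U x hx).primeCompl _ inferInstance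
  obtain ⟨f, hf, hfI⟩ := principal_of_associated_height_one (stalkIdeal I x) fun P hP e he => by
    obtain ⟨⟨e0, s⟩, hes⟩ := IsLocalization.surj (primeAt U x hx).primeCompl e
    have hu : IsUnit (algebraMap Γ(X, U.1) (X.presheaf.stalk x) s) := IsLocalization.map_units _ s
    have he' : ∀ c, c ∈ P ↔ c * algebraMap Γ(X, U.1) _ e0 ∈ stalkIdeal I x := fun c => by
      rw [he, ← hes, ← mul_assoc, Ideal.mul_unit_mem_iff_mem _ hu]
    haveI := hP
    set p := P.comap (algebraMap Γ(X, U.1) (X.presheaf.stalk x)) with hp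
    obtain ⟨z, hz, hzp⟩ := exists_point U p
    have hpq : p ≤ primeAt U x hx := fun c hc => by
      by_contra hcq
      exact hP.ne_top (Ideal.eq_top_of_isUnit_mem _ hc
        (IsLocalization.map_units _ (⟨c, hcq⟩ : (primeAt U x hx).primeCompl)))
    have hzx : z ⤳ x := (specializes_iff_primeAt_le U hx hz).2 (hzp ▸ hpq)
    have hh : P.height = p.height :=
      (IsLocalization.height_under (primeAt U x hx).primeCompl P).symm
    rw [hh, ← hzp]
    apply WithBot.coe_injective
    rw [← ringKrullDim_stalk_eq_height U z hz]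
    refine h z hzx ((X.presheaf.germ U.1 z hz).hom e0) ?_ ?_
    · rw [germ_mem_stalkIdeal_iff]
      rintro ⟨t, ht, hte⟩
      rw [hzp] at ht
      refine ht ((he' _).2 ?_)
      rw [← map_mul, stalkIdeal_eq I U x hx]
      exact Ideal.mem_map_of_mem _ hte
    · suffices hsuf : IsLocalRing.maximalIdeal (X.presheaf.stalk z) ≤
          Submodule.comap (LinearMap.mulRight (X.presheaf.stalk z)
            ((X.presheaf.germ U.1 z hz).hom e0)) (stalkIdeal I z) from fun c hc => hsuf hc
      letI := stalkAlg U.1 z hz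
      haveI := isLocalization_stalk U z hz
      rw [← IsLocalization.AtPrime.map_eq_maximalIdeal (primeAt U z hz), hzp, Ideal.map,
        Ideal.span, Submodule.span_le]
      rintro _ ⟨c, hc, rfl⟩
      have hce : algebraMap Γ(X, U.1) (X.presheaf.stalk x) c * algebraMap _ _ e0 ∈ stalkIdeal I x :=
        (he' _).1 hc
      rw [← map_mul] at hce
      obtain ⟨t, ht, htce⟩ := (germ_mem_stalkIdeal_iff I U x hx _).1 hce
      show (X.presheaf.germ U.1 z hz).hom c * (X.presheaf.germ U.1 z hz).hom e0 ∈ stalkIdeal I z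
      rw [← map_mul, germ_mem_stalkIdeal_iff]
      exact ⟨t, fun h' => ht (hpq (hzp ▸ h')), htce⟩
  exact ⟨f, mem_nonZeroDivisors_of_ne_zero hf, hfI⟩

lemma mem_support_of_notMem_stalkIdeal {I : X.IdealSheafData} {z : X} {e : X.presheaf.stalk z}
    (he : e ∉ stalkIdeal I z) : z ∈ I.support := by
  by_contra h
  rw [notMem_support_iff_stalkIdeal] at h
  exact he (h ▸ Submodule.mem_top)

lemma maximal_in_support_of_radical (I : X.IdealSheafData) (hrad : ∀ U, (I.ideal U).IsRadical) (z : X)
    (e : X.presheaf.stalk z) (he : e ∉ stalkIdeal I z)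
    (hc : ∀ c ∈ IsLocalRing.maximalIdeal (X.presheaf.stalk z), c * e ∈ stalkIdeal I z) :
    ∀ y ∈ I.support, y ⤳ z → y = z := by
  intro y hy hyz
  obtain ⟨U, hz⟩ := exists_affine_mem z
  letI := stalkAlg U.1 z hz
  haveI := isLocalization_stalk U z hz
  have hyU := mem_affine_of_specializes hyz hz
  have hrad' : (stalkIdeal I z).IsRadical := by
    rw [stalkIdeal_eq I U z hz, ← (hrad U).radical]
    erw [IsLocalization.map_radical (primeAt U z hz).primeCompl (X.presheaf.stalk z)]
    exact Ideal.radical_isRadical _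
  have hu : IsUnit e := by
    by_contra hu
    exact he (hrad' ⟨2, by rw [sq]; exact hc e hu⟩)
  refine primeAt_inj U hyU hz (le_antisymm ((specializes_iff_primeAt_le U hz hyU).1 hyz) fun c hcz => ?_)
  have hm : (X.presheaf.germ U.1 z hz).hom c ∈ stalkIdeal I z :=
    (Ideal.mul_unit_mem_iff_mem _ hu).1
      (hc _ ((IsLocalization.AtPrime.to_map_mem_maximal_iff _ (primeAt U z hz) c).2 hcz))
  obtain ⟨t, ht, htc⟩ := (germ_mem_stalkIdeal_iff I U z hz c).1 hm
  exact ((primeAt_isPrime U y hyU).mem_or_mem ((mem_support_iff_le I U y hyU).1 hy htc)).resolve_left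
    fun h => ht ((specializes_iff_primeAt_le U hz hyU).1 hyz h)

theorem isEffCartier_of_radical_codim_one_ufd [IsLocallyNoetherian X] (I : X.IdealSheafData)
    (hrad : ∀ U, (I.ideal U).IsRadical)
    (hdim : ∀ z ∈ I.support, (∀ y ∈ I.support, y ⤳ z → y = z) → ringKrullDim (X.presheaf.stalk z) = 1)
    (hufd : ∀ x ∈ I.support,
      IsDomain (X.presheaf.stalk x) ∧ UniqueFactorizationMonoid (X.presheaf.stalk x)) :
    BlowUp.IsEffCartierIdeal I := by
  refine isEffCartier_of_stalk fun x hx => ?_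
  haveI := (hufd x hx).1
  haveI := (hufd x hx).2
  exact exists_stalk_generator_of_ufd I x fun z _ e he hc =>
    hdim z (mem_support_of_notMem_stalkIdeal he) (maximal_in_support_of_radical I hrad z e he hc)

lemma stalkMap_subschemeι_eq_zero_iff (I : X.IdealSheafData) (z : I.subscheme)
    (e : X.presheaf.stalk (I.subschemeι z)) :
    (I.subschemeι.stalkMap z).hom e = 0 ↔ e ∈ stalkIdeal I (I.subschemeι z) := by
  obtain ⟨U, hU⟩ := exists_affine_mem (I.subschemeι z)
  letI := stalkAlg U.1 _ hU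
  haveI := isLocalization_stalk U _ hU
  let W : I.subscheme.affineOpens := ⟨I.subschemeι ⁻¹ᵁ U.1, U.2.preimage I.subschemeι⟩
  have hcomm : ∀ c, (I.subschemeι.stalkMap z).hom ((X.presheaf.germ U.1 _ hU).hom c) =
      (I.subscheme.presheaf.germ W.1 z hU).hom ((I.subschemeι.app U.1).hom c) :=
    fun c => Scheme.Hom.germ_stalkMap_apply _ _ _ _ _
  have hker : ∀ c, (I.subschemeι.app U.1).hom c = 0 ↔ c ∈ I.ideal U := fun c => by
    rw [← RingHom.mem_ker, I.ker_subschemeι_app U]
  constructor
  · intro h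
    obtain ⟨⟨c, s⟩, hcs⟩ := IsLocalization.surj (primeAt U _ hU).primeCompl e
    refine (Ideal.mul_unit_mem_iff_mem _ (IsLocalization.map_units _ s)).1 (hcs ▸ ?_)
    have h2 := congrArg (I.subschemeι.stalkMap z).hom hcs
    rw [map_mul, h, zero_mul] at h2
    erw [hcomm] at h2
    haveI := primeAt_isPrime W z hU
    letI := stalkAlg W.1 z hU
    haveI := isLocalization_stalk W z hU
    obtain ⟨⟨w, hw⟩, hwc⟩ := (IsLocalization.map_eq_zero_iff (primeAt W z hU).primeCompl _ _).1 h2.symm
    obtain ⟨c0, rfl⟩ := I.subschemeι_app_surjective U w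
    refine (germ_mem_stalkIdeal_iff I U _ hU c).2 ⟨c0, fun hc0 => hw ?_, (hker _).1 (by rw [map_mul]; exact hwc)⟩
    by_contra hw'
    have hu := (germ_isUnit_iff W z hU _).2 hw'
    rw [← hcomm] at hu
    exact (germ_isUnit_iff U _ hU c0).1 (IsUnit.of_map _ _ hu) hc0
  · intro he
    rw [stalkIdeal_eq I U _ hU] at he
    suffices (I.ideal U).map (X.presheaf.germ U.1 _ hU).hom ≤ RingHom.ker (I.subschemeι.stalkMap z).hom
      from this he
    rw [Ideal.map_le_iff_le_comap]
    intro c hc
    rw [Ideal.mem_comap, RingHom.mem_ker, hcomm, (hker c).2 hc, map_zero]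

lemma exists_preimage_of_mem_support {I : X.IdealSheafData} {x : X} (hx : x ∈ I.support) :
    ∃ z, I.subschemeι z = x := by
  have : x ∈ Set.range I.subschemeι := by rw [I.range_subschemeι]; exact hx
  exact this

lemma maximal_in_support_iff (I : X.IdealSheafData) (z : I.subscheme) :
    (∀ z' : I.subscheme, z' ⤳ z → z' = z) ↔
      ∀ y ∈ I.support, y ⤳ I.subschemeι z → y = I.subschemeι z := by
  constructor
  · intro h y hy hyz
    obtain ⟨z', rfl⟩ := exists_preimage_of_mem_support hy
    rw [h z' (I.subschemeι.isEmbedding.isInducing.specializes_iff.1 hyz)]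
  · intro h z' hz'
    refine I.subschemeι.isEmbedding.injective (h _ ?_ (hz'.map I.subschemeι.continuous))
    rw [← SetLike.mem_coe, ← I.range_subschemeι]
    exact Set.mem_range_self z'

theorem isEffCartier_of_noEmbedded_codim_one_ufd [IsLocallyNoetherian X] (I : X.IdealSheafData)
    (h1 : ∀ z : I.subscheme, IsAssociatedPrime (IsLocalRing.maximalIdeal (I.subscheme.presheaf.stalk z))
      (I.subscheme.presheaf.stalk z) → ∀ z' : I.subscheme, z' ⤳ z → z' = z)
    (h2 : ∀ z : I.subscheme, (∀ z' : I.subscheme, z' ⤳ z → z' = z) →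
      ringKrullDim (X.presheaf.stalk (I.subschemeι z)) = 1)
    (hufd : ∀ x ∈ I.support,
      IsDomain (X.presheaf.stalk x) ∧ UniqueFactorizationMonoid (X.presheaf.stalk x)) :
    BlowUp.IsEffCartierIdeal I := by
  refine isEffCartier_of_stalk fun x hx => ?_
  haveI := (hufd x hx).1
  haveI := (hufd x hx).2
  refine exists_stalk_generator_of_ufd I x fun z _ e he hc => ?_
  obtain ⟨z, rfl⟩ := exists_preimage_of_mem_support (mem_support_of_notMem_stalkIdeal he)
  refine h2 z (h1 z ⟨(IsLocalRing.maximalIdeal.isMaximal _).isPrime, (I.subschemeι.stalkMap z).hom e, ?_⟩)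
  have hle : IsLocalRing.maximalIdeal (I.subscheme.presheaf.stalk z) ≤
      (⊥ : Submodule (I.subscheme.presheaf.stalk z) _).colon {(I.subschemeι.stalkMap z).hom e} := by
    intro c hc'
    obtain ⟨c, rfl⟩ := I.subschemeι.stalkMap_surjective z c
    have hcm : c ∈ IsLocalRing.maximalIdeal _ := fun hu => hc' (hu.map _)
    rw [Submodule.mem_colon_singleton, Submodule.mem_bot, smul_eq_mul, ← map_mul]
    exact (stalkMap_subschemeι_eq_zero_iff I z _).2 (hc c hcm)
  refine le_antisymm (hle.trans Ideal.le_radical) (IsLocalRing.le_maximalIdeal ?_)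
  rw [Ne, Ideal.radical_eq_top, Ideal.eq_top_iff_one, Submodule.mem_colon_singleton, Submodule.mem_bot,
    one_smul, stalkMap_subschemeι_eq_zero_iff]
  exact he

theorem exists_effCartier_compl [IsLocallyNoetherian X] (U : X.Opens) [IsAffineHom U.ι]
    (hdense : Dense (U : Set X))
    (hufd : ∀ x, x ∉ U → IsDomain (X.presheaf.stalk x) ∧ UniqueFactorizationMonoid (X.presheaf.stalk x)) :
    ∃ D : X.IdealSheafData, BlowUp.IsEffCartierIdeal D ∧ (D.support : Set X) = (U : Set X)ᶜ := by
  let Z : Closeds X := ⟨(U : Set X)ᶜ, U.isOpen.isClosed_compl⟩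
  let D := Scheme.IdealSheafData.vanishingIdeal Z
  have hs : (D.support : Set X) = (U : Set X)ᶜ := Scheme.IdealSheafData.coe_support_vanishingIdeal _
  have hmem : ∀ y, y ∈ D.support ↔ y ∉ U := fun y => by rw [← SetLike.mem_coe, hs]; rfl
  refine ⟨D, isEffCartier_of_radical_codim_one_ufd D (fun V => ?_) (fun z hz hmax => ?_)
    (fun x hx => hufd x ((hmem x).1 hx)), hs⟩
  · rw [Scheme.IdealSheafData.vanishingIdeal_ideal]
    exact PrimeSpectrum.isRadical_vanishingIdeal _
  · exact ringKrullDim_stalk_eq_one_of_isAffineHom U z ((hmem z).1 hz)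
      (fun y hy hyz => hmax y ((hmem y).2 hy) hyz) (hdense.closure_eq ▸ trivial)

lemma isAffineHom_ι_of_inter {U : X.Opens}
    (h : ∀ V : X.Opens, IsAffineOpen V → IsAffineOpen (U ⊓ V)) : IsAffineHom U.ι := by
  refine ⟨fun V hV => ?_⟩
  refine U.ι.isAffineOpen_iff_of_isOpenImmersion.1 ?_
  rw [U.ι.image_preimage_eq_opensRange_inf, Scheme.Opens.opensRange_ι]
  exact h V hV

/-- Scheme-theoretic closure of an effective Cartier divisor on an open with factorial complement. -/
theorem exists_effCartier_extension [IsLocallyNoetherian X] (U : X.Opens)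
    (D : (U : Scheme.{u}).IdealSheafData) (hD : BlowUp.IsEffCartierIdeal D)
    (hufd : ∀ x, x ∉ U → IsDomain (X.presheaf.stalk x) ∧ UniqueFactorizationMonoid (X.presheaf.stalk x)) :
    ∃ D' : X.IdealSheafData, BlowUp.IsEffCartierIdeal D' ∧ D'.comap U.ι = D := by
  haveI : QuasiCompact (D.subschemeι ≫ U.ι) := inferInstance
  let f := D.subschemeι ≫ U.ι
  let J := f.ker
  have hcomap : J.comap U.ι = D := by
    refine ext_stalkIdeal fun v => ?_
    obtain ⟨W, hv⟩ := exists_affine_mem v
    let V : X.affineOpens := ⟨U.ι ''ᵁ W.1, W.2.image_of_isOpenImmersion U.ι⟩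
    have hVW : U.ι ⁻¹ᵁ V.1 = W.1 := Scheme.Hom.preimage_image_eq _ _
    let W' : (U : Scheme.{u}).affineOpens := ⟨U.ι ⁻¹ᵁ V.1, hVW ▸ W.2⟩
    have hv' : v ∈ W'.1 := by show v ∈ U.ι ⁻¹ᵁ V.1; rw [hVW]; exact hv
    have hJ : J.ideal V = (D.ideal W').comap (U.ι.app V.1).hom := by
      rw [Scheme.Hom.ker_apply, ← D.ker_subschemeι_app W']
      rfl
    rw [stalkIdeal_comap, stalkIdeal_eq J V (U.ι v) hv', stalkIdeal_eq D W' v hv', Ideal.map_map,
      ← CommRingCat.hom_comp]
    erw [Scheme.Hom.germ_stalkMap]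
    rw [CommRingCat.hom_comp, ← Ideal.map_map, hJ, Ideal.map_comap_of_surjective]
    haveI : IsIso (U.ι.app V.1) := U.ι.isIso_app _ (by rintro y ⟨w, -, rfl⟩; exact ⟨w, rfl⟩)
    exact (ConcreteCategory.bijective_of_isIso (U.ι.app V.1)).2
  -- no associated point of `J` outside `U`
  have hnoass : ∀ z, z ∉ U → ∀ e : X.presheaf.stalk z, e ∉ stalkIdeal J z →
      ¬ ∀ c ∈ IsLocalRing.maximalIdeal (X.presheaf.stalk z), c * e ∈ stalkIdeal J z := by
    intro z hzU e he hc
    obtain ⟨V, hz⟩ := exists_affine_mem z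
    haveI := IsLocallyNoetherian.component_noetherian V
    letI := stalkAlg V.1 z hz
    haveI := isLocalization_stalk V z hz
    obtain ⟨⟨a, s⟩, has⟩ := IsLocalization.surj (primeAt V z hz).primeCompl e
    have hu : IsUnit (algebraMap Γ(X, V.1) (X.presheaf.stalk z) s) := IsLocalization.map_units _ s
    obtain ⟨G, hG⟩ := (IsNoetherian.noetherian (primeAt V z hz) : (primeAt V z hz).FG)
    have hex : ∀ c : G, ∃ t, t ∉ primeAt V z hz ∧ t * (c.1 * a) ∈ J.ideal V := fun c => by
      rw [← germ_mem_stalkIdeal_iff J V z hz, map_mul]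
      show algebraMap Γ(X, V.1) (X.presheaf.stalk z) c.1 * algebraMap _ _ a ∈ _
      rw [← has, ← mul_assoc, Ideal.mul_unit_mem_iff_mem _ hu]
      exact hc _ ((IsLocalization.AtPrime.to_map_mem_maximal_iff _ (primeAt V z hz) c.1).2
        (hG ▸ Ideal.subset_span c.2))
    choose t ht htm using hex
    let T := ∏ c : G, t c
    have hT : T ∉ primeAt V z hz := prod_mem (S := (primeAt V z hz).primeCompl) fun c _ => ht c
    have hTa : ∀ c ∈ primeAt V z hz, c * (T * a) ∈ J.ideal V := by
      intro c hc'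
      rw [← hG] at hc'
      induction hc' using Submodule.span_induction with
      | mem c hc' =>
        obtain ⟨w, hw⟩ := Finset.dvd_prod_of_mem t (Finset.mem_univ (⟨c, hc'⟩ : G))
        show c * ((∏ c : G, t c) * a) ∈ _
        rw [hw, show c * (t ⟨c, hc'⟩ * w * a) = w * (t ⟨c, hc'⟩ * (c * a)) by ring]
        exact Ideal.mul_mem_left _ _ (htm _)
      | zero => simp
      | add y y' _ _ h h' => rw [add_mul]; exact add_mem h h'
      | smul r y _ h => rw [smul_eq_mul, mul_assoc]; exact Ideal.mul_mem_left _ _ h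
    have hnot : T * a ∉ J.ideal V := fun h => he <| by
      refine (Ideal.mul_unit_mem_iff_mem _ hu).1 (has ▸ ?_)
      exact (germ_mem_stalkIdeal_iff J V z hz a).2 ⟨T, hT, h⟩
    refine hnot ?_
    have hJ : J.ideal V = RingHom.ker (f.app V.1).hom := f.ker_apply V
    rw [hJ, RingHom.mem_ker]
    refine TopCat.Presheaf.section_ext D.subscheme.sheaf (f ⁻¹ᵁ V.1) _ 0 fun d hd => ?_
    show (D.subscheme.presheaf.germ (f ⁻¹ᵁ V.1) d hd).hom ((f.app V.1).hom (T * a)) =
      (D.subscheme.presheaf.germ (f ⁻¹ᵁ V.1) d hd).hom 0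
    rw [map_zero]
    have hfd : f d ∈ U := (D.subschemeι d).2
    have hnle : ¬ primeAt V z hz ≤ primeAt V (f d) hd := fun hle =>
      hzU (((specializes_iff_primeAt_le V hd hz).2 hle).mem_open U.isOpen hfd)
    obtain ⟨c, hcz, hcd⟩ := SetLike.not_le_iff_exists.1 hnle
    have h0 : (f.app V.1).hom (c * (T * a)) = 0 := by
      rw [← RingHom.mem_ker, ← hJ]; exact hTa c hcz
    have hcu : IsUnit ((D.subscheme.presheaf.germ (f ⁻¹ᵁ V.1) d hd).hom ((f.app V.1).hom c)) := by
      erw [← Scheme.Hom.germ_stalkMap_apply f V.1 d hd c]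
      exact ((germ_isUnit_iff V (f d) hd c).2 hcd).map _
    have h1 := congrArg (D.subscheme.presheaf.germ (f ⁻¹ᵁ V.1) d hd).hom h0
    rw [map_mul, map_mul (D.subscheme.presheaf.germ (f ⁻¹ᵁ V.1) d hd).hom, map_zero] at h1
    exact (hcu.mul_right_eq_zero).1 h1
  refine ⟨J, isEffCartier_of_stalk fun x hx => ?_, hcomap⟩
  have hin : ∀ u : (U : Scheme.{u}), ∃ g ∈ (X.presheaf.stalk (U.ι u))⁰, stalkIdeal J (U.ι u) = Ideal.span {g} := by
    intro u
    obtain ⟨g, hg, hgI⟩ := exists_stalk_generator hD u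
    rw [← hcomap, stalkIdeal_comap U.ι J u] at hgI
    let e := (asIso (U.ι.stalkMap u)).commRingCatIsoToRingEquiv
    refine ⟨e.symm g, (mem_nonZeroDivisors_iff_right).2 fun r hr => ?_, ?_⟩
    · apply e.injective
      rw [map_zero]
      exact (mem_nonZeroDivisors_iff_right.1 hg) _ (by
        rw [← e.apply_symm_apply g, ← map_mul, hr, map_zero])
    · have h2 : Ideal.map e.symm.toRingHom (Ideal.map e.toRingHom (stalkIdeal J (U.ι u))) =
          Ideal.map e.symm.toRingHom (Ideal.span {g}) := congrArg _ hgI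
      rw [Ideal.map_map, Ideal.map_span, Set.image_singleton] at h2
      rw [show e.symm.toRingHom.comp e.toRingHom = RingHom.id _ from
        RingHom.ext fun r => e.symm_apply_apply r, Ideal.map_id] at h2
      exact h2
  by_cases hxU : x ∈ U
  · exact hin ⟨x, hxU⟩
  haveI := (hufd x hxU).1
  haveI := (hufd x hxU).2
  refine exists_stalk_generator_of_ufd J x fun z hzx e he hc => ?_
  by_cases hzU : z ∈ U
  · obtain ⟨g, hg, hgJ⟩ := hin ⟨z, hzU⟩
    change stalkIdeal J z = Ideal.span {g} at hgJ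
    change g ∈ (X.presheaf.stalk z)⁰ at hg
    obtain ⟨V, hxV⟩ := exists_affine_mem x
    have hzV := mem_affine_of_specializes hzx hxV
    haveI := IsLocallyNoetherian.component_noetherian V
    have hle := (specializes_iff_primeAt_le V hxV hzV).1 hzx
    letI := stalkAlg V.1 x hxV
    haveI := isLocalization_stalk V x hxV
    letI := stalkAlg V.1 z hzV
    haveI := isLocalization_stalk V z hzV
    haveI : IsNoetherianRing (X.presheaf.stalk x) :=
      IsLocalization.isNoetherianRing (primeAt V x hxV).primeCompl _ inferInstance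
    haveI : IsNoetherianRing (X.presheaf.stalk z) :=
      IsLocalization.isNoetherianRing (primeAt V z hzV).primeCompl _ inferInstance
    have hcompl : (primeAt V x hxV).primeCompl ≤ (primeAt V z hzV).primeCompl := fun c hc h => hc (hle h)
    letI := (IsLocalization.map (M := (primeAt V x hxV).primeCompl) (T := (primeAt V z hzV).primeCompl)
      (X.presheaf.stalk z) (S := X.presheaf.stalk x) (RingHom.id _) (fun c hc => hcompl hc)).toAlgebra
    haveI : IsScalarTower Γ(X, V.1) (X.presheaf.stalk x) (X.presheaf.stalk z) :=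
      IsScalarTower.of_algebraMap_eq fun r => (IsLocalization.map_eq (M := (primeAt V x hxV).primeCompl)
        (T := (primeAt V z hzV).primeCompl) (g := RingHom.id _) (Q := X.presheaf.stalk z)
        (fun c hc => hcompl hc) r).symm
    let M := (primeAt V z hzV).primeCompl.map (algebraMap Γ(X, V.1) (X.presheaf.stalk x))
    haveI : IsLocalization M (X.presheaf.stalk z) :=
      IsLocalization.isLocalization_of_submonoid_le (X.presheaf.stalk x) (X.presheaf.stalk z) _ _ hcompl
    have hM : M ≤ (X.presheaf.stalk x)⁰ := by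
      rintro _ ⟨c, hc', rfl⟩
      refine mem_nonZeroDivisors_of_ne_zero fun h0 => hc' ?_
      obtain ⟨t, ht⟩ := (IsLocalization.map_eq_zero_iff (primeAt V x hxV).primeCompl _ c).1 h0
      exact ((primeAt_isPrime V z hzV).mem_or_mem (ht.symm ▸ (primeAt V z hzV).zero_mem :
        (t : Γ(X, V.1)) * c ∈ _)).resolve_left (hcompl t.2)
    haveI : IsDomain (X.presheaf.stalk z) := IsLocalization.isDomain_of_le_nonZeroDivisors (X.presheaf.stalk z) hM
    haveI := ufm_of_isLocalization (S := X.presheaf.stalk z) M hM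
    exact ringKrullDim_eq_one_of_colon (nonZeroDivisors.ne_zero hg) (hgJ ▸ he) (fun c hc' => hgJ ▸ hc c hc')
  · exact absurd hc (hnoass z hzU e he)

end Groth.Agent.Div89
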