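import Groth.Agent.Cyc90.PushDivGeneral
import Groth.Agent.Cyc90.DivCycle
import Groth.Agent.Cyc90.PullRat
import Groth.Agent.Cyc90.PullPush
import Groth.Agent.Cyc90.RelDimShift
import Groth.Agent.Cyc90.RelDimBC

/-! Rational equivalence under proper pushforward, relative dimension of composites. -/

set_option autoImplicit false
universe u

open CategoryTheory AlgebraicGeometry TopologicalSpace

namespace Groth.Agent.Div89

open Groth.Agent.Cyc90

variable {X Y Z : Scheme.{u}}

lemma map_sum_apply (p : X ⟶ Y) [QuasiCompact p] {δX : X → ℤ} {δY : Y → ℤ} {ι : Type*}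
    (s : Finset ι) (c : ι → AlgebraicCycle X ℤ) (a : AlgebraicCycle X ℤ) (y : Y)
    (h : ∀ x, p x = y → a x = ∑ i ∈ s, c i x) :
    AlgebraicCycle.map p δX δY a y = ∑ i ∈ s, AlgebraicCycle.map p δX δY (c i) y := by
  classical
  simp only [Cyc90.map_apply_eq]
  obtain ⟨V, hV, hyV, -⟩ := exists_isAffineOpen_mem_and_subset (X := Y) (x := y) (U := ⊤) trivial
  have hfin : ∀ d : AlgebraicCycle X ℤ, ((p ⁻¹' (V : Set Y)) ∩ Function.support d).Finite := fun d =>
    LocallyFiniteSupport.finite_inter_support_of_isCompact (f := (d : X → ℤ))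
      (fun z => d.supportLocallyFiniteWithinDomain' z trivial) (p.isCompact_preimage hV.isCompact)
  let F : Finset X := ((hfin a).toFinset ∪ s.biUnion fun i => (hfin (c i)).toFinset).filter
    fun x => p x = y
  have key : ∀ d : AlgebraicCycle X ℤ, (∀ x, p x = y → d x ≠ 0 → x ∈ F) →
      ∑ᶠ x ∈ p ⁻¹' {y}, d x * (if δX x = δY (p x) then (p.residueDegree x : ℤ) else 0) =
      ∑ x ∈ F, d x * (if δX x = δY (p x) then (p.residueDegree x : ℤ) else 0) := fun d hd => by
    refine finsum_mem_eq_sum_of_inter_support_eq _ (Set.ext fun x => ?_)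
    refine and_congr_left fun hx => ?_
    exact ⟨fun hxy => hd x hxy (left_ne_zero_of_mul hx), fun hxF => (Finset.mem_filter.1 hxF).2⟩
  have hmem : ∀ x, p x = y → x ∈ p ⁻¹' (V : Set Y) := fun x hx => show p x ∈ V from hx ▸ hyV
  rw [key a fun x hx hne => Finset.mem_filter.2
      ⟨Finset.mem_union_left _ ((hfin a).mem_toFinset.2 ⟨hmem x hx, hne⟩), hx⟩,
    Finset.sum_congr rfl fun i hi => key (c i) fun x hx hne => Finset.mem_filter.2
      ⟨Finset.mem_union_right _ (Finset.mem_biUnion.2 ⟨i, hi, (hfin (c i)).mem_toFinset.2 ⟨hmem x hx, hne⟩⟩), hx⟩,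
    Finset.sum_comm]
  exact Finset.sum_congr rfl fun x hx => by
    rw [h x (Finset.mem_filter.1 hx).2, Finset.sum_mul]

/-- Proper pushforward preserves rational equivalence to zero, and commutes with differences. -/
theorem ratEquiv_map {δX : X → ℤ} {δY : Y → ℤ} (hX : Cyc.IsSetup X δX) (hY : Cyc.IsSetup Y δY)
    (p : X ⟶ Y) [IsProper p] (hδ : Cyc.DeltaCompat p δX δY) (k : ℤ) (α β : AlgebraicCycle X ℤ)
    (h : Cyc.RatEquiv δX k α β) :
    Cyc.RatEquiv δY k (AlgebraicCycle.map p δX δY α) (AlgebraicCycle.map p δX δY β) := by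
  classical
  obtain ⟨ι, ξ, g, hk, hg, hlf, hsum⟩ := h
  -- local finiteness in the fibres
  have hN : ∀ y : Y, ∃ V : Y.Opens, y ∈ V ∧
      {i | (closure {ξ i} ∩ p ⁻¹' (V : Set Y)).Nonempty}.Finite := by
    intro y
    obtain ⟨V, hV, hyV, -⟩ := exists_isAffineOpen_mem_and_subset (X := Y) (x := y) (U := ⊤) trivial
    choose U hU hxU hUfin using hlf
    obtain ⟨t, ht⟩ := (p.isCompact_preimage hV.isCompact).elim_finite_subcover U hU
      fun x _ => Set.mem_iUnion.2 ⟨x, hxU x⟩
    refine ⟨V, hyV, (t.finite_toSet.biUnion fun x _ => hUfin x).subset ?_⟩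
    rintro i ⟨z, hz, hzV⟩
    obtain ⟨x, hx, hzx⟩ := Set.mem_iUnion₂.1 (ht hzV)
    exact Set.mem_biUnion hx ⟨z, hz, hzx⟩
  have hnorm : ∀ i, δX (ξ i) = δY (p (ξ i)) → Cyc.normGen p (ξ i) (g i) ≠ 0 := fun i hi => by
    letI := (p.residueFieldMap (ξ i)).hom.toAlgebra
    have : Module.Finite (Y.residueField (p (ξ i))) (X.residueField (ξ i)) :=
      Cyc90.finite_residueFieldMap_of_delta_eq p hδ (ξ i) hi
    exact Algebra.norm_ne_zero_iff.2 (hg i)
  refine ⟨{i // δX (ξ i) = δY (p (ξ i))}, fun i => p (ξ i.1), fun i => Cyc.normGen p (ξ i.1) (g i.1),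
    fun i => by rw [← i.2, hk], fun i => hnorm i.1 i.2, fun y => ?_, fun y => ?_⟩
  · obtain ⟨V, hyV, hfin⟩ := hN y
    refine ⟨V, V.2, hyV, (hfin.preimage Subtype.val_injective.injOn).subset ?_⟩
    rintro i ⟨z, hz, hzV⟩
    have hz' : z ∈ p '' closure {ξ i.1} := by
      rw [← p.isClosedMap.closure_image_eq_of_continuous p.continuous, Set.image_singleton]
      exact hz
    obtain ⟨w, hw, rfl⟩ := hz'
    exact ⟨w, hw, hzV⟩
  · obtain ⟨V, hyV, hfin⟩ := hN y
    -- the principal divisors of the relevant members, as cycles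
    let c : ι → AlgebraicCycle X ℤ := fun i =>
      { toFun := Cyc.divFun δX (ξ i) (g i)
        supportWithinDomain' := by simp
        supportLocallyFiniteWithinDomain' := fun x _ => Cyc90.divFun_locallyFinite hX (ξ i) (g i) (hg i) x }
    have hc : ∀ i x, c i x = Cyc.divFun δX (ξ i) (g i) x := fun i x => rfl
    have hvanish : ∀ i x, p x = y → Cyc.divFun δX (ξ i) (g i) x ≠ 0 → i ∈ hfin.toFinset := by
      intro i x hx hne
      rw [hfin.mem_toFinset]
      unfold Cyc.divFun at hne
      split_ifs at hne with h1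
      · exact ⟨x, specializes_iff_mem_closure.1 h1.1, show p x ∈ V from hx ▸ hyV⟩
      · exact absurd rfl hne
    have hpt : ∀ x, p x = y → (α - β) x = ∑ i ∈ hfin.toFinset, c i x := fun x hx => by
      rw [hsum x]
      exact finsum_eq_sum_of_support_subset _ fun i hi => hvanish i x hx hi
    have hdiff : AlgebraicCycle.map p δX δY α y =
        AlgebraicCycle.map p δX δY (α - β) y + AlgebraicCycle.map p δX δY β y := by
      rw [map_sum_apply p {true, false} (fun b => if b then α - β else β) α y fun x _ => by simp]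
      simp
    have hmain : AlgebraicCycle.map p δX δY (α - β) y =
        ∑ i ∈ hfin.toFinset, if δX (ξ i) = δY (p (ξ i)) then
          Cyc.divFun δY (p (ξ i)) (Cyc.normGen p (ξ i) (g i)) y else 0 := by
      rw [map_sum_apply p hfin.toFinset c (α - β) y hpt]
      refine Finset.sum_congr rfl fun i _ => ?_
      rw [Cyc90.map_divFun p hX hY hδ (ξ i) (g i) (hg i) (c i) rfl]
      split_ifs <;> rfl
    change AlgebraicCycle.map p δX δY α y - AlgebraicCycle.map p δX δY β y = _
    rw [hdiff, add_sub_cancel_right, hmain, ← Finset.sum_filter,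
      finsum_subtype_eq_finsum_cond (fun i => δX (ξ i) = δY (p (ξ i)))
        (f := fun i => Cyc.divFun δY (p (ξ i)) (Cyc.normGen p (ξ i) (g i)) y)]
    refine (finsum_cond_eq_sum_of_cond_iff _ fun {i} hi => ?_).symm
    simp only [Finset.mem_filter]
    refine ⟨fun h => ⟨?_, h⟩, fun h => h.2⟩
    rw [hfin.mem_toFinset]
    unfold Cyc.divFun at hi
    split_ifs at hi with h1
    · have hy' : y ∈ p '' closure {ξ i} := by
        rw [← p.isClosedMap.closure_image_eq_of_continuous p.continuous, Set.image_singleton]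
        exact specializes_iff_mem_closure.1 h1.1
      obtain ⟨w, hw, hwy⟩ := hy'
      exact ⟨w, hw, show p w ∈ V from hwy ▸ hyV⟩
    · exact absurd rfl hi

theorem hasRelDim_comp (f : X ⟶ Y) (g : Y ⟶ Z) [Flat f] [LocallyOfFiniteType f]
    [LocallyOfFiniteType g] {r s : ℕ} (hr : Cyc.HasRelDim f r) (hs : Cyc.HasRelDim g s) :
    Cyc.HasRelDim (f ≫ g) (r + s) := by
  intro z T hT
  obtain ⟨t, -, hmax, hd⟩ := E4O.exists_of_mem_irreducibleComponents_fiber (f ≫ g) hT
  set x := (f ≫ g).fiberι z t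
  have hm : ∀ w, (f ≫ g) w = (f ≫ g) x → w ⤳ x → w = x := fun w h1 h2 => hmax w h2 h1
  have hf : E4O.fdeg f x = r := Cyc90.fdeg_eq_of_hasRelDim f hr
    fun w h1 h2 => Cyc90.fibre_max_left f g x hm w h2 h1
  have hg : E4O.fdeg g (f x) = s := Cyc90.fdeg_eq_of_hasRelDim g hs
    fun w h1 h2 => Cyc90.fibre_max_right f g x hm w h2 h1
  rw [hd]
  have key : E4O.fdeg (f ≫ g) x = r + s := by
    have h1 := Cyc90.trdeg_residueField_eq_fdeg f x
    have h2 := Cyc90.trdeg_residueField_eq_fdeg g (f x)
    have h3 := Cyc90.trdeg_residueField_eq_fdeg (f ≫ g) x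
    let K := Z.residueField (g (f x)); let L := Y.residueField (f x); let M := X.residueField x
    letI aKL : Algebra K L := (g.residueFieldMap (f x)).hom.toAlgebra
    letI aLM : Algebra L M := (f.residueFieldMap x).hom.toAlgebra
    letI aKM : Algebra K M := ((f ≫ g).residueFieldMap x).hom.toAlgebra
    have : IsScalarTower K L M := IsScalarTower.of_algebraMap_eq' (by
      change ((f ≫ g).residueFieldMap x).hom = _
      rw [Scheme.residueFieldMap_comp]
      rfl)
    have h : Algebra.trdeg K L + Algebra.trdeg L M = Algebra.trdeg K M := trdeg_add_eq K L (A := M)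
    rw [hg] at h2
    rw [hf] at h1
    rw [h1, h2] at h
    have h4 := h.trans h3
    rw [← Nat.cast_add] at h4
    have := Nat.cast_injective h4
    omega
  exact_mod_cast congrArg (fun n : ℕ => (n : WithBot ℕ∞)) key

lemma residueDegree_comp (f : X ⟶ Y) (g : Y ⟶ Z) (x : X) :
    (f ≫ g).residueDegree x = g.residueDegree (f x) * f.residueDegree x := by
  let K := Z.residueField (g (f x)); let L := Y.residueField (f x); let M := X.residueField x
  let aKL : Algebra K L := (g.residueFieldMap (f x)).hom.toAlgebra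
  let aLM : Algebra L M := (f.residueFieldMap x).hom.toAlgebra
  let aKM : Algebra K M := ((f ≫ g).residueFieldMap x).hom.toAlgebra
  have : IsScalarTower K L M := IsScalarTower.of_algebraMap_eq' (by
    change ((f ≫ g).residueFieldMap x).hom = _
    rw [Scheme.residueFieldMap_comp]
    rfl)
  exact (Module.finrank_mul_finrank K L M).symm

/-- Functoriality of the pushforward of cycles. -/
theorem map_map {δX : X → ℤ} {δY : Y → ℤ} {δZ : Z → ℤ} (f : X ⟶ Y) (g : Y ⟶ Z) [QuasiCompact f]
    [QuasiCompact g] (hf : Cyc.DeltaCompat f δX δY) (hg : Cyc.DeltaCompat g δY δZ)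
    (α : AlgebraicCycle X ℤ) :
    AlgebraicCycle.map g δY δZ (AlgebraicCycle.map f δX δY α) =
      AlgebraicCycle.map (f ≫ g) δX δZ α := by
  classical
  ext z
  obtain ⟨V, hV, hzV, -⟩ := exists_isAffineOpen_mem_and_subset (X := Z) (x := z) (U := ⊤) trivial
  have hfinV : (((f ≫ g) ⁻¹' (V : Set Z)) ∩ Function.support α).Finite :=
    LocallyFiniteSupport.finite_inter_support_of_isCompact (f := (α : X → ℤ))
      (fun t => α.supportLocallyFiniteWithinDomain' t trivial)
      ((f ≫ g).isCompact_preimage hV.isCompact)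
  let F : Finset X := hfinV.toFinset.filter fun x => (f ≫ g) x = z
  have hmemF : ∀ x, (f ≫ g) x = z → α x ≠ 0 → x ∈ F := fun x hx hne => Finset.mem_filter.2
    ⟨hfinV.mem_toFinset.2 ⟨show (f ≫ g) x ∈ V from hx ▸ hzV, hne⟩, hx⟩
  let wf : X → ℤ := fun x => if δX x = δY (f x) then (f.residueDegree x : ℤ) else 0
  let wg : Y → ℤ := fun y => if δY y = δZ (g y) then (g.residueDegree y : ℤ) else 0
  have hR : AlgebraicCycle.map (f ≫ g) δX δZ α z = ∑ x ∈ F, α x * wf x * wg (f x) := by
    rw [Cyc90.map_apply_eq]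
    refine (finsum_mem_eq_sum_of_inter_support_eq _ (t := F) (Set.ext fun x => and_congr_left fun hx =>
      ⟨fun h => hmemF x h (left_ne_zero_of_mul hx), fun h => (Finset.mem_filter.1 h).2⟩)).trans ?_
    refine Finset.sum_congr rfl fun x _ => ?_
    have h1 := Cyc90.delta_le_of_compat hf x
    have h2 := Cyc90.delta_le_of_compat hg (f x)
    simp only [wf, wg, Scheme.Hom.comp_apply]
    by_cases h : δX x = δY (f x) ∧ δY (f x) = δZ (g (f x))
    · rw [if_pos (h.1.trans h.2), if_pos h.1, if_pos h.2, residueDegree_comp]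
      push_cast; ring
    · rw [if_neg (fun e => h ⟨by omega, by omega⟩)]
      split_ifs <;> simp_all
  have hL : ∀ y, g y = z →
      AlgebraicCycle.map f δX δY α y = ∑ x ∈ F.filter (fun x => f x = y), α x * wf x := fun y hy => by
    rw [Cyc90.map_apply_eq]
    exact finsum_mem_eq_sum_of_inter_support_eq _ (Set.ext fun x => and_congr_left fun hx =>
      ⟨fun h => Finset.mem_filter.2 ⟨hmemF x (by rw [Scheme.Hom.comp_apply,
          show f x = y from h, hy]) (left_ne_zero_of_mul hx), h⟩,
        fun h => (Finset.mem_filter.1 h).2⟩)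
  rw [hR, Cyc90.map_apply_eq, ← Finset.sum_fiberwise_of_maps_to
    (g := fun x => f x) (t := F.image fun x => f x) fun x hx => Finset.mem_image_of_mem _ hx]
  refine (finsum_mem_eq_sum_of_inter_support_eq _ (t := F.image fun x => f x) (Set.ext fun y =>
    and_congr_left fun hy => ⟨fun h => ?_, fun h => ?_⟩)).trans (Finset.sum_congr rfl fun y hy => ?_)
  · have h0 := left_ne_zero_of_mul hy
    rw [hL y h] at h0
    obtain ⟨x, hx, -⟩ := Finset.exists_ne_zero_of_sum_ne_zero h0
    exact Finset.mem_image.2 ⟨x, (Finset.mem_filter.1 hx).1, (Finset.mem_filter.1 hx).2⟩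
  · obtain ⟨x, hx, rfl⟩ := Finset.mem_image.1 h
    exact (Finset.mem_filter.1 hx).2
  · obtain ⟨x, hx, hxy⟩ := Finset.mem_image.1 hy
    rw [hL y (hxy ▸ (Finset.mem_filter.1 hx).2), Finset.sum_mul]
    exact Finset.sum_congr rfl fun x' hx' => by
      simp only [wg]; rw [(Finset.mem_filter.1 hx').2]

end Groth.Agent.Div89
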