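import Groth.Agent.Div89.Stalk
import Groth.Agent.Div89.Cartier
import Mathlib.RingTheory.Ideal.AssociatedPrime.Finiteness
import Groth.Agent.QCqs72.Basic
import Groth.Agent.QC70.Coherent
import Mathlib.AlgebraicGeometry.Morphisms.Affine
import Mathlib.AlgebraicGeometry.Morphisms.Finite
import Mathlib.RingTheory.Ideal.MinimalPrime.Localization
import Mathlib.RingTheory.Ideal.MinimalPrime.Colon
import Mathlib.RingTheory.Ideal.GoingUp
import Mathlib.RingTheory.QuasiFinite.Basic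

/-!
Weakly associated points of direct images.
-/

set_option autoImplicit false
set_option linter.style.haveILetI false
set_option backward.isDefEq.respectTransparency.types false

noncomputable section

universe u

open CategoryTheory AlgebraicGeometry Opposite TopologicalSpace

namespace Groth.Agent.Div89

section Algebra

variable {R A M : Type u} {_ : CommRing R} {_ : CommRing A} [AddCommGroup M] [Module A M] [Module R M]
  (φ : R →+* A) (hsm : ∀ (r : R) (m : M), r • m = φ r • m)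

include hsm in
lemma annihilator_restrict (m : M) :
    (Submodule.span R {m}).annihilator = (Submodule.span A {m}).annihilator.comap φ := by
  ext r; rw [CAlg5.mem_ann, Ideal.mem_comap, CAlg5.mem_ann, hsm]

include hsm in
lemma exists_weakAss_comap {q : Ideal R} (hq : q ∈ FlatCA.weakAss R M) :
    ∃ P ∈ FlatCA.weakAss A M, P.comap φ = q := by
  obtain ⟨m, hm⟩ := hq
  rw [annihilator_restrict φ hsm] at hm
  obtain ⟨P, hP, hPq⟩ := Ideal.exists_minimalPrimes_comap_eq φ q hm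
  exact ⟨P, ⟨m, hP⟩, hPq⟩

include hsm in
lemma comap_mem_weakAss_of_noetherian [IsNoetherianRing A] {P : Ideal A}
    (hP : P ∈ FlatCA.weakAss A M) : P.comap φ ∈ FlatCA.weakAss R M := by
  haveI := CAlg5.weakAss_isPrime hP
  obtain ⟨m, hm⟩ := hP
  have hcol : (Submodule.span A {m}).annihilator = (⊥ : Submodule A M).colon {m} := by
    ext r; rw [CAlg5.mem_ann, Submodule.mem_colon_singleton, Submodule.mem_bot]
  rw [hcol] at hm
  obtain ⟨m', hm'⟩ := Submodule.exists_eq_colon_of_mem_minimalPrimes hm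
  refine ⟨m', ?_⟩
  have : (Submodule.span A {m'}).annihilator = P := by
    rw [hm']; ext r; rw [CAlg5.mem_ann, Submodule.mem_colon_singleton, Submodule.mem_bot]
  rw [annihilator_restrict φ hsm, this, Ideal.minimalPrimes_eq_subsingleton_self]
  exact Set.mem_singleton _

end Algebra

lemma comap_mem_weakAss_of_finite {R A M : Type u} [CommRing R] [CommRing A] [Algebra R A]
    [Module.Finite R A] [AddCommGroup M] [Module A M] [Module R M] [IsScalarTower R A M]
    {P : Ideal A} (hP : P ∈ FlatCA.weakAss A M) : P.comap (algebraMap R A) ∈ FlatCA.weakAss R M := by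
  classical
  haveI := CAlg5.weakAss_isPrime hP
  obtain ⟨m, hm⟩ := hP
  set I := (Submodule.span A {m}).annihilator with hI
  set q := P.comap (algebraMap R A) with hq
  have hfin : ((q.primesOver A) \ {P}).Finite :=
    (Algebra.QuasiFinite.finite_primesOver q).subset Set.sdiff_subset
  have hsep : ∀ Q ∈ hfin.toFinset, ∃ a b : A, a ∉ P ∧ b ∉ Q ∧ ∃ n : ℕ, (a * b) ^ n ∈ I := by
    intro Q hQ
    obtain ⟨hQq, hQP⟩ := (Set.Finite.mem_toFinset _).1 hQ
    haveI := hQq.1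
    by_contra! hne
    have hdisj : Disjoint (I : Set A) ((P.primeCompl ⊔ Q.primeCompl : Submonoid A) : Set A) := by
      refine Set.disjoint_left.2 fun c hcI hc => ?_
      obtain ⟨a, ha, b, hb, rfl⟩ := Submonoid.mem_sup.1 hc
      exact hne a b ha hb 1 (by rwa [pow_one])
    obtain ⟨T, hT, hIT, hTd⟩ := Ideal.exists_le_prime_disjoint I _ hdisj
    have hTP : T ≤ P := fun c hc => by_contra fun hcP =>
      Set.disjoint_left.1 hTd hc (Submonoid.mem_sup_left hcP)
    have hTQ : T ≤ Q := fun c hc => by_contra fun hcQ =>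
      Set.disjoint_left.1 hTd hc (Submonoid.mem_sup_right hcQ)
    have hPT : T = P := le_antisymm hTP (hm.2 ⟨hT, hIT⟩ hTP)
    subst hPT
    refine hQP ?_
    rcases eq_or_lt_of_le hTQ with h | h
    · exact h.symm
    · obtain ⟨c, hcQ, hcT⟩ := SetLike.exists_of_lt h
      exact absurd (congrArg (fun J : Ideal R => J) hQq.2.over)
        (Ideal.comap_lt_comap_of_integral_mem_sdiff h.le ⟨hcQ, hcT⟩ (Algebra.IsIntegral.isIntegral c)).ne
  choose! a b ha hb n hn using hsep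
  let N := hfin.toFinset.sup n
  let g := ∏ Q ∈ hfin.toFinset, a Q
  have hg : g ∉ P := prod_mem (S := P.primeCompl) fun Q hQ => ha Q hQ
  refine ⟨g ^ N • m, ?_⟩
  rw [annihilator_restrict (algebraMap R A) (fun r x => (algebraMap_smul A r x).symm)]
  set J := (Submodule.span A {g ^ N • m}).annihilator with hJ
  have hmemJ : ∀ c, c ∈ J ↔ c * g ^ N ∈ I := fun c => by
    rw [hJ, hI, CAlg5.mem_ann, CAlg5.mem_ann, mul_smul]
  have hJP : J ≤ P := fun c hc =>
    ((‹P.IsPrime›).mem_or_mem (hm.1.2 ((hmemJ c).1 hc))).resolve_right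
      fun h => hg (‹P.IsPrime›.mem_of_pow_mem _ h)
  refine ⟨⟨inferInstance, Ideal.comap_mono hJP⟩, fun q' hq' hle => ?_⟩
  haveI := hq'.1
  obtain ⟨Q, hJQ, hQp, hQq⟩ := Ideal.exists_ideal_over_prime_of_isIntegral q' J hq'.2
  obtain ⟨Q', hQQ', hQ'p, hQ'q⟩ :=
    Ideal.exists_ideal_over_prime_of_isIntegral_of_isPrime q Q (hQq.le.trans hle)
  by_cases hQ'P : Q' = P
  · subst hQ'P
    have hIJ : I ≤ J := fun c hc => (hmemJ c).2 (Ideal.mul_mem_right _ _ hc)
    exact (Ideal.comap_mono (hm.2 ⟨hQp, hIJ.trans hJQ⟩ hQQ')).trans hQq.le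
  · have hQ' : Q' ∈ hfin.toFinset := (Set.Finite.mem_toFinset _).2 ⟨⟨hQ'p, ⟨hQ'q.symm⟩⟩, hQ'P⟩
    obtain ⟨d, hd⟩ := Finset.dvd_prod_of_mem a hQ'
    have hbJ : b Q' ^ N ∈ J := by
      rw [hmemJ, ← mul_pow, show g = a Q' * d from hd, show b Q' * (a Q' * d) = a Q' * b Q' * d by ring,
        mul_pow]
      exact Ideal.mul_mem_right _ _ (I.pow_mem_of_pow_mem (hn Q' hQ') (Finset.le_sup hQ'))
    exact absurd (hQ'p.mem_of_pow_mem N (hQQ' (hJQ hbJ))) (hb Q' hQ')

variable {X S : Scheme.{u}}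

lemma primeAt_comap (f : X ⟶ S) (V : S.affineOpens) (U : X.affineOpens) (e : U.1 ≤ f ⁻¹ᵁ V.1) (x : X)
    (hx : x ∈ U.1) : (primeAt U x hx).comap (f.appLE V.1 U.1 e).hom = primeAt V (f x) (e hx) := by
  ext c
  have h : (f.stalkMap x).hom ((S.presheaf.germ V.1 (f x) (e hx)).hom c) =
      (X.presheaf.germ U.1 x hx).hom ((f.appLE V.1 U.1 e).hom c) := by
    erw [Scheme.Hom.germ_stalkMap_apply]
    exact (X.presheaf.germ_res_apply (homOfLE e) x hx (f.app V.1 c)).symm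
  rw [Ideal.mem_comap, ← not_iff_not, ← germ_isUnit_iff U x hx, ← germ_isUnit_iff V (f x) (e hx), ← h]
  exact isUnit_map_iff (f.stalkMap x).hom _

lemma primeAt_comap_app (f : X ⟶ S) (V : S.affineOpens) (hW : IsAffineOpen (f ⁻¹ᵁ V.1)) (x : X)
    (hx : f x ∈ V.1) :
    (primeAt (⟨f ⁻¹ᵁ V.1, hW⟩ : X.affineOpens) x hx).comap (f.app V.1).hom = primeAt V (f x) hx := by
  rw [Scheme.Hom.app_eq_appLE]
  exact primeAt_comap f V ⟨f ⁻¹ᵁ V.1, hW⟩ le_rfl x hx

lemma isQCoh_pushforward (f : X ⟶ S) [QuasiCompact f] [QuasiSeparated f] (F : X.Modules) (hF : Coh.IsQCoh F) :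
    Coh.IsQCoh ((Scheme.Modules.pushforward f).obj F) := by
  haveI : F.IsQuasicoherent := hF
  exact QCqs72.isQuasicoherent_pushforward F f

theorem exists_weakAssPoint_of_pushforward (f : X ⟶ S) [IsAffineHom f] (F : X.Modules) (hF : Coh.IsQCoh F)
    (s : S) (hs : Curv2.IsWeakAssPoint ((Scheme.Modules.pushforward f).obj F) s) :
    ∃ x, f x = s ∧ Curv2.IsWeakAssPoint F x := by
  obtain ⟨V, hsV⟩ := exists_affine_mem s
  let W : X.affineOpens := ⟨f ⁻¹ᵁ V.1, V.2.preimage f⟩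
  rw [isWeakAssPoint_iff _ (isQCoh_pushforward f F hF) V s hsV] at hs
  letI : Module Γ(X, f ⁻¹ᵁ V.1) Γ((Scheme.Modules.pushforward f).obj F, V.1) :=
    inferInstanceAs (Module Γ(X, f ⁻¹ᵁ V.1) Γ(F, f ⁻¹ᵁ V.1))
  obtain ⟨P, hP, hPq⟩ := exists_weakAss_comap (M := Γ((Scheme.Modules.pushforward f).obj F, V.1))
    (f.app V.1).hom (fun r m => rfl) hs
  haveI := CAlg5.weakAss_isPrime hP
  obtain ⟨x, hx, rfl⟩ := exists_point W P
  rw [primeAt_comap_app f V W.2 x hx] at hPq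
  exact ⟨x, primeAt_inj V hx hsV hPq, (isWeakAssPoint_iff F hF W x hx).2 hP⟩

theorem isWeakAssPoint_pushforward_of_noetherian (f : X ⟶ S) [IsAffineHom f] [IsLocallyNoetherian X]
    (F : X.Modules) (hF : Coh.IsQCoh F) (x : X) (hx : Curv2.IsWeakAssPoint F x) :
    Curv2.IsWeakAssPoint ((Scheme.Modules.pushforward f).obj F) (f x) := by
  obtain ⟨V, hxV⟩ := exists_affine_mem (f x)
  let W : X.affineOpens := ⟨f ⁻¹ᵁ V.1, V.2.preimage f⟩
  haveI := IsLocallyNoetherian.component_noetherian W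
  rw [isWeakAssPoint_iff _ (isQCoh_pushforward f F hF) V (f x) hxV, ← primeAt_comap_app f V W.2 x hxV]
  letI : Module Γ(X, f ⁻¹ᵁ V.1) Γ((Scheme.Modules.pushforward f).obj F, V.1) :=
    inferInstanceAs (Module Γ(X, f ⁻¹ᵁ V.1) Γ(F, f ⁻¹ᵁ V.1))
  exact comap_mem_weakAss_of_noetherian (M := Γ((Scheme.Modules.pushforward f).obj F, V.1)) (f.app V.1).hom
    (fun r m => rfl) ((isWeakAssPoint_iff F hF W x hxV).1 hx)

theorem isWeakAssPoint_pushforward_of_finite (f : X ⟶ S) [IsFinite f]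
    (F : X.Modules) (hF : Coh.IsQCoh F) (x : X) (hx : Curv2.IsWeakAssPoint F x) :
    Curv2.IsWeakAssPoint ((Scheme.Modules.pushforward f).obj F) (f x) := by
  obtain ⟨V, hxV⟩ := exists_affine_mem (f x)
  let W : X.affineOpens := ⟨f ⁻¹ᵁ V.1, V.2.preimage f⟩
  rw [isWeakAssPoint_iff _ (isQCoh_pushforward f F hF) V (f x) hxV, ← primeAt_comap_app f V W.2 x hxV]
  letI : Algebra Γ(S, V.1) Γ(X, f ⁻¹ᵁ V.1) := (f.app V.1).hom.toAlgebra
  haveI : Module.Finite Γ(S, V.1) Γ(X, f ⁻¹ᵁ V.1) := IsFinite.finite_app f V.1 V.2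
  letI : Module Γ(X, f ⁻¹ᵁ V.1) Γ((Scheme.Modules.pushforward f).obj F, V.1) :=
    inferInstanceAs (Module Γ(X, f ⁻¹ᵁ V.1) Γ(F, f ⁻¹ᵁ V.1))
  haveI : IsScalarTower Γ(S, V.1) Γ(X, f ⁻¹ᵁ V.1) Γ((Scheme.Modules.pushforward f).obj F, V.1) := IsScalarTower.of_algebraMap_smul fun r m => rfl
  exact comap_mem_weakAss_of_finite (R := Γ(S, V.1)) (A := Γ(X, f ⁻¹ᵁ V.1)) (M := Γ((Scheme.Modules.pushforward f).obj F, V.1))
    ((isWeakAssPoint_iff F hF W x hxV).1 hx)

theorem not_isWeakAssPoint_pushforward (f : X ⟶ S) [QuasiCompact f] [QuasiSeparated f]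
    (F : X.Modules) (hF : Coh.IsQCoh F) (s : S) (hs : s ∉ Set.range f) :
    ¬ Curv2.IsWeakAssPoint ((Scheme.Modules.pushforward f).obj F) s := by
  classical
  intro hw
  obtain ⟨V, hsV⟩ := exists_affine_mem s
  rw [isWeakAssPoint_iff _ (isQCoh_pushforward f F hF) V s hsV] at hw
  haveI := CAlg5.weakAss_isPrime hw
  obtain ⟨m, hm⟩ := hw
  let m' : Γ(F, f ⁻¹ᵁ V.1) := m
  have loc : ∀ x : (f ⁻¹ᵁ V.1 : X.Opens), ∃ (U : X.affineOpens) (e : U.1 ≤ f ⁻¹ᵁ V.1) (t : Γ(S, V.1)),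
      x.1 ∈ U.1 ∧ t ∉ primeAt V s hsV ∧
        (f.appLE V.1 U.1 e).hom t • F.presheaf.map (homOfLE e).op m' = 0 := by
    intro x
    obtain ⟨U, hxU, e⟩ := exists_affine_le (X := X) (U := f ⁻¹ᵁ V.1) (x := x.1) x.2
    refine ⟨U, e, ?_⟩
    by_contra! hne
    set I := (Submodule.span Γ(X, U.1) {F.presheaf.map (homOfLE e).op m'}).annihilator
    have hle : I.comap (f.appLE V.1 U.1 e).hom ≤ primeAt V s hsV := fun t ht => by
      by_contra htq
      exact hne t hxU htq (CAlg5.mem_ann.1 ht)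
    have hann : (Submodule.span Γ(S, V.1) {m}).annihilator ≤ I.comap (f.appLE V.1 U.1 e).hom := by
      intro t ht
      rw [CAlg5.mem_ann] at ht
      rw [Ideal.mem_comap, CAlg5.mem_ann]
      have h1 := congrArg (F.presheaf.map (homOfLE e).op) (show (f.app V.1).hom t • m' = 0 from ht)
      rw [map_zero] at h1
      exact (F.map_smul (homOfLE e) _ _).symm.trans h1
    have hmin : primeAt V s hsV ∈ (I.comap (f.appLE V.1 U.1 e).hom).minimalPrimes :=
      ⟨⟨inferInstance, hle⟩, fun q hq hqle => hm.2 ⟨hq.1, hann.trans hq.2⟩ hqle⟩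
    obtain ⟨P, hP, hPq⟩ := Ideal.exists_minimalPrimes_comap_eq (f.appLE V.1 U.1 e).hom _ hmin
    haveI := hP.1.1
    obtain ⟨y, hy, rfl⟩ := exists_point U P
    rw [primeAt_comap f V U e y hy] at hPq
    exact hs ⟨y, primeAt_inj V (e hy) hsV hPq⟩
  choose U e t hxU ht htm using loc
  obtain ⟨T, hT⟩ := (f.isCompact_preimage V.2.isCompact).elim_finite_subcover
    (fun x : (f ⁻¹ᵁ V.1 : X.Opens) => ((U x).1 : Set X)) (fun x => (U x).1.isOpen)
    (fun x hx => Set.mem_iUnion.2 ⟨⟨x, hx⟩, hxU ⟨x, hx⟩⟩)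
  let τ := ∏ x ∈ T, t x
  have hτ : τ ∉ primeAt V s hsV := prod_mem (S := (primeAt V s hsV).primeCompl) fun x _ => ht x
  refine hτ (hm.1.2 (CAlg5.mem_ann.2 ?_))
  show (f.app V.1).hom τ • m' = 0
  refine TopCat.Presheaf.section_ext (⟨F.presheaf, F.isSheaf⟩ : TopCat.Sheaf Ab X) _ _ 0 fun y hy => ?_
  show F.presheaf.germ (f ⁻¹ᵁ V.1) y hy _ = F.presheaf.germ (f ⁻¹ᵁ V.1) y hy 0
  obtain ⟨x, hxT, hyU⟩ := Set.mem_iUnion₂.1 (hT hy)
  obtain ⟨d, hd⟩ := Finset.dvd_prod_of_mem t hxT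
  rw [show τ = t x * d from hd, map_mul, mul_comm, mul_smul, germ_smul, map_zero]
  have h1 := congrArg (F.presheaf.germ (U x).1 y hyU) (htm x)
  rw [germ_smul, map_zero, TopCat.Presheaf.germ_res_apply] at h1
  erw [X.presheaf.germ_res_apply] at h1
  rw [germ_smul]
  exact (congrArg (_ • ·) h1).trans (smul_zero _)

theorem finite_assPoints_inter [IsLocallyNoetherian X] (F : X.Modules) (hF : Coh.IsCoh F) (U : X.Opens)
    (hU : IsCompact (U : Set X)) : {x : X | x ∈ U ∧ Curv2.IsAssPoint F x}.Finite := by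
  classical
  have haff : ∀ V : X.affineOpens, {x : X | x ∈ V.1 ∧ Curv2.IsAssPoint F x}.Finite := by
    intro V
    haveI := IsLocallyNoetherian.component_noetherian V
    haveI : F.IsQuasicoherent := hF.1
    haveI := hF.2
    haveI : Module.Finite Γ(X, V.1) Γ(F, V.1) := QC70.finite_sections_of_isFiniteType F V.2
    refine Set.Finite.subset (s := Subtype.val '' {x : V.1 | primeAt V x.1 x.2 ∈ associatedPrimes Γ(X, V.1) Γ(F, V.1)})
      (Set.Finite.image _ ((associatedPrimes.finite Γ(X, V.1) Γ(F, V.1)).preimage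
        (f := fun x : V.1 => primeAt V x.1 x.2) fun a _ b _ h => Subtype.ext (primeAt_inj V a.2 b.2 h))) ?_
    rintro x ⟨hx, hass⟩
    refine ⟨⟨x, hx⟩, ?_, rfl⟩
    obtain ⟨m, hm⟩ := (isWeakAssPoint_iff F hF.1 V x hx).1 ((isAssPoint_iff_isWeakAssPoint F x).1 hass)
    refine (?_ : IsAssociatedPrime (primeAt V x hx) Γ(F, V.1))
    have hcol : (Submodule.span Γ(X, V.1) {m}).annihilator = (⊥ : Submodule Γ(X, V.1) Γ(F, V.1)).colon {m} := by
      ext r; rw [CAlg5.mem_ann, Submodule.mem_colon_singleton, Submodule.mem_bot]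
    rw [hcol] at hm
    obtain ⟨m', hm'⟩ := Submodule.exists_eq_colon_of_mem_minimalPrimes hm
    exact ⟨inferInstance, m', (Ideal.IsPrime.radical (inferInstance : (primeAt V x hx).IsPrime)).symm.trans
      (congrArg Ideal.radical hm')⟩
  choose V hV using fun x : U => exists_affine_mem x.1
  obtain ⟨T, hT⟩ := hU.elim_finite_subcover (fun x : U => ((V x).1 : Set X)) (fun x => (V x).1.isOpen)
    (fun x hx => Set.mem_iUnion.2 ⟨⟨x, hx⟩, hV ⟨x, hx⟩⟩)
  refine (T.finite_toSet.biUnion fun x _ => haff (V x)).subset fun x hx => ?_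
  obtain ⟨y, hyT, hxy⟩ := Set.mem_iUnion₂.1 (hT hx.1)
  exact Set.mem_iUnion₂.2 ⟨y, hyT, hxy, hx.2⟩

end Groth.Agent.Div89
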