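import Groth.Agent.CAlg1.Sk
import Groth.Agent.CAlg1.SerreNormal
import Groth.Agent.EGA4Alg4.DepthChange
import Groth.Agent.EGA4Alg4.IntegralDim
import Groth.Agent.QC70.Stalk
import Groth.Agent.Props58.LocFree.Criteria
import Groth.Agent.Div89.PushAss
import Groth.Agent.Div89.Stalk

/-!
Depth of stalks of coherent modules: transport to affine charts, no embedded points, extension
across points of depth at least two.
-/

set_option autoImplicit false
set_option linter.style.haveILetI false
set_option backward.isDefEq.respectTransparency.types false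

noncomputable section

universe u

open CategoryTheory AlgebraicGeometry Opposite TopologicalSpace IsLocalRing
open Groth.Agent.QC70

namespace Groth.Agent.Div89

variable {X : Scheme.{u}}

lemma isNoetherianRing_sections [IsLocallyNoetherian X] (U : X.affineOpens) :
    IsNoetherianRing Γ(X, U.1) := IsLocallyNoetherian.component_noetherian U

lemma weakAss_of_mem_associatedPrimes' {R : Type u} [CommRing R] {M : Type u} [AddCommGroup M]
    [Module R M] {p : Ideal R} (hp : p ∈ associatedPrimes R M) : p ∈ FlatCA.weakAss R M := by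
  obtain ⟨hpp, m, hm⟩ := hp
  refine ⟨m, ⟨hpp, fun r hr => ?_⟩, fun q hq _ => ?_⟩
  · rw [hm]
    refine Ideal.le_radical ?_
    rw [Submodule.mem_colon_singleton, Submodule.mem_bot]
    exact CAlg5.mem_ann.1 hr
  · rw [hm]
    refine hq.1.radical_le_iff.2 fun r hr => hq.2 ?_
    rw [Submodule.mem_colon_singleton, Submodule.mem_bot] at hr
    exact CAlg5.mem_ann.2 hr

lemma isAssPoint_of_mem_associatedPrimes (F : X.Modules) (hF : Coh.IsQCoh F) (U : X.affineOpens)
    (x : X) (hx : x ∈ U.1) (h : primeAt U x hx ∈ associatedPrimes Γ(X, U.1) Γ(F, U.1)) :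
    Curv2.IsAssPoint F x :=
  (isAssPoint_iff_isWeakAssPoint F x).2
    ((isWeakAssPoint_iff F hF U x hx).2 (weakAss_of_mem_associatedPrimes' h))

theorem depth_localized_eq_stalk [IsLocallyNoetherian X] (F : X.Modules) (hF : Coh.IsCoh F)
    (U : X.affineOpens) (x : X) (hx : x ∈ U.1) :
    LocCoh.depth (Localization.AtPrime (primeAt U x hx))
        (LocalizedModule (primeAt U x hx).primeCompl Γ(F, U.1)) =
      LocCoh.depth (X.presheaf.stalk x) (F.presheaf.stalk x) := by
  haveI : F.IsQuasicoherent := hF.1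
  haveI : F.IsFiniteType := hF.2
  haveI := isNoetherianRing_sections U
  haveI := finite_sections_of_isFiniteType F U.2
  letI := stalkAlg U.1 x hx
  letI := stalkModule F U.1 x hx
  haveI := isScalarTower_stalk F U.1 x hx
  haveI := isLocalization_stalk U x hx
  haveI := isLocalizedModule_germLin F hF.1 U x hx
  let p := primeAt U x hx
  let A := Localization.AtPrime p
  let e := IsLocalization.algEquiv p.primeCompl A (X.presheaf.stalk x)
  letI : Algebra A (X.presheaf.stalk x) := e.toAlgHom.toRingHom.toAlgebra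
  letI : Module A (F.presheaf.stalk x) := Module.compHom _ e.toAlgHom.toRingHom
  haveI : IsScalarTower A (X.presheaf.stalk x) (F.presheaf.stalk x) :=
    IsScalarTower.of_algebraMap_smul fun _ _ => rfl
  haveI : IsScalarTower Γ(X, U.1) A (F.presheaf.stalk x) :=
    IsScalarTower.of_algebraMap_smul fun r s => by
      show e (algebraMap Γ(X, U.1) A r) • s = r • s
      rw [e.commutes, algebraMap_smul]
  let l : LocalizedModule p.primeCompl Γ(F, U.1) ≃ₗ[A] F.presheaf.stalk x :=
    { (IsLocalizedModule.iso p.primeCompl (germLin F U.1 x hx)).toLinearMap.extendScalarsOfIsLocalization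
        p.primeCompl A, IsLocalizedModule.iso p.primeCompl (germLin F U.1 x hx) with }
  haveI : IsLocalHom (algebraMap A (X.presheaf.stalk x)) := ⟨fun a ha => by
    have h := ha.map e.symm
    rwa [show e.symm (algebraMap A (X.presheaf.stalk x) a) = a from e.symm_apply_apply a] at h⟩
  haveI : IsNoetherianRing A := IsLocalization.isNoetherianRing p.primeCompl _ inferInstance
  haveI : IsNoetherianRing (X.presheaf.stalk x) :=
    IsLocalization.isNoetherianRing p.primeCompl _ inferInstance
  haveI : Module.Finite A (LocalizedModule p.primeCompl Γ(F, U.1)) :=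
    Module.Finite.of_isLocalizedModule p.primeCompl
      (LocalizedModule.mkLinearMap p.primeCompl Γ(F, U.1))
  haveI : Module.Finite A (F.presheaf.stalk x) := Module.Finite.equiv l
  rw [EGA4Alg4.depth_eq_of_equiv l, EGA4Alg4.depth_eq_of_finite (B := X.presheaf.stalk x)]

theorem bijective_sections_of_depth_two [IsLocallyNoetherian X] {F G : X.Modules} (φ : F ⟶ G)
    (hF : Coh.IsCoh F) (hG : Coh.IsQCoh G)
    (h : ∀ x : X, Function.Bijective (stalkMapM φ x) ∨
      ((2 : ℕ∞) ≤ LocCoh.depth (X.presheaf.stalk x) (F.presheaf.stalk x) ∧ ¬ Curv2.IsAssPoint G x))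
    (U : X.affineOpens) : Function.Bijective (φ.app U.1) := by
  haveI : F.IsQuasicoherent := hF.1
  haveI : F.IsFiniteType := hF.2
  haveI := isNoetherianRing_sections U
  haveI := finite_sections_of_isFiniteType F U.2
  let φU : Γ(F, U.1) →ₗ[Γ(X, U.1)] Γ(G, U.1) :=
    { toFun := φ.app U.1, map_add' := map_add _, map_smul' := fun r m => Scheme.Modules.Hom.app_smul _ r m }
  refine CAlg1.bijective_of_depth_two φU fun p hp => ?_
  obtain ⟨x, hx, rfl⟩ := exists_point U p
  rcases h x with hb | ⟨hd, hA⟩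
  · refine Or.inl ⟨(injective_iff_map_eq_zero _).2 fun z hz => ?_, fun z => ?_⟩
    · obtain ⟨⟨m, s⟩, rfl⟩ : ∃ y : Γ(F, U.1) × (primeAt U x hx).primeCompl,
          LocalizedModule.mk y.1 y.2 = z :=
        LocalizedModule.induction_on (fun a s => ⟨(a, s), rfl⟩) z
      rw [LocalizedModule.map_mk, ← LocalizedModule.zero_mk (1 : (primeAt U x hx).primeCompl),
        LocalizedModule.mk_eq] at hz
      obtain ⟨t, ht⟩ := hz
      simp only [Submonoid.smul_def, one_smul, smul_zero] at ht
      have h0 : germM G U.1 x hx (φU m) = 0 := (germ_eq_zero_iff G hG U x hx _).2 ⟨t.1, t.2, ht⟩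
      have h1 : stalkMapM φ x (germM F U.1 x hx m) = stalkMapM φ x 0 :=
        ((stalkMapM_germ φ hx m).trans h0).trans (map_zero _).symm
      obtain ⟨t', ht', htm⟩ := (germ_eq_zero_iff F hF.1 U x hx m).1 (hb.1 h1)
      rw [← LocalizedModule.zero_mk (1 : (primeAt U x hx).primeCompl), LocalizedModule.mk_eq]
      exact ⟨⟨t', ht'⟩, by simp [Submonoid.smul_def, htm]⟩
    · obtain ⟨⟨n, s⟩, rfl⟩ : ∃ y : Γ(G, U.1) × (primeAt U x hx).primeCompl,
          LocalizedModule.mk y.1 y.2 = z :=
        LocalizedModule.induction_on (fun a s => ⟨(a, s), rfl⟩) z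
      obtain ⟨w, hw⟩ := hb.2 (germM G U.1 x hx n)
      letI := stalkModule F U.1 x hx
      haveI := isLocalizedModule_germLin F hF.1 U x hx
      obtain ⟨⟨m, t⟩, hmt⟩ :=
        IsLocalizedModule.surj (primeAt U x hx).primeCompl (germLin F U.1 x hx) w
      have hmt' : X.presheaf.germ U.1 x hx t.1 • w = germM F U.1 x hx m := hmt
      have h0 : germM G U.1 x hx (t.1 • n - φU m) = 0 := by
        have := congrArg (stalkLinear φ x) hmt'
        rw [map_smul] at this
        change _ • stalkMapM φ x w = stalkMapM φ x _ at this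
        rw [hw, stalkMapM_germ] at this
        refine (map_sub (G.presheaf.germ U.1 x hx).hom _ _).trans (sub_eq_zero.2 ?_)
        exact (germM_smul hx _ n).trans this
      obtain ⟨u, hu, hun⟩ := (germ_eq_zero_iff G hG U x hx _).1 h0
      refine ⟨LocalizedModule.mk (u • m) ((⟨u, hu⟩ : (primeAt U x hx).primeCompl) * t * s), ?_⟩
      rw [LocalizedModule.map_mk, LocalizedModule.mk_eq]
      refine ⟨1, ?_⟩
      rw [smul_sub, sub_eq_zero] at hun
      simp only [Submonoid.smul_def, one_smul, Submonoid.coe_mul, map_smul]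
      rw [← hun, mul_comm (u * t.1) s.1, ← mul_smul, ← mul_smul, mul_assoc]
  · exact Or.inr ⟨le_of_le_of_eq hd (depth_localized_eq_stalk F hF U x hx).symm,
      fun hass => hA (isAssPoint_of_mem_associatedPrimes G hG U x hx hass)⟩

theorem isIso_of_depth_two [IsLocallyNoetherian X] {F G : X.Modules} (φ : F ⟶ G)
    (hF : Coh.IsCoh F) (hG : Coh.IsQCoh G)
    (h : ∀ x : X, Function.Bijective (stalkMapM φ x) ∨
      ((2 : ℕ∞) ≤ LocCoh.depth (X.presheaf.stalk x) (F.presheaf.stalk x) ∧ ¬ Curv2.IsAssPoint G x)) :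
    IsIso φ := by
  refine isIso_of_bijective_stalkMapM φ fun x => ?_
  obtain ⟨U, hx⟩ := exists_affine_mem x
  have hb := bijective_sections_of_depth_two φ hF hG h U
  refine ⟨(injective_iff_map_eq_zero ((TopCat.Presheaf.stalkFunctor _ x).map φ.mapPresheaf).hom).2
    fun (z : F.presheaf.stalk x) (hz : stalkMapM φ x z = 0) => ?_, fun z => ?_⟩
  · letI := stalkModule F U.1 x hx
    haveI := isLocalizedModule_germLin F hF.1 U x hx
    obtain ⟨⟨m, t⟩, hmt⟩ :=
      IsLocalizedModule.surj (primeAt U x hx).primeCompl (germLin F U.1 x hx) z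
    have hmt' : X.presheaf.germ U.1 x hx t.1 • z = germM F U.1 x hx m := hmt
    have := congrArg (stalkLinear φ x) hmt'
    rw [map_smul] at this
    change _ • stalkMapM φ x z = stalkMapM φ x _ at this
    erw [hz, smul_zero, stalkMapM_germ] at this
    obtain ⟨u, hu, hum⟩ := (germ_eq_zero_iff G hG U x hx _).1 this.symm
    rw [← Scheme.Modules.Hom.app_smul, ← map_zero (φ.app U.1).hom] at hum
    have hm : germM F U.1 x hx m = 0 :=
      (germ_eq_zero_iff F hF.1 U x hx m).2 ⟨u, hu, hb.1 hum⟩
    rw [hm] at hmt'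
    have key : ∀ w : F.presheaf.stalk x, X.presheaf.germ U.1 x hx t.1 • w = 0 → w = 0 := fun w h =>
      ((germ_isUnit_iff U x hx t.1).2 t.2).smul_eq_zero.1 h
    exact key z hmt'
  · letI := stalkModule G U.1 x hx
    haveI := isLocalizedModule_germLin G hG U x hx
    obtain ⟨⟨n, t⟩, hnt⟩ :=
      IsLocalizedModule.surj (primeAt U x hx).primeCompl (germLin G U.1 x hx) z
    have hnt' : X.presheaf.germ U.1 x hx t.1 • z = germM G U.1 x hx n := hnt
    obtain ⟨m, hm⟩ := hb.2 n
    obtain ⟨v, hv⟩ := (germ_isUnit_iff U x hx t.1).2 t.2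
    refine ⟨(↑v⁻¹ : X.presheaf.stalk x) • germM F U.1 x hx m, ?_⟩
    refine ((stalkLinear φ x).map_smul _ _).trans ?_
    show (↑v⁻¹ : X.presheaf.stalk x) • stalkMapM φ x (germM F U.1 x hx m) = z
    erw [stalkMapM_germ, hm]
    rw [← hnt', ← hv, smul_smul, Units.inv_mul, one_smul]

lemma not_isAssPoint_of_torsionFree [IsIntegral X] (G : X.Modules) (x : X)
    (htf : NoZeroSMulDivisors ↑(X.presheaf.stalk x) ↑(G.presheaf.stalk x))
    (hx : x ≠ genericPoint X) : ¬ Curv2.IsAssPoint G x := by
  intro hA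
  obtain ⟨m, hm⟩ := (isAssPoint_iff_isWeakAssPoint G x).1 hA
  have hm0 : m ≠ 0 := fun h0 => by
    refine (maximalIdeal.isMaximal (X.presheaf.stalk x)).ne_top (hm.symm.trans ?_)
    rw [show LinearMap.ker (LinearMap.toSpanSingleton (X.presheaf.stalk x) (G.presheaf.stalk x) m) = ⊤
      from eq_top_iff.2 fun r _ => by rw [LinearMap.mem_ker, h0]; exact smul_zero r]
    exact Ideal.radical_top _
  have hz : maximalIdeal (X.presheaf.stalk x) = ⊥ := by
    rw [← hm, show LinearMap.ker (LinearMap.toSpanSingleton (X.presheaf.stalk x) (G.presheaf.stalk x) m) = ⊥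
      from eq_bot_iff.2 fun r hr => (eq_zero_or_eq_zero_of_smul_eq_zero
        (show r • m = 0 from hr)).resolve_right hm0]
    exact Ideal.radical_eq_iff.2 fun r hr => by
      obtain ⟨n, hn⟩ := hr
      exact eq_zero_of_pow_eq_zero hn
  obtain ⟨U, hxU⟩ := exists_affine_mem x
  haveI : Nonempty U.1 := ⟨⟨x, hxU⟩⟩
  have hη : genericPoint X ∈ U.1 := ((genericPoint_spec X).specializes trivial).mem_open U.1.2 hxU
  refine hx (primeAt_inj U hxU hη (le_antisymm (fun a ha => ?_)
    ((specializes_iff_primeAt_le U hxU hη).1 ((genericPoint_spec X).specializes trivial))))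
  have ha' : X.presheaf.germ U.1 x hxU a ∈ maximalIdeal (X.presheaf.stalk x) :=
    (mem_maximalIdeal _).2 fun hu => (germ_isUnit_iff U x hxU a).1 hu ha
  rw [hz, Ideal.mem_bot] at ha'
  rw [(injective_iff_map_eq_zero _).1 (germ_injective_of_isIntegral X x hxU) a ha']
  exact zero_mem _

theorem noEmbedded_iff [IsLocallyNoetherian X] (F : X.Modules) (hF : Coh.IsCoh F) :
    (∀ x : X, Curv2.IsAssPoint F x → ∀ y : X, Curv2.IsAssPoint F y → y ⤳ x → y = x) ↔
      ∀ x : X, min (1 : WithBot ℕ∞) (Module.supportDim ↑(X.presheaf.stalk x) ↑(F.presheaf.stalk x)) ≤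
        ((LocCoh.depth (X.presheaf.stalk x) (F.presheaf.stalk x) : ℕ∞) : WithBot ℕ∞) := by
  haveI : F.IsFiniteType := hF.2
  haveI : F.IsQuasicoherent := hF.1
  haveI := fun x : X => Props58.LocFree.finite_stalk_of_isFiniteType (M := F) x
  have hd0 : ∀ x : X, LocCoh.depth (X.presheaf.stalk x) (F.presheaf.stalk x) = 0 ↔
      Curv2.IsAssPoint F x := fun x => EGA4Alg4.depth_eq_zero_iff
  constructor
  · intro h x
    by_cases h0 : LocCoh.depth (X.presheaf.stalk x) (F.presheaf.stalk x) = 0
    · refine le_trans (min_le_right _ _) ?_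
      rw [h0]
      show Module.supportDim _ _ ≤ (0 : WithBot ℕ∞)
      rw [Module.supportDim, Order.krullDim_nonpos_iff_forall_isMin]
      intro a b hba
      show a.1.asIdeal ≤ b.1.asIdeal
      obtain ⟨q, hq, hqle⟩ := Ideal.exists_minimalPrimes_le
        (Module.mem_support_iff_of_finite.1 b.2)
      haveI := hq.isPrime
      suffices hqm : q = maximalIdeal _ from
        le_trans (le_maximalIdeal a.1.isPrime.ne_top) (hqm ▸ hqle)
      obtain ⟨U, hx⟩ := exists_affine_mem x
      letI := stalkAlg U.1 x hx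
      letI := stalkModule F U.1 x hx
      haveI := isScalarTower_stalk F U.1 x hx
      haveI := isLocalization_stalk U x hx
      haveI := isLocalizedModule_germLin F hF.1 U x hx
      have hqw := weakAss_of_mem_associatedPrimes'
        (Module.associatedPrimes.minimalPrimes_annihilator_subset_associatedPrimes _ _ hq)
      rw [CAlg5.mem_weakAss_iff_comap_mem (primeAt U x hx).primeCompl (X.presheaf.stalk x)] at hqw
      set p := q.comap (algebraMap Γ(X, U.1) (X.presheaf.stalk x)) with hp
      have hpd : Disjoint ((primeAt U x hx).primeCompl : Set Γ(X, U.1)) (p : Set Γ(X, U.1)) :=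
        ((IsLocalization.isPrime_iff_isPrime_disjoint (primeAt U x hx).primeCompl _ q).1 ‹_›).2
      rw [← CAlg5.mem_weakAss_localized_iff (primeAt U x hx).primeCompl (germLin F U.1 x hx) hpd] at hqw
      obtain ⟨y, hy, hyp⟩ := exists_point U p
      rw [← hyp] at hqw
      have hyx : y = x := h x ((hd0 x).1 h0) y
        ((isAssPoint_iff_isWeakAssPoint F y).2 ((isWeakAssPoint_iff F hF.1 U y hy).2 hqw))
        ((specializes_iff_primeAt_le U hx hy).2 (hyp ▸ fun r hr => by_contra fun hr' =>
          Set.disjoint_left.1 hpd hr' hr))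
      subst hyx
      rw [← IsLocalization.map_under (primeAt U y hx).primeCompl (X.presheaf.stalk y) q]
      rw [← IsLocalization.AtPrime.map_eq_maximalIdeal (primeAt U y hx) (X.presheaf.stalk y)]
      exact congrArg (Ideal.map _) hyp.symm
    · refine le_trans (min_le_left _ _) ?_
      rw [← WithBot.coe_one, WithBot.coe_le_coe, Order.one_le_iff_pos, pos_iff_ne_zero]
      exact h0
  · intro h x hxA y hyA hyx
    obtain ⟨U, hx⟩ := exists_affine_mem x
    have hy : y ∈ U.1 := hyx.mem_open U.1.2 hx
    letI := stalkAlg U.1 x hx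
    letI := stalkModule F U.1 x hx
    haveI := isScalarTower_stalk F U.1 x hx
    haveI := isLocalization_stalk U x hx
    haveI := isLocalizedModule_germLin F hF.1 U x hx
    have hle : primeAt U y hy ≤ primeAt U x hx := (specializes_iff_primeAt_le U hx hy).1 hyx
    have hpd : Disjoint ((primeAt U x hx).primeCompl : Set Γ(X, U.1))
        (primeAt U y hy : Set Γ(X, U.1)) := Set.disjoint_left.2 fun a ha hb => ha (hle hb)
    have hyw := (isWeakAssPoint_iff F hF.1 U y hy).1 ((isAssPoint_iff_isWeakAssPoint F y).1 hyA)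
    rw [CAlg5.mem_weakAss_localized_iff (primeAt U x hx).primeCompl (germLin F U.1 x hx) hpd] at hyw
    let q := (primeAt U y hy).map (algebraMap Γ(X, U.1) (X.presheaf.stalk x))
    haveI : q.IsPrime := IsLocalization.isPrime_of_isPrime_disjoint (primeAt U x hx).primeCompl _ _
      (primeAt_isPrime U y hy) hpd
    have hqc : q.comap (algebraMap Γ(X, U.1) (X.presheaf.stalk x)) = primeAt U y hy :=
      IsLocalization.under_map_of_isPrime_disjoint (primeAt U x hx).primeCompl _ (primeAt_isPrime U y hy) hpd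
    rw [← hqc, ← CAlg5.mem_weakAss_iff_comap_mem (primeAt U x hx).primeCompl (X.presheaf.stalk x)] at hyw
    obtain ⟨m, ⟨hq, hmq⟩, -⟩ := hyw
    have hqs : (⟨q, hq⟩ : PrimeSpectrum (X.presheaf.stalk x)) ∈
        Module.support (X.presheaf.stalk x) (F.presheaf.stalk x) := by
      refine Module.mem_support_iff_of_finite.2 (le_trans (fun r hr => ?_) hmq)
      exact CAlg5.mem_ann.2 (Module.mem_annihilator.1 hr m)
    have hms : (⟨maximalIdeal _, inferInstance⟩ : PrimeSpectrum (X.presheaf.stalk x)) ∈
        Module.support (X.presheaf.stalk x) (F.presheaf.stalk x) :=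
      Module.mem_support_iff_of_finite.2
        (le_trans (Module.mem_support_iff_of_finite.1 hqs) (le_maximalIdeal hq.ne_top))
    have h1 := h x
    rw [(hd0 x).2 hxA] at h1
    have h2 : Module.supportDim (X.presheaf.stalk x) (F.presheaf.stalk x) ≤ 0 := by
      rcases min_le_iff.1 h1 with h3 | h3
      · rw [← WithBot.coe_one, WithBot.coe_le_coe] at h3
        exact absurd h3 (by simp)
      · exact h3
    rw [Module.supportDim, Order.krullDim_nonpos_iff_forall_isMin] at h2
    have h4 : maximalIdeal (X.presheaf.stalk x) ≤ q :=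
      h2 ⟨_, hms⟩ (b := ⟨_, hqs⟩) (show q ≤ maximalIdeal _ from le_maximalIdeal hq.ne_top)
    refine primeAt_inj U hy hx ?_
    rw [← hqc, le_antisymm (le_maximalIdeal hq.ne_top) h4]
    exact IsLocalization.AtPrime.under_maximalIdeal (X.presheaf.stalk x) (primeAt U x hx)

theorem res_bijective_of_depth_two [IsLocallyNoetherian X] (F : X.Modules) (hF : Coh.IsCoh F)
    (U : X.Opens)
    (hdepth : ∀ x : X, x ∉ U → 2 ≤ LocCoh.depth (X.presheaf.stalk x) (F.presheaf.stalk x))
    (V : X.Opens) : Function.Bijective (QC70.res F (inf_le_left : V ⊓ U ≤ V)) := by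
  let G := (Scheme.Modules.pushforward U.ι).obj (F.restrict U.ι)
  let φ : F ⟶ G := (Scheme.Modules.restrictAdjunction U.ι).unit.app F
  haveI : F.IsQuasicoherent := hF.1
  have hFU : Coh.IsQCoh (F.restrict U.ι) := inferInstanceAs ((F.restrict U.ι).IsQuasicoherent)
  have hG : Coh.IsQCoh G := isQCoh_pushforward U.ι _ hFU
  have himg : ∀ W : X.Opens, U.ι ''ᵁ (U.ι ⁻¹ᵁ W) = W ⊓ U := fun W => by
    rw [Scheme.Hom.image_preimage_eq_opensRange_inf, Scheme.Opens.opensRange_ι, inf_comm]
  have happ : ∀ (W : X.Opens) (s : Γ(F, W)),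
      φ.app W s = QC70.res F (U.ι.image_preimage_le W) s := fun W s => rfl
  haveI : IsIso φ := by
    refine isIso_of_depth_two φ hF hG fun x => ?_
    by_cases hx : x ∈ U
    · refine Or.inl ⟨(injective_iff_map_eq_zero
        ((TopCat.Presheaf.stalkFunctor _ x).map φ.mapPresheaf).hom).2 fun z hz => ?_, fun z => ?_⟩
      · obtain ⟨W, hxW, s, rfl⟩ := germM_exist z
        obtain ⟨W', hW', hxW', h0⟩ := germM_eq_zero ((stalkMapM_germ φ hxW s).symm.trans hz)
        rw [← app_res, happ, res_res] at h0
        have hx' : x ∈ U.ι ''ᵁ (U.ι ⁻¹ᵁ W') := (himg W').ge ⟨hxW', hx⟩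
        rw [← germM_res ((U.ι.image_preimage_le W').trans hW') hx', h0]
        exact germM_zero hx'
      · obtain ⟨W, hxW, s, rfl⟩ := germM_exist z
        let s' : Γ(F, W ⊓ U) := QC70.res F (himg W).ge s
        refine ⟨germM F (W ⊓ U) x ⟨hxW, hx⟩ s', ?_⟩
        rw [stalkMapM_germ, ← germM_res (inf_le_left : W ⊓ U ≤ W) (show x ∈ W ⊓ U from ⟨hxW, hx⟩) s]
        congr 1
        rw [happ]
        exact res_res (himg W).ge (U.ι.image_preimage_le _) s
    · refine Or.inr ⟨hdepth x hx, fun hA => ?_⟩
      refine not_isWeakAssPoint_pushforward U.ι _ hFU x ?_ ((isAssPoint_iff_isWeakAssPoint G x).1 hA)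
      rintro ⟨y, rfl⟩
      exact hx y.2
  have hb : Function.Bijective (φ.app V) := ConcreteCategory.bijective_of_isIso (φ.app V)
  constructor
  · intro a b hab
    refine hb.1 ?_
    rw [happ, happ, ← res_res inf_le_left (himg V).le, hab, res_res]
  · intro t
    obtain ⟨a, ha⟩ := hb.2 (show Γ(G, V) from QC70.res F (himg V).le t)
    refine ⟨a, ?_⟩
    rw [happ] at ha
    rw [← res_res (U.ι.image_preimage_le V) (himg V).ge]
    rw [ha, res_res, res_self]

end Groth.Agent.Div89
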