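import Groth.Agent.Div89.BlowSpec
import Groth.Prelude.Def_ega3
import Groth.Prelude.Def_Rees
import Mathlib.AlgebraicGeometry.ProjectiveSpectrum.Basic

set_option autoImplicit false

universe u

open CategoryTheory CategoryTheory.Limits AlgebraicGeometry TopologicalSpace Polynomial
open HomogeneousLocalization

namespace Groth.Agent.Div89


/-- A morphism is a blow-up as soon as its chart opens represent the chart predicates. -/
theorem isBlowUp_of_isRep_chartOpen {A : Type u} [CommRing A] {I : Ideal A} {P : Scheme.{u}}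
    (π : P ⟶ Spec (CommRingCat.of A))
    (hπ : BlowUp.IsEffCartierIdeal ((FSch.idealSpec A I).comap π))
    (h : ∀ a ∈ I, MP99.IsRep (FBlow13.ChartPred A I a) ((FBlow13.chartOpen π I a).ι ≫ π)) :
    BlowUp.IsBlowUp π (FSch.idealSpec A I) := by
  have ext : ∀ {Z : Scheme.{u}} (k k' : Z ⟶ P),
      BlowUp.IsEffCartierIdeal ((FSch.idealSpec A I).comap (k ≫ π)) → k ≫ π = k' ≫ π → k = k' := by
    intro Z k k' hk e
    refine FBlow13.hom_ext_opens (fun i : {a : A // a ∈ I} => FBlow13.chartOpen (k ≫ π) I i.1) ?_ fun i => ?_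
    · refine top_unique fun z _ => ?_
      obtain ⟨a, ha, hz⟩ := FBlow13.exists_mem_chartOpen (k ≫ π) hk z
      exact Opens.mem_iSup.2 ⟨⟨a, ha⟩, hz⟩
    · set W := FBlow13.chartOpen (k ≫ π) I i.1
      set V := FBlow13.chartOpen π I i.1
      have hW : FBlow13.ChartPred A I i.1 _ (W.ι ≫ k ≫ π) :=
        FBlow13.chartPred_chartOpen _ hk i.2
      have main : ∀ k'' : Z ⟶ P, k'' ≫ π = k ≫ π →
          ∃ l, l ≫ V.ι = W.ι ≫ k'' ∧ l ≫ V.ι ≫ π = W.ι ≫ k ≫ π := by
        intro k'' e''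
        obtain ⟨l, hl⟩ : ∃ l : W.toScheme ⟶ V.toScheme, l ≫ V.ι = W.ι ≫ k'' :=
          ⟨IsOpenImmersion.lift V.ι (W.ι ≫ k'') (Set.range_subset_iff.2 fun z => V.range_ι.symm ▸
            FBlow13.range_subset_chartOpen π hπ i.2 (W.ι ≫ k'')
              (by rw [Category.assoc, e'']; exact hW) z), IsOpenImmersion.lift_fac _ _ _⟩
        exact ⟨l, hl, by rw [← Category.assoc, hl, Category.assoc, e'']⟩
      obtain ⟨l, hl, hlp⟩ := main k rfl
      obtain ⟨l', hl', hlp'⟩ := main k' e.symm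
      rw [← hl, ← hl', ((h i.1 i.2).2 _ _ hW).unique hlp hlp']
  refine ⟨hπ, fun Z g hg => ?_⟩
  have hl : ∀ i : {a : A // a ∈ I}, ∃ l : (FBlow13.chartOpen g I i.1).toScheme ⟶ P,
      l ≫ π = (FBlow13.chartOpen g I i.1).ι ≫ g := fun i => by
    obtain ⟨l, hl, -⟩ := (h i.1 i.2).2 _ _ (FBlow13.chartPred_chartOpen g hg i.2)
    exact ⟨l ≫ (FBlow13.chartOpen π I i.1).ι, by rw [Category.assoc]; exact hl⟩
  choose l hl using hl
  have hcov : ⨆ i : {a : A // a ∈ I}, FBlow13.chartOpen g I i.1 = ⊤ := top_unique fun z _ => by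
    obtain ⟨a, ha, hz⟩ := FBlow13.exists_mem_chartOpen g hg z
    exact Opens.mem_iSup.2 ⟨⟨a, ha⟩, hz⟩
  obtain ⟨k, hk⟩ := FBlow13.exists_glue_opens _ hcov l fun i j => by
    refine ext _ _ ?_ ?_
    · rw [Category.assoc, hl, Scheme.homOfLE_ι_assoc, Scheme.IdealSheafData.comap_comp]
      exact MP99.isEffCartier_comap_isOpenImmersion hg _
    · rw [Category.assoc, Category.assoc, hl, hl, Scheme.homOfLE_ι_assoc, Scheme.homOfLE_ι_assoc]
  have hkg : k ≫ π = g := FBlow13.hom_ext_opens _ hcov fun i => by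
    rw [← Category.assoc, hk, hl]
  exact ⟨k, hkg, fun k' hk' => ext k' k (by rw [hk']; exact hg) (hk'.trans hkg.symm)⟩

namespace ReesChart

theorem isUnit_of_cancel {R S : Type u} [CommRing R] [CommRing S] (κ : R →+* S) {c x y : R}
    (hc : c * x = y) (hnz : κ x ∈ nonZeroDivisors S) (hd : κ y ∣ κ x) : IsUnit (κ c) := by
  obtain ⟨d, hd⟩ := hd
  refine isUnit_iff_exists_inv.2 ⟨d, (mul_cancel_right_mem_nonZeroDivisors hnz).1 ?_⟩
  calc κ c * d * κ x = κ (c * x) * d := by rw [map_mul]; ring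
    _ = 1 * κ x := by rw [hc, ← hd, one_mul]

variable {A : Type u} [CommRing A] {I : Ideal A}

/-- The element `aX` of the Rees algebra. -/
noncomputable def gen (a : A) (ha : a ∈ I) : reesAlgebra I :=
  ⟨monomial 1 a, reesAlgebra.monomial_mem.2 (by rwa [pow_one])⟩

theorem gen_mem (a : A) (ha : a ∈ I) : gen a ha ∈ Rees.deg (reesAlgebra I) 1 := fun m hm => by
  show (monomial 1 a).coeff m = 0
  rw [coeff_monomial]; exact if_neg fun h => hm h.symm

/-- The chart ring. -/
noncomputable def Chart (a : A) (ha : a ∈ I) : CommRingCat.{u} :=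
  CommRingCat.of (Away (Rees.deg (reesAlgebra I)) (gen a ha))

/-- The inclusion of a chart ring in the localization of the Rees algebra. -/
noncomputable def vl (a : A) (ha : a ∈ I) : Chart a ha →+* Localization.Away (gen a ha) where
  toFun x := HomogeneousLocalization.val x
  map_one' := val_one
  map_mul' x y := val_mul x y
  map_zero' := val_zero
  map_add' x y := val_add x y

theorem vl_injective (a : A) (ha : a ∈ I) : Function.Injective (vl a ha) :=
  fun _ _ h => HomogeneousLocalization.val_injective _ h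

/-- A fraction in a chart ring. -/
noncomputable def mkEl (a : A) (ha : a ∈ I) (n : ℕ) (y : reesAlgebra I)
    (hy : y ∈ Rees.deg (reesAlgebra I) (n • 1)) : Chart a ha :=
  Away.mk _ (gen_mem a ha) n y hy

theorem vl_mkEl (a : A) (ha : a ∈ I) (n : ℕ) (y : reesAlgebra I) (hy) :
    vl a ha (mkEl a ha n y hy) =
      IsLocalization.mk' (Localization.Away (gen a ha)) y
        (⟨gen a ha ^ n, n, rfl⟩ : Submonoid.powers (gen a ha)) :=
  (Away.val_mk _ _ (gen_mem a ha) _ hy).trans (Localization.mk_eq_mk'_apply _ _)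

theorem mkEl_surjective (a : A) (ha : a ∈ I) (b : Chart a ha) :
    ∃ n y hy, mkEl a ha n y hy = b :=
  Away.mk_surjective _ (gen_mem a ha) b

/-- The structure map of a chart ring. -/
noncomputable def base (a : A) (ha : a ∈ I) : A →+* Chart a ha :=
  (fromZeroRingHom (Rees.deg (reesAlgebra I)) _).comp
    (algebraMap A (Rees.deg (reesAlgebra I) 0))

theorem vl_base (a : A) (ha : a ∈ I) (r : A) :
    vl a ha (base a ha r) = algebraMap (reesAlgebra I) (Localization.Away (gen a ha))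
      (algebraMap A (reesAlgebra I) r) :=
  Localization.mk_one_eq_algebraMap _

theorem mul_eq_zero_of_val {a : A} {ha : a ∈ I} {y : reesAlgebra I}
    (h : algebraMap (reesAlgebra I) (Localization.Away (gen a ha)) y = 0) :
    ∃ k, y * gen a ha ^ k = 0 := by
  obtain ⟨⟨_, k, rfl⟩, hk⟩ := (IsLocalization.map_eq_zero_iff (Submonoid.powers (gen a ha)) _ y).1 h
  exact ⟨k, by rw [mul_comm]; exact hk⟩

theorem base_nzd (a : A) (ha : a ∈ I) : base a ha a ∈ nonZeroDivisors (Chart a ha) := by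
  rw [mem_nonZeroDivisors_iff_right]
  intro b hb
  obtain ⟨n, y, hy, rfl⟩ := mkEl_surjective a ha b
  refine vl_injective a ha ?_
  rw [map_zero, vl_mkEl, IsLocalization.mk'_eq_zero_iff]
  have h := congrArg (vl a ha) hb
  rw [map_mul, map_zero, vl_mkEl, vl_base, mul_comm, IsLocalization.mul_mk'_eq_mk'_of_mul,
    IsLocalization.mk'_eq_zero_iff] at h
  obtain ⟨⟨_, k, rfl⟩, hk⟩ := h
  refine ⟨⟨_, k + 1, rfl⟩, Subtype.ext ?_⟩
  have hk' : (monomial 1 a) ^ k * (C a * (y : A[X])) = 0 := congrArg Subtype.val hk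
  show (monomial 1 a) ^ (k + 1) * (y : A[X]) = 0
  rw [← C_mul_X_eq_monomial] at hk' ⊢
  linear_combination X * hk'

theorem base_mul {a x : A} (ha : a ∈ I) (hx : x ∈ I) :
    base a ha a * mkEl a ha 1 (gen x hx) (by simpa using gen_mem x hx) = base a ha x := by
  refine vl_injective a ha ?_
  rw [map_mul, vl_mkEl, vl_base, vl_base, IsLocalization.mul_mk'_eq_mk'_of_mul,
    IsLocalization.mk'_eq_iff_eq_mul, ← map_mul]
  congr 1
  refine Subtype.ext ?_
  show C a * monomial 1 x = C x * (monomial 1 a) ^ 1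
  rw [pow_one, C_mul_monomial, C_mul_monomial, mul_comm]

theorem base_div {a x : A} (ha : a ∈ I) (hx : x ∈ I) : base a ha a ∣ base a ha x :=
  ⟨_, (base_mul ha hx).symm⟩

theorem exists_pow_dvd {S : Type u} [CommRing S] (φ : A →+* S) {a : A} {n : ℕ} {z : A}
    (h : ∀ x ∈ I, φ a ∣ φ x) (hz : z ∈ I ^ n) : φ a ^ n ∣ φ z := by
  have hle : I.map φ ≤ Ideal.span {φ a} :=
    Ideal.map_le_iff_le_comap.2 fun x hx => Ideal.mem_span_singleton.2 (h x hx)
  have := Ideal.pow_right_mono hle n (Ideal.map_pow φ I n ▸ Ideal.mem_map_of_mem φ hz)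
  rwa [Ideal.span_singleton_pow, Ideal.mem_span_singleton] at this

/-- The affine blow-up algebra is the chart ring. -/
theorem exists_iso (a : A) (ha : a ∈ I) :
    ∃ ε : BlowUp.affineAlgebra A I a ≃+* Chart a ha,
      (ε : BlowUp.affineAlgebra A I a →+* Chart a ha).comp (algebraMap A _) = base a ha := by
  obtain ⟨ψ, hψ⟩ := FBlow13.affineAlgebra_exists_lift (𝔞 := I) (base a ha) (base_nzd a ha)
    fun x hx => base_div ha hx
  have hψ' : ∀ r, ψ (algebraMap A _ r) = base a ha r := fun r => RingHom.congr_fun hψ r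
  have nz := FBlow13.affineAlgebra_nzd (𝔞 := I) a
  refine ⟨RingEquiv.ofBijective ψ ⟨?_, ?_⟩, hψ⟩
  · rw [injective_iff_map_eq_zero]
    intro y hy
    obtain ⟨⟨r, ⟨_, n, rfl⟩⟩, hr⟩ :=
      IsLocalization.surj (Submonoid.powers a) (y : Localization.Away a)
    have h0 : y * algebraMap A (BlowUp.affineAlgebra A I a) (a ^ n) =
        algebraMap A (BlowUp.affineAlgebra A I a) r := Subtype.ext hr
    have h1 : base a ha r = 0 := by rw [← hψ', ← h0, map_mul, hy, zero_mul]
    have h2 := congrArg (vl a ha) h1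
    rw [vl_base, map_zero] at h2
    obtain ⟨k, hk⟩ := mul_eq_zero_of_val h2
    have h3 : r * a ^ k = 0 := by
      have hk' : C r * (monomial 1 a) ^ k = 0 := congrArg Subtype.val hk
      simpa [monomial_pow, C_mul_monomial] using hk'
    have h4 : algebraMap A (BlowUp.affineAlgebra A I a) r = 0 := by
      refine (pow_mem nz k).2 _ ?_
      rw [← map_pow, ← map_mul, h3, map_zero]
    rw [h4, map_pow] at h0
    exact (pow_mem nz n).2 _ h0
  · intro b
    obtain ⟨n, y, hy, rfl⟩ := mkEl_surjective a ha b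
    have hy' : (y : A[X]) = monomial n ((y : A[X]).coeff n) := by
      refine Polynomial.ext fun m => ?_
      rw [coeff_monomial]
      split_ifs with h
      · rw [h]
      · exact hy m (by simpa using fun h' => h h'.symm)
    obtain ⟨w, hw⟩ := exists_pow_dvd (algebraMap A (BlowUp.affineAlgebra A I a))
      (fun x hx => (FBlow13.affineAlgebra_div (a := a) hx).elim fun c hc => ⟨c, hc.trans (mul_comm _ _)⟩)
      (y.2 n)
    refine ⟨w, (mul_cancel_right_mem_nonZeroDivisors (pow_mem (base_nzd a ha) n)).1 ?_⟩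
    have h5 : ψ w * base a ha a ^ n = base a ha ((y : A[X]).coeff n) := by
      rw [← hψ', ← hψ', ← map_pow ψ, ← map_mul ψ, mul_comm w, ← hw]
    rw [h5]
    refine vl_injective a ha ?_
    rw [map_mul, map_pow, vl_mkEl, vl_base, vl_base, ← map_pow, mul_comm (IsLocalization.mk' _ y _),
      IsLocalization.mul_mk'_eq_mk'_of_mul, eq_comm, IsLocalization.mk'_eq_iff_eq_mul, ← map_mul]
    congr 1
    refine Subtype.ext ?_
    show (C a) ^ n * (y : A[X]) = C ((y : A[X]).coeff n) * (monomial 1 a) ^ n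
    conv_lhs => rw [hy']
    rw [← C_pow, monomial_pow, one_mul, C_mul_monomial, C_mul_monomial, mul_comm]

/-- The structure map of `Proj` of the Rees algebra. -/
noncomputable abbrev str (I : Ideal A) :
    Proj (Rees.deg (reesAlgebra I)) ⟶ Spec (CommRingCat.of A) :=
  Proj (Rees.deg (reesAlgebra I)) ↘ Spec (CommRingCat.of A)

theorem awayι_str (a : A) (ha : a ∈ I) :
    Proj.awayι _ (gen a ha) (gen_mem a ha) one_pos ≫ str I =
      Spec.map (CommRingCat.ofHom (base a ha) : CommRingCat.of A ⟶ Chart a ha) := by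
  show Proj.awayι _ (gen a ha) (gen_mem a ha) one_pos ≫ Proj.toSpecZero _ ≫ _ = _
  rw [Proj.awayι_toSpecZero_assoc, ← Spec.map_comp]
  rfl

theorem isRep_awayι (a : A) (ha : a ∈ I) :
    MP99.IsRep (FBlow13.ChartPred A I a)
      (Proj.awayι _ (gen a ha) (gen_mem a ha) one_pos ≫ str I) := by
  obtain ⟨ε, hε⟩ := exists_iso a ha
  have e : Proj.awayι _ (gen a ha) (gen_mem a ha) one_pos ≫ str I =
      (Scheme.Spec.mapIso ε.toCommRingCatIso.op).hom ≫ FBlow13.chartMor A I a := by
    rw [awayι_str]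
    simp only [FBlow13.chartMor, Functor.mapIso_hom, Iso.op_hom, Scheme.Spec_map, Quiver.Hom.unop_op,
      ← Spec.map_comp, ← hε]
    rfl
  set s := Scheme.Spec.mapIso ε.toCommRingCatIso.op with hs
  rw [e]
  refine ⟨?_, fun Z g hg => ?_⟩
  · exact (MP99.goodAt_isLocal _ _).res s.hom _ FBlow13.isRep_chart.1
  · obtain ⟨l, hl, hu⟩ := FBlow13.isRep_chart.2 Z g hg
    refine ⟨l ≫ s.inv, ?_, fun m hm => ?_⟩
    · show (l ≫ s.inv) ≫ s.hom ≫ _ = g
      rw [Category.assoc, Iso.inv_hom_id_assoc]; exact hl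
    · refine (Iso.eq_comp_inv s).2 ?_
      exact hu _ ((Category.assoc _ _ _).trans hm)

theorem iSup_basicOpen_gen :
    ⨆ i : {a : A // a ∈ I}, Proj.basicOpen (Rees.deg (reesAlgebra I)) (gen i.1 i.2) = ⊤ := by
  refine Proj.iSup_basicOpen_eq_top' _ _ (fun i => ⟨1, gen_mem i.1 i.2⟩) ?_
  refine top_unique fun f _ => ?_
  obtain ⟨f, hf⟩ := f
  have h := (adjoin_monomial_eq_reesAlgebra I).ge hf
  suffices H : ∀ g ∈ Algebra.adjoin A ((Submodule.map (monomial 1 : A →ₗ[A] A[X]) I : Submodule A A[X]) : Set A[X]),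
      ∀ hg : g ∈ reesAlgebra I, (⟨g, hg⟩ : reesAlgebra I) ∈
        Algebra.adjoin (Rees.deg (reesAlgebra I) 0)
          (Set.range fun i : {a : A // a ∈ I} => gen i.1 i.2) from H f h hf
  intro g hg
  induction hg using Algebra.adjoin_induction with
  | mem x hx =>
    obtain ⟨a, ha, rfl⟩ := hx
    exact fun _ => Algebra.subset_adjoin ⟨⟨a, ha⟩, rfl⟩
  | algebraMap r =>
    intro hg
    let z : Rees.deg (reesAlgebra I) 0 := ⟨⟨algebraMap A A[X] r, hg⟩, fun m hm => by
      show (algebraMap A A[X] r).coeff m = 0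
      rw [Polynomial.algebraMap_eq, coeff_C, if_neg (show ¬ m = 0 from hm)]⟩
    show ((z : reesAlgebra I)) ∈ _
    rw [← SetLike.GradeZero.algebraMap_apply (Rees.deg (reesAlgebra I)) z]
    exact Subalgebra.algebraMap_mem _ z
  | add x y hx hy ihx ihy =>
    intro _
    have hx' := (adjoin_monomial_eq_reesAlgebra I).le hx
    have hy' := (adjoin_monomial_eq_reesAlgebra I).le hy
    exact add_mem (ihx hx') (ihy hy')
  | mul x y hx hy ihx ihy =>
    intro _
    have hx' := (adjoin_monomial_eq_reesAlgebra I).le hx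
    have hy' := (adjoin_monomial_eq_reesAlgebra I).le hy
    show (⟨x, hx'⟩ : reesAlgebra I) * ⟨y, hy'⟩ ∈ _
    exact Subalgebra.mul_mem _ (ihx hx') (ihy hy')

theorem isEffCartier_str :
    BlowUp.IsEffCartierIdeal ((FSch.idealSpec A I).comap (str I)) := by
  refine MP99.isEffCartier_of_local fun y => ?_
  obtain ⟨i, hi⟩ := Opens.mem_iSup.1 ((iSup_basicOpen_gen (I := I)).ge (Set.mem_univ y))
  let j := Proj.awayι _ (gen i.1 i.2) (gen_mem i.1 i.2) one_pos
  refine ⟨j.opensRange, by rw [Proj.opensRange_awayι]; exact hi, ?_⟩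
  rw [← j.isoOpensRange_inv_comp, Scheme.IdealSheafData.comap_comp,
    ← Scheme.IdealSheafData.comap_comp _ j]
  exact MP99.isEffCartier_comap_isOpenImmersion
    (FBlow13.Glue.cartier I i.2 (isRep_awayι i.1 i.2).1) _

theorem chartOpen_str (a : A) (ha : a ∈ I) :
    FBlow13.chartOpen (str I) I a = Proj.basicOpen (Rees.deg (reesAlgebra I)) (gen a ha) := by
  refine le_antisymm (fun y hy => ?_) (fun y hy => ?_)
  · obtain ⟨⟨b, hb⟩, hyb⟩ := Opens.mem_iSup.1 ((iSup_basicOpen_gen (I := I)).ge (Set.mem_univ y))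
    dsimp only at hyb
    let j := Proj.awayι _ (gen b hb) (gen_mem b hb) one_pos
    obtain ⟨q, rfl⟩ : y ∈ Set.range j := by
      rw [← Proj.opensRange_awayι _ _ (gen_mem b hb) one_pos] at hyb; exact hyb
    obtain ⟨U, hqU, hUle⟩ := MP99.exists_affine_le q (W := j ⁻¹ᵁ FBlow13.chartOpen (str I) I a) hy
    have : IsAffine U.1.toScheme := U.2
    let c : Chart b hb := Away.isLocalizationElem (gen_mem b hb) (gen_mem a ha)
    have hc0 : c = mkEl b hb 1 (gen a ha) (by simpa using gen_mem a ha) := by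
      refine vl_injective b hb ?_
      rw [vl_mkEl]
      refine ((Away.val_mk _ _ (gen_mem b hb) _ _).trans (Localization.mk_eq_mk'_apply _ _)).trans ?_
      congr 1
      exact pow_one _
    show q ∈ j ⁻¹ᵁ Proj.basicOpen _ (gen a ha)
    rw [Proj.awayι_preimage_basicOpen _ (gen_mem b hb) one_pos (gen_mem a ha) one_pos]
    have hgood : FBlow13.ChartPred A I a _ (U.1.ι ≫ j ≫ str I) := by
      have hl : ∃ l, l ≫ (FBlow13.chartOpen (str I) I a).ι = U.1.ι ≫ j :=
        ⟨IsOpenImmersion.lift (FBlow13.chartOpen (str I) I a).ι (U.1.ι ≫ j)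
          (Set.range_subset_iff.2 fun z =>
            (FBlow13.chartOpen (str I) I a).range_ι.symm ▸ hUle z.2),
          IsOpenImmersion.lift_fac _ _ _⟩
      obtain ⟨l, hl⟩ := hl
      rw [← Category.assoc, ← hl, Category.assoc]
      have : IsOpenImmersion l := by
        have : IsOpenImmersion (l ≫ (FBlow13.chartOpen (str I) I a).ι) := by rw [hl]; infer_instance
        exact IsOpenImmersion.of_comp l (FBlow13.chartOpen (str I) I a).ι
      exact (MP99.goodAt_isLocal _ _).res l _ (FBlow13.chartPred_chartOpen _ isEffCartier_str ha)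
    have hgood' : FBlow13.ChartPred A I b _ (U.1.ι ≫ j ≫ str I) :=
      (MP99.goodAt_isLocal _ _).res U.1.ι _ (isRep_awayι b hb).1
    rw [awayι_str, FBlow13.chartPred_iff_of_isAffine] at hgood hgood'
    let κ : Chart b hb ⟶ Γ(U.1.toScheme, ⊤) :=
      (Scheme.ΓSpecIso _).inv ≫ U.1.ι.appTop
    have eκ : (Scheme.ΓSpecIso (CommRingCat.of A)).inv ≫
        (U.1.ι ≫ Spec.map (CommRingCat.ofHom (base b hb))).appTop =
        CommRingCat.ofHom (base b hb) ≫ κ := by
      rw [Scheme.Hom.comp_appTop]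
      exact ((congrArg (· ≫ U.1.ι.appTop) (Scheme.ΓSpecIso_inv_naturality
        (CommRingCat.ofHom (base b hb)))).trans (Category.assoc _ _ _)).symm.trans (Category.assoc _ _ _)
    obtain ⟨hgood1, hgood2⟩ := hgood
    obtain ⟨hgood1', hgood2'⟩ := hgood'
    simp only [eκ, CommRingCat.hom_comp, CommRingCat.hom_ofHom, RingHom.comp_apply] at hgood1 hgood2 hgood1'
    have hc : c * base b hb b = base b hb a := by
      rw [hc0, mul_comm]
      exact base_mul hb ha
    have hu : IsUnit (κ.hom c) := isUnit_of_cancel κ.hom hc hgood1' (hgood2 b hb)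
    have h1 := U.1.toScheme.basicOpen_of_isUnit hu
    rw [show (κ c : Γ(U.1.toScheme, ⊤)) = U.1.ι.appTop ((Scheme.ΓSpecIso _).inv c) from rfl] at h1
    have h3 := (Scheme.preimage_basicOpen_top U.1.ι ((Scheme.ΓSpecIso _).inv c)).trans h1
    have h4 := h3.ge (Set.mem_univ (⟨q, hqU⟩ : U.1.toScheme))
    rw [basicOpen_eq_of_affine] at h4
    exact h4
  · obtain ⟨q, rfl⟩ : y ∈ Set.range (Proj.awayι _ (gen a ha) (gen_mem a ha) one_pos) := by
      rw [← Proj.opensRange_awayι _ _ (gen_mem a ha) one_pos] at hy; exact hy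
    exact FBlow13.range_subset_chartOpen (str I) isEffCartier_str ha _ (isRep_awayι a ha).1 q

/-- `Proj` of the Rees algebra is the blow-up. -/
theorem isBlowUp_str : BlowUp.IsBlowUp (str I) (FSch.idealSpec A I) := by
  refine isBlowUp_of_isRep_chartOpen _ isEffCartier_str fun a ha => ?_
  rw [chartOpen_str a ha]
  let s := Proj.basicOpenIsoSpec (Rees.deg (reesAlgebra I)) (gen a ha) (gen_mem a ha) one_pos
  have e : (Proj.basicOpen (Rees.deg (reesAlgebra I)) (gen a ha)).ι ≫ str I =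
      s.hom ≫ Proj.awayι _ (gen a ha) (gen_mem a ha) one_pos ≫ str I := by
    rw [← Proj.basicOpenIsoSpec_inv_ι]
    simp [s]
  rw [e]
  refine ⟨(MP99.goodAt_isLocal _ _).res s.hom _ (isRep_awayι a ha).1, fun Z g hg => ?_⟩
  obtain ⟨l, hl, hu⟩ := (isRep_awayι a ha).2 Z g hg
  refine ⟨l ≫ s.inv, ?_, fun m hm => ?_⟩
  · show (l ≫ s.inv) ≫ s.hom ≫ _ = g
    rw [Category.assoc, Iso.inv_hom_id_assoc]; exact hl
  · rw [Iso.eq_comp_inv]
    refine hu _ ?_
    show (m ≫ s.hom) ≫ _ = g
    rw [Category.assoc]; exact hm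

end ReesChart

end Groth.Agent.Div89
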