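import Groth.Agent.QC70.Stalk
import Groth.Agent.QC70.Closure
import Groth.Agent.QC70.FiniteType
import Groth.Prelude.Def_RefPow

/-!
The locus where a map of modules of finite type is bijective on stalks is open.
-/

set_option autoImplicit false
set_option linter.style.haveILetI false
set_option backward.isDefEq.respectTransparency.types false

noncomputable section

universe u

open CategoryTheory CategoryTheory.Limits AlgebraicGeometry Opposite TopologicalSpace
open Groth.Agent.QC70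

namespace Groth.Agent.Div89

variable {X : Scheme.{u}} {M N : X.Modules}

lemma exists_nhd_subsingleton [M.IsFiniteType] {x : X} (h : Subsingleton (M.presheaf.stalk x)) :
    ∃ W : X.Opens, x ∈ W ∧ ∀ y ∈ W, Subsingleton (M.presheaf.stalk y) := by
  obtain ⟨V, ι, _, t, hxV, ht⟩ := exists_locGenBy M x
  choose W hW hxW hz using fun j => germM_eq_zero (Subsingleton.elim (germM M V x hxV (t j)) 0)
  let O : X.Opens := ⟨(V : Set X) ∩ ⋂ j, (W j : Set X), V.2.inter (isOpen_iInter_of_finite fun j => (W j).2)⟩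
  refine ⟨O, ⟨hxV, Set.mem_iInter.2 hxW⟩, fun y hy => ⟨fun a b => ?_⟩⟩
  suffices h0 : ∀ e : M.presheaf.stalk y, e = 0 by rw [h0 a, h0 b]
  intro e
  obtain ⟨W₁, hyW₁, z, rfl⟩ := germM_exist e
  obtain ⟨W', h₁, h₂, a, hy', e'⟩ := ht (W₁ ⊓ V) inf_le_right (res M inf_le_left z) y ⟨hyW₁, hy.1⟩
  rw [← germM_res (h₁.trans inf_le_left) hy', ← res_res inf_le_left h₁, e']
  refine (map_sum _ _ _).trans (Finset.sum_eq_zero fun j _ => ?_)
  have hyWj : y ∈ W j := Set.mem_iInter.1 hy.2 j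
  refine (germM_smul hy' _ _).trans ?_
  rw [germM_res, ← germM_res (hW j) hyWj, hz j]
  exact (congrArg _ (germM_zero hyWj)).trans (smul_zero _)

lemma surjective_stalk_near (φ : M ⟶ N) [N.IsFiniteType] {x : X}
    (h : Function.Surjective (stalkMapM φ x)) :
    ∃ W : X.Opens, x ∈ W ∧ ∀ y ∈ W, Function.Surjective (stalkMapM φ y) := by
  obtain ⟨V, ι, _, t, hxV, ht⟩ := exists_locGenBy N x
  have key : ∀ j, ∃ (W : X.Opens) (hW : W ≤ V) (z : Γ(M, W)), x ∈ W ∧ φ.app W z = res N hW (t j) := by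
    intro j
    obtain ⟨e, he⟩ := h (germM N V x hxV (t j))
    obtain ⟨W₀, hxW₀, z, rfl⟩ := germM_exist e
    rw [stalkMapM_germ] at he
    obtain ⟨W, hxW, i₁, i₂, e'⟩ := TopCat.Presheaf.germ_eq N.presheaf x hxW₀ hxV _ _ he
    exact ⟨W, i₂.le, res M i₁.le z, hxW, by rw [app_res]; exact e'⟩
  choose W hW z hxW hz using key
  let O : X.Opens := ⟨(V : Set X) ∩ ⋂ j, (W j : Set X), V.2.inter (isOpen_iInter_of_finite fun j => (W j).2)⟩
  refine ⟨O, ⟨hxV, Set.mem_iInter.2 hxW⟩, fun y hy e => ?_⟩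
  obtain ⟨W₁, hyW₁, s, rfl⟩ := germM_exist e
  obtain ⟨W', h₁, h₂, a, hy', e'⟩ := ht (W₁ ⊓ V) inf_le_right (res N inf_le_left s) y ⟨hyW₁, hy.1⟩
  refine ⟨∑ j, X.presheaf.germ W' y hy' (a j) •
    germM M (W j) y (Set.mem_iInter.1 hy.2 j) (z j), ?_⟩
  rw [← germM_res (h₁.trans inf_le_left) hy', ← res_res inf_le_left h₁, e']
  refine ((map_sum (stalkLinear φ y) _ _).trans ?_).trans (map_sum _ _ _).symm
  refine Finset.sum_congr rfl fun j _ => ?_
  rw [map_smul]
  refine Eq.trans ?_ (germM_smul hy' _ _).symm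
  rw [germM_res, ← germM_res (hW j) (Set.mem_iInter.1 hy.2 j), ← hz j]
  exact congrArg _ (stalkMapM_germ φ _ _)

lemma injective_stalk_near [IsLocallyNoetherian X] (φ : M ⟶ N) [M.IsQuasicoherent] [M.IsFiniteType]
    [N.IsQuasicoherent] {x : X} (h : Function.Injective (stalkMapM φ x)) :
    ∃ W : X.Opens, x ∈ W ∧ ∀ y ∈ W, Function.Injective (stalkMapM φ y) := by
  haveI : (kernel φ).IsFiniteType := isFiniteType_kernel φ
  let S := ShortComplex.mk (kernel.ι φ) φ (kernel.condition φ)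
  haveI : Mono S.f := inferInstanceAs (Mono (kernel.ι φ))
  have hS : S.Exact := S.exact_of_f_is_kernel (kernelIsKernel φ)
  have hsub : Subsingleton ((kernel φ).presheaf.stalk x) := ⟨fun a b => by
    refine injective_stalkMapM_of_mono (kernel.ι φ) x (h ?_)
    have hz : ∀ c, stalkMapM φ x (stalkMapM (kernel.ι φ) x c) = 0 := fun c => by
      obtain ⟨W, hxW, s, rfl⟩ := germM_exist c
      rw [stalkMapM_germ, stalkMapM_germ]
      rw [show φ.app W ((kernel.ι φ).app W s) = 0 from app_f_g S W s]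
      exact germM_zero hxW
    rw [hz, hz]⟩
  obtain ⟨W, hxW, hW⟩ := exists_nhd_subsingleton (M := kernel φ) hsub
  refine ⟨W, hxW, fun y hy => ?_⟩
  refine (injective_iff_map_eq_zero ((TopCat.Presheaf.stalkFunctor _ y).map φ.mapPresheaf).hom).2
    fun e he => ?_
  obtain ⟨d, hd⟩ := stalkMapM_exact S hS y e he
  haveI := hW y hy
  rw [← hd, Subsingleton.elim d 0]
  exact map_zero _

theorem isOpen_bijective_stalk [IsLocallyNoetherian X] (φ : M ⟶ N) [M.IsQuasicoherent] [M.IsFiniteType]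
    [N.IsQuasicoherent] [N.IsFiniteType] :
    IsOpen {x : X | Function.Bijective (stalkMapM φ x)} := by
  refine isOpen_iff_forall_mem_open.2 fun x hx => ?_
  obtain ⟨V, hxV, hV⟩ := surjective_stalk_near φ hx.2
  obtain ⟨W, hxW, hW⟩ := injective_stalk_near φ hx.1
  exact ⟨(V ⊓ W : X.Opens), fun y hy => ⟨hW y hy.2, hV y hy.1⟩, (V ⊓ W).2, hxV, hxW⟩

lemma isFiniteType_unit (X : Scheme.{u}) : (unitMod X).IsFiniteType := by
  choose V hV hxV _ using fun x : X => exists_isAffineOpen_mem_and_subset (x := x) (U := (⊤ : X.Opens)) trivial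
  refine isFiniteType_of_finite_sections _ V
    (IsOpenCover.mk (top_le_iff.mp fun y _ => Opens.mem_iSup.mpr ⟨y, hxV y⟩)) hV fun x => ?_
  refine ⟨⟨{toUnit (1 : Γ(X, V x))}, eq_top_iff.2 fun z _ => ?_⟩⟩
  rw [Finset.coe_singleton, Submodule.mem_span_singleton]
  exact ⟨z, (smul_unit (U := V x) z 1).trans (congrArg (fun a : Γ(X, V x) => toUnit a) (mul_one (show Γ(X, V x) from z)))⟩

end Groth.Agent.Div89
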