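import Groth.Agent.Div89.Basic
import Groth.Agent.Div89.PolyHeight
import Mathlib.AlgebraicGeometry.OrderOfVanishing
import Mathlib.RingTheory.UniqueFactorizationDomain.Kaplansky
import Mathlib.RingTheory.KrullDimension.Field

/-!
Orders of vanishing on integral locally Noetherian schemes; locally finite families.
-/

set_option autoImplicit false
set_option linter.style.haveILetI false

noncomputable section

universe u

open CategoryTheory AlgebraicGeometry TopologicalSpace Order

namespace Groth.Agent.Div89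

variable {X : Scheme.{u}}

lemma height_primeAt_eq_coheight (V : X.affineOpens) (x : X) (hx : x ∈ V.1) :
    (primeAt V x hx).height = Order.coheight x :=
  WithBot.coe_injective ((ringKrullDim_stalk_eq_height V x hx).symm.trans
    (ringKrullDim_stalk_eq_coheight x))

variable [IsIntegral X] [IsLocallyNoetherian X]

lemma ordHom_germ_of_notMem (V : X.affineOpens) [Nonempty V.1] (x : X) (hx : x ∈ V.1)
    (hc : Order.coheight x = 1) (a : Γ(X, V.1)) (ha : a ∉ primeAt V x hx) :
    X.ordHom x hc (X.germToFunctionField V.1 a) = 1 := by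
  have : Ring.KrullDimLE 1 (X.presheaf.stalk x) := krullDimLE_of_coheight_le hc.le
  rw [← Scheme.algebraMap_germ_eq_germToFunctionField _ hx]
  exact Ring.ordFrac_of_isUnit ((germ_isUnit_iff V x hx a).2 ha)

lemma ordHom_germ_of_span_eq (V : X.affineOpens) [Nonempty V.1] (x : X) (hx : x ∈ V.1)
    (hc : Order.coheight x = 1) (a : Γ(X, V.1)) (ha : primeAt V x hx = Ideal.span {a}) :
    X.ordHom x hc (X.germToFunctionField V.1 a) = WithZero.exp 1 := by
  have : Ring.KrullDimLE 1 (X.presheaf.stalk x) := krullDimLE_of_coheight_le hc.le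
  have hm : IsLocalRing.maximalIdeal (X.presheaf.stalk x) =
      Ideal.span {(X.presheaf.germ V.1 x hx).hom a} := by
    letI := stalkAlg V.1 x hx
    haveI := isLocalization_stalk V x hx
    rw [← IsLocalization.AtPrime.map_eq_maximalIdeal (primeAt V x hx), ha, Ideal.map_span,
      Set.image_singleton]
    rfl
  have hnf : ¬ IsField (X.presheaf.stalk x) := fun hf => by
    have := ringKrullDim_stalk_eq_coheight x
    rw [hc, ringKrullDim_eq_zero_of_isField hf] at this
    exact absurd this (by simp)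
  haveI : IsDiscreteValuationRing (X.presheaf.stalk x) := by
    have hpr : (IsLocalRing.maximalIdeal (X.presheaf.stalk x)).IsPrincipal := ⟨⟨_, hm⟩⟩
    exact ((IsDiscreteValuationRing.TFAE _ hnf).out 4 0).1 hpr
  rw [← Scheme.algebraMap_germ_eq_germToFunctionField _ hx]
  exact Ring.ordFrac_irreducible ((IsDiscreteValuationRing.irreducible_iff_uniformizer _).2 hm)

lemma ord_germ_eq_zero_of_notMem (V : X.affineOpens) [Nonempty V.1] (x : X) (hx : x ∈ V.1)
    (a : Γ(X, V.1)) (ha : a ∉ primeAt V x hx) :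
    Scheme.ord (X.germToFunctionField V.1 a) x = 0 := by
  by_cases hc : Order.coheight x = 1
  · rw [Scheme.ord_eq_ordHom_of_coheight_eq_one hc, ordHom_germ_of_notMem V x hx hc a ha]
    rfl
  · exact Scheme.ord_eq_zero_of_coheight_neq_one hc _

lemma finite_ord_ne_zero_inter_affine (V : X.affineOpens) [hne : Nonempty V.1] (f : X.functionField)
    (hf : f ≠ 0) :
    {x : X | x ∈ V.1 ∧ Order.coheight x = 1 ∧ Scheme.ord f x ≠ 0}.Finite := by
  haveI := functionField_isFractionRing_of_isAffineOpen X V.1 V.2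
  haveI := IsLocallyNoetherian.component_noetherian V
  obtain ⟨⟨a, b⟩, hab⟩ := IsLocalization.surj (nonZeroDivisors Γ(X, V.1)) f
  change f * X.germToFunctionField V.1 b.1 = X.germToFunctionField V.1 a at hab
  have hb : (X.germToFunctionField V.1 b.1 : X.functionField) ≠ 0 :=
    (map_ne_zero_iff _ (X.germToFunctionField_injective V.1)).2 (nonZeroDivisors.ne_zero b.2)
  have ha : a ≠ 0 := fun h => by
    rw [h, map_zero, mul_eq_zero] at hab
    exact hab.elim hf hb
  refine Set.Finite.subset (s := Subtype.val '' ({x : V.1 | primeAt V x.1 x.2 ∈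
    (Ideal.span {a}).minimalPrimes ∪ (Ideal.span {b.1}).minimalPrimes})) (Set.Finite.image _ ?_) ?_
  · exact Set.Finite.preimage (f := fun x : V.1 => primeAt V x.1 x.2)
      (fun x _ y _ h => Subtype.ext (primeAt_inj V x.2 y.2 h))
      ((Ideal.finite_minimalPrimes_of_isNoetherianRing (R := Γ(X, V.1)) (Ideal.span {a})).union
        (Ideal.finite_minimalPrimes_of_isNoetherianRing (R := Γ(X, V.1)) (Ideal.span {b.1})))
  rintro x ⟨hx, hc, hord⟩
  have hh : (primeAt V x hx).height = 1 := (height_primeAt_eq_coheight V x hx).trans hc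
  have key : ∀ c : Γ(X, V.1), c ≠ 0 → c ∈ primeAt V x hx →
      primeAt V x hx ∈ (Ideal.span {c}).minimalPrimes := fun c hc0 hcm => by
    refine ⟨⟨inferInstance, (Ideal.span_singleton_le_iff_mem _).2 hcm⟩, fun q hq hle => ?_⟩
    haveI := hq.1
    rw [eq_of_le_of_height_eq_one hh hle fun h => hc0 (by simpa [h] using hq.2)]
  refine ⟨⟨x, hx⟩, ?_, rfl⟩
  by_contra hmin
  have h1 : a ∉ primeAt V x hx := fun h => hmin (Or.inl (key a ha h))
  have h2 : b.1 ∉ primeAt V x hx := fun h => hmin (Or.inr (key _ (nonZeroDivisors.ne_zero b.2) h))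
  refine hord ?_
  have := Scheme.ord_mul (x := x) hf hb
  rw [hab, ord_germ_eq_zero_of_notMem V x hx a h1, ord_germ_eq_zero_of_notMem V x hx b.1 h2,
    add_zero] at this
  exact this.symm

theorem locallyFinite_ord (f : X.functionField) (hf : f ≠ 0) :
    LocallyFinite (fun ξ : {ξ : X // Order.coheight ξ = 1 ∧ Scheme.ord f ξ ≠ 0} =>
      closure ({ξ.1} : Set X)) := by
  intro x
  obtain ⟨V, hV⟩ := exists_affine_mem x
  haveI : Nonempty V.1 := ⟨⟨x, hV⟩⟩
  refine ⟨V.1, V.1.isOpen.mem_nhds hV, ?_⟩
  refine Set.Finite.subset ((finite_ord_ne_zero_inter_affine V f hf).preimage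
    (f := fun ξ : {ξ : X // Order.coheight ξ = 1 ∧ Scheme.ord f ξ ≠ 0} => ξ.1)
    (Subtype.val_injective.injOn)) ?_
  rintro ξ ⟨y, hy, hyV⟩
  exact ⟨(specializes_iff_mem_closure.2 hy).mem_open V.1.isOpen hyV, ξ.2⟩

theorem locallyFinite_irreducibleComponents {Y : Scheme.{u}} [IsLocallyNoetherian Y] (Z : Set Y) :
    LocallyFinite (fun T : irreducibleComponents Z => ((↑) '' (T.1 : Set Z) : Set Y)) := by
  intro x
  obtain ⟨V, hV⟩ := exists_affine_mem x
  haveI := IsLocallyNoetherian.component_noetherian V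
  haveI := noetherianSpace_of_isAffineOpen V.1 V.2
  refine ⟨V.1, V.1.isOpen.mem_nhds hV, ?_⟩
  let W : Set Z := Subtype.val ⁻¹' (V.1 : Set Y)
  have hWo : IsOpen W := V.1.isOpen.preimage continuous_subtype_val
  haveI : NoetherianSpace W := by
    have hind : Topology.IsInducing (fun w : W => (⟨w.1.1, w.2⟩ : (V.1 : Set Y))) :=
      (Topology.IsInducing.of_comp_iff Topology.IsInducing.subtypeVal).1
        ((Topology.IsInducing.subtypeVal (t := Z)).comp (Topology.IsInducing.subtypeVal (t := W)))
    haveI : NoetherianSpace (V.1 : Set Y) := noetherianSpace_of_isAffineOpen V.1 V.2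
    exact hind.noetherianSpace
  have hmem : ∀ T : irreducibleComponents Z,
      ((↑) '' (T.1 : Set Z) ∩ (V.1 : Set Y) : Set Y).Nonempty →
        (Subtype.val : W → Z) ⁻¹' T.1 ∈ irreducibleComponents W := by
    rintro T ⟨_, ⟨z, hz, rfl⟩, hzV⟩
    refine preimage_mem_irreducibleComponents_of_isPreirreducible_fiber T.2 continuous_subtype_val
      hWo.isOpenMap_subtype_val (fun z => ?_) ⟨z, hz, ⟨z, hzV⟩, rfl⟩
    exact (Set.subsingleton_singleton.preimage Subtype.val_injective).isPreirreducible
  refine Set.Finite.of_finite_image (f := fun T : irreducibleComponents Z => (Subtype.val : W → Z) ⁻¹' T.1)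
    ((NoetherianSpace.finite_irreducibleComponents (α := W)).subset ?_) ?_
  · rintro _ ⟨T, hT, rfl⟩
    exact hmem T hT
  · intro S hS T hT h
    have hcl : ∀ U : irreducibleComponents Z,
        ((↑) '' (U.1 : Set Z) ∩ (V.1 : Set Y) : Set Y).Nonempty → closure (U.1 ∩ W) = U.1 := by
      rintro U ⟨_, ⟨z, hz, rfl⟩, hzV⟩
      refine subset_antisymm ((isClosed_of_mem_irreducibleComponents _ U.2).closure_subset_iff.2
        Set.inter_subset_left) ?_
      exact subset_closure_inter_of_isPreirreducible_of_isOpen U.2.1.2 hWo ⟨z, hz, hzV⟩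
    have h' := congrArg (fun s => (Subtype.val : W → Z) '' s) h
    simp only [Subtype.image_preimage_coe] at h'
    refine Subtype.ext ?_
    rw [← hcl S hS, ← hcl T hT, Set.inter_comm, h', Set.inter_comm]

theorem exists_principal_of_ufm (A : Type u) [CommRing A] [IsDomain A] [IsNoetherianRing A]
    [UniqueFactorizationMonoid A]
    (D : Spec (CommRingCat.of A) → ℤ) (hD : ∀ x, Order.coheight x ≠ 1 → D x = 0)
    (hfin : {x | D x ≠ 0}.Finite) :
    ∃ f : (Spec (CommRingCat.of A)).functionField, f ≠ 0 ∧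
      ∀ x, Order.coheight x = 1 → Scheme.ord f x = D x := by
  classical
  let R := CommRingCat.of A
  let V : (Spec R).affineOpens := ⟨⊤, isAffineOpen_top _⟩
  haveI : Nonempty V.1 := ⟨⟨IsLocalRing.closedPoint (FractionRing A) |>.comap (algebraMap A _), trivial⟩⟩
  let g : A → Γ(Spec R, ⊤) := (Scheme.ΓSpecIso R).inv
  have hmem : ∀ (y : Spec R) (a : A), g a ∈ primeAt V y trivial ↔ a ∈ y.asIdeal := fun y a => by
    rw [mem_primeAt_iff V y trivial]
    erw [basicOpen_eq_of_affine (R := R) a]
    exact not_not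
  have hπ : ∀ y : Spec R, Order.coheight y = 1 →
      ∃ π : A, π ≠ 0 ∧ y.asIdeal = Ideal.span {π} := by
    intro y hy
    have hh : y.asIdeal.height = 1 := (idealHeight_eq_coheight R y).trans hy
    have hne : y.asIdeal ≠ ⊥ := fun h => by simp [h] at hh
    obtain ⟨π, hπm, hπp⟩ := Ideal.IsPrime.exists_mem_prime_of_ne_bot y.2 hne
    haveI := (Ideal.span_singleton_prime hπp.ne_zero).2 hπp
    haveI : (y.asIdeal : Ideal A).IsPrime := y.2
    exact ⟨π, hπp.ne_zero, (eq_of_le_of_height_eq_one (R := A) hh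
      ((Ideal.span_singleton_le_iff_mem _).2 hπm) (by simpa using hπp.ne_zero)).symm⟩
  choose! π hπ0 hπs using hπ
  let φ : A → (Spec R).functionField := fun a => (Spec R).germToFunctionField ⊤ (g a)
  have hφ : ∀ a, a ≠ 0 → φ a ≠ 0 := fun a ha => by
    refine (map_ne_zero_iff _ ((Spec R).germToFunctionField_injective V.1)).2 ?_
    exact (map_ne_zero_iff _ (ConcreteCategory.bijective_of_isIso (Scheme.ΓSpecIso R).inv).1).2 ha
  have hS : ∀ x ∈ hfin.toFinset, Order.coheight x = 1 := fun x hx =>
    by_contra fun h => (hfin.mem_toFinset.1 hx) (hD x h)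
  let f : (Spec R).functionField := ∏ x ∈ hfin.toFinset, φ (π x) ^ D x
  have hf : f ≠ 0 := Finset.prod_ne_zero_iff.2 fun x hx => zpow_ne_zero _ (hφ _ (hπ0 x (hS x hx)))
  refine ⟨f, hf, fun y hy => ?_⟩
  rw [Scheme.ord_eq_iff hy hf, map_prod]
  simp only [map_zpow₀]
  have key : ∀ x ∈ hfin.toFinset, (Spec R).ordHom y hy (φ (π x)) =
      if x = y then WithZero.exp 1 else 1 := by
    intro x hx
    split_ifs with h
    · subst h
      refine ordHom_germ_of_span_eq V x trivial hy _ (Ideal.ext fun c => ?_)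
      obtain ⟨c, rfl⟩ := (ConcreteCategory.bijective_of_isIso (Scheme.ΓSpecIso R).inv).2 c
      rw [show ((Scheme.ΓSpecIso R).inv c) = g c from rfl, hmem, hπs x hy, Ideal.mem_span_singleton,
        Ideal.mem_span_singleton]
      exact (map_dvd_iff (Scheme.ΓSpecIso R).symm.commRingCatIsoToRingEquiv).symm
    · refine ordHom_germ_of_notMem V y trivial hy _ fun hc => h ?_
      rw [hmem] at hc
      haveI : (x.asIdeal : Ideal A).IsPrime := x.2
      haveI : (y.asIdeal : Ideal A).IsPrime := y.2
      refine PrimeSpectrum.ext (eq_of_le_of_height_eq_one (R := A)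
        ((idealHeight_eq_coheight R y).trans hy) ?_ ?_)
      · rw [hπs x (hS x hx)]; exact (Ideal.span_singleton_le_iff_mem _).2 hc
      · rw [hπs x (hS x hx)]; simpa using hπ0 x (hS x hx)
  rw [Finset.prod_congr rfl (g := fun x => if x = y then WithZero.exp 1 ^ D x else 1)
    (fun x hx => by rw [key x hx]; split_ifs <;> simp), Finset.prod_ite_eq']
  split_ifs with h
  · rw [← WithZero.exp_zsmul, zsmul_eq_mul, mul_one]; rfl
  · rw [Set.Finite.mem_toFinset, Set.mem_setOf_eq, not_not] at h
    rw [h]; rfl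

end Groth.Agent.Div89
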