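import Groth.Agent.Div89.Pullback

/-!
Formal consequences of the universal property of a blowing up.
-/

set_option autoImplicit false
set_option linter.style.haveILetI false
set_option backward.isDefEq.respectTransparency.types false

noncomputable section

universe u

open CategoryTheory AlgebraicGeometry Opposite TopologicalSpace nonZeroDivisors

namespace Groth.Agent.Div89

variable {X X' : Scheme.{u}}

lemma isEffCartier_of_support_empty {I : X.IdealSheafData} (h : ∀ x, x ∉ I.support) :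
    BlowUp.IsEffCartierIdeal I := by
  have : I = ⊤ := ext_stalkIdeal fun x => by
    rw [stalkIdeal_top, (notMem_support_iff_stalkIdeal I x).1 (h x)]
  rw [this]
  exact isEffCartier_top

lemma notMem_support_comap {Y : Scheme.{u}} (g : Y ⟶ X) (I : X.IdealSheafData) (y : Y)
    (h : g y ∉ I.support) : y ∉ (I.comap g).support := by
  rw [Scheme.IdealSheafData.support_comap]
  exact h

theorem isIso_off_center {I : X.IdealSheafData} {b : X' ⟶ X} (hb : BlowUp.IsBlowUp b I) :
    IsIso (b ∣_ I.support.compl) := by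
  let U : X.Opens := I.support.compl
  have hUI : BlowUp.IsEffCartierIdeal (I.comap U.ι) :=
    isEffCartier_of_support_empty fun u => notMem_support_comap U.ι I u u.2
  obtain ⟨s, hs, hsu⟩ := hb.2 _ U.ι hUI
  have hrange : Set.range s ⊆ Set.range (b ⁻¹ᵁ U).ι := by
    rintro _ ⟨u, rfl⟩
    rw [Scheme.Opens.range_ι]
    show b (s u) ∈ U
    rw [← Scheme.Hom.comp_apply, hs]
    exact u.2
  let t := IsOpenImmersion.lift (b ⁻¹ᵁ U).ι s hrange
  refine ⟨t, ?_, ?_⟩
  · rw [← cancel_mono (b ⁻¹ᵁ U).ι, Category.assoc, IsOpenImmersion.lift_fac, Category.id_comp]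
    have hW : BlowUp.IsEffCartierIdeal (I.comap ((b ⁻¹ᵁ U).ι ≫ b)) :=
      isEffCartier_of_support_empty fun u => notMem_support_comap _ I u u.2
    exact (hb.2 _ _ hW).unique (by rw [Category.assoc, hs, morphismRestrict_ι]) rfl
  · rw [← cancel_mono U.ι, Category.assoc, morphismRestrict_ι, IsOpenImmersion.lift_fac_assoc,
      Category.id_comp]
    exact hs

lemma isIso_stalkMap_off_center {I : X.IdealSheafData} {b : X' ⟶ X} (hb : BlowUp.IsBlowUp b I)
    (x : X') (hx : x ∉ (I.comap b).support) : IsIso (b.stalkMap x) := by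
  haveI := isIso_off_center hb
  have hx' : x ∈ b ⁻¹ᵁ I.support.compl := by
    rw [Scheme.IdealSheafData.support_comap] at hx
    exact hx
  let e := morphismRestrictStalkMap b I.support.compl ⟨x, hx'⟩
  exact ((MorphismProperty.isomorphisms CommRingCat).arrow_mk_iso_iff e).1
    (show IsIso _ from inferInstance)

lemma germ_mem_nonZeroDivisors_of_off_exceptional {E : X'.IdealSheafData}
    (hE : BlowUp.IsEffCartierIdeal E) {V : X'.Opens} (a : Γ(X', V))
    (h : ∀ z (hz : z ∈ V), z ∉ E.support → (X'.presheaf.germ V z hz).hom a ∈ (X'.presheaf.stalk z)⁰)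
    (x : X') (hx : x ∈ V) : (X'.presheaf.germ V x hx).hom a ∈ (X'.presheaf.stalk x)⁰ := by
  obtain ⟨W, hxW, hWV⟩ := exists_affine_le hx
  rw [← X'.presheaf.germ_res_apply (homOfLE hWV) x hxW a]
  refine germ_mem_nonZeroDivisors W (mem_nonZeroDivisors_iff_left.2 fun c hc => ?_) x hxW
  refine res_injective_compl_support hE W.1 ?_
  rw [map_zero]
  refine TopCat.Presheaf.section_ext X'.sheaf (W.1 ⊓ E.support.compl) _ 0 fun z hz => ?_
  show X'.presheaf.germ _ z hz _ = X'.presheaf.germ _ z hz 0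
  rw [map_zero, TopCat.Presheaf.germ_res_apply]
  refine (mem_nonZeroDivisors_iff_left.1 (h z (hWV hz.1) hz.2)) _ ?_
  rw [← X'.presheaf.germ_res_apply (homOfLE hWV) z hz.1 a, ← map_mul]
  exact (congrArg _ hc).trans (map_zero _)

theorem isEffCartier_comap_blowUp {I : X.IdealSheafData} {b : X' ⟶ X} (hb : BlowUp.IsBlowUp b I)
    {D : X.IdealSheafData} (hD : BlowUp.IsEffCartierIdeal D) :
    BlowUp.IsEffCartierIdeal (D.comap b) := by
  refine isEffCartier_comap_of_stalk b hD fun x g _ hgI => ?_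
  obtain ⟨U, hxU, a, ha0, ha⟩ := hD (b x)
  have ha' : (X'.presheaf.germ (b ⁻¹ᵁ U.1) x hxU).hom (b.app U.1 a) ∈ (X'.presheaf.stalk x)⁰ := by
    refine germ_mem_nonZeroDivisors_of_off_exceptional hb.1 _ (fun z hz hzE => ?_) x hxU
    haveI := isIso_stalkMap_off_center hb z hzE
    have := flat_map_nonZeroDivisors
      (RingHom.Flat.of_bijective (ConcreteCategory.bijective_of_isIso (b.stalkMap z)))
      (germ_mem_nonZeroDivisors U ha0 (b z) hz)
    erw [Scheme.Hom.germ_stalkMap_apply] at this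
    exact this
  have hspan := (stalkIdeal_eq_span ha (b x) hxU).symm.trans hgI
  have hmap := congrArg (Ideal.map (b.stalkMap x).hom) hspan
  rw [Ideal.map_span, Ideal.map_span, Set.image_singleton, Set.image_singleton] at hmap
  refine generator_mem_nonZeroDivisors ha' (hmap.symm.trans ?_)
  congr 2
  erw [Scheme.Hom.germ_stalkMap_apply]

theorem app_mem_regSub_blowUp {I : X.IdealSheafData} {b : X' ⟶ X} (hb : BlowUp.IsBlowUp b I)
    (U : X.Opens) (s : Γ(X, U)) (hs : s ∈ Mero.regSub X U) :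
    b.app U s ∈ Mero.regSub X' (b ⁻¹ᵁ U) := by
  rintro ⟨x, hx⟩
  refine germ_mem_nonZeroDivisors_of_off_exceptional hb.1 _ (fun z hz hzE => ?_) x hx
  haveI := isIso_stalkMap_off_center hb z hzE
  have := flat_map_nonZeroDivisors
    (RingHom.Flat.of_bijective (ConcreteCategory.bijective_of_isIso (b.stalkMap z)))
    (hs ⟨b z, hz⟩)
  erw [Scheme.Hom.germ_stalkMap_apply] at this
  exact this

theorem isReduced_blowUp [IsReduced X] {I : X.IdealSheafData} {b : X' ⟶ X}
    (hb : BlowUp.IsBlowUp b I) : IsReduced X' := by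
  refine ⟨fun W => ⟨fun s hs => ?_⟩⟩
  refine res_injective_compl_support hb.1 W ?_
  rw [map_zero]
  refine TopCat.Presheaf.section_ext X'.sheaf (W ⊓ (I.comap b).support.compl) _ 0 fun z hz => ?_
  show X'.presheaf.germ _ z hz _ = X'.presheaf.germ _ z hz 0
  rw [map_zero, TopCat.Presheaf.germ_res_apply]
  haveI := isIso_stalkMap_off_center hb z hz.2
  have hbij := ConcreteCategory.bijective_of_isIso (b.stalkMap z)
  haveI : _root_.IsReduced (X'.presheaf.stalk z) :=
    isReduced_of_injective (RingEquiv.ofBijective (b.stalkMap z).hom hbij).symm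
      (RingEquiv.ofBijective (b.stalkMap z).hom hbij).symm.injective
  exact (hs.map (X'.presheaf.germ W z hz.1).hom).eq_zero

theorem isBlowUp_mul_effCartier {I D : X.IdealSheafData} (hD : BlowUp.IsEffCartierIdeal D)
    {b : X' ⟶ X} (hb : BlowUp.IsBlowUp b I) : BlowUp.IsBlowUp b (I * D) := by
  refine ⟨?_, fun Y g hg => hb.2 Y g ?_⟩
  · rw [comap_mul]
    exact isEffCartier_mul hb.1 (isEffCartier_comap_blowUp hb hD)
  · rw [comap_mul] at hg
    exact isEffCartier_left_of_mul hg

theorem isBlowUp_comp {X'' : Scheme.{u}} {I J : X.IdealSheafData} {b : X' ⟶ X}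
    (hb : BlowUp.IsBlowUp b I) {b' : X'' ⟶ X'} (hb' : BlowUp.IsBlowUp b' (J.comap b)) :
    BlowUp.IsBlowUp (b' ≫ b) (I * J) := by
  refine ⟨?_, fun Y g hg => ?_⟩
  · rw [comap_mul, Scheme.IdealSheafData.comap_comp, Scheme.IdealSheafData.comap_comp]
    exact isEffCartier_mul (isEffCartier_comap_blowUp hb' hb.1) hb'.1
  · rw [comap_mul] at hg
    obtain ⟨h, hh, hhu⟩ := hb.2 Y g (isEffCartier_left_of_mul hg)
    have hJ : BlowUp.IsEffCartierIdeal ((J.comap b).comap h) := by
      rw [← Scheme.IdealSheafData.comap_comp, hh]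
      exact isEffCartier_right_of_mul hg
    obtain ⟨k, hk, hku⟩ := hb'.2 Y h hJ
    refine ⟨k, show k ≫ b' ≫ b = g by rw [← Category.assoc, hk, hh], fun k' hk' => hku k' ?_⟩
    exact hhu _ ((Category.assoc _ _ _).trans hk')

open Limits in
theorem isBlowUp_flat_baseChange {X₁ : Scheme.{u}} (g : X₁ ⟶ X) [Flat g] {I : X.IdealSheafData}
    {b : X' ⟶ X} (hb : BlowUp.IsBlowUp b I) :
    BlowUp.IsBlowUp (pullback.fst g b) (I.comap g) := by
  refine ⟨?_, fun Y h hh => ?_⟩
  · rw [← Scheme.IdealSheafData.comap_comp, pullback.condition, Scheme.IdealSheafData.comap_comp]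
    exact isEffCartier_comap_of_flat (pullback.snd g b) hb.1
  · rw [← Scheme.IdealSheafData.comap_comp] at hh
    obtain ⟨k, hk, hku⟩ := hb.2 Y (h ≫ g) hh
    refine ⟨pullback.lift h k hk.symm, pullback.lift_fst _ _ _, fun l hl => ?_⟩
    refine pullback.hom_ext (hl.trans (pullback.lift_fst _ _ _).symm) ?_
    rw [pullback.lift_snd]
    exact hku _ (show (l ≫ pullback.snd g b) ≫ b = h ≫ g by
      rw [Category.assoc, ← pullback.condition, ← Category.assoc, hl])

lemma notMem_exceptional_of_maximal {E : X'.IdealSheafData} (hE : BlowUp.IsEffCartierIdeal E)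
    (x : X') (hx : ∀ y : X', y ⤳ x → y = x) : x ∉ E.support := by
  obtain ⟨g, hg, hgE⟩ := exists_stalk_generator hE x
  rw [notMem_support_iff_stalkIdeal, hgE, Ideal.span_singleton_eq_top]
  exact isUnit_of_nonZeroDivisor_of_maximal x hx hg

theorem bijOn_maximalPoints {I : X.IdealSheafData} {b : X' ⟶ X} (hb : BlowUp.IsBlowUp b I) :
    Set.BijOn (fun x' => b x') {x' : X' | ∀ y : X', y ⤳ x' → y = x'}
      {x : X | (∀ y : X, y ⤳ x → y = x) ∧ x ∉ I.support} := by
  haveI := isIso_off_center hb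
  let U : X.Opens := I.support.compl
  have hmem : ∀ x' : X', (∀ y : X', y ⤳ x' → y = x') → b x' ∈ U := fun x' hx' => by
    have := notMem_exceptional_of_maximal hb.1 x' hx'
    rw [Scheme.IdealSheafData.support_comap] at this
    exact this
  let e : (b ⁻¹ᵁ U).toScheme ≃ₜ U.toScheme := (b ∣_ U).homeomorph
  have he : ∀ z, (e z).1 = b z.1 := fun z => morphismRestrict_base_coe b U z
  refine ⟨fun x' hx' => ⟨fun y hy => ?_, hmem x' hx'⟩, fun x₁ h₁ x₂ h₂ h => ?_, fun x hx => ?_⟩
  · have hyU : y ∈ U := mem_affine_of_specializes hy (hmem x' hx')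
    have hs : (⟨y, hyU⟩ : U.toScheme) ⤳ e ⟨x', hmem x' hx'⟩ :=
      Topology.IsInducing.subtypeVal.specializes_iff.1 (by rw [he]; exact hy)
    have hs' := hs.map e.symm.continuous
    rw [e.symm_apply_apply] at hs'
    have h := hx' _ (hs'.map continuous_subtype_val)
    have h2 := congrArg Subtype.val (congrArg e (Subtype.ext (a2 := ⟨x', hmem x' hx'⟩) h))
    rw [e.apply_symm_apply, he] at h2
    exact h2
  · have := e.injective (a₁ := ⟨x₁, hmem x₁ h₁⟩) (a₂ := ⟨x₂, hmem x₂ h₂⟩)
      (Subtype.ext (by rw [he, he]; exact h))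
    exact congrArg Subtype.val this
  · obtain ⟨⟨x', hx'⟩, hex⟩ := e.surjective ⟨x, hx.2⟩
    have hbx : b x' = x := by
      have := congrArg Subtype.val hex
      rwa [he] at this
    refine ⟨x', fun y hy => ?_, hbx⟩
    have hyU : b y ∈ U := mem_affine_of_specializes (hy.map b.continuous) (hbx ▸ hx.2)
    have := hx.1 (b y) (hbx ▸ hy.map b.continuous)
    exact congrArg Subtype.val (e.injective (a₁ := ⟨y, hyU⟩) (a₂ := ⟨x', hx'⟩)
      (Subtype.ext (by rw [he, he]; exact this.trans hbx.symm)))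

end Groth.Agent.Div89
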