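import Mathlib.RingTheory.Flat.Equalizer
import Mathlib.RingTheory.Flat.Tensor
import Mathlib.RingTheory.Localization.BaseChange
import Mathlib.RingTheory.Flat.Localization
import Mathlib.RingTheory.RingHom.Flat
import Mathlib.Algebra.Category.Ring.Constructions
import Mathlib.RingTheory.Nakayama
import Mathlib.RingTheory.TensorProduct.Finite

/-!
Algebra of relative effective Cartier divisors: a non-zero-divisor `g` of `B` with `B/gB` flat over `R`.
-/

set_option autoImplicit false
set_option linter.style.haveILetI false

universe u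

open TensorProduct nonZeroDivisors

namespace Groth.Agent.Div89

variable {R : Type u} [CommRing R] {B : Type u} [CommRing B] [Algebra R B] {g : B}

lemma exact_mul_mk (g : B) : Function.Exact (LinearMap.mulLeft R g)
    ((Ideal.Quotient.mkₐ R (Ideal.span {g})).toLinearMap) := fun b => by
  show Ideal.Quotient.mk (Ideal.span {g}) b = 0 ↔ b ∈ Set.range fun x => g * x
  rw [Ideal.Quotient.eq_zero_iff_mem, Ideal.mem_span_singleton]
  exact ⟨fun ⟨c, hc⟩ => ⟨c, hc.symm⟩, fun ⟨c, hc⟩ => ⟨c, hc.symm⟩⟩

lemma smul_eq_rTensor_mulLeft {P : Type u} [AddCommGroup P] [Module R P] (b : B) (t : B ⊗[R] P) :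
    b • t = (LinearMap.mulLeft R b).rTensor P t := by
  induction t with
  | zero => simp
  | add x y hx hy => simp [smul_add, hx, hy]
  | tmul x y => simp [smul_tmul']

lemma rTensor_mulLeft_injective (hg : g ∈ B⁰) [Module.Flat R (B ⧸ Ideal.span {g})]
    (P : Type u) [AddCommGroup P] [Module R P] :
    Function.Injective ((LinearMap.mulLeft R g).rTensor P) :=
  (LinearMap.lTensor_inj_iff_rTensor_inj P (LinearMap.mulLeft R g)).1
    (LinearMap.lTensor_injective_of_exact_of_flat _ Ideal.Quotient.mk_surjective _
      (fun x y h => (isRegular_iff_mem_nonZeroDivisors.2 hg).left h) (exact_mul_mk g) P)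

lemma tmul_one_mem_nonZeroDivisors (hg : g ∈ B⁰) [Module.Flat R (B ⧸ Ideal.span {g})]
    (R' : Type u) [CommRing R'] [Algebra R R'] : (g ⊗ₜ[R] (1 : R')) ∈ (B ⊗[R] R')⁰ := by
  have h : ∀ t : B ⊗[R] R', (LinearMap.mulLeft R g).rTensor R' t = g ⊗ₜ[R] (1 : R') * t := fun t => by
    induction t with
    | zero => simp
    | add x y hx hy => simp [mul_add, hx, hy]
    | tmul x y => simp
  refine mem_nonZeroDivisors_iff_left.2 fun t ht => rTensor_mulLeft_injective hg R' ?_
  rw [h, ht, map_zero]

lemma exists_smul_eq_zero_of_flat_localization (q : Ideal B) [q.IsPrime]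
    [Module.Flat R (Localization.AtPrime q)] (I : Ideal R) (t : B ⊗[R] I)
    (ht : I.subtype.lTensor B t = 0) : ∃ s ∉ q, s • t = 0 := by
  let l : B →ₗ[B] Localization.AtPrime q := Algebra.linearMap B (Localization.AtPrime q)
  haveI : IsLocalizedModule q.primeCompl (AlgebraTensorModule.rTensor R I l) := inferInstance
  have hcomm : ∀ t : B ⊗[R] I, I.subtype.lTensor (Localization.AtPrime q)
      (AlgebraTensorModule.rTensor R I l t) = (l.restrictScalars R).rTensor R (I.subtype.lTensor B t) :=
    fun t => by
      induction t with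
      | zero => simp
      | add x y hx hy => simp only [map_add, hx, hy]
      | tmul x y => rfl
  have h0 : AlgebraTensorModule.rTensor R I l t = AlgebraTensorModule.rTensor R I l 0 := by
    rw [map_zero]
    apply Module.Flat.lTensor_preserves_injective_linearMap (M := Localization.AtPrime q) I.subtype
      Subtype.val_injective
    rw [hcomm, ht, map_zero, map_zero]
  obtain ⟨c, hc⟩ := (IsLocalizedModule.eq_iff_exists q.primeCompl _).1 h0
  exact ⟨c.1, c.2, by simpa [Submonoid.smul_def] using hc⟩

theorem flat_of_flat_quot_of_flat_away (hg : g ∈ B⁰) [Module.Flat R (B ⧸ Ideal.span {g})]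
    (h : ∀ (q : Ideal B) [q.IsPrime], g ∉ q → Module.Flat R (Localization.AtPrime q)) :
    Module.Flat R B := by
  refine Module.Flat.iff_lTensor_injective.2 fun I _ => (injective_iff_map_eq_zero _).2 fun t ht => ?_
  have hrad : g ∈ (Submodule.span B {t}).annihilator.radical := by
    rw [Ideal.radical_eq_sInf, Ideal.mem_sInf]
    rintro q ⟨hle, hq⟩
    by_contra hgq
    haveI := hq
    haveI := h q hgq
    obtain ⟨s, hs, hst⟩ := exists_smul_eq_zero_of_flat_localization q I t ht
    exact hs (hle ((Submodule.mem_annihilator_span_singleton t s).2 hst))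
  obtain ⟨n, hn⟩ := hrad
  rw [Submodule.mem_annihilator_span_singleton] at hn
  clear ht
  induction n generalizing t with
  | zero => simpa using hn
  | succ n ih =>
    rw [pow_succ, mul_smul] at hn
    have h1 := ih _ hn
    rw [smul_eq_rTensor_mulLeft] at h1
    exact rTensor_mulLeft_injective hg I (by rw [h1, map_zero])

theorem flat_of_flat_quot_local [IsNoetherianRing B] [IsLocalRing B] (hg : g ∈ B⁰)
    (hgm : g ∈ IsLocalRing.maximalIdeal B) [Module.Flat R (B ⧸ Ideal.span {g})] :
    Module.Flat R B := by
  refine Module.Flat.iff_lTensor_injective.2 fun I hI => ?_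
  haveI : Module.Finite R I := Module.Finite.of_fg hI
  let φ : B ⊗[R] I →ₗ[B] B ⊗[R] R := AlgebraTensorModule.lTensor B B I.subtype
  suffices LinearMap.ker φ = ⊥ from fun x y h => (LinearMap.ker_eq_bot.1 this :) h
  refine Submodule.eq_bot_of_le_smul_of_le_jacobson_bot (Ideal.span {g}) _ (IsNoetherian.noetherian _) ?_
    (((Ideal.span_singleton_le_iff_mem _).2 hgm).trans (IsLocalRing.maximalIdeal_le_jacobson ⊥))
  intro t ht
  let π := (Ideal.Quotient.mkₐ R (Ideal.span {g})).toLinearMap
  have h0 : π.rTensor I t = 0 := by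
    apply Module.Flat.lTensor_preserves_injective_linearMap (M := B ⧸ Ideal.span {g}) I.subtype
      Subtype.val_injective
    rw [map_zero, ← LinearMap.comp_apply, LinearMap.lTensor_comp_rTensor, ← LinearMap.rTensor_comp_lTensor,
      LinearMap.comp_apply]
    rw [show I.subtype.lTensor B t = 0 from ht, map_zero]
  obtain ⟨t', rfl⟩ := (rTensor_exact I (exact_mul_mk g) Ideal.Quotient.mk_surjective t).1 h0
  rw [← smul_eq_rTensor_mulLeft] at ht ⊢
  refine Submodule.smul_mem_smul (Ideal.mem_span_singleton_self g) ?_
  rw [LinearMap.mem_ker, map_smul, smul_eq_rTensor_mulLeft] at ht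
  exact rTensor_mulLeft_injective hg R (by rw [ht, map_zero])

lemma flat_middle {M N P : Type u} [AddCommGroup M] [AddCommGroup N] [AddCommGroup P] [Module R M]
    [Module R N] [Module R P] [Module.Flat R M] [Module.Flat R P] (i : M →ₗ[R] N) (p : N →ₗ[R] P)
    (hi : Function.Injective i) (hp : Function.Surjective p) (h : Function.Exact i p) :
    Module.Flat R N := by
  refine Module.Flat.iff_lTensor_injective.2 fun I _ => (injective_iff_map_eq_zero _).2 fun t ht => ?_
  have h0 : p.rTensor I t = 0 := by
    apply Module.Flat.lTensor_preserves_injective_linearMap (M := P) I.subtype Subtype.val_injective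
    rw [map_zero, ← LinearMap.comp_apply, LinearMap.lTensor_comp_rTensor, ← LinearMap.rTensor_comp_lTensor,
      LinearMap.comp_apply, ht, map_zero]
  obtain ⟨s, rfl⟩ := (rTensor_exact I h hp t).1 h0
  rw [← LinearMap.comp_apply, LinearMap.lTensor_comp_rTensor, ← LinearMap.rTensor_comp_lTensor,
    LinearMap.comp_apply] at ht
  have h1 : I.subtype.lTensor M s = 0 :=
    Module.Flat.rTensor_preserves_injective_linearMap (M := R) i hi (by rw [ht, map_zero])
  rw [Module.Flat.lTensor_preserves_injective_linearMap (M := M) I.subtype Subtype.val_injective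
    (h1.trans (map_zero _).symm), map_zero]

lemma flat_left {M N P : Type u} [AddCommGroup M] [AddCommGroup N] [AddCommGroup P] [Module R M]
    [Module R N] [Module R P] [Module.Flat R N] [Module.Flat R P] (i : M →ₗ[R] N) (p : N →ₗ[R] P)
    (hi : Function.Injective i) (hp : Function.Surjective p) (h : Function.Exact i p) :
    Module.Flat R M := by
  refine Module.Flat.iff_lTensor_injective.2 fun I _ => (injective_iff_map_eq_zero _).2 fun t ht => ?_
  apply (LinearMap.lTensor_inj_iff_rTensor_inj I i).1
    (LinearMap.lTensor_injective_of_exact_of_flat p hp i hi h I)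
  rw [map_zero]
  apply Module.Flat.lTensor_preserves_injective_linearMap (M := N) I.subtype Subtype.val_injective
  rw [map_zero, ← LinearMap.comp_apply, LinearMap.lTensor_comp_rTensor, ← LinearMap.rTensor_comp_lTensor,
    LinearMap.comp_apply, ht, map_zero]

end Groth.Agent.Div89
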