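import Groth.Agent.Div89.Cartier
import Groth.Agent.Div89.Comap
import Groth.Agent.Cyc90.Gen
import Groth.Agent.CAlg4.ReducedCurve
import Groth.Agent.FlatMor68.SchDense
import Mathlib.AlgebraicGeometry.Morphisms.Proper

/-!
Pullback of effective Cartier divisors along proper surjective morphisms to a normal scheme is injective.
-/

set_option autoImplicit false
set_option linter.style.haveILetI false

universe u

open CategoryTheory AlgebraicGeometry TopologicalSpace Opposite IsLocalRing

namespace Groth.Agent.Div89.PullInj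

variable {S S' : Scheme.{u}}

theorem surjective_of_proper (f : S' ⟶ S) [IsProper f] (h : f.ker = ⊥) : Function.Surjective f.base := by
  intro y
  have h1 : (f.ker.support : Set S) = closure (Set.range f.base) := f.support_ker
  rw [h, Scheme.IdealSheafData.support_bot, f.isClosedMap.isClosed_range.closure_eq] at h1
  exact h1.subset (Set.mem_univ y)

theorem stalkIdeal_specializes (I : S.IdealSheafData) {z x : S} (h : z ⤳ x) :
    stalkIdeal I z = (stalkIdeal I x).map (S.presheaf.stalkSpecializes h).hom := by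
  obtain ⟨U, hx⟩ := exists_affine_mem x
  rw [stalkIdeal_eq I U z (mem_affine_of_specializes h hx), stalkIdeal_eq I U x hx, Ideal.map_map,
    ← CommRingCat.hom_comp, TopCat.Presheaf.germ_stalkSpecializes]

theorem comap_stalk_ne_bot (f : S' ⟶ S) {D : S.IdealSheafData} (hD : BlowUp.IsEffCartierIdeal D)
    {U : S.Opens} (hU' : Dense ((f ⁻¹ᵁ U : S'.Opens) : Set S'))
    (hDU : (D.support : Set S) ⊆ (U : Set S)ᶜ) (x' : S') :
    (stalkIdeal D (f x')).map (f.stalkMap x').hom ≠ ⊥ := by
  intro h0
  obtain ⟨W, hxW, g, -, hg⟩ := hD (f x')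
  rw [stalkIdeal_eq_span hg _ hxW, Ideal.map_span, Set.image_singleton, Ideal.span_singleton_eq_bot] at h0
  erw [Scheme.Hom.germ_stalkMap_apply] at h0
  obtain ⟨V, hxV, i, j, hV⟩ := S'.presheaf.germ_eq x' (V := f ⁻¹ᵁ W) hxW hxW (f.app W.1 g) 0 (by rw [map_zero]; exact h0)
  obtain ⟨w, hwV, hwU⟩ := hU'.inter_open_nonempty (V : Set S') V.isOpen ⟨x', hxV⟩
  have hwW : f w ∈ W.1 := (leOfHom i) hwV
  have hu : IsUnit ((S.presheaf.germ W.1 (f w) hwW).hom g) := by
    rw [← Ideal.span_singleton_eq_top, ← stalkIdeal_eq_span hg _ hwW, ← notMem_support_iff_stalkIdeal]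
    exact fun h => hDU h hwU
  have hu' := hu.map (f.stalkMap w).hom
  erw [Scheme.Hom.germ_stalkMap_apply] at hu'
  have h1 := congrArg (S'.presheaf.germ V w hwV) hV
  rw [map_zero, map_zero] at h1
  erw [TopCat.Presheaf.germ_res_apply] at h1
  exact not_isUnit_zero (h1 ▸ hu')

theorem map_span_pow_ne {A B : Type*} [CommRing A] [CommRing B] [IsLocalRing B] [IsLocalRing A]
    (φ : A →+* B) [IsLocalHom φ] {π : A} (hπ : ¬ IsUnit π) {a b : ℕ}
    (h : (Ideal.span {π ^ a}).map φ = (Ideal.span {π ^ b}).map φ)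
    (h0 : (Ideal.span {π ^ a}).map φ ≠ ⊥) : a = b := by
  wlog hlt : a < b generalizing a b
  · rcases eq_or_lt_of_le (not_lt.1 hlt) with h' | h'
    · exact h'.symm
    · exact (this h.symm (h ▸ h0) h').symm
  exfalso
  refine h0 ?_
  rw [Ideal.map_span, Set.image_singleton, Ideal.map_span, Set.image_singleton, map_pow, map_pow] at h
  obtain ⟨c, hc⟩ := Ideal.mem_span_singleton'.1 (h.le (Ideal.mem_span_singleton_self (φ π ^ a)))
  have hm : φ π ∈ maximalIdeal B := fun hu => hπ (IsLocalHom.map_nonunit π hu)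
  have hu : IsUnit (1 - c * φ π ^ (b - a)) :=
    isUnit_one_sub_self_of_mem_nonunits _
      (Ideal.mul_mem_left _ c (Ideal.pow_mem_of_mem _ hm _ (by omega)))
  have hz : φ π ^ a * (1 - c * φ π ^ (b - a)) = 0 := by
    rw [mul_sub, mul_one, mul_left_comm, ← pow_add, Nat.add_sub_cancel' hlt.le, hc, sub_self]
  rw [Ideal.map_span, Set.image_singleton, map_pow, hu.mul_left_eq_zero.1 hz, Ideal.span_singleton_eq_bot]

/-- Pullback along a proper surjective morphism to a normal scheme is injective on divisors. -/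
theorem eq_of_comap_eq [IsLocallyNoetherian S]
    (hnorm : ∀ x : S, IsDomain (S.presheaf.stalk x) ∧ IsIntegrallyClosed (S.presheaf.stalk x))
    (f : S' ⟶ S) (hsurj : Function.Surjective f.base) {U : S.Opens}
    (hU' : Dense ((f ⁻¹ᵁ U : S'.Opens) : Set S'))
    {D E : S.IdealSheafData} (hD : BlowUp.IsEffCartierIdeal D) (hE : BlowUp.IsEffCartierIdeal E)
    (hDU : (D.support : Set S) ⊆ (U : Set S)ᶜ) (h : D.comap f = E.comap f) : D = E := by
  -- equality of the ideals at a point with discrete valuation ring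
  have key : ∀ z : S, ∀ [IsDomain (S.presheaf.stalk z)] [IsDiscreteValuationRing (S.presheaf.stalk z)],
      stalkIdeal D z = stalkIdeal E z := by
    intro z _ _
    obtain ⟨g, hg, hgD⟩ := exists_stalk_generator hD z
    obtain ⟨g', hg', hgE⟩ := exists_stalk_generator hE z
    obtain ⟨π, hπ⟩ := IsDiscreteValuationRing.exists_irreducible (S.presheaf.stalk z)
    obtain ⟨a, u, rfl⟩ := IsDiscreteValuationRing.eq_unit_mul_pow_irreducible (nonZeroDivisors.ne_zero hg) hπ
    obtain ⟨b, v, rfl⟩ := IsDiscreteValuationRing.eq_unit_mul_pow_irreducible (nonZeroDivisors.ne_zero hg') hπ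
    rw [Ideal.span_singleton_mul_left_unit u.isUnit] at hgD
    rw [Ideal.span_singleton_mul_left_unit v.isUnit] at hgE
    obtain ⟨x', rfl⟩ := hsurj z
    have h1 := congrArg (fun I => stalkIdeal I x') h
    have h0 := comap_stalk_ne_bot f hD hU' hDU x'
    simp only [stalkIdeal_comap] at h1
    rw [hgD, hgE] at h1
    rw [hgD] at h0
    rw [hgD, hgE, map_span_pow_ne (f.stalkMap x').hom hπ.not_isUnit h1 h0]
  refine ext_stalkIdeal fun x => ?_
  haveI := (hnorm x).1
  haveI := (hnorm x).2
  obtain ⟨g, hg, hgD⟩ := exists_stalk_generator hD x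
  obtain ⟨g', hg', hgE⟩ := exists_stalk_generator hE x
  have hdvr : ∀ q : Ideal (S.presheaf.stalk x), ∀ [q.IsPrime], q.height = 1 →
      Associated (algebraMap _ (Localization.AtPrime q) g) (algebraMap _ (Localization.AtPrime q) g') := by
    intro q _ hq
    let qq : PrimeSpectrum (S.presheaf.stalk x) := ⟨q, inferInstance⟩
    have hz := Cyc90.fromSpecStalk_specializes qq
    letI := (S.presheaf.stalkSpecializes hz).hom.toAlgebra
    haveI hloc := Cyc90.isLocalization_genPrime hz
    haveI : IsLocalization.AtPrime (S.presheaf.stalk ((S.fromSpecStalk x).base qq)) q := by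
      rw [Cyc90.genPrime_fromSpecStalk] at hloc; exact hloc
    let e := IsLocalization.algEquiv q.primeCompl (Localization.AtPrime q)
      (S.presheaf.stalk ((S.fromSpecStalk x).base qq))
    haveI := CAlg4.ReducedCurve.dvr_of_height_one q hq
    haveI := (hnorm ((S.fromSpecStalk x).base qq)).1
    haveI := IsDiscreteValuationRing.RingEquivClass.isDiscreteValuationRing e
    have h1 := key ((S.fromSpecStalk x).base qq)
    rw [stalkIdeal_specializes D hz, stalkIdeal_specializes E hz, hgD, hgE, Ideal.map_span,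
      Set.image_singleton, Ideal.map_span, Set.image_singleton, Ideal.span_singleton_eq_span_singleton] at h1
    have h2 := h1.map e.symm.toRingHom.toMonoidHom
    have hg1 : e.symm (algebraMap _ _ g) = algebraMap _ (Localization.AtPrime q) g := e.symm.commutes g
    have hg2 : e.symm (algebraMap _ _ g') = algebraMap _ (Localization.AtPrime q) g' := e.symm.commutes g'
    rw [← hg1, ← hg2]
    exact h2
  rw [hgD, hgE, Ideal.span_singleton_eq_span_singleton]
  exact associated_of_dvd_dvd
    (CAlg4.ReducedCurve.dvd_of_forall_height_one g g' (nonZeroDivisors.ne_zero hg) fun q _ hq _ => (hdvr q hq).dvd)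
    (CAlg4.ReducedCurve.dvd_of_forall_height_one g' g (nonZeroDivisors.ne_zero hg') fun q _ hq _ => (hdvr q hq).dvd')

end Groth.Agent.Div89.PullInj
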