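import Groth.Agent.FBlow13.Exist
import Groth.Agent.H98Strict.Transform

/-!
Blow-ups: bridge lemmas (ideal sheaves on `Spec`, closed immersions).
-/

set_option autoImplicit false

universe u

open CategoryTheory CategoryTheory.Limits AlgebraicGeometry TopologicalSpace

namespace Groth.Agent.Div89

/-- The two ideal sheaves on `Spec A` attached to an ideal agree. -/
theorem idealSpec_eq_ofIdealTop (A : Type u) [CommRing A] (I : Ideal A) :
    FSch.idealSpec A I = Scheme.IdealSheafData.ofIdealTop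
      (I.map (Scheme.ΓSpecIso (CommRingCat.of A)).inv.hom) := by
  apply Scheme.IdealSheafData.ext_of_isAffine
  rw [FBlow13.idealSpec_ideal_top]
  simp

/-- Blow-ups transport along an isomorphism of the base. -/
theorem isBlowUp_comp_iso {X X₂ X' : Scheme.{u}} (e : X ≅ X₂) (b : X' ⟶ X)
    (𝓘 : X₂.IdealSheafData) (h : BlowUp.IsBlowUp b (𝓘.comap e.hom)) :
    BlowUp.IsBlowUp (b ≫ e.hom) 𝓘 := by
  refine ⟨by rw [Scheme.IdealSheafData.comap_comp]; exact h.1, fun Y g hg => ?_⟩
  obtain ⟨l, hl, hu⟩ := h.2 Y (g ≫ e.inv) (by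
    rwa [← Scheme.IdealSheafData.comap_comp, Category.assoc, e.inv_hom_id, Category.comp_id])
  refine ⟨l, ?_, fun m hm => hu m ?_⟩
  · show l ≫ b ≫ e.hom = g
    rw [reassoc_of% hl, e.inv_hom_id, Category.comp_id]
  · show m ≫ b = g ≫ e.inv
    rw [← hm, Category.assoc, Category.assoc, e.hom_inv_id, Category.comp_id]

/-- The morphism of blow-ups over a closed immersion is a closed immersion. -/
theorem isClosedImmersion_blowUp_map {X Y X' Y' : Scheme.{u}} (𝓘 : X.IdealSheafData) (f : Y ⟶ X)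
    [IsClosedImmersion f] (b : X' ⟶ X) (hb : BlowUp.IsBlowUp b 𝓘) (b' : Y' ⟶ Y)
    (hb' : BlowUp.IsBlowUp b' (𝓘.comap f)) (f' : Y' ⟶ X') (hf' : f' ≫ b = b' ≫ f) :
    IsClosedImmersion f' := by
  let e : Y ≅ f.ker.subscheme := asIso f.toImage
  have he : e.hom ≫ f.ker.subschemeι = f := Scheme.Hom.toImage_imageι f
  have h2 : BlowUp.IsBlowUp (b' ≫ e.hom) (𝓘.comap f.ker.subschemeι) :=
    isBlowUp_comp_iso e b' _ (by rwa [← Scheme.IdealSheafData.comap_comp, he])
  exact (H98Strict.strictTransform 𝓘 f.ker b hb (b' ≫ e.hom) h2 f' (by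
    rw [Category.assoc, he, hf'])).1

end Groth.Agent.Div89
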