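import Groth.Agent.Div89.EffInside
import Groth.Agent.Div89.PullInj

/-!
An effective Cartier divisor supported on integral Cartier divisors is a combination of them.
-/

set_option autoImplicit false
set_option linter.style.haveILetI false
set_option backward.isDefEq.respectTransparency.types false

universe u

open CategoryTheory AlgebraicGeometry TopologicalSpace Opposite IsLocalRing

namespace Groth.Agent.Div89.DivProd

variable {X : Scheme.{u}}

theorem stalkIdeal_eq_of_comap_eq {I J : X.IdealSheafData} {U : X.Opens}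
    (h : I.comap U.ι = J.comap U.ι) {x : X} (hx : x ∈ U) : stalkIdeal I x = stalkIdeal J x := by
  have h1 := (stalkIdeal_comap U.ι I (⟨x, hx⟩ : U.toScheme)).symm.trans
    ((congrArg (fun K => stalkIdeal K (⟨x, hx⟩ : U.toScheme)) h).trans (stalkIdeal_comap U.ι J (⟨x, hx⟩ : U.toScheme)))
  have hb : Function.Bijective (U.ι.stalkMap (⟨x, hx⟩ : U.toScheme)).hom :=
    ConcreteCategory.bijective_of_isIso (U.ι.stalkMap (⟨x, hx⟩ : U.toScheme))
  have h2 := congrArg (Ideal.comap (U.ι.stalkMap ⟨x, hx⟩).hom) h1
  rwa [Ideal.comap_map_of_bijective _ hb, Ideal.comap_map_of_bijective _ hb] at h2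

theorem isEffCartier_prod {ι : Type*} (S : Finset ι) (K : ι → X.IdealSheafData)
    (h : ∀ i ∈ S, BlowUp.IsEffCartierIdeal (K i)) : BlowUp.IsEffCartierIdeal (∏ i ∈ S, K i) := by
  classical
  induction S using Finset.induction_on with
  | empty => rw [Finset.prod_empty, Scheme.IdealSheafData.one_eq_top]; exact isEffCartier_top
  | insert a s ha ih =>
    rw [Finset.prod_insert ha]
    exact isEffCartier_mul (h a (Finset.mem_insert_self a s)) (ih fun i hi => h i (Finset.mem_insert_of_mem hi))

/-- A divisor inclusion which is an equality in codimension one is an equality. -/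
theorem eq_of_le_of_eq_on [IsLocallyNoetherian X] {D P : X.IdealSheafData}
    (hD : BlowUp.IsEffCartierIdeal D) (hP : BlowUp.IsEffCartierIdeal P) (hle : D ≤ P) {U : X.Opens}
    (hU : P.comap U.ι = D.comap U.ι)
    (hcod : ∀ z ∈ (D.support : Set X) \ (U : Set X), (2 : WithBot ℕ∞) ≤ ringKrullDim (X.presheaf.stalk z)) :
    D = P := by
  refine ext_stalkIdeal fun x => ?_
  obtain ⟨d, hd, hdD⟩ := exists_stalk_generator hD x
  obtain ⟨p, -, hpP⟩ := exists_stalk_generator hP x
  obtain ⟨c, rfl⟩ := Ideal.mem_span_singleton'.1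
    (hpP ▸ (le_iff_stalkIdeal D P).1 hle x (hdD ▸ Ideal.mem_span_singleton_self d))
  by_cases hc : IsUnit c
  · rw [hdD, hpP, Ideal.span_singleton_mul_left_unit hc]
  exfalso
  obtain ⟨q, hq⟩ := Ideal.nonempty_minimalPrimes (I := Ideal.span {c})
    (by rwa [Ne, Ideal.span_singleton_eq_top])
  haveI := hq.1.1
  have hqh : q.height ≤ 1 := Ideal.height_le_one_of_isPrincipal_of_mem_minimalPrimes _ _ hq
  let qq : PrimeSpectrum (X.presheaf.stalk x) := ⟨q, hq.1.1⟩
  set z := (X.fromSpecStalk x).base qq
  have hz : z ⤳ x := Cyc90.fromSpecStalk_specializes qq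
  letI := (X.presheaf.stalkSpecializes hz).hom.toAlgebra
  haveI hloc : IsLocalization.AtPrime (X.presheaf.stalk z) q := by
    have := Cyc90.isLocalization_genPrime hz
    rw [Cyc90.genPrime_fromSpecStalk] at this
    exact this
  have hcq : algebraMap _ (X.presheaf.stalk z) c ∈ maximalIdeal (X.presheaf.stalk z) := by
    exact (IsLocalization.AtPrime.under_maximalIdeal (X.presheaf.stalk z) q).ge
      (hq.1.2 (Ideal.mem_span_singleton_self c))
  have hDz : stalkIdeal D z = Ideal.span {algebraMap _ (X.presheaf.stalk z) c * algebraMap _ _ p} := by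
    rw [PullInj.stalkIdeal_specializes D hz, hdD, Ideal.map_span, Set.image_singleton, map_mul]; rfl
  have hPz : stalkIdeal P z = Ideal.span {algebraMap _ (X.presheaf.stalk z) p} := by
    rw [PullInj.stalkIdeal_specializes P hz, hpP, Ideal.map_span, Set.image_singleton]; rfl
  have hzD : z ∈ D.support := by
    rw [mem_support_iff_stalkIdeal, hDz, Ideal.span_singleton_le_iff_mem]
    exact Ideal.mul_mem_right _ _ hcq
  have hdim : ringKrullDim (X.presheaf.stalk z) ≤ 1 := by
    rw [IsLocalization.AtPrime.ringKrullDim_eq_height q]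
    exact_mod_cast hqh
  have hzU : z ∈ U := by
    by_contra hzU
    exact absurd ((hcod z ⟨hzD, hzU⟩).trans hdim) (by decide)
  obtain ⟨g, hg, hgP⟩ := exists_stalk_generator hP z
  have e := (stalkIdeal_eq_of_comap_eq hU hzU).symm
  rw [hDz, hPz] at e
  rw [hPz] at hgP
  obtain ⟨r, hr⟩ := Ideal.mem_span_singleton'.1 (e.ge (Ideal.mem_span_singleton_self _))
  obtain ⟨s, hs⟩ := Ideal.mem_span_singleton'.1 (hgP.ge (Ideal.mem_span_singleton_self g))
  have h1 : (1 - r * algebraMap _ (X.presheaf.stalk z) c) * g = 0 := by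
    rw [← hs, sub_mul, one_mul, sub_eq_zero]
    linear_combination -s * hr
  have h2 : r * algebraMap _ (X.presheaf.stalk z) c = 1 :=
    (sub_eq_zero.1 ((mem_nonZeroDivisors_iff_right.1 hg) _ h1)).symm
  exact hcq (IsUnit.of_mul_eq_one_right r h2)

end Groth.Agent.Div89.DivProd
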