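import Groth.Agent.Koszul19.Seq
import Groth.Agent.CAlg1.H1QReg
import Groth.Prelude.Def_RegImm

/-! A Koszul-regular sequence is H1-regular. -/

set_option autoImplicit false
set_option backward.isDefEq.respectTransparency.types false

noncomputable section

universe u

open CategoryTheory CategoryTheory.Limits Groth.Agent.Koszul19

namespace Groth.Agent.Div89

variable {A : Type u} [CommRing A]

/-- The trivial relations of a list. -/
def trivRel (l : List A) : Submodule A (Fin l.length → A) :=
  Submodule.span A {v : Fin l.length → A | ∃ i j, v = Pi.single i (l.get j) - Pi.single j (l.get i)}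

/-- Degree minus one of the Koszul complex in coordinates. -/
def koszulOne : (l : List A) → (((Koszul.koszul A l).X (-1) : Type u) →ₗ[A] (Fin l.length → A))
  | [] => 0
  | f :: l =>
    let c : ((Koszul.koszul A l).X 0 : Type u) × ((Koszul.koszul A l).X (-1) : Type u) →ₗ[A]
        (Fin (f :: l).length → A) :=
      { toFun := fun v => Fin.cons (eps l v.1) (koszulOne l v.2)
        map_add' := fun v w => by
          rw [Prod.fst_add, Prod.snd_add, map_add, map_add]
          funext i; refine Fin.cases ?_ ?_ i <;> simp
        map_smul' := fun r v => by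
          rw [Prod.smul_fst, Prod.smul_snd, map_smul, map_smul, RingHom.id_apply]
          funext i; refine Fin.cases ?_ ?_ i <;> simp }
    c.comp ((consData f l).e (-1) 0 (neg_add_cancel 1)).toLinearMap

lemma koszulOne_cons (f : A) (l : List A) (x : (Koszul.koszul A (f :: l)).X (-1)) :
    koszulOne (f :: l) x = Fin.cons (eps l ((consData f l).e (-1) 0 (neg_add_cancel 1) x).1)
      (koszulOne l ((consData f l).e (-1) 0 (neg_add_cancel 1) x).2) := rfl

lemma koszulOne_surjective : ∀ l : List A, Function.Surjective (koszulOne l)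
  | [] => fun v => ⟨0, funext fun i => i.elim0⟩
  | f :: l => fun v => by
    obtain ⟨y, hy⟩ := koszulOne_surjective l (Fin.tail v)
    refine ⟨((consData f l).e (-1) 0 (neg_add_cancel 1)).symm ((eps l).symm (v 0), y), ?_⟩
    rw [koszulOne_cons, LinearEquiv.apply_symm_apply, LinearEquiv.apply_symm_apply, hy]
    exact Fin.cons_self_tail v

lemma eps_d_eq : ∀ (l : List A) (x : (Koszul.koszul A l).X (-1)),
    eps l (dd _ (-1) 0 x) = ∑ i, koszulOne l x i * l.get i
  | [] => fun x => by
    have := subsingleton_X ([] : List A) (-1) (by simp)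
    rw [Subsingleton.elim x 0, map_zero, map_zero]
    exact (Finset.sum_eq_zero fun i _ => i.elim0).symm
  | f :: l => fun x => by
    rw [eps_d_cons, eps_d_eq l]
    refine Eq.trans ?_ (Fin.sum_univ_succ (fun i : Fin (l.length + 1) => koszulOne (f :: l) x i * (f :: l).get i)).symm
    exact congrArg₂ (· + ·) (mul_comm f _) rfl

lemma cons_mem_trivRel (f : A) (l : List A) {v : Fin l.length → A} (hv : v ∈ trivRel l) :
    (Fin.cons 0 v : Fin (f :: l).length → A) ∈ trivRel (f :: l) := by
  refine Submodule.span_induction (p := fun w _ => (Fin.cons 0 w : Fin (f :: l).length → A) ∈ trivRel (f :: l))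
    ?_ ?_ ?_ ?_ hv
  · rintro _ ⟨i, j, rfl⟩
    refine Submodule.subset_span ⟨i.succ, j.succ, ?_⟩
    funext k
    refine Fin.cases ?_ (fun k => ?_) k
    · simp [(Fin.succ_ne_zero _).symm]
    · simp [Pi.single_apply]
  · have e : (Fin.cons 0 (0 : Fin l.length → A) : Fin (f :: l).length → A) = 0 := by
      funext k; refine Fin.cases ?_ (fun k => ?_) k <;> rfl
    exact e ▸ zero_mem _
  · intro a b _ _ ha hb
    have e : (Fin.cons 0 (a + b) : Fin (f :: l).length → A) = (Fin.cons 0 a : Fin (f :: l).length → A) + (Fin.cons 0 b : Fin (f :: l).length → A) := by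
      funext k; refine Fin.cases ?_ (fun k => ?_) k
      · exact (add_zero 0).symm
      · rfl
    exact e ▸ add_mem ha hb
  · intro r a _ ha
    have e : (Fin.cons 0 (r • a) : Fin (f :: l).length → A) = r • (Fin.cons 0 a : Fin (f :: l).length → A) := by
      funext k; refine Fin.cases ?_ (fun k => ?_) k
      · exact (mul_zero r).symm
      · rfl
    exact e ▸ Submodule.smul_mem _ r ha

lemma koszulOne_d_mem : ∀ (l : List A) (w : (Koszul.koszul A l).X (-2)),
    koszulOne l (dd _ (-2) (-1) w) ∈ trivRel l
  | [] => fun w => by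
    rw [show koszulOne ([] : List A) (dd _ (-2) (-1) w) = 0 from rfl]
    exact zero_mem _
  | f :: l => fun w => by
    rw [koszulOne_cons, (consData f l).e_d_fst (-2) (-1) 0 (by norm_num) (by norm_num),
      (consData f l).e_d_snd (-2) (-1) 0 (by norm_num) (by norm_num), map_neg, eps_d_eq, map_add, map_smul]
    generalize koszulOne l (((consData f l).e (-2) (-1) (by norm_num)) w).1 = y
    have hz := cons_mem_trivRel f l (koszulOne_d_mem l (((consData f l).e (-2) (-1) (by norm_num)) w).2)
    generalize koszulOne l (dd _ (-2) (-1) _) = z at hz ⊢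
    have : (Fin.cons (-∑ i, y i * l.get i) (f • y + z) : Fin (f :: l).length → A) =
        (∑ i, y i • (Pi.single i.succ f - Pi.single (0 : Fin (l.length + 1)) (l.get i) : Fin (f :: l).length → A)) +
          Fin.cons 0 z := by
      funext k
      refine Fin.cases ?_ (fun k => ?_) k
      · simp [Finset.sum_apply, Finset.sum_neg_distrib, (Fin.succ_ne_zero _).symm]
      · simp [Finset.sum_apply, Pi.single_apply, Fin.succ_ne_zero, mul_comm, Finset.sum_ite_eq]
    rw [this]
    refine add_mem (Submodule.sum_mem _ fun i _ => Submodule.smul_mem _ _ (Submodule.subset_span ⟨i.succ, 0, ?_⟩)) hz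
    rfl

/-- A Koszul-regular sequence is H1-regular. -/
theorem isH1Regular_of_koszul (l : List A) (h : LCI.IsKoszulRegularSeq A l) : CAlgX.IsH1Regular l.get := by
  intro a ha
  obtain ⟨x, rfl⟩ := koszulOne_surjective l a
  have hd : dd _ (-1) 0 x = 0 := (eps l).injective (by rw [eps_d_eq, ha, map_zero])
  obtain ⟨w, rfl⟩ := (kR_iff l).2 h (-1) (by norm_num) (-2) 0 (by norm_num) (by norm_num) x hd
  exact koszulOne_d_mem l w

/-- The implications between the kinds of regular sequences. -/
theorem seq_implications (l : List A) :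
    (RegImm.Kind.regular.Seq A l → RegImm.Kind.koszul.Seq A l) ∧
      (RegImm.Kind.koszul.Seq A l → RegImm.Kind.h1.Seq A l) ∧
      (RegImm.Kind.h1.Seq A l → RegImm.Kind.quasi.Seq A l) :=
  ⟨fun h => (kR_iff l).1 (kR_of_isWeaklyRegular l h.toIsWeaklyRegular), isH1Regular_of_koszul l,
    fun h => CAlg1.isQuasiRegular_of_isH1Regular l.get h⟩

end Groth.Agent.Div89
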