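import Groth.Agent.Div89.DepthExt
import Groth.Agent.Div89.FreeStalks
import Groth.Agent.TF3.Depth
import Groth.Agent.TF3.DualLoc
import Groth.Agent.CAlg1.AB
import Groth.Agent.CAlg1.Serre
import Groth.Agent.FBase64.RestrictStalk
import Groth.Agent.QC70.UnitSub

/-!
Reflexive coherent modules: transport, depth criterion, freeness in dimension two, extension.
-/

set_option autoImplicit false
set_option linter.style.haveILetI false
set_option backward.isDefEq.respectTransparency.types false

noncomputable section

universe u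

open CategoryTheory AlgebraicGeometry Opposite TopologicalSpace IsLocalRing
open Groth.Agent.QC70 Groth.Agent.Props58.LocFree

namespace Groth.Agent.Div89

section Algebra

variable {A B M N : Type u} [CommRing A] [CommRing B] [AddCommGroup M] [Module A M]
  [AddCommGroup N] [Module B N]

/-- Reflexivity does not depend on the presentation of the ring. -/
lemma isReflexive_of_semilinear (σ : A ≃+* B) (e : M ≃+ N) (he : ∀ a m, e (a • m) = σ a • e m)
    (h : Module.IsReflexive A M) : Module.IsReflexive B N := by
  have he' : ∀ b n, e.symm (b • n) = σ.symm b • e.symm n := fun b n => by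
    apply e.injective; rw [he]; simp
  let P : Module.Dual A M → Module.Dual B N := fun φ =>
    { toFun := fun n => σ (φ (e.symm n))
      map_add' := fun a b => by simp
      map_smul' := fun b n => by simp [he'] }
  let Q : Module.Dual B N → Module.Dual A M := fun ψ =>
    { toFun := fun m => σ.symm (ψ (e m))
      map_add' := fun a b => by simp
      map_smul' := fun a m => by simp [he] }
  have PQ : ∀ ψ, P (Q ψ) = ψ := fun ψ => LinearMap.ext fun n => by simp [P, Q]
  let lift : Module.Dual B (Module.Dual B N) → Module.Dual A (Module.Dual A M) := fun Y =>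
    { toFun := fun φ => σ.symm (Y (P φ))
      map_add' := fun φ φ' => by
        rw [show P (φ + φ') = P φ + P φ' from LinearMap.ext fun n => by simp [P]]
        simp
      map_smul' := fun a φ => by
        rw [show P (a • φ) = σ a • P φ from LinearMap.ext fun n => by simp [P]]
        simp }
  constructor
  refine ⟨fun n n' hn => e.symm.injective ((Module.bijective_dual_eval A M).1 ?_), fun Y => ?_⟩
  · refine LinearMap.ext fun φ => σ.injective ?_
    exact LinearMap.congr_fun hn (P φ)
  · obtain ⟨m, hm⟩ := (Module.bijective_dual_eval A M).2 (lift Y)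
    refine ⟨e m, LinearMap.ext fun ψ => σ.symm.injective ?_⟩
    have := LinearMap.congr_fun hm (Q ψ)
    simp only [Module.Dual.eval_apply] at this
    show σ.symm (ψ (e m)) = _
    rw [show lift Y (Q ψ) = σ.symm (Y (P (Q ψ))) from rfl, PQ] at this
    exact this

end Algebra

variable {X : Scheme.{u}}

theorem isReflexive_localized_iff_stalk (F : X.Modules) (hF : Coh.IsQCoh F)
    (U : X.affineOpens) (x : X) (hx : x ∈ U.1) :
    Module.IsReflexive (Localization.AtPrime (primeAt U x hx))
        (LocalizedModule (primeAt U x hx).primeCompl Γ(F, U.1)) ↔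
      Module.IsReflexive (X.presheaf.stalk x) (F.presheaf.stalk x) := by
  letI := stalkAlg U.1 x hx
  letI := stalkModule F U.1 x hx
  haveI := isScalarTower_stalk F U.1 x hx
  haveI := isLocalization_stalk U x hx
  haveI := isLocalizedModule_germLin F hF U x hx
  let p := primeAt U x hx
  let A := Localization.AtPrime p
  let e := IsLocalization.algEquiv p.primeCompl A (X.presheaf.stalk x)
  letI : Module A (F.presheaf.stalk x) := Module.compHom _ e.toAlgHom.toRingHom
  haveI : IsScalarTower Γ(X, U.1) A (F.presheaf.stalk x) :=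
    IsScalarTower.of_algebraMap_smul fun r s => by
      show e (algebraMap Γ(X, U.1) A r) • s = r • s
      rw [e.commutes, algebraMap_smul]
  let l : LocalizedModule p.primeCompl Γ(F, U.1) ≃ₗ[A] F.presheaf.stalk x :=
    { (IsLocalizedModule.iso p.primeCompl (germLin F U.1 x hx)).toLinearMap.extendScalarsOfIsLocalization
        p.primeCompl A, IsLocalizedModule.iso p.primeCompl (germLin F U.1 x hx) with }
  have hl : ∀ a m, l.toAddEquiv (a • m) = e.toRingEquiv a • l.toAddEquiv m := fun a m => l.map_smul a m
  exact ⟨isReflexive_of_semilinear e.toRingEquiv l.toAddEquiv hl,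
    isReflexive_of_semilinear e.toRingEquiv.symm l.toAddEquiv.symm fun b n => by
      apply l.toAddEquiv.injective
      rw [hl]
      simp⟩

lemma isTorsionFree_dual {A M : Type u} [CommRing A] [IsDomain A] [AddCommGroup M] [Module A M]
    (r : A) (hr : r ≠ 0) (φ : Module.Dual A M) (h : r • φ = 0) : φ = 0 :=
  LinearMap.ext fun m => (mul_eq_zero.1 (LinearMap.congr_fun h m)).resolve_left hr

/-- A coherent module reflexive away from points of depth two is reflexive everywhere. -/
theorem isReflexive_stalks_of_depth [IsIntegral X] [IsLocallyNoetherian X] (F : X.Modules)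
    (hF : Coh.IsCoh F)
    (h : ∀ x : X, Module.IsReflexive (X.presheaf.stalk x) (F.presheaf.stalk x) ∨
      ((2 : ℕ∞) ≤ LocCoh.depth (X.presheaf.stalk x) (F.presheaf.stalk x) ∧ x ≠ genericPoint X))
    (x : X) : Module.IsReflexive (X.presheaf.stalk x) (F.presheaf.stalk x) := by
  haveI : F.IsQuasicoherent := hF.1
  haveI : F.IsFiniteType := hF.2
  obtain ⟨U, hx⟩ := exists_affine_mem x
  haveI : Nonempty U.1 := ⟨⟨x, hx⟩⟩
  haveI := isNoetherianRing_sections U
  haveI := finite_sections_of_isFiniteType F U.2
  have hη : genericPoint X ∈ U.1 := ((genericPoint_spec X).specializes trivial).mem_open U.1.2 hx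
  haveI : Module.IsReflexive Γ(X, U.1) Γ(F, U.1) := by
    refine ⟨CAlg1.bijective_of_depth_two (Module.Dual.eval Γ(X, U.1) Γ(F, U.1)) fun p hp => ?_⟩
    obtain ⟨y, hy, rfl⟩ := exists_point U p
    rcases h y with hr | ⟨hd, hne⟩
    · exact Or.inl ((TF3.localized_eval_bijective_iff (primeAt U y hy)).2
        ((isReflexive_localized_iff_stalk F hF.1 U y hy).2 hr))
    · refine Or.inr ⟨hd.trans (depth_localized_eq_stalk F hF U y hy).ge, fun hass => hne ?_⟩
      obtain ⟨-, φ, hφ⟩ := isAssociatedPrime_iff.mp hass
      refine primeAt_inj U hy hη (le_antisymm (fun a ha => ?_)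
        ((specializes_iff_primeAt_le U hy hη).1 ((genericPoint_spec X).specializes trivial)))
      by_contra ha0
      have ha1 : a ≠ 0 := fun h0 => ha0 (h0 ▸ zero_mem _)
      rw [hφ, Submodule.mem_colon_singleton, Submodule.mem_bot] at ha
      have hφ0 := isTorsionFree_dual a ha1 φ ha
      refine (primeAt_isPrime U y hy).ne_top (eq_top_iff.2 fun r _ => ?_)
      rw [hφ, Submodule.mem_colon_singleton, hφ0, smul_zero]
      exact zero_mem _
  exact (isReflexive_localized_iff_stalk F hF.1 U x hx).1 (TF3.isReflexive_localized _)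

theorem natCast_le_depth_of_isReflexive {A M : Type u} [CommRing A] [IsNoetherianRing A] [IsLocalRing A]
    [AddCommGroup M] [Module A M] [Module.Finite A M] [Module.IsReflexive A M] {k : ℕ} (hk : k ≤ 2)
    (h : (k : ℕ∞) ≤ LocCoh.depth A A) : (k : ℕ∞) ≤ LocCoh.depth A M := by
  haveI : Module.Finite A (Module.Dual A M) := TF3.finite_dual
  rw [EGA4Alg4.depth_eq_of_equiv (Module.evalEquiv A M)]
  exact TF3.natCast_le_depth_hom hk h

theorem free_of_isReflexive_dim_le_two {A M : Type u} [CommRing A] [IsRegularLocalRing A]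
    [AddCommGroup M] [Module A M] [Module.Finite A M] [Module.IsReflexive A M]
    (hd : ringKrullDim A ≤ 2) : Module.Free A M := by
  rcases subsingleton_or_nontrivial M with hM | hM
  · infer_instance
  obtain ⟨d, hdd⟩ := EGA4Alg4.exists_supportDim_eq (A := A) (M := A)
  rw [Module.supportDim_self_eq_ringKrullDim] at hdd
  have hd2 : d ≤ 2 := by rw [hdd] at hd; exact_mod_cast hd
  have hA := CAlg1.depth_regular A hdd
  have hM2 : (d : ℕ∞) ≤ LocCoh.depth A M := natCast_le_depth_of_isReflexive hd2 hA.ge
  have hpd : HasProjectiveDimensionLE (ModuleCat.of A M) d := CAlg1.hasPD_of_regular A hdd _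
  obtain ⟨e₀, -, he₀, hAB⟩ := CAlg1.auslander_buchsbaum_exists M hpd
  have he : e₀ = 0 := by
    rw [hA] at hAB
    obtain ⟨m, hm⟩ := EGA4Alg4.exists_depth_eq (A := A) (M := M)
    rw [hm] at hAB hM2
    norm_cast at hAB hM2
    omega
  subst he
  haveI : Projective (ModuleCat.of A M) := (projective_iff_hasProjectiveDimensionLE_zero _).2 he₀
  haveI : Module.Projective A M := (IsProjective.iff_projective M).2 inferInstance
  exact Module.free_of_flat_of_isLocalRing

theorem isFinLocFree_iff_reflexive_of_dim_le_two [IsLocallyNoetherian X]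
    (hreg : ∀ x : X, IsRegularLocalRing (X.presheaf.stalk x)) (hdim : topologicalKrullDim X ≤ 2)
    {F : X.Modules} (hF : Coh.IsCoh F) :
    (∀ x : X, Module.IsReflexive (X.presheaf.stalk x) (F.presheaf.stalk x)) ↔ FlatMod.IsFinLocFree F := by
  haveI : F.IsFiniteType := hF.2
  haveI := fun x : X => finite_stalk_of_isFiniteType (M := F) x
  rw [isFinLocFree_iff_free_stalks hF]
  refine forall_congr' fun x => ?_
  haveI := hreg x
  refine ⟨fun h => ?_, fun h => ?_⟩
  · haveI := h
    exact free_of_isReflexive_dim_le_two ((Props58.ringKrullDim_stalk_le X x).trans hdim)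
  · haveI := h
    infer_instance

lemma himage (U W : X.Opens) : U.ι ''ᵁ (U.ι ⁻¹ᵁ W) = W ⊓ U := by
  rw [Scheme.Hom.image_preimage_eq_opensRange_inf, Scheme.Opens.opensRange_ι, inf_comm]

/-- The unit of restriction is an isomorphism exactly when sections extend uniquely. -/
theorem isIso_unit_iff (F : X.Modules) (U : X.Opens) :
    IsIso ((Scheme.Modules.restrictAdjunction U.ι).unit.app F) ↔
      ∀ V : X.Opens, Function.Bijective (res F (inf_le_left : V ⊓ U ≤ V)) := by
  set φ := (Scheme.Modules.restrictAdjunction U.ι).unit.app F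
  have happ : ∀ (V : X.Opens) (s : Γ(F, V)),
      φ.app V s = res F (himage U V).le (res F (inf_le_left : V ⊓ U ≤ V) s) := fun V s => by
    rw [res_res]; rfl
  have hb : ∀ V : X.Opens, Function.Bijective (res F (himage U V).le) := fun V =>
    ⟨fun a b hab => by
      simpa only [res_res, res_self] using congrArg (res F (himage U V).ge) hab,
     fun b => ⟨res F (himage U V).ge b, by rw [res_res, res_self]⟩⟩
  rw [Scheme.Modules.Hom.isIso_iff_isIso_app]
  refine forall_congr' fun V => ?_
  rw [ConcreteCategory.isIso_iff_bijective]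
  have : ⇑(φ.app V) = res F (himage U V).le ∘ res F (inf_le_left : V ⊓ U ≤ V) := funext (happ V)
  rw [this]
  exact Function.Bijective.of_comp_iff' (hb V) _

/-- Free stalks of the restriction come from free stalks. -/
lemma free_stalk_of_finLocFree_restrict {F : X.Modules} (U : X.Opens)
    (h : FlatMod.IsFinLocFree (F.restrict U.ι)) (y : U) :
    Module.Free (X.presheaf.stalk (U.ι y)) (F.presheaf.stalk (U.ι y)) := by
  haveI := free_stalk_of_isFinLocFree h y
  let σ := (asIso (U.ι.stalkMap y)).commRingCatIsoToRingEquiv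
  let e := FBase64.AssSheaf.restrictStalkEquiv U.ι F y
  have he : ∀ a m, e (a • m) = σ a • e m := FBase64.AssSheaf.restrictStalkEquiv_smul U.ι F y
  letI : RingHomInvPair (σ : X.presheaf.stalk (U.ι y) →+* (U : Scheme.{u}).presheaf.stalk y)
      (σ.symm : (U : Scheme.{u}).presheaf.stalk y →+* X.presheaf.stalk (U.ι y)) :=
    RingHomInvPair.of_ringEquiv σ
  letI : RingHomInvPair (σ.symm : (U : Scheme.{u}).presheaf.stalk y →+* X.presheaf.stalk (U.ι y))
      (σ : X.presheaf.stalk (U.ι y) →+* (U : Scheme.{u}).presheaf.stalk y) :=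
    RingHomInvPair.symm _ _
  let l : F.presheaf.stalk (U.ι y) ≃ₛₗ[(σ : X.presheaf.stalk (U.ι y) →+* (U : Scheme.{u}).presheaf.stalk y)]
      (F.restrict U.ι).presheaf.stalk y := { e with map_smul' := he }
  exact (Module.Free.iff_of_equiv
    (σ := (σ : X.presheaf.stalk (U.ι y) →+* (U : Scheme.{u}).presheaf.stalk y))
    (σ' := (σ.symm : (U : Scheme.{u}).presheaf.stalk y →+* X.presheaf.stalk (U.ι y))) l).2 inferInstance

theorem res_bijective_of_reflexive [IsLocallyNoetherian X] (F : X.Modules) (hF : Coh.IsCoh F)
    (U : X.Opens)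
    (hU : ∀ x : X, x ∉ U → (2 : ℕ∞) ≤ LocCoh.depth (X.presheaf.stalk x) (X.presheaf.stalk x))
    (hr : ∀ x : X, Module.IsReflexive (X.presheaf.stalk x) (F.presheaf.stalk x)) (V : X.Opens) :
    Function.Bijective (res F (inf_le_left : V ⊓ U ≤ V)) := by
  haveI : F.IsFiniteType := hF.2
  refine res_bijective_of_depth_two F hF U (fun x hx => ?_) V
  haveI := hr x
  haveI := finite_stalk_of_isFiniteType (M := F) x
  exact natCast_le_depth_of_isReflexive (k := 2) le_rfl (hU x hx)

lemma ne_genericPoint_of_two_le_dim [IsIntegral X] {x : X}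
    (h : (2 : WithBot ℕ∞) ≤ ringKrullDim (X.presheaf.stalk x)) : x ≠ genericPoint X := by
  rintro rfl
  have h0 : ringKrullDim (X.presheaf.stalk (genericPoint X)) = 0 :=
    ringKrullDim_eq_zero_of_isField (Field.toIsField X.functionField)
  rw [h0] at h
  exact absurd h (by norm_num)

theorem reflexive_iff_extension [IsIntegral X] [IsLocallyNoetherian X] (hX : Pi1.IsNormalScheme X)
    (F : X.Modules) (hF : Coh.IsCoh F) :
    (∀ x : X, Module.IsReflexive (X.presheaf.stalk x) (F.presheaf.stalk x)) ↔
      ∃ U : X.Opens, (∀ x : X, x ∉ U → (2 : WithBot ℕ∞) ≤ ringKrullDim (X.presheaf.stalk x)) ∧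
        FlatMod.IsFinLocFree (F.restrict U.ι) ∧ IsIso ((Scheme.Modules.restrictAdjunction U.ι).unit.app F) := by
  haveI : F.IsFiniteType := hF.2
  haveI := fun x : X => finite_stalk_of_isFiniteType (M := F) x
  constructor
  · intro hr
    obtain ⟨U, hU, hfree⟩ := exists_big_open_finLocFree hX hF fun x => by
      haveI := hr x
      infer_instance
    refine ⟨U, hU, hfree, (isIso_unit_iff F U).2 (res_bijective_of_reflexive F hF U (fun x hx => ?_) hr)⟩
    haveI := (hX x).1
    haveI := (hX x).2
    exact CAlg1.two_le_depth_of_isIntegrallyClosed _ (hU x hx)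
  · rintro ⟨U, hU, hfree, hiso⟩
    refine isReflexive_stalks_of_depth F hF fun x => ?_
    by_cases hx : x ∈ U
    · haveI : Module.Free (X.presheaf.stalk x) (F.presheaf.stalk x) :=
        free_stalk_of_finLocFree_restrict U hfree ⟨x, hx⟩
      exact Or.inl inferInstance
    · exact Or.inr ⟨two_le_depth_of_res_bijective F hF U ((isIso_unit_iff F U).1 hiso) x hx,
        ne_genericPoint_of_two_le_dim (hU x hx)⟩

end Groth.Agent.Div89
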