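import Groth.Agent.RegImm10.FpqcDescent
import Groth.Agent.QReg14.BaseChange
import Groth.Agent.S8652
import Mathlib.RingTheory.Regular.Flat

/-!
Regular immersions of the four kinds under flat base change, and relative ones under arbitrary base change.
-/

set_option autoImplicit false
set_option backward.isDefEq.respectTransparency.types false
set_option linter.style.haveILetI false

noncomputable section

universe u

open CategoryTheory CategoryTheory.Limits AlgebraicGeometry TensorProduct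

namespace Groth.Agent.Div89.RegFlat

open RegImm RegImm10.Fpqc

section Alg

variable {R S : Type u} [CommRing R] [CommRing S] [Algebra R S]

/-- Quasi-regularity is preserved by flat extensions. -/
theorem isQuasiRegular_flat [Module.Flat R S] {r : ℕ} {f : Fin r → R} (hf : CAlgX.IsQuasiRegular f) :
    CAlgX.IsQuasiRegular (fun i => algebraMap R S (f i)) := by
  classical
  intro n P hP hev d
  rcases em (d.degree = n) with hd | hd
  swap
  · rw [MvPolynomial.IsHomogeneous.coeff_eq_zero hP hd]; exact zero_mem _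
  obtain ⟨q, hq⟩ := (QReg14.mem_span_pow_iff_monSum (fun i => algebraMap R S (f i)) _).1 hev
  let v : QReg14.Mon r n ⊕ QReg14.Mon r (n + 1) → R :=
    Sum.elim (fun d => ∏ i, f i ^ d.1 i) (fun e => ∏ i, f i ^ e.1 i)
  let b : QReg14.Mon r n ⊕ QReg14.Mon r (n + 1) → S :=
    Sum.elim (fun d => P.coeff d.1) (fun e => -q e)
  have h0 : ∑ x, b x * algebraMap R S (v x) = 0 := by
    rw [Fintype.sum_sum_type]
    simp only [b, v, Sum.elim_inl, Sum.elim_inr, neg_mul, Finset.sum_neg_distrib, map_prod, map_pow]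
    rw [hq, QReg14.eval_eq_monSum _ hP, add_neg_cancel]
  obtain ⟨k, y, c, hy, hb⟩ := PPH.QR.exists_rel v b h0
  let dd : QReg14.Mon r n := ⟨d, QReg14.mem_mon.2 hd⟩
  rw [show P.coeff d = b (Sum.inl dd) from rfl, hb]
  refine Ideal.sum_mem _ fun l _ => Ideal.mul_mem_left _ _ ?_
  have hyl : QReg14.monMap (A := R) f n (fun e => y l (Sum.inl e)) = 0 := by
    rw [QReg14.monMap_apply, Ideal.Quotient.eq_zero_iff_mem]
    have h1 := hy l
    rw [Fintype.sum_sum_type, add_eq_zero_iff_eq_neg] at h1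
    rw [show ∑ e : QReg14.Mon r n, y l (Sum.inl e) * ∏ i, f i ^ e.1 i =
      -∑ e : QReg14.Mon r (n + 1), y l (Sum.inr e) * ∏ i, f i ^ e.1 i by
      simpa [v, mul_comm] using h1]
    exact neg_mem ((QReg14.mem_span_pow_iff_monSum f _).2 ⟨_, rfl⟩)
  have hker : (fun e => y l (Sum.inl e)) ∈ LinearMap.ker (QReg14.redMap (A := R) f n) :=
    QReg14.ker_monMap (A := R) f hf n ▸ (LinearMap.mem_ker.2 hyl)
  have hmem : y l (Sum.inl dd) ∈ Ideal.span (Set.range f) :=
    Ideal.Quotient.eq_zero_iff_mem.1 (congrFun (LinearMap.mem_ker.1 hker) dd)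
  have := Ideal.mem_map_of_mem (algebraMap R S) hmem
  rw [Ideal.map_span, ← Set.range_comp] at this
  exact this

omit [CommRing R] [CommRing S] [Algebra R S] in
theorem map_eq_ofFn (rs : List R) (φ : R → S) : rs.map φ = List.ofFn fun i => φ (rs.get i) := by
  conv_lhs => rw [← List.ofFn_get rs, List.map_ofFn]
  rfl

/-- Quasi- and `H_1`-regular sequences under flat extensions. -/
theorem seq_flat [Module.Flat R S] {k : Kind} (hk : k = .quasi ∨ k = .h1) {rs : List R} (h : k.Seq R rs) :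
    k.Seq S (rs.map (algebraMap R S)) := by
  rw [map_eq_ofFn]
  rcases hk with rfl | rfl
  · exact seq_ofFn (fun _ f => CAlgX.IsQuasiRegular f) (isQuasiRegular_flat h)
  · exact seq_ofFn (fun _ f => CAlgX.IsH1Regular f) (RegImm10.H1D.isH1Regular_flat h)

/-- Quasi- and `H_1`-regular sequences with flat quotient under base change. -/
theorem seq_baseChange {A' : Type u} [CommRing A'] [Algebra R A'] {k : Kind} (hk : k = .quasi ∨ k = .h1)
    {rs : List S} (h : k.Seq S rs) (hflat : Module.Flat R (S ⧸ Ideal.ofList rs)) :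
    k.Seq (A' ⊗[R] S) (rs.map (Algebra.TensorProduct.includeRight (R := R) (A := A'))) := by
  haveI : Module.Flat R (S ⧸ Ideal.span (Set.range rs.get)) := by
    rw [← ofList_eq_span]; exact hflat
  rw [map_eq_ofFn (R := S) (S := A' ⊗[R] S)]
  rcases hk with rfl | rfl
  · exact seq_ofFn (fun _ f => CAlgX.IsQuasiRegular f) (QReg14.isQuasiRegular_baseChange A' rs.get h)
  · exact seq_ofFn (fun _ f => CAlgX.IsH1Regular f) (QReg14.isH1Regular_baseChange A' rs.get h)

end Alg

section Scheme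

/-- The algebras of an affine chart of a fibre product. -/
theorem chart' {X Y X' Y' : Scheme.{u}} {i : Y ⟶ X} {g : X' ⟶ X} {i' : Y' ⟶ X'} {g' : Y' ⟶ Y} (hc : IsPullback g' i' i g) {A : X.Opens} {A' : X'.Opens} {B : Y.Opens}
    (hA : IsAffineOpen A) (hA' : IsAffineOpen A') (hB : IsAffineOpen B)
    (eA : A' ≤ g ⁻¹ᵁ A) (eB : B ≤ i ⁻¹ᵁ A) {W : Y'.Opens} (hW : W = g' ⁻¹ᵁ B ⊓ i' ⁻¹ᵁ A') :
    IsAffineOpen W ∧
      letI := (g.appLE A A' eA).hom.toAlgebra
      letI := (i.appLE A B eB).hom.toAlgebra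
      letI := (i'.appLE A' W (hW.trans_le inf_le_right)).hom.toAlgebra
      ∃ e : (Γ(X', A') ⊗[Γ(X, A)] Γ(Y, B)) ≃ₐ[Γ(X', A')] Γ(Y', W),
        ∀ b, e (1 ⊗ₜ b) = g'.appLE B W (hW.trans_le inf_le_left) b := by
  subst hW
  refine ⟨?_, ?_⟩
  · have : IsAffine _ := hA
    have : IsAffine _ := hA'
    have : IsAffine _ := hB
    exact .of_isIso (Scheme.Hom.isPullback_resLE hc eA eB rfl).isoPullback.hom
  · let W := g' ⁻¹ᵁ B ⊓ i' ⁻¹ᵁ A'
    letI := (g.appLE A A' eA).hom.toAlgebra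
    letI := (i.appLE A B eB).hom.toAlgebra
    letI : Algebra Γ(X', A') Γ(Y', W) := (i'.appLE A' W inf_le_right).hom.toAlgebra
    letI : Algebra Γ(Y, B) Γ(Y', W) := (g'.appLE B W inf_le_left).hom.toAlgebra
    letI : Algebra Γ(X, A) Γ(Y', W) :=
      ((g' ≫ i).appLE A W (fun _ hy => eB hy.1)).hom.toAlgebra
    haveI : IsScalarTower Γ(X, A) Γ(Y, B) Γ(Y', W) := IsScalarTower.of_algebraMap_eq' <| by
      rw [RingHom.algebraMap_toAlgebra, RingHom.algebraMap_toAlgebra, RingHom.algebraMap_toAlgebra,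
        ← CommRingCat.hom_comp, Scheme.Hom.appLE_comp_appLE]
    haveI : IsScalarTower Γ(X, A) Γ(X', A') Γ(Y', W) := IsScalarTower.of_algebraMap_eq' <| by
      rw [RingHom.algebraMap_toAlgebra, RingHom.algebraMap_toAlgebra, RingHom.algebraMap_toAlgebra,
        ← CommRingCat.hom_comp, Scheme.Hom.appLE_comp_appLE]
      simp only [hc.w]
    haveI : Algebra.IsPushout Γ(X, A) Γ(X', A') Γ(Y, B) Γ(Y', W) :=
      CommRingCat.isPushout_iff_isPushout.mp ((isIso_pushoutSection_iff hc eA eB rfl).mp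
        (isIso_pushoutSection_of_isAffineOpen hc eA eB rfl hA hA' hB)).flip
    exact ⟨Algebra.IsPushout.equiv Γ(X, A) Γ(X', A') Γ(Y, B) Γ(Y', W), fun b =>
      (Algebra.IsPushout.equiv_tmul _ _ _ _ (1 : Γ(X', A')) b).trans (by rw [map_one, one_mul]; rfl)⟩


variable {Z X X' : Scheme.{u}}

/-- An affine open of the target containing a given point of an immersion, small and closed over it. -/
theorem exists_closed_affine (i : Z ⟶ X) [IsImmersion i] (z : Z) {O : X.Opens} (hz : i z ∈ O) :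
    ∃ A : X.Opens, IsAffineOpen A ∧ i z ∈ A ∧ A ≤ O ∧ IsClosedImmersion (i ∣_ A) := by
  obtain ⟨_, ⟨A, hA, rfl⟩, hzA, hAO⟩ :=
    X.isBasis_affineOpens.exists_subset_of_mem_open
      (show i z ∈ ((O ⊓ i.coborderRange : X.Opens) : Set X) from ⟨hz, subset_coborder ⟨z, rfl⟩⟩)
      (O ⊓ i.coborderRange).isOpen
  exact ⟨A, hA, hzA, fun x hx => (hAO hx).1,
    FlatMor68.KoszulCalc.isClosedImmersion_restrict i fun x hx => (hAO hx).2⟩

/-- The ideal of a base change over an affine chart. -/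
theorem ker_chart (i : Z ⟶ X) (g : X' ⟶ X) {A : X.Opens} (hA : IsAffineOpen A) [IsClosedImmersion (i ∣_ A)]
    {V : X'.Opens} (hVaff : IsAffineOpen V) (hV : V ≤ g ⁻¹ᵁ A) :
    RingHom.ker ((pullback.snd i g).app V).hom =
      (RingHom.ker (i.app A).hom).map (g.appLE A V hV).hom := by
  have hc : IsPullback (pullback.fst i g) (pullback.snd i g) i g := IsPullback.of_hasPullback i g
  have hW := RegImmB94.isAffineOpen_preimage_of_restrict i hA
  have heq : pullback.snd i g ⁻¹ᵁ V = pullback.fst i g ⁻¹ᵁ (i ⁻¹ᵁ A) ⊓ pullback.snd i g ⁻¹ᵁ V := by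
    refine (inf_eq_right.mpr fun y hy => ?_).symm
    show i (pullback.fst i g y) ∈ A
    rw [show i (pullback.fst i g y) = g (pullback.snd i g y) from congr(($(hc.w)) y)]
    exact hV hy
  obtain ⟨-, ⟨e⟩⟩ := RegImmB94.chart hc hA hVaff hW hV (le_refl _) heq
  letI := (g.appLE A V hV).hom.toAlgebra
  letI a1 : Algebra Γ(X, A) Γ(Z, i ⁻¹ᵁ A) := (i.appLE A (i ⁻¹ᵁ A) (le_refl _)).hom.toAlgebra
  letI a2 : Algebra Γ(X', V) Γ(pullback i g, pullback.snd i g ⁻¹ᵁ V) :=
    ((pullback.snd i g).appLE V _ (heq.trans_le inf_le_right)).hom.toAlgebra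
  have h1 : RingHom.ker (algebraMap Γ(X, A) Γ(Z, i ⁻¹ᵁ A)) = RingHom.ker (i.app A).hom := by
    rw [Scheme.Hom.app_eq_appLE]; rfl
  have hsurj : Function.Surjective (algebraMap Γ(X, A) Γ(Z, i ⁻¹ᵁ A)) := by
    have := RegImmB94.app_surjective_of_restrict i hA
    rw [Scheme.Hom.app_eq_appLE] at this
    exact this
  have h2 := ker_of_tensor hsurj e
  rw [h1] at h2
  rw [Scheme.Hom.app_eq_appLE]
  exact h2

theorem ker_app_ne_top (i : Z ⟶ X) {A : X.Opens} {z : Z} (hz : i z ∈ A) : RingHom.ker (i.app A).hom ≠ ⊤ := by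
  intro h
  have h1 : (1 : Γ(X, A)) ∈ RingHom.ker (i.app A).hom := h ▸ Submodule.mem_top
  rw [RingHom.mem_ker, map_one] at h1
  have h2 := congrArg (Z.presheaf.germ (i ⁻¹ᵁ A) z hz).hom h1
  rw [map_one, map_zero] at h2
  exact one_ne_zero h2

/-- Flat base change of regular immersions of each kind. -/
theorem baseChange_flat (i : Z ⟶ X) (k : Kind) (hi : IsRegularImmersion k i) (g : X' ⟶ X) [Flat g] :
    IsRegularImmersion k (pullback.snd i g) := by
  haveI := hi.1
  haveI : IsImmersion (pullback.snd i g) := MorphismProperty.pullback_snd _ _ hi.1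
  by_cases hk : k = .koszul
  · subst hk
    exact S8652.result i g _ _ (IsPullback.of_hasPullback i g) hi
  refine ⟨inferInstance, fun z => ?_⟩
  obtain ⟨⟨A, hA⟩, hzA, hcl, rs, hrs, hker⟩ := hi.2 (pullback.fst i g z)
  haveI := hcl
  have hz : pullback.snd i g z ∈ g ⁻¹ᵁ A := by
    show g (pullback.snd i g z) ∈ A
    rw [← Scheme.Hom.comp_apply, ← pullback.condition, Scheme.Hom.comp_apply]
    exact hzA
  obtain ⟨V, hVaff, hzV, hV, hclV⟩ := exists_closed_affine (pullback.snd i g) z hz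
  letI := (g.appLE A V hV).hom.toAlgebra
  haveI : Module.Flat Γ(X, A) Γ(X', V) := g.flat_appLE hA hVaff hV
  have hker' : RingHom.ker ((pullback.snd i g).app V).hom =
      Ideal.ofList (rs.map (algebraMap Γ(X, A) Γ(X', V))) := by
    rw [ker_chart i g hA hVaff hV, hker, Ideal.map_ofList]; rfl
  refine ⟨⟨V, hVaff⟩, hzV, hclV, rs.map (algebraMap Γ(X, A) Γ(X', V)), ?_, hker'⟩
  cases k with
  | koszul => exact absurd rfl hk
  | h1 => exact seq_flat (Or.inr rfl) hrs
  | quasi => exact seq_flat (Or.inl rfl) hrs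
  | regular =>
    refine ⟨hrs.toIsWeaklyRegular.of_flat, fun ht => ?_⟩
    rw [smul_eq_mul, Ideal.mul_top] at ht
    exact ker_app_ne_top (pullback.snd i g) hzV (hker'.trans ht.symm)

/-- Base change of relatively quasi- and `H_1`-regular immersions. -/
theorem baseChange_rel {S S' : Scheme.{u}} (f : X ⟶ S) (i : Z ⟶ X) (k : Kind) (hk : k = .quasi ∨ k = .h1)
    (hi : IsRelRegularImmersion k f i) (g : S' ⟶ S) :
    IsRelRegularImmersion k (pullback.snd f g) (pullback.snd i (pullback.fst f g)) := by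
  obtain ⟨hreg, hflat⟩ := hi
  haveI := hreg.1
  let p := pullback.fst f g
  let q := pullback.snd f g
  haveI : IsImmersion (pullback.snd i p) := MorphismProperty.pullback_snd _ _ hreg.1
  have hfl : Flat (pullback.snd i p ≫ q) := by
    have hc : IsPullback (pullback.fst i p) (pullback.snd i p ≫ q) (i ≫ f) g :=
      (IsPullback.of_hasPullback i p).paste_vert (IsPullback.of_hasPullback f g)
    exact MorphismProperty.of_isPullback hc hflat
  refine ⟨⟨inferInstance, fun z => ?_⟩, hfl⟩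
  obtain ⟨⟨A, hA⟩, hzA, hcl, rs, hrs, hker⟩ := hreg.2 (pullback.fst i p z)
  -- shrink the base and the chart
  let s := f (i (pullback.fst i p z))
  obtain ⟨_, ⟨T, hT, rfl⟩, hsT, -⟩ :=
    S.isBasis_affineOpens.exists_subset_of_mem_open (Set.mem_univ s) isOpen_univ
  haveI := hcl
  obtain ⟨b, hb, hzb⟩ := hA.exists_basicOpen_le (V := f ⁻¹ᵁ T) ⟨i (pullback.fst i p z), hsT⟩ hzA
  have hseq := seq_res hA b rfl hk hrs
  have hkerA := ker_res (i := i) hA b rfl
  rw [hker, Ideal.map_ofList] at hkerA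
  haveI hclA := RegImmB94.isClosedImmersion_restrict_of_le i (X.basicOpen_le b)
  set rs' := rs.map (X.presheaf.map (homOfLE (X.basicOpen_le b)).op).hom
  have hAT : X.basicOpen b ≤ f ⁻¹ᵁ T := hb
  let x' := pullback.snd i p z
  have hx1 : p x' = i (pullback.fst i p z) := by
    rw [← Scheme.Hom.comp_apply, ← pullback.condition, Scheme.Hom.comp_apply]
  have hx2 : g (q x') = s := by
    rw [← Scheme.Hom.comp_apply, ← pullback.condition, Scheme.Hom.comp_apply]
    exact congrArg f hx1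
  obtain ⟨_, ⟨T', hT', rfl⟩, hsT', hTT⟩ :=
    S'.isBasis_affineOpens.exists_subset_of_mem_open (show q x' ∈ g ⁻¹ᵁ T from (show g (q x') ∈ T by rw [hx2]; exact hsT)) (g ⁻¹ᵁ T).isOpen
  have hTT : T' ≤ g ⁻¹ᵁ T := hTT
  obtain ⟨hW, e, he⟩ := chart' ((IsPullback.of_hasPullback f g)) hT hT' (hA.basicOpen b) hTT hAT rfl
  set W := p ⁻¹ᵁ X.basicOpen b ⊓ q ⁻¹ᵁ T'
  have hWp : W ≤ p ⁻¹ᵁ X.basicOpen b := inf_le_left
  have hzW : x' ∈ W := ⟨show p x' ∈ X.basicOpen b from hx1.symm ▸ hzb, hsT'⟩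
  letI := (g.appLE T T' hTT).hom.toAlgebra
  letI := (f.appLE T (X.basicOpen b) hAT).hom.toAlgebra
  letI := (q.appLE T' W inf_le_right).hom.toAlgebra
  have hflA : Module.Flat Γ(S, T) (Γ(X, X.basicOpen b) ⧸ Ideal.ofList rs') := by
    haveI := hflat
    have hB := RegImmB94.isAffineOpen_preimage_of_restrict i (hA.basicOpen b)
    have hs := RegImmB94.app_surjective_of_restrict i (hA.basicOpen b)
    have eB : i ⁻¹ᵁ X.basicOpen b ≤ (i ≫ f) ⁻¹ᵁ T := fun _ hy => hAT hy
    letI := ((i ≫ f).appLE T (i ⁻¹ᵁ X.basicOpen b) eB).hom.toAlgebra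
    haveI : Module.Flat Γ(S, T) Γ(Z, i ⁻¹ᵁ X.basicOpen b) := (i ≫ f).flat_appLE hT hB eB
    let φ : Γ(X, X.basicOpen b) →ₐ[Γ(S, T)] Γ(Z, i ⁻¹ᵁ X.basicOpen b) :=
      { (i.app (X.basicOpen b)).hom with
        commutes' := fun r => by
          show (f.appLE T (X.basicOpen b) hAT ≫ i.app (X.basicOpen b)) r = _
          rw [Scheme.Hom.app_eq_appLE, Scheme.Hom.appLE_comp_appLE]
          rfl }
    have hk' : RingHom.ker φ = Ideal.ofList rs' := hkerA
    exact Module.Flat.of_linearEquiv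
      (((Ideal.quotientEquivAlgOfEq Γ(S, T) hk'.symm).trans
        (Ideal.quotientKerAlgEquivOfSurjective (f := φ) hs)).toLinearEquiv)
  have hinc : (e.toRingEquiv : _ → _) ∘ (Algebra.TensorProduct.includeRight (R := Γ(S, T)) (A := Γ(S', T'))) =
      (p.appLE (X.basicOpen b) W hWp).hom := funext fun a => he a
  have hseq' := seq_equiv e.toRingEquiv hk (seq_baseChange (A' := Γ(S', T')) hk hseq hflA)
  rw [List.map_map, hinc] at hseq'
  obtain ⟨V, hVaff, hzV, hVW, hclV⟩ := exists_closed_affine (pullback.snd i p) z hzW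
  obtain ⟨c, hc, hzc⟩ := hW.exists_basicOpen_le (V := V) ⟨x', hzV⟩ hzW
  have hseq'' := seq_res hW c rfl hk hseq'
  refine ⟨⟨_, hW.basicOpen c⟩, hzc, RegImmB94.isClosedImmersion_restrict_of_le _ hc, _, hseq'', ?_⟩
  have hle : (pullback f g).basicOpen c ≤ p ⁻¹ᵁ X.basicOpen b :=
    ((pullback f g).basicOpen_le c).trans hWp
  rw [ker_chart i p (hA.basicOpen b) (hW.basicOpen c) hle, hkerA, Ideal.map_ofList, List.map_map]
  simp only [rs', List.map_map]
  refine congrArg Ideal.ofList (List.map_congr_left fun a _ => ?_)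
  simp only [Function.comp_apply]
  generalize (X.presheaf.map (homOfLE (X.basicOpen_le b)).op).hom a = a
  exact congr($((p.appLE_map (V := W) hWp (homOfLE ((pullback f g).basicOpen_le c)).op).symm) a)

end Scheme

end Groth.Agent.Div89.RegFlat

end
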