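import Groth.Agent.Div89.DepthTwo
import Groth.Agent.QC70.Closure
import Groth.Agent.Props58.LocFree.Basis
import Groth.Agent.Div89.Cartier

/-!
Depth at least two from extension of sections across a point.
-/

set_option autoImplicit false
set_option linter.style.haveILetI false
set_option backward.isDefEq.respectTransparency.types false

noncomputable section

universe u

open CategoryTheory AlgebraicGeometry Opposite TopologicalSpace IsLocalRing
open Groth.Agent.QC70 Groth.Agent.Props58.LocFree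

namespace Groth.Agent.Div89

variable {X : Scheme.{u}}

lemma exists_nhd_eq {F : X.Modules} {x : X} {ι : Type*} [Finite ι] {W : X.Opens} (hx : x ∈ W)
    (a b : ι → Γ(F, W)) (h : ∀ i, germM F W x hx (a i) = germM F W x hx (b i)) :
    ∃ (V : X.Opens) (hV : V ≤ W), x ∈ V ∧ ∀ i, res F hV (a i) = res F hV (b i) := by
  choose V hxV i₁ i₂ he using fun i => TopCat.Presheaf.germ_eq F.presheaf x hx hx _ _ (h i)
  let O : X.Opens := ⟨(W : Set X) ∩ ⋂ i, (V i : Set X), W.2.inter (isOpen_iInter_of_finite fun i => (V i).2)⟩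
  have hOV : ∀ i, O ≤ V i := fun i z hz => Set.mem_iInter.1 hz.2 i
  refine ⟨O, fun z hz => hz.1, ⟨hx, Set.mem_iInter.2 hxV⟩, fun i => ?_⟩
  rw [← res_res (i₁ i).le (hOV i), ← res_res (i₂ i).le (hOV i)]
  exact congrArg (res F (hOV i)) (he i)

lemma bijective_smul_res {F : X.Modules} {W V : X.Opens} (h : V ≤ W) (a : Γ(X, W))
    (hV : V ≤ X.basicOpen a) : Function.Bijective fun m : Γ(F, V) => resO X h a • m := by
  refine (IsUnit.smul_bijective ?_ : Function.Bijective fun m : Γ(F, V) => resO X h a • m)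
  have := (RingedSpace.isUnit_res_basicOpen X.toLocallyRingedSpace.toRingedSpace a).map
    (X.presheaf.map (homOfLE hV).op).hom
  convert this using 1
  exact (resO_resO (X.basicOpen_le a) hV a).symm

/-- Depth at least two at a point across which sections extend uniquely. -/
theorem two_le_depth_of_extend (F : X.Modules) (x : X) [IsNoetherianRing (X.presheaf.stalk x)]
    [Module.Finite (X.presheaf.stalk x) (F.presheaf.stalk x)]
    (H : ∀ (W : X.Opens) (hx : x ∈ W) (n : ℕ) (a : Fin n → Γ(X, W)),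
      Ideal.span (Set.range fun i => X.presheaf.germ W x hx (a i)) = maximalIdeal (X.presheaf.stalk x) →
      ∃ W₀ : X.Opens, x ∈ W₀ ∧ ∀ V : X.Opens, V ≤ W₀ →
        Function.Bijective (res F (inf_le_left : V ⊓ (⨆ i, X.basicOpen (a i)) ≤ V))) :
    (2 : ℕ∞) ≤ LocCoh.depth (X.presheaf.stalk x) (F.presheaf.stalk x) := by
  classical
  let A := X.presheaf.stalk x
  let M := F.presheaf.stalk x
  obtain ⟨n, c, hc⟩ : ∃ (n : ℕ) (c : Fin n → A), Ideal.span (Set.range c) = maximalIdeal A :=
    Submodule.fg_iff_exists_fin_generating_family.1 (IsNoetherian.noetherian (maximalIdeal A))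
  obtain ⟨W, -, hxW, a, ha⟩ := exists_common_lift (U := (⊤ : X.Opens)) (y := x) trivial c
  have hspan : Ideal.span (Set.range fun i => X.presheaf.germ W x hxW (a i)) = maximalIdeal A := by
    rw [funext ha]; exact hc
  obtain ⟨W₀, hxW₀, hH⟩ := H W hxW n a hspan
  -- the separation half
  have sep : ∀ (z : M), (∀ i, c i • z = 0) → z = 0 := by
    intro z hz
    obtain ⟨W₁, hxW₁, m, rfl⟩ := germM_exist z
    let W₂ := W₁ ⊓ W ⊓ W₀
    have hx2 : x ∈ W₂ := ⟨⟨hxW₁, hxW⟩, hxW₀⟩
    have h21 : W₂ ≤ W₁ := inf_le_left.trans inf_le_left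
    have h2W : W₂ ≤ W := inf_le_left.trans inf_le_right
    obtain ⟨V, hV, hxV, hVe⟩ := exists_nhd_eq hx2 (fun i => resO X h2W (a i) • res F h21 m) (fun _ => 0)
      fun i => by
        rw [germM_smul, germM_res, germ_resO, ha, hz]
        exact (germM_zero hx2).symm
    have h0 : res F (hV.trans h21) m = 0 := by
      refine (hH V (hV.trans inf_le_right)).1 ?_
      rw [res_zero]
      refine section_ext F _ _ fun p hp => ?_
      obtain ⟨i, hi⟩ := Opens.mem_iSup.1 hp.2
      refine ⟨V ⊓ X.basicOpen (a i), inf_le_inf_left V (le_iSup (fun i => X.basicOpen (a i)) i), ⟨hp.1, hi⟩, ?_⟩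
      refine (bijective_smul_res (inf_le_left.trans (hV.trans h2W)) (a i) inf_le_right).1 ?_
      show resO X _ (a i) • _ = resO X _ (a i) • _
      rw [res_zero, smul_zero, res_res, res_res]
      have := congrArg (res F (inf_le_left : V ⊓ X.basicOpen (a i) ≤ V)) (hVe i)
      rwa [res_zero, res_zero, res_res, res_smul, resO_resO, res_res] at this
    rw [← germM_res (hV.trans h21) hxV m, h0]
    exact germM_zero hxV
  -- a regular element of the maximal ideal
  obtain ⟨t, htm, ht⟩ : ∃ t ∈ maximalIdeal A, IsSMulRegular M t := by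
    by_contra! hne
    rcases subsingleton_or_nontrivial M with hM | hM
    · exact hne 0 (zero_mem _) fun p q _ => Subsingleton.elim p q
    have hass := EGA4Alg4.maximalIdeal_mem_assoc_iff.2 hne
    obtain ⟨-, z, hz⟩ := isAssociatedPrime_iff.mp hass
    have hz0 : z = 0 := sep z fun i => by
      have : c i ∈ maximalIdeal A := hc ▸ Ideal.subset_span ⟨i, rfl⟩
      rw [hz, Submodule.mem_colon_singleton, Submodule.mem_bot] at this
      exact this
    refine (maximalIdeal.isMaximal A).ne_top (eq_top_iff.2 fun r _ => ?_)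
    rw [hz, Submodule.mem_colon_singleton, hz0, smul_zero]
    exact zero_mem _
  rw [← EGA4Alg4.depth_quotSMulTop_add_one htm ht]
  refine le_of_eq_of_le (show (2 : ℕ∞) = 1 + 1 from rfl) (add_le_add ?_ le_rfl)
  rw [Order.one_le_iff_pos, pos_iff_ne_zero, Ne, EGA4Alg4.depth_eq_zero_iff]
  intro hass
  obtain ⟨-, zb, hzb⟩ := isAssociatedPrime_iff.mp hass
  obtain ⟨z, rfl⟩ := Submodule.Quotient.mk_surjective _ zb
  have hzi : ∀ i, ∃ w : M, c i • z = t • w := fun i => by
    have : c i ∈ maximalIdeal A := hc ▸ Ideal.subset_span ⟨i, rfl⟩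
    rw [hzb, Submodule.mem_colon_singleton, Submodule.mem_bot, ← Submodule.Quotient.mk_smul,
      Submodule.Quotient.mk_eq_zero, Submodule.mem_smul_pointwise_iff_exists] at this
    obtain ⟨w, -, hw⟩ := this
    exact ⟨w, hw.symm⟩
  choose w hw using hzi
  suffices hz : ∃ v : M, z = t • v by
    obtain ⟨v, hv⟩ := hz
    refine (maximalIdeal.isMaximal A).ne_top (eq_top_iff.2 fun r _ => ?_)
    rw [hzb, Submodule.mem_colon_singleton, (Submodule.Quotient.mk_eq_zero _).2
      (hv.symm ▸ Submodule.smul_mem_pointwise_smul v t ⊤ trivial), smul_zero]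
    exact zero_mem _
  have hcomm : ∀ i j, c j • w i = c i • w j := fun i j => ht (by
    show t • c j • w i = t • c i • w j
    rw [smul_comm t, ← hw i, smul_comm t, ← hw j, smul_comm])
  obtain ⟨W₁, hxW₁, T, hT⟩ := TopCat.Presheaf.exists_germ_eq X.presheaf t
  obtain ⟨W₂, hxW₂, sec, hsec⟩ := exists_lift_family (M := F) x (Fin.cons z w)
  let O := W₁ ⊓ W₂ ⊓ W ⊓ W₀
  have hxO : x ∈ O := ⟨⟨⟨hxW₁, hxW₂⟩, hxW⟩, hxW₀⟩
  have hO1 : O ≤ W₁ := inf_le_left.trans (inf_le_left.trans inf_le_left)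
  have hO2 : O ≤ W₂ := inf_le_left.trans (inf_le_left.trans inf_le_right)
  have hOW : O ≤ W := inf_le_left.trans inf_le_right
  let a' : Fin n → Γ(X, O) := fun i => resO X hOW (a i)
  let T' : Γ(X, O) := resO X hO1 T
  let m0 : Γ(F, O) := res F hO2 (sec 0)
  let m : Fin n → Γ(F, O) := fun i => res F hO2 (sec i.succ)
  have ga : ∀ i, X.presheaf.germ O x hxO (a' i) = c i := fun i => (germ_resO hOW hxO _).trans (ha i)
  have gm0 : germM F O x hxO m0 = z := by rw [germM_res, hsec]; rfl
  have gm : ∀ i, germM F O x hxO (m i) = w i := fun i => by rw [germM_res, hsec]; rfl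
  have gT : X.presheaf.germ O x hxO T' = t := (germ_resO hO1 hxO _).trans hT
  obtain ⟨V₁, hV₁, hxV₁, e₁⟩ := exists_nhd_eq hxO (fun i => a' i • m0) (fun i => T' • m i) fun i => by
    rw [germM_smul, germM_smul, ga, gm0, gT, gm, hw]
  obtain ⟨V₂, hV₂, hxV₂, e₂⟩ := exists_nhd_eq hxO (fun p : Fin n × Fin n => a' p.2 • m p.1)
    (fun p => a' p.1 • m p.2) fun p => by
    rw [germM_smul, germM_smul, ga, ga, gm, gm, hcomm]
  let V := V₁ ⊓ V₂
  have hVO : V ≤ O := inf_le_left.trans hV₁
  have e₁' : ∀ i, resO X hVO (a' i) • res F hVO m0 = resO X hVO T' • res F hVO (m i) := fun i => by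
    have := congrArg (res F (inf_le_left : V ≤ V₁)) (e₁ i)
    rwa [res_res, res_res, res_smul, res_smul] at this
  have e₂' : ∀ i j, resO X hVO (a' j) • res F hVO (m i) = resO X hVO (a' i) • res F hVO (m j) := fun i j => by
    have := congrArg (res F (inf_le_right : V ≤ V₂)) (e₂ (i, j))
    rwa [res_res, res_res, res_smul, res_smul] at this
  let D := V ⊓ ⨆ i, X.basicOpen (a i)
  let Di : Fin n → X.Opens := fun i => V ⊓ X.basicOpen (a i)
  have hDi : ∀ i, Di i ≤ D := fun i => inf_le_inf_left V (le_iSup (fun i => X.basicOpen (a i)) i)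
  have hcov : D ≤ ⨆ i, Di i := fun p hp => by
    obtain ⟨i, hi⟩ := Opens.mem_iSup.1 hp.2
    exact Opens.mem_iSup.2 ⟨i, hp.1, hi⟩
  have hDV : ∀ i, Di i ≤ V := fun i => inf_le_left
  choose s hs using fun i => (bijective_smul_res (F := F) ((hDV i).trans (hVO.trans hOW)) (a i)
    (inf_le_right : Di i ≤ X.basicOpen (a i))).2 (res F (hDV i) (res F hVO (m i)))
  have hs' : ∀ i, resO X ((hDV i).trans (hVO.trans hOW)) (a i) • s i =
      res F (hDV i) (res F hVO (m i)) := hs
  obtain ⟨S, hS⟩ := exists_glue F Di hDi hcov s fun i j => by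
    have hi : Di i ⊓ Di j ≤ V := inf_le_left.trans (hDV i)
    apply (bijective_smul_res (hi.trans (hVO.trans hOW)) (a i) (inf_le_left.trans inf_le_right)).1
    apply (bijective_smul_res (hi.trans (hVO.trans hOW)) (a j) (inf_le_right.trans inf_le_right)).1
    show resO X _ (a j) • resO X _ (a i) • res F _ (s i) = resO X _ (a j) • resO X _ (a i) • res F _ (s j)
    have h1 := congrArg (res F (inf_le_left : Di i ⊓ Di j ≤ Di i)) (hs i)
    have h2 := congrArg (res F (inf_le_right : Di i ⊓ Di j ≤ Di j)) (hs j)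
    simp only [res_smul, resO_resO, res_res] at h1 h2
    rw [h1, smul_comm, h2]
    have := congrArg (res F hi) (e₂' i j)
    simp only [res_smul, resO_resO, res_res, a'] at this
    exact this
  obtain ⟨S', hS'⟩ := (hH V (hVO.trans inf_le_right)).2 S
  refine ⟨germM F V x ⟨hxV₁, hxV₂⟩ S', ?_⟩
  have key : res F hVO m0 = resO X hVO T' • S' := by
    refine (hH V (hVO.trans inf_le_right)).1 (section_ext F _ _ fun p hp => ?_)
    obtain ⟨i, hi⟩ := Opens.mem_iSup.1 hp.2
    refine ⟨Di i, hDi i, ⟨hp.1, hi⟩, ?_⟩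
    apply (bijective_smul_res ((hDV i).trans (hVO.trans hOW)) (a i) (inf_le_right : Di i ≤ X.basicOpen (a i))).1
    show resO X _ (a i) • _ = resO X _ (a i) • _
    rw [res_smul, res_smul, hS', hS i, smul_comm (resO X _ (a i)) (resO X _ _) (s i), hs' i]
    have := congrArg (res F (hDV i)) (e₁' i)
    simp only [res_smul, resO_resO, res_res, a'] at this ⊢
    exact this
  have := congrArg (germM F V x ⟨hxV₁, hxV₂⟩) key
  rwa [germM_res, gm0, germM_smul, germ_resO, gT] at this

/-- Near a point, generators of the maximal ideal cut out the closure of the point. -/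
lemma exists_nhd_le_iSup_basicOpen [IsLocallyNoetherian X] {x : X} {W : X.Opens} (hx : x ∈ W) {n : ℕ}
    (a : Fin n → Γ(X, W))
    (ha : Ideal.span (Set.range fun i => X.presheaf.germ W x hx (a i)) = maximalIdeal (X.presheaf.stalk x)) :
    ∃ W₀ : X.Opens, x ∈ W₀ ∧ W₀ ≤ W ∧
      ∀ y ∈ W₀, ¬ x ⤳ y → y ∈ ⨆ i, X.basicOpen (a i) := by
  classical
  obtain ⟨U, hxU, hUW⟩ := exists_affine_le hx
  haveI := isNoetherianRing_sections U
  obtain ⟨k, b, hb⟩ := Submodule.fg_iff_exists_fin_generating_family.1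
    (IsNoetherian.noetherian (primeAt U x hxU))
  have hbm : ∀ j, ∃ c : Fin n → X.presheaf.stalk x,
      ∑ i, c i * X.presheaf.germ W x hx (a i) = X.presheaf.germ U.1 x hxU (b j) := by
    intro j
    have hm : X.presheaf.germ U.1 x hxU (b j) ∈ maximalIdeal (X.presheaf.stalk x) :=
      (mem_maximalIdeal _).2 fun hu => (germ_isUnit_iff U x hxU (b j)).1 hu
        (hb ▸ Submodule.subset_span ⟨j, rfl⟩)
    rw [← ha, Ideal.span, Submodule.mem_span_range_iff_exists_fun] at hm
    exact hm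
  choose c hc using hbm
  choose V hV hxV c' hc' using fun j => exists_common_lift (U := U.1) hxU (c j)
  choose V' hxV' i₁ i₂ he using fun j => TopCat.Presheaf.germ_eq X.presheaf x (hxV j) (hxV j)
    (∑ i, c' j i * resO X ((hV j).trans hUW) (a i)) (resO X (hV j) (b j)) (by
      rw [map_sum, germ_resO, ← hc j]
      exact Finset.sum_congr rfl fun i _ => by rw [map_mul, hc', germ_resO])
  let O : X.Opens := ⟨(U.1 : Set X) ∩ ⋂ j, (V' j : Set X),
    U.1.2.inter (isOpen_iInter_of_finite fun j => (V' j).2)⟩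
  refine ⟨O, ⟨hxU, Set.mem_iInter.2 hxV'⟩, fun z hz => hUW hz.1, fun y hy hxy => ?_⟩
  by_contra hno
  refine hxy ((specializes_iff_primeAt_le U hy.1 hxU).2 ?_)
  rw [← hb, Submodule.span_le]
  rintro _ ⟨j, rfl⟩
  have hyV' : y ∈ V' j := Set.mem_iInter.1 hy.2 j
  refine (mem_primeAt_iff U y hy.1 (b j)).2 fun hyb => ?_
  have hu := (Scheme.mem_basicOpen X (b j) y hy.1).1 hyb
  have hmem : ¬ IsUnit (X.presheaf.germ U.1 y hy.1 (b j)) := by
    rw [← mem_nonunits_iff, ← mem_maximalIdeal]
    have := congrArg (X.presheaf.germ (V' j) y hyV') (he j)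
    rw [TopCat.Presheaf.germ_res_apply, TopCat.Presheaf.germ_res_apply, germ_resO, map_sum] at this
    rw [← this]
    refine Ideal.sum_mem _ fun i _ => ?_
    rw [map_mul, germ_resO]
    refine Ideal.mul_mem_left _ _ ((mem_maximalIdeal _).2 fun hu' => hno (Opens.mem_iSup.2 ⟨i, ?_⟩))
    exact (Scheme.mem_basicOpen X (a i) y _).2 hu'
  exact hmem hu

theorem two_le_depth_of_res_bijective [IsLocallyNoetherian X] (F : X.Modules) (hF : Coh.IsCoh F)
    (U : X.Opens) (hb : ∀ V : X.Opens, Function.Bijective (res F (inf_le_left : V ⊓ U ≤ V)))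
    (x : X) (hx : x ∉ U) :
    (2 : ℕ∞) ≤ LocCoh.depth (X.presheaf.stalk x) (F.presheaf.stalk x) := by
  haveI : F.IsFiniteType := hF.2
  haveI := finite_stalk_of_isFiniteType (M := F) x
  refine two_le_depth_of_extend F x fun W hxW n a ha => ?_
  obtain ⟨W₀, hxW₀, -, hcov⟩ := exists_nhd_le_iSup_basicOpen hxW a ha
  refine ⟨W₀, hxW₀, fun V hV => ?_⟩
  set D := V ⊓ ⨆ i, X.basicOpen (a i)
  have hVU : V ⊓ U ≤ D := fun y hy =>
    ⟨hy.1, hcov y (hV hy.1) fun hxy => hx (hxy.mem_open U.2 hy.2)⟩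
  refine ⟨fun p q hpq => (hb V).1 ?_, fun s => ?_⟩
  · rw [← res_res (inf_le_left : D ≤ V) hVU, hpq, res_res]
  · obtain ⟨t, ht⟩ := (hb V).2 (res F hVU s)
    refine ⟨t, (hb D).1 ?_⟩
    have h' : D ⊓ U ≤ V ⊓ U := inf_le_inf_right U inf_le_left
    have := congrArg (res F h') ht
    rw [res_res, res_res] at this
    rw [res_res]
    exact this

end Groth.Agent.Div89
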