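import Groth.Agent.Div89.HomSheaf
import Groth.Agent.Div89.Reflexive
import Groth.Agent.Div89.FreeStalks
import Groth.Agent.Div89.StalkOpen
import Groth.Agent.QC70.GenIso
import Groth.Agent.FlatMor68.PullbackDescent
import Groth.Agent.Ega11.SchemeTop

/-! Reflexivity of coherent modules is read off on stalks. -/

set_option autoImplicit false
set_option linter.style.haveILetI false
set_option backward.isDefEq.respectTransparency.types false

noncomputable section

universe u

open CategoryTheory AlgebraicGeometry Opposite TopologicalSpace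
open Groth.Agent.QC70 Groth.Agent.Props58.LocFree

namespace Groth.Agent.Div89

variable {X : Scheme.{u}} [IsLocallyNoetherian X]

theorem isCoh_homSh (F G : X.Modules) (hF : Coh.IsCoh F) (hG : Coh.IsCoh G) :
    Coh.IsCoh (RefHull.homSh F G) := by
  haveI : CohB1.IsFP F := isFP_of_isCoh hF
  haveI : F.IsQuasicoherent := hF.1
  haveI : F.IsFiniteType := hF.2
  haveI : G.IsQuasicoherent := hG.1
  haveI : G.IsFiniteType := hG.2
  haveI : (RefHull.homSh F G).IsQuasicoherent := isQCoh_homSh F G
  refine ⟨inferInstance, isFiniteType_of_finite_sections _ (fun U : X.affineOpens => U.1)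
    (iSup_affineOpens_eq_top X) (fun U => U.2) fun U => ?_⟩
  haveI := IsLocallyNoetherian.component_noetherian U
  haveI := finite_sections_of_isFiniteType F U.2
  haveI := finite_sections_of_isFiniteType G U.2
  obtain ⟨n, π, hπ⟩ := Module.Finite.exists_fin' Γ(X, U.1) Γ(F, U.1)
  haveI : Module.Finite Γ(X, U.1) (Γ(F, U.1) →ₗ[Γ(X, U.1)] Γ(G, U.1)) :=
    Module.Finite.of_injective (LinearMap.lcomp Γ(X, U.1) Γ(G, U.1) π) fun a b h =>
      (LinearMap.cancel_right hπ).1 h
  exact Module.Finite.equiv (secEquiv F G U.2).symm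

theorem isCoh_structureModule : Coh.IsCoh (Coh.structureModule X) := by
  haveI : (Coh.structureModule X).IsQuasicoherent := inferInstance
  refine ⟨inferInstance, ?_⟩
  exact isFiniteType_unit X

theorem isCoh_dual (F : X.Modules) (hF : Coh.IsCoh F) : Coh.IsCoh (RefHull.dual F) :=
  isCoh_homSh F _ hF isCoh_structureModule

theorem bijective_bidualAt_iff (F : X.Modules) (hF : Coh.IsCoh F) (x : X) :
    Function.Bijective (RefHull.bidualAt F x) ↔ RefHull.IsReflexiveAt F x := by
  haveI : CohB1.IsFP F := isFP_of_isCoh hF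
  let A := X.presheaf.stalk x
  let M := F.presheaf.stalk x
  let O := (Coh.structureModule X).presheaf.stalk x
  let u : A ≃ₗ[A] O := unitStalkEquiv x
  let ε : (RefHull.dual F).presheaf.stalk x ≃ₗ[A] (M →ₗ[A] A) :=
    (LinearEquiv.ofBijective (RefHull.evalStalk F (Coh.structureModule X) x)
      (evalStalk_bijective F _ x)).trans (LinearEquiv.congrRight u.symm)
  let E : Module.Dual A (Module.Dual A M) ≃ₗ[A]
      RefHull.StalkHom (RefHull.dual F) (Coh.structureModule X) x :=
    LinearEquiv.arrowCongr ε.symm u
  have hcomp : ⇑(RefHull.bidualAt F x) = E ∘ Module.Dual.eval A M := funext fun v =>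
    LinearMap.ext fun θ => by
      rw [Function.comp_apply, RefHull.bidualAt_apply]
      show RefHull.evalStalk F _ x θ v = u (ε θ v)
      show _ = u (u.symm _)
      rw [LinearEquiv.apply_symm_apply]
      rfl
  rw [hcomp, Function.Bijective.of_comp_iff' E.bijective]
  exact ⟨fun h => ⟨h⟩, fun h => h.bijective_dual_eval'⟩

theorem isReflexive_iff_forall_isReflexiveAt (F : X.Modules) (hF : Coh.IsCoh F) :
    RefHull.IsReflexive F ↔ ∀ x : X, RefHull.IsReflexiveAt F x := by
  haveI : CohB1.IsFP (RefHull.dual F) := isFP_of_isCoh (isCoh_dual F hF)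
  show IsIso (RefHull.bidualMap F) ↔ _
  rw [FlatMor68.PullbackDescent.isIso_iff]
  refine forall_congr' fun x => ?_
  rw [← bijective_bidualAt_iff F hF x]
  have hcomp : ⇑(RefHull.bidualAt F x) =
      RefHull.evalStalk (RefHull.dual F) (Coh.structureModule X) x ∘
        stalkMapM (RefHull.bidualMap F) x := funext fun v => by
    obtain ⟨W, hxW, m, rfl⟩ := germM_exist v
    rw [Function.comp_apply]
    refine Eq.trans ?_ (congrArg (RefHull.evalStalk (RefHull.dual F) (Coh.structureModule X) x)
      (stalkMapM_germ (RefHull.bidualMap F) hxW m).symm)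
    rw [evalStalk_germ']
    rfl
  rw [hcomp, Function.Bijective.of_comp_iff' (evalStalk_bijective _ _ x)]

lemma bijective_localized_mono {R M N : Type u} [CommRing R] [AddCommGroup M] [Module R M]
    [AddCommGroup N] [Module R N] (f : M →ₗ[R] N) {S T : Submonoid R} (hST : S ≤ T)
    (h : Function.Bijective (LocalizedModule.map S f)) :
    Function.Bijective (LocalizedModule.map T f) := by
  refine ⟨(injective_iff_map_eq_zero _).2 fun z hz => ?_, fun z => ?_⟩
  · induction z using LocalizedModule.induction_on with
    | h m t =>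
      rw [LocalizedModule.map_mk, ← LocalizedModule.zero_mk (1 : T), LocalizedModule.mk_eq] at hz
      obtain ⟨⟨c, hcT⟩, hc⟩ := hz
      simp only [Submonoid.smul_def, Submonoid.coe_one, one_smul, smul_zero] at hc
      have h0 : LocalizedModule.mk (c • m) (1 : S) = 0 := h.1 (by
        rw [LocalizedModule.map_mk, map_smul, hc, map_zero, LocalizedModule.zero_mk])
      rw [← LocalizedModule.zero_mk (1 : S), LocalizedModule.mk_eq] at h0
      obtain ⟨⟨s, hsS⟩, hs⟩ := h0
      rw [← LocalizedModule.zero_mk (1 : T), LocalizedModule.mk_eq]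
      refine ⟨⟨s * c, mul_mem (hST hsS) hcT⟩, ?_⟩
      simp only [Submonoid.smul_def, Submonoid.coe_one, one_smul, smul_zero] at hs ⊢
      rwa [mul_smul]
  · induction z using LocalizedModule.induction_on with
    | h n t =>
      obtain ⟨w, hw⟩ := h.2 (LocalizedModule.mk n 1)
      induction w using LocalizedModule.induction_on with
      | h m s =>
        rw [LocalizedModule.map_mk, LocalizedModule.mk_eq] at hw
        obtain ⟨c, hc⟩ := hw
        refine ⟨LocalizedModule.mk ((c : R) • m) (t * ⟨c.1, hST c.2⟩ * ⟨s.1, hST s.2⟩), ?_⟩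
        rw [LocalizedModule.map_mk, map_smul, LocalizedModule.mk_eq]
        refine ⟨1, ?_⟩
        simp only [Submonoid.smul_def, Submonoid.coe_one, one_smul, Submonoid.coe_mul] at hc ⊢
        rw [mul_smul, mul_smul, ← hc]

theorem isReflexiveAt_of_specializes (F : X.Modules) (hF : Coh.IsCoh F) {x y : X} (h : y ⤳ x)
    (hx : RefHull.IsReflexiveAt F x) : RefHull.IsReflexiveAt F y := by
  haveI : F.IsQuasicoherent := hF.1
  haveI : F.IsFiniteType := hF.2
  obtain ⟨U, hxU⟩ := exists_affine_mem x
  have hyU : y ∈ U.1 := h.mem_open U.1.2 hxU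
  haveI := isNoetherianRing_sections U
  haveI := finite_sections_of_isFiniteType F U.2
  refine (isReflexive_localized_iff_stalk F hF.1 U y hyU).1 ((TF3.localized_eval_bijective_iff _).1
    (bijective_localized_mono _ (show (primeAt U x hxU).primeCompl ≤ (primeAt U y hyU).primeCompl from
      fun a ha hm => ha ((specializes_iff_primeAt_le U hxU hyU).1 h hm))
      ((TF3.localized_eval_bijective_iff _).2 ((isReflexive_localized_iff_stalk F hF.1 U x hxU).2 hx))))

theorem isReflexiveAt_homSh (F G : X.Modules) (hF : Coh.IsCoh F) (hG : Coh.IsCoh G) (x : X)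
    [IsDomain (X.presheaf.stalk x)]
    (hGx : RefHull.IsReflexiveAt G x) : RefHull.IsReflexiveAt (RefHull.homSh F G) x := by
  haveI : CohB1.IsFP F := isFP_of_isCoh hF
  haveI : Module.IsReflexive (X.presheaf.stalk x) (G.presheaf.stalk x) := hGx
  haveI : F.IsQuasicoherent := hF.1
  haveI : F.IsFiniteType := hF.2
  haveI : G.IsQuasicoherent := hG.1
  haveI : G.IsFiniteType := hG.2
  haveI := QC70.finite_stalk F x
  haveI := QC70.finite_stalk G x
  haveI : Module.IsReflexive (X.presheaf.stalk x) (RefHull.StalkHom F G x) := TF3.isReflexive_hom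
  exact isReflexive_of_semilinear (RingEquiv.refl _)
    (LinearEquiv.ofBijective (RefHull.evalStalk F G x) (evalStalk_bijective F G x)).symm.toAddEquiv
    (fun a m => map_smul (LinearEquiv.ofBijective (RefHull.evalStalk F G x) (evalStalk_bijective F G x)).symm a m)
    ‹_›

end Groth.Agent.Div89
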