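import Groth.Agent.Div89.SectionReg
import Groth.Agent.Div89.Basic
import Groth.Prelude.Def_Mor2
import Groth.Prelude.Def_BlowUp2

/-!
Sections of smooth morphisms are regular immersions.
-/

set_option autoImplicit false
set_option linter.style.haveILetI false
set_option backward.isDefEq.respectTransparency.types false

universe u

open CategoryTheory AlgebraicGeometry TopologicalSpace Groth.Agent.SchBasics

namespace Groth.Agent.Div89.SectionReg

variable {X S : Scheme.{u}} (f : X ⟶ S) (u : S ⟶ X)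

/-- Regular chart from an étale coordinate chart. -/
theorem exists_chart (hu : u ≫ f = 𝟙 S) [LocallyOfFinitePresentation f] {W : S.Opens} (hW : IsAffineOpen W)
    {U : X.Opens} (hU : IsAffineOpen U) (e : U ≤ f ⁻¹ᵁ W) (e' : W ≤ u ⁻¹ᵁ U) {n : ℕ}
    (g : MvPolynomial (Fin n) Γ(S, W) →+* Γ(X, U)) (hgC : g.comp MvPolynomial.C = (f.appLE W U e).hom)
    (hg : g.Etale) (s : S) (hs : s ∈ W) :
    ∃ U' : X.affineOpens, u s ∈ U'.1 ∧ IsClosedImmersion (u ∣_ U'.1) ∧
      ∃ rs : List Γ(X, U'.1), rs.length = n ∧ RingTheory.Sequence.IsRegular Γ(X, U'.1) rs ∧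
        RingHom.ker (u.app U'.1).hom = Ideal.ofList rs := by
  algebraize [(f.appLE W U e).hom]
  haveI : Algebra.FinitePresentation Γ(S, W) Γ(X, U) := f.finitePresentation_appLE hW hU e
  let g' : MvPolynomial (Fin n) Γ(S, W) →ₐ[Γ(S, W)] Γ(X, U) :=
    { g with commutes' := fun r => DFunLike.congr_fun hgC r }
  obtain ⟨r, hr, hloc⟩ := exists_weaklyRegular_of_etale g' hg (sectionRetr f u hu e e')
  let _ := (X.presheaf.map (homOfLE (X.basicOpen_le r)).op).hom.toAlgebra
  haveI : IsLocalization.Away r Γ(X, X.basicOpen r) := hU.isLocalization_basicOpen r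
  obtain ⟨fs, hlen, hwr, hspan⟩ := hloc Γ(X, X.basicOpen r)
  have hr' : (u.appLE U W e') r = 1 := hr
  have e'' : W ≤ u ⁻¹ᵁ X.basicOpen r := by
    rw [Scheme.preimage_basicOpen]
    intro x hx
    have hh : x ∈ S.basicOpen ((u.appLE U W e') r) := by
      rw [hr', S.basicOpen_of_isUnit isUnit_one]
      exact hx
    rw [Scheme.Hom.appLE, ConcreteCategory.comp_apply, S.basicOpen_res] at hh
    exact hh.2
  have eU : X.basicOpen r ≤ f ⁻¹ᵁ W := (X.basicOpen_le r).trans e
  have hpre := preimage_eq_of_section f u hu e e'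
  have hker : RingHom.ker (u.app (X.basicOpen r)).hom = Ideal.ofList fs := by
    rw [ker_app_basicOpen u hU (by rw [hpre]; exact hW) r, hspan]
    congr 1
    show RingHom.ker (u.app U).hom = RingHom.ker (u.appLE U W e').hom
    rw [Scheme.Hom.appLE, CommRingCat.hom_comp, RingHom.ker_comp_of_injective]
    subst hpre
    rw [Subsingleton.elim (homOfLE e') (𝟙 _), op_id, CategoryTheory.Functor.map_id]
    exact fun _ _ h => h
  refine ⟨⟨X.basicOpen r, hU.basicOpen r⟩, e'' hs, ?_, fs, hlen, ⟨hwr, ?_⟩, hker⟩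
  · have hci := isClosedImmersion_restrict f u hu hW (hU.basicOpen r) eU e''
    have hpre' := preimage_eq_of_section f u hu eU e''
    subst hpre'
    rw [Scheme.Hom.resLE_eq_morphismRestrict] at hci
    exact hci
  · intro ht
    rw [smul_eq_mul, Ideal.mul_top] at ht
    have h1 : (1 : Γ(X, X.basicOpen r)) ∈ RingHom.ker (u.app (X.basicOpen r)).hom := by
      rw [hker, ← ht]; trivial
    rw [RingHom.mem_ker, map_one] at h1
    have h2 := congrArg (S.presheaf.germ (u ⁻¹ᵁ X.basicOpen r) s (e'' hs)).hom h1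
    rw [map_one, map_zero] at h2
    exact one_ne_zero h2

/-- Coordinates near a point of a section of a smooth morphism. -/
theorem exists_chart_at (hu : u ≫ f = 𝟙 S) [Smooth f] (s : S) :
    ∃ (U' : X.affineOpens), u s ∈ U'.1 ∧ IsClosedImmersion (u ∣_ U'.1) ∧
      ∃ rs : List Γ(X, U'.1), RingTheory.Sequence.IsRegular Γ(X, U'.1) rs ∧
        RingHom.ker (u.app U'.1).hom = Ideal.ofList rs := by
  obtain ⟨W, hW, U, hU, e, e', hsW, hstd⟩ := SchBasics.exists_chart_at f u hu s (by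
    rw [Scheme.Hom.smoothLocus_eq_top_iff.2 ‹Smooth f›]; trivial)
  obtain ⟨n, g, hgC, hg⟩ := hstd.exists_etale_mvPolynomial
  obtain ⟨U', hs', hcl, rs, -, hrs, hker⟩ := exists_chart f u hu hW hU e e' g hgC hg s hsW
  exact ⟨U', hs', hcl, rs, hrs, hker⟩

/-- Coordinates near a point of a section, of prescribed length. -/
theorem exists_chart_at_relDim (hu : u ≫ f = 𝟙 S) (n : ℕ) [SmoothOfRelativeDimension n f] (s : S) :
    ∃ (U' : X.affineOpens), u s ∈ U'.1 ∧ IsClosedImmersion (u ∣_ U'.1) ∧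
      ∃ rs : List Γ(X, U'.1), rs.length = n ∧ RingTheory.Sequence.IsRegular Γ(X, U'.1) rs ∧
        RingHom.ker (u.app U'.1).hom = Ideal.ofList rs := by
  haveI := SmoothOfRelativeDimension.smooth n f
  obtain ⟨W₁, hW₁, U₁, hU₁, hxU, e₁, hstd₁⟩ :=
    SmoothOfRelativeDimension.exists_isStandardSmoothOfRelativeDimension (n := n) (f := f) (u s)
  have hfs : f (u s) = s := by rw [← Scheme.Hom.comp_apply, hu]; rfl
  have hsW₁ : s ∈ W₁ := hfs ▸ e₁ hxU
  obtain ⟨g₀, hgle, hsg⟩ := hW₁.exists_basicOpen_le (V := u ⁻¹ᵁ U₁) ⟨s, hxU⟩ hsW₁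
  let W := S.basicOpen g₀
  let b := f.appLE W₁ U₁ e₁ g₀
  have e : X.basicOpen b ≤ f ⁻¹ᵁ W := by rw [Scheme.basicOpen_appLE]; exact inf_le_right
  have e' : W ≤ u ⁻¹ᵁ X.basicOpen b := by
    intro t ht
    rw [Scheme.Hom.mem_preimage, Scheme.basicOpen_appLE]
    refine ⟨hgle ht, ?_⟩
    show f (u t) ∈ S.basicOpen g₀
    rwa [← Scheme.Hom.comp_apply, hu]
  have hstd : (f.appLE W (X.basicOpen b) e).hom.IsStandardSmoothOfRelativeDimension n := by
    let _ := (S.presheaf.map (homOfLE (S.basicOpen_le g₀)).op).hom.toAlgebra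
    let _ := (X.presheaf.map (homOfLE (X.basicOpen_le b)).op).hom.toAlgebra
    have : IsLocalization.Away g₀ Γ(S, W) := hW₁.isLocalization_basicOpen g₀
    have : IsLocalization.Away b Γ(X, X.basicOpen b) := hU₁.isLocalization_basicOpen _
    have hm : IsLocalization ((Submonoid.powers g₀).map (f.appLE W₁ U₁ e₁).hom) Γ(X, X.basicOpen b) := by
      rw [Submonoid.map_powers]; infer_instance
    convert RingHom.isStandardSmoothOfRelativeDimension_localizationPreserves (n := n)
      (f.appLE W₁ U₁ e₁).hom (Submonoid.powers g₀) Γ(S, W) Γ(X, X.basicOpen b) hstd₁ using 1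
    refine IsLocalization.ringHom_ext (Submonoid.powers g₀) (RingHom.ext fun z => ?_)
    rw [RingHom.comp_apply, RingHom.comp_apply, IsLocalization.map_eq]
    show (S.presheaf.map _ ≫ f.appLE _ _ _) z = (f.appLE _ _ _ ≫ X.presheaf.map _) z
    rw [Scheme.Hom.map_appLE, Scheme.Hom.appLE_map]
  obtain ⟨g, hgC, hg⟩ := hstd.exists_etale_mvPolynomial
  exact exists_chart f u hu (hW₁.basicOpen g₀) (hU₁.basicOpen b) e e' g hgC hg s hsg

theorem isEffCartier_section (hu : u ≫ f = 𝟙 S) [SmoothOfRelativeDimension 1 f] [IsClosedImmersion u] :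
    BlowUp.IsEffCartierIdeal u.ker := by
  intro x
  by_cases hx : x ∈ Set.range u
  · obtain ⟨s, rfl⟩ := hx
    obtain ⟨U, hs, -, rs, hlen, hrs, hker⟩ := exists_chart_at_relDim f u hu 1 s
    obtain ⟨a, rfl⟩ := List.length_eq_one_iff.1 hlen
    refine ⟨U, hs, a, ?_, ?_⟩
    · have h1 := ((RingTheory.Sequence.isWeaklyRegular_cons_iff _ _ _).1 hrs.toIsWeaklyRegular).1
      exact mem_nonZeroDivisors_iff_right.2 fun z hz => h1 (show a • z = a • 0 by
        rw [smul_zero, smul_eq_mul, mul_comm]; exact hz)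
    · rw [u.ker_apply, hker, Ideal.ofList_singleton]
  · obtain ⟨_, ⟨U, hU, rfl⟩, hxU, hsub⟩ := X.isBasis_affineOpens.exists_subset_of_mem_open
      (show x ∈ (Set.range u)ᶜ from hx) u.isClosedEmbedding.isClosed_range.isOpen_compl
    refine ⟨⟨U, hU⟩, hxU, 1, one_mem _, ?_⟩
    rw [u.ker_apply, Ideal.span_singleton_one]
    have hempty : u ⁻¹ᵁ U = ⊥ := by
      ext t
      exact ⟨fun ht => absurd ⟨t, rfl⟩ (hsub ht), fun h => h.elim⟩
    have : Subsingleton Γ(S, u ⁻¹ᵁ U) := by rw [hempty]; infer_instance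
    exact (Ideal.eq_top_iff_one _).2 (Subsingleton.elim _ _)

theorem isRegularClosedImmersion_section [Smooth f] (hu : u ≫ f = 𝟙 S) [IsClosedImmersion u] :
    Mor2.IsRegularClosedImmersion u := by
  refine ⟨inferInstance, fun s => ?_⟩
  obtain ⟨⟨U, hU⟩, hs, -, rs, hrs, hker⟩ := exists_chart_at f u hu s
  exact ⟨U, hU, hs, rs, hrs, (u.ker_apply ⟨U, hU⟩).trans hker⟩

end Groth.Agent.Div89.SectionReg
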