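import Groth.Agent.RegImm99.Stalk
import Groth.Agent.CAlg9.CIT.SpreadGens
import Groth.Agent.Div89.RegFlat
import Groth.Agent.Div89.Basic
import Groth.Agent.CAlg9.CIT.Completion
import Groth.Agent.S2166

/-!
Regular immersions at a point through the local ring; immersions of regular schemes.
-/

set_option autoImplicit false
set_option linter.style.haveILetI false
set_option backward.isDefEq.respectTransparency.types false

universe u

open CategoryTheory AlgebraicGeometry TopologicalSpace

namespace Groth.Agent.Div89.RegStalk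

variable {Z X : Scheme.{u}}

/-- The kernel at a stalk is the localised kernel of an affine chart. -/
theorem ker_stalkMap_chart (i : Z ⟶ X) {U : X.Opens} (hU : IsAffineOpen U) [IsClosedImmersion (i ∣_ U)]
    {z : Z} (hz : i z ∈ U) :
    RingHom.ker (i.stalkMap z).hom = (RingHom.ker (i.app U).hom).map (X.presheaf.germ U (i z) hz).hom := by
  obtain ⟨hV, hsurj⟩ := RegImm99.app_surjective i hU
  let φ := (i.app U).hom
  let p := (hU.primeIdealOf ⟨i z, hz⟩).asIdeal
  let q := (hV.primeIdealOf ⟨z, hz⟩).asIdeal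
  letI : Algebra Γ(X, U) (X.presheaf.stalk (i z)) := X.presheaf.algebra_section_stalk ⟨i z, hz⟩
  haveI : IsLocalization.AtPrime (X.presheaf.stalk (i z)) p := hU.isLocalization_stalk ⟨i z, hz⟩
  letI : Algebra Γ(Z, i ⁻¹ᵁ U) (Z.presheaf.stalk z) := Z.presheaf.algebra_section_stalk ⟨z, hz⟩
  haveI : IsLocalization.AtPrime (Z.presheaf.stalk z) q := hV.isLocalization_stalk ⟨z, hz⟩
  have hpq : q.comap φ = p := by
    have := congr($(IsAffineOpen.comap_primeIdealOf_appLE U hU (i ⁻¹ᵁ U) hV le_rfl (x := z) hz).asIdeal)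
    rw [← Scheme.Hom.app_eq_appLE] at this
    exact this
  have hT : Submonoid.map φ p.primeCompl = q.primeCompl := by
    ext b
    constructor
    · rintro ⟨a, ha, rfl⟩ hb
      exact ha (hpq ▸ hb)
    · intro hb
      obtain ⟨a, rfl⟩ := hsurj b
      exact ⟨a, fun ha => hb (show a ∈ q.comap φ from hpq.symm ▸ ha), rfl⟩
  have hmap : (i.stalkMap z).hom = IsLocalization.map (Z.presheaf.stalk z) φ
      (hT.symm ▸ p.primeCompl.le_comap_map) := by
    refine IsLocalization.ringHom_ext p.primeCompl ?_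
    rw [IsLocalization.map_comp]
    ext a
    exact i.germ_stalkMap_apply U z hz a
  rw [hmap, IsLocalization.ker_map (Z.presheaf.stalk z) (g := φ) (S := X.presheaf.stalk (i z)) hT]
  rfl

/-- A regular sequence generating the kernel at the stalk spreads to a chart. -/
theorem regularAt_of_stalk (i : Z ⟶ X) [IsImmersion i] [IsLocallyNoetherian X] (z : Z)
    (h : CInt.IsRegularIdeal (RingHom.ker (i.stalkMap z).hom)) :
    RegImm.IsRegularImmersionAt RegImm.Kind.regular i z := by
  obtain ⟨A, hA, hzA, -, hcl⟩ := RegFlat.exists_closed_affine i z (O := (⊤ : X.Opens)) trivial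
  haveI := hcl
  haveI : IsNoetherianRing Γ(X, A) := IsLocallyNoetherian.component_noetherian ⟨A, hA⟩
  rw [ker_stalkMap_chart i hA hzA] at h
  letI : Algebra Γ(X, A) (X.presheaf.stalk (i z)) := stalkAlg A (i z) hzA
  haveI := isLocalization_stalk ⟨A, hA⟩ (i z) hzA
  haveI := primeAt_isPrime ⟨A, hA⟩ (i z) hzA
  obtain ⟨gs, s, hs, hg⟩ := CAlg9.CIT.exists_goodGens (B := Γ(X, A)) (RingHom.ker (i.app A).hom)
    (primeAt ⟨A, hA⟩ (i z) hzA) (X.presheaf.stalk (i z)) h
  have hzs : i z ∈ X.basicOpen s := (mem_basicOpen_iff_notMem ⟨A, hA⟩ (i z) hzA s).2 hs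
  letI : Algebra Γ(X, A) Γ(X, X.basicOpen s) := (X.presheaf.map (homOfLE (X.basicOpen_le s)).op).hom.toAlgebra
  haveI : IsLocalization.Away s Γ(X, X.basicOpen s) := hA.isLocalization_basicOpen s
  have hmap : (RingHom.ker (i.app A).hom).map (algebraMap Γ(X, A) Γ(X, X.basicOpen s)) =
      RingHom.ker (i.app (X.basicOpen s)).hom := (RegImmB94.ker_app_basicOpen' i hA s).symm
  have hne : RingHom.ker (i.app (X.basicOpen s)).hom ≠ ⊤ := RegFlat.ker_app_ne_top i hzs
  obtain ⟨h1, h2⟩ := hg.localized (Submonoid.powers s) Γ(X, X.basicOpen s)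
    (IsLocalization.Away.algebraMap_isUnit s) (hmap ▸ hne)
  exact ⟨⟨_, hA.basicOpen s⟩, hzs, RegImmB94.isClosedImmersion_restrict_of_le i (X.basicOpen_le s),
    _, h1, hmap.symm.trans h2.symm⟩

/-- An immersion of regular schemes is regular. -/
theorem regular_of_regular (i : Z ⟶ X) [IsImmersion i] [IsLocallyNoetherian X]
    (hX : ∀ x : X, IsRegularLocalRing (X.presheaf.stalk x)) (hZ : ∀ z : Z, IsRegularLocalRing (Z.presheaf.stalk z)) :
    RegImm.IsRegularImmersion RegImm.Kind.regular i := by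
  refine ⟨inferInstance, fun z => regularAt_of_stalk i z ?_⟩
  haveI := hX (i z)
  haveI := hZ z
  let I := RingHom.ker (i.stalkMap z).hom
  let e : (X.presheaf.stalk (i z) ⧸ I) ≃+* Z.presheaf.stalk z :=
    RingHom.quotientKerEquivOfSurjective (i.stalkMap_surjective z)
  haveI : IsRegularLocalRing (X.presheaf.stalk (i z) ⧸ I) := IsRegularLocalRing.of_ringEquiv e.symm
  obtain ⟨rs, hrs, hreg⟩ := (S2166.result I (RingHom.ker_ne_top _)).1
    (CAlg9.CIT.isCompleteIntersection_of_isRegularLocalRing _)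
  exact ⟨rs, hreg, hrs⟩

end Groth.Agent.Div89.RegStalk
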