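import Groth.Agent.Div89.DepthExt
import Groth.Agent.Div89.PushAss
import Mathlib.RingTheory.Flat.EquationalCriterion
import Mathlib.AlgebraicGeometry.Morphisms.QuasiSeparated

/-!
Avoidance for quasi-compact morphisms, and depth of pushforwards off the image.
-/

set_option autoImplicit false
set_option linter.style.haveILetI false
set_option backward.isDefEq.respectTransparency.types false

noncomputable section

universe u

open CategoryTheory AlgebraicGeometry Opposite TopologicalSpace IsLocalRing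
open Groth.Agent.QC70 Groth.Agent.Props58.LocFree

namespace Groth.Agent.Div89

variable {X S : Scheme.{u}}

/-- An open of a quasi-compact open containing everything over the generalisations of a point
contains the part over a neighbourhood of that point. -/
lemma exists_nhd_preimage_inter_le (f : X ⟶ S) {s : S} (U : S.affineOpens) (hs : s ∈ U.1)
    (Q : X.Opens) (hQ : IsCompact (Q : Set X)) (hQU : Q ≤ f ⁻¹ᵁ U.1) (O : X.Opens)
    (hO : ∀ y ∈ Q, f y ⤳ s → y ∈ O) :
    ∃ W₀ : S.Opens, s ∈ W₀ ∧ W₀ ≤ U.1 ∧ IsAffineOpen W₀ ∧ f ⁻¹ᵁ W₀ ⊓ Q ≤ O := by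
  classical
  have loc : ∀ x : Q, ∃ (V : X.affineOpens) (g : Γ(S, U.1)),
      x.1 ∈ V.1 ∧ g ∉ primeAt U s hs ∧ ∀ y ∈ V.1, f y ∈ S.basicOpen g → y ∈ O := by
    intro x
    obtain ⟨V, hxV, hVQ⟩ := exists_affine_le (X := X) (U := Q) (x := x.1) x.2
    have e : V.1 ≤ f ⁻¹ᵁ U.1 := hVQ.trans hQU
    let φ := (f.appLE U.1 V.1 e).hom
    let J : Ideal Γ(X, V.1) :=
      ⨅ (y : X) (hy : y ∈ V.1) (_ : y ∉ O), primeAt V y hy
    by_cases hd : ∃ g, g ∉ primeAt U s hs ∧ φ g ∈ J
    · obtain ⟨g, hg, hgJ⟩ := hd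
      refine ⟨V, g, hxV, hg, fun y hy hyg => by_contra fun hyO => ?_⟩
      simp only [J, Ideal.mem_iInf] at hgJ
      have h1 : g ∈ (primeAt V y hy).comap φ := hgJ y hy hyO
      rw [primeAt_comap f U V e y hy] at h1
      exact (mem_primeAt_iff U (f y) (e hy) g).1 h1 hyg
    · exfalso
      simp only [not_exists, not_and] at hd
      obtain ⟨q, hq, hJq, hqd⟩ := Ideal.exists_le_prime_disjoint J
        ((primeAt U s hs).primeCompl.map φ)
        (Set.disjoint_left.2 fun b hb ⟨g, hg, hgb⟩ => hd g hg (hgb ▸ hb))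
      haveI := hq
      obtain ⟨y, hy, rfl⟩ := exists_point V q
      have hyO : y ∈ O := hO y (hVQ hy) ((specializes_iff_primeAt_le U hs (e hy)).2 fun g hg => by
        by_contra hgs
        rw [← primeAt_comap f U V e y hy] at hg
        exact Set.disjoint_left.1 hqd hg ⟨g, hgs, rfl⟩)
      obtain ⟨b, hbO, hyb⟩ := V.2.exists_basicOpen_le (V := O ⊓ V.1) ⟨y, hyO, hy⟩ hy
      refine (mem_basicOpen_iff_notMem V y hy b).1 hyb (hJq ?_)
      simp only [J, Ideal.mem_iInf]
      exact fun z hz hzO => (mem_primeAt_iff V z hz b).2 fun hzb => hzO (hbO hzb).1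
  choose V g hxV hg hVO using loc
  obtain ⟨T, hT⟩ := hQ.elim_finite_subcover
    (fun x : Q => ((V x).1 : Set X)) (fun x => (V x).1.isOpen)
    (fun x hx => Set.mem_iUnion.2 ⟨⟨x, hx⟩, hxV ⟨x, hx⟩⟩)
  let τ := ∏ x ∈ T, g x
  have hτ : τ ∉ primeAt U s hs := prod_mem (S := (primeAt U s hs).primeCompl) fun x _ => hg x
  refine ⟨S.basicOpen τ, (mem_basicOpen_iff_notMem U s hs τ).2 hτ, S.basicOpen_le τ,
    U.2.basicOpen τ, fun y hy => ?_⟩
  obtain ⟨x, hxT, hyV⟩ := Set.mem_iUnion₂.1 (hT hy.2)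
  refine hVO x y hyV ?_
  obtain ⟨d, hd⟩ := Finset.dvd_prod_of_mem g hxT
  have hy' : f y ∈ S.basicOpen (g x * d) := hd ▸ hy.1
  rw [Scheme.basicOpen_mul] at hy'
  exact hy'.1

/-- An open containing everything over the generalisations of a point contains the preimage of a
neighbourhood of that point. -/
lemma exists_nhd_preimage_le (f : X ⟶ S) [QuasiCompact f] {s : S} (O : X.Opens)
    (hO : ∀ y : X, f y ⤳ s → y ∈ O) :
    ∃ W₀ : S.Opens, s ∈ W₀ ∧ f ⁻¹ᵁ W₀ ≤ O := by
  obtain ⟨U, hs⟩ := exists_affine_mem s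
  obtain ⟨W₀, hsW₀, hle, -, h⟩ := exists_nhd_preimage_inter_le f U hs (f ⁻¹ᵁ U.1)
    (f.isCompact_preimage U.2.isCompact) le_rfl O (fun y _ => hO y)
  exact ⟨W₀, hsW₀, fun y hy => h ⟨hy, hle hy⟩⟩

theorem two_le_depth_pushforward (f : X ⟶ S) [QuasiCompact f] (F : X.Modules) (s : S)
    [IsNoetherianRing (S.presheaf.stalk s)]
    [Module.Finite (S.presheaf.stalk s) (((Scheme.Modules.pushforward f).obj F).presheaf.stalk s)]
    (hs : s ∉ Set.range f) :
    (2 : ℕ∞) ≤ LocCoh.depth (S.presheaf.stalk s)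
      (((Scheme.Modules.pushforward f).obj F).presheaf.stalk s) := by
  refine two_le_depth_of_extend _ s fun W hsW n a ha => ?_
  let D := ⨆ i, S.basicOpen (a i)
  have hgen : ∀ y : X, f y ⤳ s → y ∈ f ⁻¹ᵁ D := by
    intro y hys
    by_contra hy
    obtain ⟨U, hsU, hUW⟩ := exists_affine_le hsW
    have hyU : f y ∈ U.1 := hys.mem_open U.1.2 hsU
    refine hs ⟨y, primeAt_inj U hyU hsU (le_antisymm
      ((specializes_iff_primeAt_le U hsU hyU).1 hys) fun b hb => ?_)⟩
    have hm : S.presheaf.germ U.1 s hsU b ∈ maximalIdeal (S.presheaf.stalk s) :=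
      (mem_maximalIdeal _).2 fun hu => (germ_isUnit_iff U s hsU b).1 hu hb
    rw [← ha, Ideal.span, Submodule.mem_span_range_iff_exists_fun] at hm
    obtain ⟨c, hc⟩ := hm
    obtain ⟨V, hV, hsV, c', hc'⟩ := exists_common_lift (U := U.1) hsU c
    obtain ⟨V', hsV', i₁, i₂, he⟩ := TopCat.Presheaf.germ_eq S.presheaf s hsV hsV
      (∑ i, c' i * resO S (hV.trans hUW) (a i)) (resO S hV b) (by
        rw [map_sum, germ_resO, ← hc]
        exact Finset.sum_congr rfl fun i _ => by rw [map_mul, hc', germ_resO]; rfl)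
    have hyV' : f y ∈ V' := hys.mem_open V'.2 hsV'
    refine (mem_primeAt_iff U (f y) hyU b).2 fun hyb => ?_
    refine (show ¬ IsUnit (S.presheaf.germ U.1 (f y) hyU b) from ?_)
      ((Scheme.mem_basicOpen S b (f y) hyU).1 hyb)
    rw [← mem_nonunits_iff, ← mem_maximalIdeal]
    have := congrArg (S.presheaf.germ V' (f y) hyV') he
    rw [TopCat.Presheaf.germ_res_apply, TopCat.Presheaf.germ_res_apply, germ_resO, map_sum] at this
    rw [← this]
    refine Ideal.sum_mem _ fun i _ => ?_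
    rw [map_mul, germ_resO]
    exact Ideal.mul_mem_left _ _ ((mem_maximalIdeal _).2 fun hu' =>
      hy (Opens.mem_iSup.2 ⟨i, (Scheme.mem_basicOpen S (a i) (f y) _).2 hu'⟩))
  obtain ⟨W₀, hsW₀, hW₀⟩ := exists_nhd_preimage_le f (f ⁻¹ᵁ D) hgen
  refine ⟨W₀, hsW₀, fun V hV => ?_⟩
  have heq : f ⁻¹ᵁ (V ⊓ D) = f ⁻¹ᵁ V :=
    le_antisymm (f.preimage_mono inf_le_left) fun y hy => ⟨hy, hW₀ (hV hy)⟩
  show Function.Bijective (F.presheaf.map ((Opens.map f.base).map (homOfLE (inf_le_left : V ⊓ D ≤ V))).op)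
  rw [show ((Opens.map f.base).map (homOfLE (inf_le_left : V ⊓ D ≤ V))).op = (eqToHom heq).op from rfl]
  exact ConcreteCategory.bijective_of_isIso _

/-- The stalk at a generalisation is flat over the stalk. -/
lemma flat_stalkSpecializes {s t : S} (h : t ⤳ s) :
    (S.presheaf.stalkSpecializes h).hom.Flat := by
  obtain ⟨U, hs⟩ := exists_affine_mem s
  have ht : t ∈ U.1 := h.mem_open U.1.2 hs
  letI := stalkAlg U.1 s hs
  letI := stalkAlg U.1 t ht
  letI := (S.presheaf.stalkSpecializes h).hom.toAlgebra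
  haveI := isLocalization_stalk U s hs
  haveI := isLocalization_stalk U t ht
  haveI : IsScalarTower Γ(S, U.1) (S.presheaf.stalk s) (S.presheaf.stalk t) :=
    IsScalarTower.of_algebraMap_eq fun r =>
      (ConcreteCategory.congr_hom (TopCat.Presheaf.germ_stalkSpecializes S.presheaf hs h) r).symm
  have hle : (primeAt U s hs).primeCompl ≤ (primeAt U t ht).primeCompl :=
    fun r hr hr' => hr ((specializes_iff_primeAt_le U hs ht).1 h hr')
  haveI := IsLocalization.isLocalization_of_submonoid_le (S.presheaf.stalk s) (S.presheaf.stalk t)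
    (primeAt U s hs).primeCompl (primeAt U t ht).primeCompl hle
  rw [RingHom.Flat]
  exact IsLocalization.flat (S.presheaf.stalk t)
    ((primeAt U t ht).primeCompl.map (algebraMap Γ(S, U.1) (S.presheaf.stalk s)))

lemma isSMulRegular_of_flat_module {R N : Type u} [CommRing R] [AddCommGroup N] [Module R N]
    [Module.Flat R N] {a : R} (ha : IsSMulRegular R a) : IsSMulRegular N a := by
  refine isSMulRegular_iff_right_eq_zero_of_smul.2 fun m hm => ?_
  obtain ⟨k, c, y, hm', hc⟩ := Module.Flat.isTrivialRelation_of_sum_smul_eq_zero (f := fun _ : Fin 1 => a)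
    (x := fun _ => m) (by simpa using hm)
  rw [show m = _ from hm' 0]
  refine Finset.sum_eq_zero fun j _ => ?_
  have : a • c 0 j = a • (0 : R) := by
    rw [smul_zero]
    simpa using hc j
  rw [ha this, zero_smul]

lemma exists_eq_smul_of_flat_module {R N : Type u} [CommRing R] [AddCommGroup N] [Module R N]
    [Module.Flat R N] {a b : R} (hb : ∀ r : R, a ∣ b * r → a ∣ r) {m m' : N}
    (h : b • m = a • m') : ∃ n : N, m = a • n := by
  obtain ⟨k, c, y, hm, hc⟩ := Module.Flat.isTrivialRelation_of_sum_smul_eq_zero (f := ![b, -a]) (x := ![m, m'])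
    (by simp [h])
  have hd : ∀ j, a ∣ c 0 j := fun j => hb _ ⟨c 1 j, by
    have := hc j
    simp only [Fin.sum_univ_two, Matrix.cons_val_zero, Matrix.cons_val_one, neg_mul] at this
    exact add_neg_eq_zero.1 this⟩
  choose d hd using hd
  refine ⟨∑ j, d j • y j, ?_⟩
  rw [Finset.smul_sum, show m = _ from hm 0]
  exact Finset.sum_congr rfl fun j _ => by rw [hd j, mul_smul]

lemma germ_over_specializes (f : X ⟶ S) {W : S.Opens} {s : S} (hs : s ∈ W) {y : X} (hy : f y ⤳ s)
    (T : Γ(S, W)) :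
    X.presheaf.germ (f ⁻¹ᵁ W) y (hy.mem_open W.2 hs) (f.app W T) =
      (S.presheaf.stalkSpecializes hy ≫ f.stalkMap y).hom (S.presheaf.germ W s hs T) := by
  rw [← ConcreteCategory.comp_apply, ← ConcreteCategory.comp_apply,
    TopCat.Presheaf.germ_stalkSpecializes_assoc, Scheme.Hom.germ_stalkMap]

/-- The stalks over generalisations, as modules over the stalk below. -/
abbrev overModule (f : X ⟶ S) (F : X.Modules) {s : S} {y : X} (hy : f y ⤳ s) :
    Module (S.presheaf.stalk s) (F.presheaf.stalk y) :=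
  Module.compHom (F.presheaf.stalk y) (S.presheaf.stalkSpecializes hy ≫ f.stalkMap y).hom

lemma flat_overModule (f : X ⟶ S) (F : X.Modules) (hFf : FlatMod.IsFlatOver f F) {s : S} {y : X}
    (hy : f y ⤳ s) :
    letI := overModule f F hy
    Module.Flat (S.presheaf.stalk s) (F.presheaf.stalk y) := by
  letI := overModule f F hy
  letI := FlatMod.moduleStalkOver f F y
  letI := (S.presheaf.stalkSpecializes hy).hom.toAlgebra
  haveI : IsScalarTower (S.presheaf.stalk s) (S.presheaf.stalk (f y)) (F.presheaf.stalk y) :=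
    IsScalarTower.of_algebraMap_smul fun _ _ => rfl
  haveI : Module.Flat (S.presheaf.stalk (f y)) (F.presheaf.stalk y) := hFf y
  haveI : Module.Flat (S.presheaf.stalk s) (S.presheaf.stalk (f y)) := flat_stalkSpecializes hy
  exact Module.Flat.trans (S.presheaf.stalk s) (S.presheaf.stalk (f y)) (F.presheaf.stalk y)

lemma germ_app_smul (f : X ⟶ S) (F : X.Modules) {W : S.Opens} {s : S} (hs : s ∈ W) {y : X}
    (hy : f y ⤳ s) (T : Γ(S, W)) (m : Γ(F, f ⁻¹ᵁ W)) :
    letI := overModule f F hy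
    germM F (f ⁻¹ᵁ W) y (hy.mem_open W.2 hs) (f.app W T • m) =
      S.presheaf.germ W s hs T • germM F (f ⁻¹ᵁ W) y (hy.mem_open W.2 hs) m := by
  rw [germM_smul, germ_over_specializes]
  rfl

theorem min_le_depth_pushforward (f : X ⟶ S) [QuasiCompact f] [QuasiSeparated f] (F : X.Modules)
    (hFf : FlatMod.IsFlatOver f F) (s : S)
    [Module.Finite (S.presheaf.stalk s) (((Scheme.Modules.pushforward f).obj F).presheaf.stalk s)] :
    min (2 : ℕ∞) (LocCoh.depth (S.presheaf.stalk s) (S.presheaf.stalk s)) ≤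
      LocCoh.depth (S.presheaf.stalk s) (((Scheme.Modules.pushforward f).obj F).presheaf.stalk s) := by
  classical
  let G := (Scheme.Modules.pushforward f).obj F
  let A := S.presheaf.stalk s
  have reg1 : ∀ t : A, IsSMulRegular A t → IsSMulRegular (G.presheaf.stalk s) t := by
    intro t ht
    refine isSMulRegular_iff_right_eq_zero_of_smul.2 fun z hz => ?_
    obtain ⟨W₁, hsW₁, m₁, rfl⟩ := germM_exist z
    obtain ⟨W₂, hsW₂, T₂, rfl⟩ := TopCat.Presheaf.exists_germ_eq S.presheaf t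
    let W₃ := W₁ ⊓ W₂
    have hs3 : s ∈ W₃ := ⟨hsW₁, hsW₂⟩
    rw [← germM_res (inf_le_left : W₃ ≤ W₁) hs3 m₁, ← germ_resO (inf_le_right : W₃ ≤ W₂) hs3 T₂,
      ← germM_smul] at hz
    obtain ⟨W, hW, hsW, h0⟩ := germM_eq_zero hz
    rw [res_smul, resO_resO, res_res] at h0
    let m : Γ(F, f ⁻¹ᵁ W) := res G (hW.trans inf_le_left) m₁
    let T : Γ(S, W) := resO S (hW.trans inf_le_right) T₂
    have hm0 : f.app W T • m = 0 := h0
    have hy0 : ∀ y : X, ∀ hy : f y ⤳ s, germM F (f ⁻¹ᵁ W) y (hy.mem_open W.2 hsW) m = 0 := by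
      intro y hy
      letI := overModule f F hy
      haveI := flat_overModule f F hFf hy
      refine (isSMulRegular_of_flat_module ht).right_eq_zero_of_smul ?_
      have := congrArg (germM F (f ⁻¹ᵁ W) y (hy.mem_open W.2 hsW)) hm0
      rw [germ_app_smul f F hsW hy, germ_resO] at this
      exact this.trans (germM_zero _)
    let O : X.Opens := ⨆ (V : X.Opens) (_ : ∃ h : V ≤ f ⁻¹ᵁ W, res F h m = 0), V
    obtain ⟨W₀, hsW₀, hW₀⟩ := exists_nhd_preimage_le f (s := s) O fun y hy => by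
      obtain ⟨V, hV, hyV, hV0⟩ := germM_eq_zero (hy0 y hy)
      exact Opens.mem_iSup.2 ⟨V, Opens.mem_iSup.2 ⟨⟨hV, hV0⟩, hyV⟩⟩
    have h00 : res F (f.preimage_mono (inf_le_left : W ⊓ W₀ ≤ W)) m = 0 := by
      refine section_ext F _ _ fun y hy => ?_
      obtain ⟨V, hyV⟩ := Opens.mem_iSup.1 (hW₀ hy.2)
      obtain ⟨⟨hV, hV0⟩, hyV⟩ := Opens.mem_iSup.1 hyV
      refine ⟨f ⁻¹ᵁ (W ⊓ W₀) ⊓ V, inf_le_left, ⟨hy, hyV⟩, ?_⟩
      rw [res_zero, res_res, ← res_res hV inf_le_right, hV0, res_zero]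
    rw [← germM_res ((inf_le_left : W ⊓ W₀ ≤ W).trans (hW.trans inf_le_left)) ⟨hsW, hsW₀⟩ m₁]
    refine (congrArg (germM G (W ⊓ W₀) s ⟨hsW, hsW₀⟩) (Eq.trans ?_ h00)).trans (germM_zero _)
    exact (res_res (M := G) (hW.trans inf_le_left) inf_le_left m₁).symm
  have reg2 : ∀ t u : A, IsSMulRegular A t → (∀ r : A, t ∣ u * r → t ∣ r) →
      ∀ z z' : G.presheaf.stalk s, u • z = t • z' → ∃ v, z = t • v := by
    intro t u ht hu z z' hzz'
    obtain ⟨W₁, hsW₁, T₁, hT₁⟩ := TopCat.Presheaf.exists_germ_eq S.presheaf t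
    obtain ⟨W₂, hsW₂, U₂, hU₂⟩ := TopCat.Presheaf.exists_germ_eq S.presheaf u
    obtain ⟨W₃, hsW₃, sec, hsec⟩ := exists_lift_family (M := G) s ![z, z']
    let W₄ := W₁ ⊓ W₂ ⊓ W₃
    have h41 : W₄ ≤ W₁ := inf_le_left.trans inf_le_left
    have h42 : W₄ ≤ W₂ := inf_le_left.trans inf_le_right
    have h43 : W₄ ≤ W₃ := inf_le_right
    have hs4 : s ∈ W₄ := ⟨⟨hsW₁, hsW₂⟩, hsW₃⟩
    obtain ⟨W₅, hW₅, hsW₅, he⟩ := exists_nhd_eq (F := G) (ι := Fin 1) hs4
      (fun _ => resO S h42 U₂ • res G h43 (sec 0)) (fun _ => resO S h41 T₁ • res G h43 (sec 1))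
      fun _ => by
        rw [germM_smul, germM_smul, germ_resO, germ_resO, germM_res, germM_res, hT₁, hU₂, hsec, hsec]
        exact hzz'
    obtain ⟨W, hsW, hW⟩ := exists_affine_le hsW₅
    let T : Γ(S, W.1) := resO S ((hW.trans hW₅).trans h41) T₁
    let U : Γ(S, W.1) := resO S ((hW.trans hW₅).trans h42) U₂
    let m : Γ(F, f ⁻¹ᵁ W.1) := res G ((hW.trans hW₅).trans h43) (sec 0)
    let m' : Γ(F, f ⁻¹ᵁ W.1) := res G ((hW.trans hW₅).trans h43) (sec 1)
    have gT : S.presheaf.germ W.1 s hsW T = t := (germ_resO _ hsW _).trans hT₁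
    have gU : S.presheaf.germ W.1 s hsW U = u := (germ_resO _ hsW _).trans hU₂
    have hmm : f.app W.1 U • m = f.app W.1 T • m' := by
      have := congrArg (res G hW) (he 0)
      simp only [res_res, res_smul, resO_resO] at this
      exact this
    -- local quotients
    have loc : ∀ y : {y : X // f y ⤳ s}, ∃ (V : X.affineOpens) (hV : V.1 ≤ f ⁻¹ᵁ W.1) (n : Γ(F, V.1)),
        y.1 ∈ V.1 ∧ resO X hV (f.app W.1 T) • n = res F hV m := by
      rintro ⟨y, hy⟩
      letI := overModule f F hy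
      haveI := flat_overModule f F hFf hy
      have hyW : y ∈ f ⁻¹ᵁ W.1 := hy.mem_open W.1.2 hsW
      obtain ⟨n₀, hn₀⟩ := exists_eq_smul_of_flat_module (N := F.presheaf.stalk y) hu
        (m := germM F (f ⁻¹ᵁ W.1) y hyW m) (m' := germM F (f ⁻¹ᵁ W.1) y hyW m') (by
          rw [← gT, ← gU, ← germ_app_smul f F hsW hy, ← germ_app_smul f F hsW hy, hmm])
      obtain ⟨V₁, hyV₁, n₁, hn₁⟩ := germM_exist n₀
      let V₂ := V₁ ⊓ f ⁻¹ᵁ W.1
      obtain ⟨V₃, hV₃, hyV₃, hV⟩ := exists_nhd_eq (F := F) (ι := Fin 1) (W := V₂) (x := y) ⟨hyV₁, hyW⟩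
        (fun _ => resO X inf_le_right (f.app W.1 T) • res F inf_le_left n₁)
        (fun _ => res F inf_le_right m) fun _ => by
          rw [germM_smul, germ_resO, germM_res, germM_res, germ_over_specializes f hsW hy, gT, hn₁, hn₀]
          rfl
      obtain ⟨V, hyV, hVle⟩ := exists_affine_le hyV₃
      refine ⟨V, (hVle.trans hV₃).trans inf_le_right, res F ((hVle.trans hV₃).trans inf_le_left) n₁, hyV, ?_⟩
      have := congrArg (res F hVle) (hV 0)
      simp only [res_res, res_smul, resO_resO] at this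
      exact this
    choose V hV n hyV hn using loc
    obtain ⟨W₆, hsW₆, hW₆W, hW₆a, hW₆⟩ := exists_nhd_preimage_inter_le f W hsW (f ⁻¹ᵁ W.1)
      (f.isCompact_preimage W.2.isCompact) le_rfl (⨆ y, (V y).1)
      fun y _ hy => Opens.mem_iSup.2 ⟨⟨y, hy⟩, hyV ⟨y, hy⟩⟩
    obtain ⟨I, hI⟩ := (f.isCompact_preimage hW₆a.isCompact).elim_finite_subcover
      (fun y => ((V y).1 : Set X)) (fun y => (V y).1.isOpen)
      (fun y hy => by
        obtain ⟨i, hi⟩ := Opens.mem_iSup.1 (hW₆ ⟨hy, hW₆W hy⟩)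
        exact Set.mem_iUnion.2 ⟨i, hi⟩)
    have loc2 : ∀ p : I × I, ∃ W₀ : S.Opens, s ∈ W₀ ∧ W₀ ≤ W₆ ∧
        ∀ y ∈ f ⁻¹ᵁ W₀, ∀ (hy : y ∈ (V p.1.1).1 ⊓ (V p.2.1).1),
          germM F _ y hy (res F inf_le_left (n p.1.1)) = germM F _ y hy (res F inf_le_right (n p.2.1)) := by
      intro p
      let Q := f ⁻¹ᵁ W₆ ⊓ ((V p.1.1).1 ⊓ (V p.2.1).1)
      have hQ : IsCompact (Q : Set X) := by
        have hqs : IsQuasiSeparated ((f ⁻¹ᵁ W.1 : X.Opens) : Set X) :=
          f.isQuasiSeparated_preimage W.2.isQuasiSeparated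
        have hc : IsCompact (((V p.1.1).1 ⊓ (V p.2.1).1 : X.Opens) : Set X) :=
          hqs _ _ (hV p.1.1) (V p.1.1).1.isOpen (V p.1.1).2.isCompact (hV p.2.1) (V p.2.1).1.isOpen
            (V p.2.1).2.isCompact
        exact hqs _ _ (f.preimage_mono hW₆W) (f ⁻¹ᵁ W₆).isOpen (f.isCompact_preimage hW₆a.isCompact)
          (fun y hy => hV p.1.1 hy.1) ((V p.1.1).1 ⊓ (V p.2.1).1).isOpen hc
      let δ : Γ(F, (V p.1.1).1 ⊓ (V p.2.1).1) :=
        res F inf_le_left (n p.1.1) - res F inf_le_right (n p.2.1)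
      let O : X.Opens := ⨆ (W' : X.Opens) (_ : ∃ h : W' ≤ (V p.1.1).1 ⊓ (V p.2.1).1, res F h δ = 0), W'
      obtain ⟨W₀, hsW₀, hle, -, hW₀⟩ := exists_nhd_preimage_inter_le f ⟨W₆, hW₆a⟩ hsW₆ Q hQ
        (fun y hy => hy.1) O fun y hyQ hy => by
          letI := overModule f F hy
          haveI := flat_overModule f F hFf hy
          have h0 : germM F _ y hyQ.2 δ = 0 := by
            refine (map_sub (F.presheaf.germ _ y hyQ.2).hom _ _).trans (sub_eq_zero.2 ?_)
            refine isSMulRegular_of_flat_module (N := F.presheaf.stalk y) ht ?_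
            have key : ∀ (i : {y : X // f y ⤳ s}) (h : (V p.1.1).1 ⊓ (V p.2.1).1 ≤ (V i).1),
                t • germM F _ y hyQ.2 (res F h (n i)) =
                  germM F (f ⁻¹ᵁ W.1) y (hV p.1.1 hyQ.2.1) m := by
              intro i h
              have := congrArg (germM F (V i).1 y (h hyQ.2)) (hn i)
              rw [germM_smul, germ_resO, germ_over_specializes f hsW hy, gT, germM_res] at this
              rw [germM_res]
              exact this
            exact (key p.1.1 inf_le_left).trans (key p.2.1 inf_le_right).symm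
          obtain ⟨W', hW', hyW', h'⟩ := germM_eq_zero h0
          exact Opens.mem_iSup.2 ⟨W', Opens.mem_iSup.2 ⟨⟨hW', h'⟩, hyW'⟩⟩
      refine ⟨W₀, hsW₀, hle, fun y hy hy' => ?_⟩
      obtain ⟨W', hW'⟩ := Opens.mem_iSup.1 (hW₀ ⟨hy, hle hy, hy'⟩)
      obtain ⟨⟨h, h0⟩, hyW'⟩ := Opens.mem_iSup.1 hW'
      refine sub_eq_zero.1 ((map_sub (F.presheaf.germ _ y hy').hom _ _).symm.trans ?_)
      show germM F _ y hy' δ = 0
      rw [← germM_res h hyW' δ, h0]
      exact germM_zero hyW'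
    choose W₀ hsW₀ hle hW₀ using loc2
    let O : S.Opens := W₆ ⊓ ⟨⋂ p : I × I, (W₀ p : Set S), isOpen_iInter_of_finite fun p => (W₀ p).2⟩
    have hsO : s ∈ O := ⟨hsW₆, Set.mem_iInter.2 hsW₀⟩
    obtain ⟨g, hg⟩ := exists_glue F (U := f ⁻¹ᵁ O) (fun i : I => f ⁻¹ᵁ O ⊓ (V i.1).1)
      (fun i => inf_le_left) (fun y hy => by
        obtain ⟨i, hiI, hi⟩ := Set.mem_iUnion₂.1 (hI hy.1)
        exact Opens.mem_iSup.2 ⟨⟨i, hiI⟩, hy, hi⟩)
      (fun i => res F inf_le_right (n i.1)) fun i j => by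
        refine TopCat.Presheaf.section_ext (⟨F.presheaf, F.isSheaf⟩ : TopCat.Sheaf Ab X) _ _ _ fun y hy => ?_
        have hy' : y ∈ (V i.1).1 ⊓ (V j.1).1 := ⟨hy.1.2, hy.2.2⟩
        have := hW₀ (i, j) y (Set.mem_iInter.1 hy.1.1.2 (i, j)) hy'
        rw [germM_res, germM_res] at this
        show germM F _ y hy _ = germM F _ y hy _
        rw [germM_res, germM_res, germM_res, germM_res]
        exact this
    have hOW : O ≤ W.1 := inf_le_left.trans hW₆W
    have hTg : f.app O (resO S hOW T) • g = res F (f.preimage_mono hOW) m := by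
      refine TopCat.Presheaf.section_ext (⟨F.presheaf, F.isSheaf⟩ : TopCat.Sheaf Ab X) _ _ _ fun y hy => ?_
      obtain ⟨i, hiI, hi⟩ := Set.mem_iUnion₂.1 (hI hy.1)
      show germM F _ y hy _ = germM F _ y hy _
      have hgi := congrArg (germM F (f ⁻¹ᵁ O ⊓ (V i).1) y ⟨hy, hi⟩) (hg ⟨i, hiI⟩)
      rw [germM_res, germM_res] at hgi
      rw [germM_smul, germM_res, hgi]
      have := congrArg (germM F (V i).1 y hi) (hn i)
      rw [germM_smul, germ_resO, germM_res] at this
      refine Eq.trans ?_ this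
      congr 1
      have hnat : f.app O (resO S hOW T) = resO X (f.preimage_mono hOW) (f.app W.1 T) :=
        ConcreteCategory.congr_hom (f.naturality (homOfLE hOW).op) T
      rw [hnat, germ_resO]
    refine ⟨germM G O s hsO g, ?_⟩
    have := congrArg (germM G O s hsO) (show resO S hOW T • (show Γ(G, O) from g) = res G hOW m from hTg)
    rw [germM_smul, germ_resO, gT, germM_res] at this
    rw [this]
    exact ((germM_res _ hsW (sec 0)).trans (hsec 0)).symm
  -- conclusion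
  rcases subsingleton_or_nontrivial (G.presheaf.stalk s) with hG | hG
  · have hd : LocCoh.depth A (G.presheaf.stalk s) = ⊤ := by
      rw [LocCoh.depth, LocCoh.idealDepth, if_pos (Subsingleton.elim _ _)]
    exact le_top.trans hd.ge
  have hne : IsLocalRing.maximalIdeal A • (⊤ : Submodule A (G.presheaf.stalk s)) ≠ ⊤ := fun h =>
    not_subsingleton _ (Submodule.subsingleton_iff A |>.1 (subsingleton_iff_bot_eq_top.1
      (Submodule.eq_bot_of_le_smul_of_le_jacobson_bot (maximalIdeal A) ⊤ Module.Finite.fg_top h.ge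
        (IsLocalRing.maximalIdeal_le_jacobson _)).symm))
  have hA : IsLocalRing.maximalIdeal A • (⊤ : Submodule A A) ≠ ⊤ := by
    rw [Ideal.smul_eq_mul, Ideal.mul_top]
    exact (maximalIdeal.isMaximal A).ne_top
  rw [LocCoh.depth, LocCoh.idealDepth, if_neg hA, LocCoh.depth, LocCoh.idealDepth, if_neg hne]
  refine le_of_forall_lt fun a ha => ?_
  obtain ⟨ha2, ha⟩ := lt_min_iff.1 ha
  obtain ⟨rs, hrs⟩ := lt_iSup_iff.1 ha
  obtain ⟨⟨hreg, hmem⟩, hlt⟩ := lt_iSup_iff.1 hrs
  refine lt_iSup_iff.2 ⟨rs.take 2, lt_iSup_iff.2 ⟨⟨?_, fun r hr => hmem r (List.mem_of_mem_take hr)⟩, ?_⟩⟩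
  · match rs, hreg with
    | [], _ => simp
    | [t], h =>
      simp only [List.take_succ_cons, List.take_nil]
      rw [RingTheory.Sequence.isWeaklyRegular_singleton_iff] at h ⊢
      exact reg1 t h
    | t :: u :: rest, h =>
      simp only [List.take_succ_cons, List.take_zero]
      rw [RingTheory.Sequence.isWeaklyRegular_cons_iff] at h
      obtain ⟨ht, h⟩ := h
      rw [RingTheory.Sequence.isWeaklyRegular_cons_iff] at h
      obtain ⟨hu, -⟩ := h
      rw [RingTheory.Sequence.isWeaklyRegular_cons_iff,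
        RingTheory.Sequence.isWeaklyRegular_singleton_iff]
      refine ⟨reg1 t ht, isSMulRegular_iff_right_eq_zero_of_smul.2 fun q hq => ?_⟩
      obtain ⟨z, rfl⟩ := Submodule.Quotient.mk_surjective _ q
      rw [← Submodule.Quotient.mk_smul, Submodule.Quotient.mk_eq_zero,
        Submodule.mem_smul_pointwise_iff_exists] at hq
      obtain ⟨z', -, hz'⟩ := hq
      obtain ⟨v, hv⟩ := reg2 t u ht (fun r hr => by
        obtain ⟨c, hc⟩ := hr
        have := hu.right_eq_zero_of_smul (x := (Submodule.Quotient.mk r : QuotSMulTop t A)) (by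
          rw [← Submodule.Quotient.mk_smul, Submodule.Quotient.mk_eq_zero,
            Submodule.mem_smul_pointwise_iff_exists]
          exact ⟨c, trivial, hc.symm⟩)
        rw [Submodule.Quotient.mk_eq_zero, Submodule.mem_smul_pointwise_iff_exists] at this
        obtain ⟨d, -, hd⟩ := this
        exact ⟨d, hd.symm⟩) z z' hz'.symm
      rw [Submodule.Quotient.mk_eq_zero, hv]
      exact Submodule.smul_mem_pointwise_smul v t ⊤ trivial
  · rw [List.length_take]
    rcases le_total 2 rs.length with h | h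
    · rw [min_eq_left h]; exact ha2
    · rw [min_eq_right h]; exact hlt

end Groth.Agent.Div89
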