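import Groth.Agent.Mero90.ToMer
import Groth.Agent.Mero90.DivMod
import Groth.Agent.Div89.Pullback

/-!
The total ring of fractions of an affine open and the sheaf of meromorphic functions.
-/

set_option autoImplicit false
set_option linter.style.haveILetI false

noncomputable section

universe u

open CategoryTheory AlgebraicGeometry TopologicalSpace Opposite nonZeroDivisors IsLocalRing

namespace Groth.Agent.Div89

variable {X : Scheme.{u}}

lemma kmod_mul_apply {U : X.Opens} (f g : Γ(Mero.kmod X, U)) (y : U) :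
    (f * g).1 y = f.1 y * g.1 y := rfl

/-- A meromorphic function on a quasi-compact open vanishing where `h` is invertible is killed by a power
of `h`. -/
theorem exists_toK_pow_mul_eq_zero {U : X.Opens} (hU : IsCompact (U : Set X)) (h : Γ(X, U))
    (f : Γ(Mero.kmod X, U)) (hf : ∀ y : U, y.1 ∈ X.basicOpen h → f.1 y = 0) :
    ∃ n : ℕ, Mero.toK X U h ^ n * f = 0 := by
  classical
  have loc : ∀ x : U, ∃ (A : X.Opens) (n : ℕ), x.1 ∈ A ∧ ∀ y : U, y.1 ∈ A →
      (algebraMap _ (Mero.KStalk X y.1) (X.presheaf.germ U y.1 y.2 h)) ^ n * f.1 y = 0 := by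
    intro x
    obtain ⟨W, hxW, hW, a, b, w⟩ := Mero90.exists_frac f x
    obtain ⟨A, hA, hxA, hAW⟩ := exists_isAffineOpen_mem_and_subset hxW
    have hAW' : A ≤ W := hAW
    let hA' := X.presheaf.map (homOfLE (hAW'.trans hW)).op h
    let aA := X.presheaf.map (homOfLE hAW').op a
    letI := (X.presheaf.map (homOfLE (X.basicOpen_le hA')).op).hom.toAlgebra
    haveI : IsLocalization.Away hA' Γ(X, X.basicOpen hA') := hA.isLocalization_basicOpen hA'
    have h0 : (X.presheaf.map (homOfLE (X.basicOpen_le hA')).op).hom aA = 0 := by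
      refine TopCat.Presheaf.section_ext X.sheaf _ _ 0 fun y hy => ?_
      have hyA : y ∈ A := X.basicOpen_le _ hy
      show (X.presheaf.germ _ y hy).hom _ = (X.presheaf.germ _ y hy).hom 0
      rw [map_zero, TopCat.Presheaf.germ_res_apply, TopCat.Presheaf.germ_res_apply]
      have hy' : y ∈ X.basicOpen h := by
        rw [show X.basicOpen hA' = A ⊓ X.basicOpen h from Scheme.basicOpen_res _ _ _] at hy
        exact hy.2
      have := hf ⟨y, hW (hAW' hyA)⟩ hy'
      rw [w ⟨y, hAW' hyA⟩] at this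
      exact Mero90.mk'_eq_zero this
    obtain ⟨⟨_, n, rfl⟩, hn⟩ :=
      (IsLocalization.map_eq_zero_iff (Submonoid.powers hA') Γ(X, X.basicOpen hA') aA).1 h0
    refine ⟨A, n, hxA, fun y hy => ?_⟩
    have h1 := congrArg (X.presheaf.germ A y.1 hy).hom hn
    rw [map_mul, map_pow, map_zero, TopCat.Presheaf.germ_res_apply, TopCat.Presheaf.germ_res_apply] at h1
    rw [show f.1 y = _ from w ⟨y.1, hAW' hy⟩, ← map_pow, IsLocalization.mul_mk'_eq_mk'_of_mul]
    show IsLocalization.mk' (Mero.KStalk X y.1) _ _ = 0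
    rw [show (X.presheaf.germ U y.1 y.2).hom h ^ n * _ = 0 from h1, IsLocalization.mk'_zero]
  choose A n hmem hA using loc
  obtain ⟨t, ht⟩ := hU.elim_finite_subcover (fun x : U => (A x : Set X)) (fun x => (A x).isOpen)
    (fun x hx => Set.mem_iUnion.2 ⟨⟨x, hx⟩, hmem ⟨x, hx⟩⟩)
  refine ⟨t.sup n, Mero90.kext fun y => ?_⟩
  obtain ⟨x, hxt, hyx⟩ := Set.mem_iUnion₂.1 (ht y.2)
  rw [← map_pow, kmod_mul_apply, Mero90.toK_val, map_pow, map_pow,
    ← Nat.sub_add_cancel (Finset.le_sup (f := n) hxt), pow_add, mul_assoc, hA x y hyx, mul_zero]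
  rfl

/-- `K_X` on an affine open whose zero divisors lie in finitely many primes at whose points the regular
germs are units. -/
theorem isLocalization_kmod (U : X.affineOpens) (P : Finset (Ideal Γ(X, U.1)))
    (hP : ∀ b : Γ(X, U.1), (∀ p ∈ P, b ∉ p) → b ∈ Γ(X, U.1)⁰)
    (hPp : ∀ p ∈ P, p.IsPrime)
    (hunit : ∀ z (hz : z ∈ U.1), primeAt U z hz ∈ P → ∀ g ∈ (X.presheaf.stalk z)⁰, IsUnit g) :
    @IsLocalization Γ(X, U.1) _ (nonZeroDivisors Γ(X, U.1)) Γ(Mero.kmod X, U.1) _
      (Mero.toK X U.1).toAlgebra := by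
  letI := (Mero.toK X U.1).toAlgebra
  have hreg := Mero90.regSub_eq_nonZeroDivisors U.2
  refine (_root_.isLocalization_iff _ _).2 ⟨fun b => ?_, fun f => ?_, fun {a b} hab =>
    ⟨1, by rw [Mero90.toK_injective U.1 hab]⟩⟩
  · exact ⟨Mero90.toKUnit ⟨b.1, hreg.ge b.2⟩, rfl⟩
  let R : ∀ y : U.1, Subring (Mero.KStalk X y.1) := fun y =>
    (algebraMap (X.presheaf.stalk y.1) (Mero.KStalk X y.1)).range
  let J : Ideal Γ(X, U.1) :=
    { carrier := {c | ∀ y : U.1, (Mero.toK X U.1 c * f).1 y ∈ R y}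
      add_mem' := fun {c d} hc hd y => by
        rw [map_add, add_mul]; exact add_mem (hc y) (hd y)
      zero_mem' := fun y => by rw [map_zero, zero_mul]; exact zero_mem _
      smul_mem' := fun r c hc y => by
        rw [smul_eq_mul, map_mul, mul_assoc, kmod_mul_apply]
        exact mul_mem ⟨_, (Mero90.toK_val r y).symm⟩ (hc y) }
  have hJ : ∀ p ∈ P, ¬ J ≤ p := by
    intro p hp hle
    haveI := hPp p hp
    obtain ⟨z, hz, rfl⟩ := exists_point U p
    obtain ⟨W, hzW, hW, a, b, w⟩ := Mero90.exists_frac f ⟨z, hz⟩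
    have hbu : z ∈ X.basicOpen b.1 :=
      (X.mem_basicOpen b.1 z hzW).2 (hunit z hz hp _ (b.2 ⟨z, hzW⟩))
    obtain ⟨s, hsle, hzs⟩ := U.2.exists_basicOpen_le ⟨z, hbu⟩ hz
    have hDU : X.basicOpen s ≤ U.1 := X.basicOpen_le s
    let f' : Γ(Mero.kmod X, X.basicOpen s) := (Mero.kmod X).presheaf.map (homOfLE hDU).op f
    obtain ⟨c', hc'⟩ := Mero90.exists_toK_eq f' fun y => by
      have hyb := hsle y.2
      have hyW := X.basicOpen_le b.1 hyb
      show f.1 ⟨y.1, hDU y.2⟩ ∈ _
      rw [show f.1 ⟨y.1, hDU y.2⟩ = _ from w ⟨y.1, hyW⟩, Mero90.range_eq]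
      exact ((X.mem_basicOpen b.1 y.1 hyW).1 hyb).dvd
    letI := (X.presheaf.map (homOfLE hDU).op).hom.toAlgebra
    haveI : IsLocalization.Away s Γ(X, X.basicOpen s) := U.2.isLocalization_basicOpen s
    obtain ⟨⟨c0, ⟨_, k, rfl⟩⟩, hc0⟩ := IsLocalization.surj (Submonoid.powers s) c'
    change c' * (X.presheaf.map (homOfLE hDU).op).hom (s ^ k) = (X.presheaf.map (homOfLE hDU).op).hom c0 at hc0
    obtain ⟨m, hm⟩ := exists_toK_pow_mul_eq_zero U.2.isCompact s
      (Mero.toK X U.1 (s ^ k) * f - Mero.toK X U.1 c0) fun y hy => by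
        have h1 := congrArg (X.presheaf.germ (X.basicOpen s) y.1 hy).hom hc0
        rw [map_mul, TopCat.Presheaf.germ_res_apply, TopCat.Presheaf.germ_res_apply] at h1
        have h2 : f.1 y = algebraMap _ _ ((X.presheaf.germ (X.basicOpen s) y.1 hy).hom c') :=
          ((Mero90.toK_val c' ⟨y.1, hy⟩).symm.trans
            (congrArg (fun q : Γ(Mero.kmod X, X.basicOpen s) => q.1 ⟨y.1, hy⟩) hc')).symm
        show (Mero.toK X U.1 (s ^ k) * f).1 y - (Mero.toK X U.1 c0).1 y = 0
        rw [kmod_mul_apply, Mero90.toK_val, Mero90.toK_val, h2, ← map_mul]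
        erw [← h1]
        rw [mul_comm, sub_self]
    have hsJ : s ^ (m + k) ∈ J := fun y => by
      rw [mul_sub, ← map_pow, ← mul_assoc, ← map_mul, ← pow_add, ← map_mul, sub_eq_zero] at hm
      rw [hm]
      exact ⟨_, (Mero90.toK_val _ y).symm⟩
    exact (mem_basicOpen_iff_notMem U z hz s).1 hzs
      ((primeAt_isPrime U z hz).mem_of_pow_mem _ (hle hsJ))
  obtain ⟨c, hcJ, hc⟩ : ∃ c ∈ J, ∀ p ∈ P, c ∉ p := by
    by_contra hcon
    push Not at hcon
    have hsub : (J : Set Γ(X, U.1)) ⊆ ⋃ p ∈ P, (p : Set Γ(X, U.1)) := fun c hc => by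
      obtain ⟨p, hp, hcp⟩ := hcon c hc
      exact Set.mem_iUnion₂.mpr ⟨p, hp, hcp⟩
    obtain ⟨p, hp, hle⟩ := (Ideal.subset_union_prime ⊥ ⊥ fun p hp _ _ => hPp p hp).1 hsub
    exact hJ p hp hle
  obtain ⟨c0, hc0⟩ := Mero90.exists_toK_eq (Mero.toK X U.1 c * f) hcJ
  exact ⟨⟨c0, ⟨c, hP c hc⟩⟩, ((mul_comm _ _).trans hc0.symm)⟩

lemma weakAss_of_mem_associatedPrimes {R : Type u} [CommRing R] {p : Ideal R}
    (hp : p ∈ associatedPrimes R R) : p ∈ FlatCA.weakAss R R := by
  obtain ⟨hpp, m, hm⟩ := hp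
  refine ⟨m, ⟨hpp, fun r hr => ?_⟩, fun q hq hle => ?_⟩
  · rw [hm]
    refine Ideal.le_radical ?_
    rw [Submodule.mem_colon_singleton, Submodule.mem_bot]
    exact CAlg5.mem_ann.1 hr
  · rw [hm]
    refine hq.1.radical_le_iff.2 fun r hr => hq.2 ?_
    rw [Submodule.mem_colon_singleton, Submodule.mem_bot] at hr
    exact CAlg5.mem_ann.2 hr

lemma weakAss_of_mem_minimalPrimes {R : Type u} [CommRing R] {p : Ideal R}
    (hp : p ∈ minimalPrimes R) : p ∈ FlatCA.weakAss R R := by
  refine ⟨1, ?_⟩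
  have : (Submodule.span R {(1 : R)}).annihilator = ⊥ := by
    ext r; rw [CAlg5.mem_ann, smul_eq_mul, mul_one, Submodule.mem_bot]
  rw [this]; exact hp

theorem regStalk_eq_of_locallyNoetherian [IsLocallyNoetherian X] (x : X) :
    Mero.regStalk X x = (X.presheaf.stalk x)⁰ := by
  refine le_antisymm (Mero.regStalk_le_nonZeroDivisors x) fun g hg => ?_
  obtain ⟨V, hxV, f, rfl⟩ := TopCat.Presheaf.exists_germ_eq X.presheaf g
  obtain ⟨A, hA, hxA, hAV⟩ := exists_isAffineOpen_mem_and_subset hxV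
  have hAV' : A ≤ V := hAV
  obtain ⟨O, hO, hxO, hreg⟩ := Mero90.exists_regSub_of_germ hA (X.presheaf.map (homOfLE hAV').op f) hxA
    (by rw [TopCat.Presheaf.germ_res_apply]; exact hg)
  exact ⟨O, hxO, _, hreg, by rw [TopCat.Presheaf.germ_res_apply, TopCat.Presheaf.germ_res_apply]⟩

theorem isLocalization_kmod_of_locallyNoetherian [IsLocallyNoetherian X] (U : X.affineOpens) :
    @IsLocalization Γ(X, U.1) _ (nonZeroDivisors Γ(X, U.1)) Γ(Mero.kmod X, U.1) _
      (Mero.toK X U.1).toAlgebra := by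
  classical
  haveI := IsLocallyNoetherian.component_noetherian U
  refine isLocalization_kmod U (associatedPrimes.finite Γ(X, U.1) Γ(X, U.1)).toFinset
    (fun b hb => ?_) (fun p hp => (Set.Finite.mem_toFinset _).1 hp |>.isPrime) fun z hz hzP g hg => ?_
  · by_contra hbz
    have : b ∈ ⋃ p ∈ associatedPrimes Γ(X, U.1) Γ(X, U.1), (p : Set Γ(X, U.1)) := by
      rw [biUnion_associatedPrimes_eq_compl_nonZeroDivisors]; exact hbz
    obtain ⟨p, hp, hbp⟩ := Set.mem_iUnion₂.mp this
    exact hb p ((Set.Finite.mem_toFinset _).mpr hp) hbp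
  · letI := stalkAlg U.1 z hz
    haveI := isLocalization_stalk U z hz
    haveI : IsNoetherianRing (X.presheaf.stalk z) :=
      IsLocalization.isNoetherianRing (primeAt U z hz).primeCompl _ inferInstance
    exact Mero90.isUnit_of_isAssociatedPrime ((isAssociatedPrime_maximalIdeal_iff U z hz).2
      (weakAss_of_mem_associatedPrimes ((Set.Finite.mem_toFinset _).1 hzP))) hg

lemma finite_components_meeting (U : X.Opens)
    (hfin : (irreducibleComponents ↥(U : Scheme.{u})).Finite) :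
    {Z : Set X | Z ∈ irreducibleComponents X ∧ (Z ∩ (U : Set X)).Nonempty}.Finite := by
  refine Set.Finite.of_finite_image (f := fun Z : Set X => U.ι ⁻¹' Z) (hfin.subset ?_) ?_
  · rintro _ ⟨Z, ⟨hZ, y, hyZ, hyU⟩, rfl⟩
    refine preimage_mem_irreducibleComponents_of_isPreirreducible_fiber hZ U.ι.continuous
      U.ι.isOpenEmbedding.isOpenMap (fun z => ?_) ⟨y, hyZ, ⟨y, hyU⟩, rfl⟩
    exact (Set.subsingleton_singleton.preimage U.ι.isOpenEmbedding.injective).isPreirreducible
  · intro Z hZ Z' hZ' h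
    have hcl : ∀ T : Set X, T ∈ irreducibleComponents X → (T ∩ (U : Set X)).Nonempty →
        closure (T ∩ (U : Set X)) = T := fun T hT hne =>
      subset_antisymm ((isClosed_of_mem_irreducibleComponents _ hT).closure_subset_iff.2 Set.inter_subset_left)
        (subset_closure_inter_of_isPreirreducible_of_isOpen hT.1.2 U.isOpen hne)
    have hr : Set.range U.ι = (U : Set X) := Scheme.Opens.range_ι U
    have h' := congrArg (fun T : Set (U : Scheme.{u}) => U.ι '' T) h
    simp only [Set.image_preimage_eq_inter_range, hr] at h'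
    rw [← hcl Z hZ.1 hZ.2, ← hcl Z' hZ'.1 hZ'.2, h']

lemma finite_minimalPrimes_affine (hb : ∀ U : X.Opens, IsCompact (U : Set X) →
    (irreducibleComponents ↥(U : Scheme.{u})).Finite) (U : X.affineOpens) :
    (minimalPrimes Γ(X, U.1)).Finite :=
  Mero90.minimalPrimes_finite_of_components U.2 (finite_components_meeting U.1 (hb U.1 U.2.isCompact))

lemma primeAt_mem_minimalPrimes_iff (U : X.affineOpens) (z : X) (hz : z ∈ U.1) :
    primeAt U z hz ∈ minimalPrimes Γ(X, U.1) ↔ ∀ y : X, y ⤳ z → y = z := by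
  constructor
  · intro h y hy
    have hyU := mem_affine_of_specializes hy hz
    have hle := (specializes_iff_primeAt_le U hz hyU).1 hy
    exact primeAt_inj U hyU hz (le_antisymm hle (h.2 ⟨inferInstance, bot_le⟩ hle))
  · intro h
    refine ⟨⟨inferInstance, bot_le⟩, fun q hq hle => ?_⟩
    haveI := hq.1
    obtain ⟨y, hy, rfl⟩ := exists_point U q
    obtain rfl := h y ((specializes_iff_primeAt_le U hz hy).2 hle)
    exact le_rfl

variable (ha : ∀ x : X, Curv2.IsWeakAssPoint (Coh.structureModule X) x → ∀ y : X, y ⤳ x → y = x)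
  (hb : ∀ U : X.Opens, IsCompact (U : Set X) → (irreducibleComponents ↥(U : Scheme.{u})).Finite)

include ha hb in
theorem isLocalization_kmod_of_generic (U : X.affineOpens) :
    @IsLocalization Γ(X, U.1) _ (nonZeroDivisors Γ(X, U.1)) Γ(Mero.kmod X, U.1) _
      (Mero.toK X U.1).toAlgebra := by
  classical
  refine isLocalization_kmod U (finite_minimalPrimes_affine hb U).toFinset
    (fun b hb' => mem_nonZeroDivisors_of_forall_weakAss fun p hp => hb' p ?_)
    (fun p hp => ((Set.Finite.mem_toFinset _).1 hp).1.1) fun z hz hzP g hg => ?_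
  · haveI := CAlg5.weakAss_isPrime hp
    obtain ⟨z, hz, rfl⟩ := exists_point U p
    exact (Set.Finite.mem_toFinset _).2 ((primeAt_mem_minimalPrimes_iff U z hz).2
      (ha z ((isWeakAssPoint_structureModule_iff U z hz).2 hp)))
  · exact isUnit_of_nonZeroDivisor_of_maximal z
      ((primeAt_mem_minimalPrimes_iff U z hz).1 ((Set.Finite.mem_toFinset _).1 hzP)) hg

include ha hb in
theorem regStalk_eq_of_generic (x : X) : Mero.regStalk X x = (X.presheaf.stalk x)⁰ := by
  classical
  refine le_antisymm (Mero.regStalk_le_nonZeroDivisors x) fun g hg => ?_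
  obtain ⟨V, hxV, f, rfl⟩ := TopCat.Presheaf.exists_germ_eq X.presheaf g
  obtain ⟨A, hxA, hAV⟩ := exists_affine_le hxV
  let B : Set X := {z | ∃ hz : z ∈ A.1, (∀ y : X, y ⤳ z → y = z) ∧
    ¬ IsUnit ((X.presheaf.germ V z (hAV hz)).hom f)}
  have hB : B.Finite := by
    refine Set.Finite.subset (s := Subtype.val '' {z : A.1 | primeAt A z.1 z.2 ∈ minimalPrimes Γ(X, A.1)})
      (Set.Finite.image _ ((finite_minimalPrimes_affine hb A).preimage
        (f := fun z : A.1 => primeAt A z.1 z.2) fun a _ b _ h => Subtype.ext (primeAt_inj A a.2 b.2 h))) ?_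
    rintro z ⟨hz, hmax, -⟩
    exact ⟨⟨z, hz⟩, (primeAt_mem_minimalPrimes_iff A z hz).2 hmax, rfl⟩
  let C : Set X := ⋃ z ∈ B, closure {z}
  have hC : IsClosed C := hB.isClosed_biUnion fun z _ => isClosed_closure
  let O : X.Opens := A.1 ⊓ ⟨Cᶜ, hC.isOpen_compl⟩
  have hOV : O ≤ V := inf_le_left.trans hAV
  refine ⟨O, ⟨hxA, fun hxC => ?_⟩, X.presheaf.map (homOfLE hOV).op f, fun y => ?_,
    TopCat.Presheaf.germ_res_apply _ _ _ _ _⟩
  · obtain ⟨z, ⟨hz, hmax, hnu⟩, hxz⟩ := Set.mem_iUnion₂.mp hxC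
    have hzx : z ⤳ x := specializes_iff_mem_closure.mpr hxz
    let alg := (X.presheaf.stalkSpecializes hzx).hom.toAlgebra
    have hloc := Cyc90.isLocalization_genPrime hzx
    have hmem := IsLocalization.map_nonZeroDivisors_le (Cyc90.genPrime hzx).asIdeal.primeCompl
      (X.presheaf.stalk z) ⟨_, hg, rfl⟩
    change X.presheaf.stalkSpecializes hzx (X.presheaf.germ V x hxV f) ∈ _ at hmem
    rw [Mero90.germ_stalkSpecializes] at hmem
    exact hnu (isUnit_of_nonZeroDivisor_of_maximal z hmax hmem)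
  · refine germ_mem_nonZeroDivisors_of_weakAss _ (fun z hz hw => ?_) y.1 y.2
    erw [TopCat.Presheaf.germ_res_apply]
    by_contra hu
    exact hz.2 (Set.mem_iUnion₂.mpr ⟨z, ⟨hz.1, ha z hw, hu⟩, subset_closure rfl⟩)

theorem hasRegularMero_of_noEmbedded [IsLocallyNoetherian X]
    (hne : ∀ x : X, Curv2.IsAssPoint (Coh.structureModule X) x →
      ∀ y : X, Curv2.IsAssPoint (Coh.structureModule X) y → y ⤳ x → y = x)
    {L : X.Modules} (hL : PicF.IsInvertible L) : Mero.HasRegularMero L := by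
  have hfin : ∀ x : X, ∃ W : X.Opens, x ∈ W ∧
      {Z : Set X | Z ∈ irreducibleComponents X ∧ (Z ∩ (W : Set X)).Nonempty}.Finite := by
    intro x
    obtain ⟨W, hx⟩ := exists_affine_mem x
    haveI := IsLocallyNoetherian.component_noetherian W
    haveI : NoetherianSpace W.1 := noetherianSpace_of_isAffineOpen W.1 W.2
    exact ⟨W.1, hx, finite_components_meeting W.1 NoetherianSpace.finite_irreducibleComponents⟩
  have hmaxass : ∀ η : X, Mero90.MaxPt η →
      IsAssociatedPrime (maximalIdeal (X.presheaf.stalk η)) (X.presheaf.stalk η) := by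
    intro η hη
    obtain ⟨A, hA⟩ := exists_affine_mem η
    exact (isAssociatedPrime_maximalIdeal_iff A η hA).2
      (weakAss_of_mem_minimalPrimes ((primeAt_mem_minimalPrimes_iff A η hA).2 hη))
  have hassmax : ∀ z : X, IsAssociatedPrime (maximalIdeal (X.presheaf.stalk z)) (X.presheaf.stalk z) →
      Mero90.MaxPt z := by
    intro z hz y hy
    obtain ⟨η, hη, hηy⟩ := Mero90.exists_maxPt y
    have key : ∀ w, IsAssociatedPrime (maximalIdeal (X.presheaf.stalk w)) (X.presheaf.stalk w) →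
        Curv2.IsAssPoint (Coh.structureModule X) w := fun w hw =>
      (isAssPoint_iff_isWeakAssPoint _ w).2 ((isWeakAssPoint_structureModule_iff' w).2 hw)
    have := hne z (key z hz) η (key η (hmaxass η hη)) (hηy.trans hy)
    subst this
    exact hη y hy
  choose U hU e he using fun η : {η : X // Mero90.MaxPt η} => Mero90.exists_frame' hL η.1
  choose W hηW hWU hW using fun η : {η : X // Mero90.MaxPt η} => Mero90.exists_isolated_nbhd hfin η.2 (hU η)
  let V : X.Opens := ⨆ η, W η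
  obtain ⟨m, hm, -⟩ := TopCat.Sheaf.existsUnique_gluing' (⟨L.presheaf, L.isSheaf⟩ : TopCat.Sheaf Ab X)
    W V (fun η => homOfLE (le_iSup W η)) le_rfl (fun η => Var76.LineBundle.res L (hWU η) (e η)) (fun η η' => by
      by_cases h : η = η'
      · subst h; rfl
      · apply TopCat.Presheaf.section_ext (⟨L.presheaf, L.isSheaf⟩ : TopCat.Sheaf Ab X)
        intro y hy
        obtain ⟨w, hw, hwy⟩ := Mero90.exists_maxPt y
        exact absurd (Subtype.ext ((hW η y hy.1 w hw hwy).symm.trans (hW η' y hy.2 w hw hwy))) h)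
  have hd : Mero90.SchDense ⊤ V := Mero90.schDense_of_assoc fun z hz =>
    Opens.mem_iSup.2 ⟨⟨z, hassmax z hz⟩, hηW _⟩
  refine Mero90.hasRegularMero_of_gen (Mero90.goodAffines_of (Or.inl inferInstance)) hL hd m fun y => ?_
  obtain ⟨η, hη⟩ := Opens.mem_iSup.1 y.2
  have h1 := congrArg (L.presheaf.germ (W η) y.1 hη) (hm η)
  change L.presheaf.germ (W η) y.1 hη (L.presheaf.map _ m) = L.presheaf.germ (W η) y.1 hη (L.presheaf.map _ (e η)) at h1
  rw [TopCat.Presheaf.germ_res_apply, TopCat.Presheaf.germ_res_apply] at h1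
  rw [h1]
  exact Mero90.isGen_germ (he η) ⟨y.1, hWU η hη⟩

end Groth.Agent.Div89
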