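import Groth.Agent.Div89.DenomTwist
import Groth.Agent.Div89.MeroK
import Groth.Agent.Amp73.Avoid
import Groth.Agent.Amp73.GlobGen
import Groth.Agent.Amp73.SemilocalFree
import Groth.Agent.Mero90.ToMer
import Groth.Agent.Mero90.Sections
import Groth.Agent.ParaF26.Spread

/-! On a Noetherian scheme with an ample module every invertible module is a difference of effective divisors. -/

set_option autoImplicit false
set_option linter.style.haveILetI false
set_option backward.isDefEq.respectTransparency.types false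

noncomputable section

universe u

open CategoryTheory CategoryTheory.Limits AlgebraicGeometry TopologicalSpace IsLocalRing
open Groth.Agent.QC70 Groth.Agent.Mero90
open Groth.Agent.Var76.LineBundle (IsFrame)
open Groth.Agent.Var76.ZeroScheme (val res_val)

namespace Groth.Agent.Div89.AmpleDiff

variable {X : Scheme.{u}}

theorem group_aux {G : Type*} [CommGroup G] (a b : G) : b * (a⁻¹ * b⁻¹) = a⁻¹ := by
  rw [mul_left_comm, mul_inv_cancel, mul_one]

theorem finite_ass [IsNoetherian X] :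
    {x : X | IsAssociatedPrime (maximalIdeal (X.presheaf.stalk x)) (X.presheaf.stalk x)}.Finite := by
  classical
  choose U hU using fun y : X => exists_affine_mem y
  obtain ⟨T, hT⟩ := isCompact_univ.elim_finite_subcover (fun y => ((U y).1 : Set X)) (fun y => (U y).1.2)
    (fun y _ => Set.mem_iUnion.2 ⟨y, hU y⟩)
  refine (Set.Finite.biUnion (T.finite_toSet) (t := fun y => Subtype.val ''
    {x : (U y).1 | IsAssociatedPrime (maximalIdeal (X.presheaf.stalk x.1)) (X.presheaf.stalk x.1)})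
    fun y _ => (finite_assPoints (U y).2).image _).subset fun x hx => ?_
  obtain ⟨y, hy, hxy⟩ := Set.mem_iUnion₂.1 (hT (Set.mem_univ x))
  exact Set.mem_biUnion hy ⟨⟨x, hxy⟩, hx, rfl⟩

/-- The divisor of a section generating at all associated points. -/
theorem exists_div_of_section [IsLocallyNoetherian X] {P : X.Modules} (hP : PicF.IsInvertible P)
    (σ : Coh.structureModule X ⟶ P) {G : X.Opens}
    (hG : ∀ z : X, IsAssociatedPrime (maximalIdeal (X.presheaf.stalk z)) (X.presheaf.stalk z) → z ∈ G)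
    (hσ : G ≤ CohB1.genLocus P σ) :
    ∃ D : Mero.Divisor X, Mero.IsEffective D ∧ (∀ y ∈ G, D.1 y = 1) ∧ Nonempty (P ≅ Mero.divMod D) := by
  let s₀ := Mero.toMerFun P ⊤ (val P σ ⊤)
  have hloc : ∀ x : X, ∃ (W : X.affineOpens) (_ : x ∈ W.1) (e : Γ(P, W.1)) (_ : IsFrame P W.1 e)
      (c : Γ(X, W.1)), c • e = val P σ W.1 := fun x => by
    obtain ⟨W, hxW, -, e, he⟩ := exists_affine_frame hP x ⊤ trivial
    obtain ⟨c, hc⟩ := (he W.1 le_rfl).2 (val P σ W.1)
    exact ⟨W, hxW, e, he, c, by simpa [Var76.LineBundle.res] using hc⟩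
  choose W hxW e he c hc using hloc
  have hunit : ∀ (x y : X) (hy : y ∈ (W x).1), y ∈ G → IsUnit (X.presheaf.germ (W x).1 y hy (c x)) :=
    fun x y hy hyG => (X.mem_basicOpen (c x) y hy).1
      ((Amp73.genLocus_inf_eq_basicOpen σ (he x) (hc x)).le ⟨hσ hyG, hy⟩)
  have hreg : ∀ (x y : X) (hy : y ∈ (W x).1), X.presheaf.germ (W x).1 y hy (c x) ∈ Mero.regStalk X y := by
    intro x y hy
    rw [Div89.regStalk_eq_of_locallyNoetherian]
    refine mem_nonZeroDivisors_of_assoc _ fun z hz hass => ?_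
    rw [TopCat.Presheaf.germ_stalkSpecializes_apply]
    exact hunit x z _ (hG z hass)
  have hval : ∀ (x y : X) (hy : y ∈ (W x).1), s₀.1 ⟨y, trivial⟩ =
      (regUnit y ⟨_, hreg x y hy⟩ : Mero.KStalk X y) • mone (P.presheaf.germ (W x).1 y hy (e x)) := by
    intro x y hy
    rw [regUnit_val, ← mone_smul, ← Mero.germ_smul, hc, ← res_val P σ (le_top : (W x).1 ≤ ⊤)]
    exact (congrArg mone (germM_res le_top hy (val P σ ⊤))).symm
  have hs₀ : Mero.IsRegularMero P s₀ := isRegularMero_of_coords _ fun x =>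
    ⟨_, _, isGen_germ (he x) ⟨x, hxW x⟩, hval x x (hxW x)⟩
  obtain ⟨D, hD⟩ := exists_isDivOfMero hP s₀ hs₀
  have hDx : ∀ (x y : X) (hy : y ∈ (W x).1), D.1 y = QuotientGroup.mk (regUnit y ⟨_, hreg x y hy⟩) :=
    fun x y hy => hD y _ _ (isGen_germ (he x) ⟨y, hy⟩).span_eq_top (hval x y hy)
  obtain ⟨φ, -⟩ := exists_iso_divMod hP s₀ hs₀ D hD
  refine ⟨D, fun x => ⟨_, hDx x x (hxW x)⟩, fun y hy => ?_, ⟨φ⟩⟩
  rw [hDx y y (hxW y)]
  refine (QuotientGroup.eq_one_iff _).2 ⟨(hunit y y (hxW y) hy).unit, Units.ext ?_⟩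
  rfl

/-- The ideal of a divisor trivial on an open has support off that open. -/
theorem disjoint_support {D : Mero.Divisor X} {I : X.IdealSheafData} (hI : Mero.IsDivOfIdeal D I) {G : X.Opens}
    (h : ∀ y ∈ G, D.1 y = 1) {E : Set X} (hE : E ⊆ G) : Disjoint E (I.support : Set X) := by
  refine Set.disjoint_left.2 fun y hyE hy => ?_
  obtain ⟨U, hyU, f, hf, hIU, hD⟩ := hI y
  refine (An92.AmpleFam.notMem_support_iff U hIU hyU).2 ?_ hy
  have h1 := (hD ⟨y, hyU⟩).symm.trans (h y (hE hyE))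
  obtain ⟨v, hv⟩ := (QuotientGroup.eq_one_iff _).1 h1
  have h2 := congrArg Units.val hv
  have h3 : (v : X.presheaf.stalk y) = X.presheaf.germ U.1 y hyU f := Mero.algebraMap_KStalk_injective y h2
  rw [← h3]
  exact v.isUnit

theorem exists_difference [IsNoetherian X] {L : X.Modules} (hL : CohB1.IsAmple L) {N : X.Modules}
    (hN : PicF.IsInvertible N) {E : Set X} (hE : E.Finite) :
    ∃ D D' : X.IdealSheafData, BlowUp.IsEffCartierIdeal D ∧ BlowUp.IsEffCartierIdeal D' ∧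
      Disjoint E (D.support : Set X) ∧ Disjoint E (D'.support : Set X) ∧
      Nonempty (CohB1.tensorMod N (ClSub.idealMod D) ≅ ClSub.idealMod D') := by
  haveI := Amp73.quasiSeparatedSpace_of_isAmple hL
  let A := {x : X | IsAssociatedPrime (maximalIdeal (X.presheaf.stalk x)) (X.presheaf.stalk x)}
  have hZ : (E ∪ A).Finite := hE.union finite_ass
  obtain ⟨G₁, -, hZG₁, -, hG₁⟩ := Amp73.exists_affine_genSet_of_finite hL hZ (U := ⊤) (fun x _ => trivial)
  obtain ⟨W, hZW, -, ⟨φ⟩⟩ := Amp73.exists_nhd_free_finite N (isFinLocFreeOfRank_of_isInvertible hN) _ hZ G₁ hG₁ hZG₁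
  obtain ⟨g, hg⟩ := ParaF26.exists_frame_of_restrict_iso (φ ≪≫ coproductUniqueIso _)
  obtain ⟨G, ⟨n, s, rfl⟩, hZG, hGW, -⟩ := Amp73.exists_affine_genSet_of_finite hL hZ hZW
  have hM := EGA73.isInvertible_tensorPow hL.1 (n + 1)
  obtain ⟨k, hk⟩ := Amp73.exists_tw_extend hM s (Mero90.isQCoh_of_isInvertible hN) (res N hGW g)
  obtain ⟨t, ht⟩ := hk k le_rfl
  have hMk := EGA73.isInvertible_tensorPow hM k
  have hP := EGA73.isInvertible_tensorMod hN hMk
  have h1 : CohB1.genLocus _ s ≤ CohB1.genLocus _ (Var76.Frames.ofSection _ t) := by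
    rw [← Amp73.isFrame_iff_le_genLocus, Var76.Frames.val_ofSection]
    erw [ht]
    exact Amp73.isFrame_tm (hg.res hGW) (Amp73.isFrame_epow (Amp73.isFrame_genLocus s) k)
  have h2 : CohB1.genLocus _ s ≤ CohB1.genLocus _ (SecTwist.powHom s k) := by
    rw [← Amp73.isFrame_iff_le_genLocus, Amp73.val_powHom]
    exact Amp73.isFrame_epow (Amp73.isFrame_genLocus s) k
  obtain ⟨D₁, hD₁, hD₁G, ⟨φ₁⟩⟩ := exists_div_of_section hP _ (fun z hz => hZG (Or.inr hz)) h1
  obtain ⟨D₂, hD₂, hD₂G, ⟨φ₂⟩⟩ := exists_div_of_section hMk _ (fun z hz => hZG (Or.inr hz)) h2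
  obtain ⟨I₁, hI₁, hdiv₁⟩ := DenomTwist.exists_ideal_of_effective D₁ hD₁
  obtain ⟨I₂, hI₂, hdiv₂⟩ := DenomTwist.exists_ideal_of_effective D₂ hD₂
  obtain ⟨ψ₁⟩ := DenomTwist.nonempty_idealMod_iso hdiv₁
  obtain ⟨ψ₂⟩ := DenomTwist.nonempty_idealMod_iso hdiv₂
  obtain ⟨μ₁, -, hμ₁⟩ := Mero90.exists_mulHom D₂ (D₁⁻¹ * D₂⁻¹)
  obtain ⟨μ₂, -, hμ₂⟩ := Mero90.exists_mulHom D₁ (D₁⁻¹ * D₂⁻¹)
  refine ⟨I₁, I₂, hI₁, hI₂, disjoint_support hdiv₁ hD₁G fun x hx => hZG (Or.inl hx),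
    disjoint_support hdiv₂ hD₂G fun x hx => hZG (Or.inl hx), ⟨?_⟩⟩
  have e1 : D₂ * (D₁⁻¹ * D₂⁻¹) = D₁⁻¹ := Subtype.ext (funext fun y => by
    show D₂.1 y * ((D₁.1 y)⁻¹ * (D₂.1 y)⁻¹) = (D₁.1 y)⁻¹
    obtain ⟨a, ha⟩ := QuotientGroup.mk_surjective (D₁.1 y)
    obtain ⟨b, hb⟩ := QuotientGroup.mk_surjective (D₂.1 y)
    rw [← ha, ← hb, ← QuotientGroup.mk_inv, ← QuotientGroup.mk_inv, ← QuotientGroup.mk_mul, ← QuotientGroup.mk_mul]
    exact congrArg _ (group_aux a b))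
  have e2 : D₁ * (D₁⁻¹ * D₂⁻¹) = D₂⁻¹ := mul_inv_cancel_left _ _
  exact EGA73.tensIso (Iso.refl N)
      (ψ₁ ≪≫ eqToIso (congrArg Mero.divMod e1.symm) ≪≫ (asIso μ₁).symm) ≪≫
    (EGA73.tensAssoc' N (Mero.divMod D₂) _).symm ≪≫
    EGA73.tensIso (EGA73.tensIso (Iso.refl N) φ₂.symm ≪≫ φ₁) (Iso.refl _) ≪≫
    asIso μ₂ ≪≫ eqToIso (congrArg Mero.divMod e2) ≪≫ ψ₂.symm

end Groth.Agent.Div89.AmpleDiff
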