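import Groth.Agent.MP99.Ops

/-!
Finite type ideal sheaves: locality and pullback.
-/

set_option autoImplicit false

universe u

open CategoryTheory CategoryTheory.Limits AlgebraicGeometry TopologicalSpace

namespace Groth.Agent.Div89

variable {X Y : Scheme.{u}}

theorem isFiniteTypeIdeal_of_local (K : X.IdealSheafData)
    (h : ∀ x : X, ∃ W : X.Opens, x ∈ W ∧ ∀ V : X.affineOpens, V.1 ≤ W → (K.ideal V).FG) :
    BlowUp.IsFiniteTypeIdeal K := by
  intro U
  have key : ∀ x : U.1, ∃ r : Γ(X, U.1), x.1 ∈ X.basicOpen r ∧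
      (K.ideal (X.affineBasicOpen r)).FG := fun x => by
    obtain ⟨W, hxW, hW⟩ := h x.1
    obtain ⟨r, hr, hxr⟩ := U.2.exists_basicOpen_le (V := W) ⟨x.1, hxW⟩ x.2
    exact ⟨r, hxr, hW _ hr⟩
  choose r hr hfg using key
  have hspan : Ideal.span (Set.range r) = ⊤ := by
    rw [← U.2.self_le_iSup_basicOpen_iff]
    exact fun x hx => Opens.mem_iSup.mpr ⟨⟨_, _, rfl⟩, hr ⟨x, hx⟩⟩
  refine Ideal.fg_of_localizationSpan (Set.range r) hspan ?_
  rintro ⟨_, x, rfl⟩
  haveI := U.2.isLocalization_basicOpen (r x)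
  let e := IsLocalization.algEquiv (Submonoid.powers (r x))
    Γ(X, X.basicOpen (r x)) (Localization.Away (r x))
  have h1 : (K.ideal U).map (algebraMap Γ(X, U.1) Γ(X, X.basicOpen (r x))) =
      K.ideal (X.affineBasicOpen (r x)) :=
    K.map_ideal (U := X.affineBasicOpen (r x)) (X.basicOpen_le _)
  have h2 : ((K.ideal U).map (algebraMap Γ(X, U.1) Γ(X, X.basicOpen (r x)))).FG := by
    rw [h1]; exact hfg x
  have h3 := Ideal.FG.map h2 e.toAlgHom.toRingHom
  rw [Ideal.map_map] at h3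
  rwa [show e.toAlgHom.toRingHom.comp (algebraMap Γ(X, U.1) Γ(X, X.basicOpen (r x))) =
    algebraMap Γ(X, U.1) (Localization.Away (r x)) from e.toAlgHom.comp_algebraMap] at h3

theorem isFiniteTypeIdeal_comap (f : X ⟶ Y) {J : Y.IdealSheafData}
    (hJ : BlowUp.IsFiniteTypeIdeal J) : BlowUp.IsFiniteTypeIdeal (J.comap f) := by
  refine isFiniteTypeIdeal_of_local _ fun x => ?_
  obtain ⟨U, hxU, -⟩ := MP99.exists_affine_le (f x) (W := ⊤) trivial
  refine ⟨f ⁻¹ᵁ U.1, hxU, fun V hV => ?_⟩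
  rw [MP99.ideal_comap J f U V hV]
  exact (hJ U).map _

end Groth.Agent.Div89
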