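import Groth.Agent.Div89.BlowSpec
import Groth.Agent.Div89.BlowUp
import Groth.Agent.Div89.FTIdeal

/-!
Admissible blow-ups: domination of finitely many.
-/

set_option autoImplicit false

universe u

open CategoryTheory CategoryTheory.Limits AlgebraicGeometry TopologicalSpace

namespace Groth.Agent.Div89

variable {X : Scheme.{u}}

theorem isAdmissibleFor_prod {ι : Type} (U : X.Opens) (s : Finset ι) (I : ι → X.IdealSheafData)
    (h : ∀ i ∈ s, BlowUp.IsAdmissibleFor U (I i)) :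
    BlowUp.IsAdmissibleFor U (∏ i ∈ s, I i) := by
  classical
  induction s using Finset.induction_on with
  | empty =>
    rw [Finset.prod_empty]
    refine ⟨fun W => ?_, ?_⟩
    · exact Module.Finite.fg_top
    · change Disjoint ((⊥ : Closeds X) : Set X) (U : Set X)
      simp
  | insert a s ha ih =>
    rw [Finset.prod_insert ha]
    obtain ⟨h1, h1'⟩ := h a (Finset.mem_insert_self a s)
    obtain ⟨h2, h2'⟩ := ih fun i hi => h i (Finset.mem_insert_of_mem hi)
    refine ⟨fun W => ?_, ?_⟩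
    · rw [Scheme.IdealSheafData.ideal_mul]; exact (h1 W).mul (h2 W)
    · rw [Scheme.IdealSheafData.support_mul, Closeds.coe_sup]
      exact h1'.union_left h2'

/-- Finitely many admissible blow-ups are dominated by one. -/
theorem exists_admissible_dominating (U : X.Opens) {n : ℕ} (Xi : Fin n → Scheme.{u})
    (b : ∀ i, Xi i ⟶ X) (I : Fin n → X.IdealSheafData) (hb : ∀ i, BlowUp.IsBlowUp (b i) (I i))
    (ha : ∀ i, BlowUp.IsAdmissibleFor U (I i)) :
    ∃ (J : X.IdealSheafData) (X' : Scheme.{u}) (c : X' ⟶ X), BlowUp.IsBlowUp c J ∧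
      BlowUp.IsAdmissibleFor U J ∧ ∀ i, ∃ (g : X' ⟶ Xi i) (K : (Xi i).IdealSheafData),
        g ≫ b i = c ∧ BlowUp.IsBlowUp g K ∧ BlowUp.IsAdmissibleFor ((b i) ⁻¹ᵁ U) K := by
  obtain ⟨X', c, hc⟩ := FBlow13.exists_isBlowUp_scheme X (∏ i, I i)
  refine ⟨_, X', c, hc, isAdmissibleFor_prod U _ I fun i _ => ha i, fun i => ?_⟩
  obtain ⟨hJ1, hJ2⟩ := isAdmissibleFor_prod U (Finset.univ.erase i) I fun j _ => ha j
  obtain ⟨X'', b'', hb''⟩ := FBlow13.exists_isBlowUp_scheme (Xi i)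
    ((∏ j ∈ Finset.univ.erase i, I j).comap (b i))
  have hcomp := isBlowUp_comp (hb i) hb''
  rw [Finset.mul_prod_erase _ _ (Finset.mem_univ i)] at hcomp
  obtain ⟨e, he, -⟩ := hcomp.2 X' c hc.1
  obtain ⟨e', he', -⟩ := hc.2 X'' _ hcomp.1
  have h1 : e ≫ e' = 𝟙 _ := (hc.2 _ c hc.1).unique
    (by rw [Category.assoc, he', he]) (Category.id_comp _)
  have h2 : e' ≫ e = 𝟙 _ := (hcomp.2 _ _ hcomp.1).unique
    (by rw [Category.assoc, he, he']) (Category.id_comp _)
  refine ⟨e ≫ b'', _, by rw [Category.assoc]; exact he, ⟨?_, fun Y g hg => ?_⟩, isFiniteTypeIdeal_comap (b i) hJ1, ?_⟩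
  · rw [Scheme.IdealSheafData.comap_comp]
    have : IsIso e := ⟨e', h1, h2⟩
    exact MP99.isEffCartier_comap_isOpenImmersion hb''.1 e
  · obtain ⟨k, hk, hu⟩ := hb''.2 Y g hg
    refine ⟨k ≫ e', ?_, fun m hm => ?_⟩
    · show (k ≫ e') ≫ e ≫ b'' = g
      rw [Category.assoc, reassoc_of% h2, hk]
    · rw [← hu (m ≫ e) ((Category.assoc _ _ _).trans hm), Category.assoc, h1, Category.comp_id]
  · rw [Scheme.IdealSheafData.support_comap]
    exact hJ2.preimage _

end Groth.Agent.Div89
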