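import Groth.Agent.Div89.ReesRelProj
import Groth.Agent.Div89.BlowSpec
import Groth.Agent.CAlg9.BlowReg.BaseChangeBlow
import Groth.Agent.FBlow13.UP

/-! Blow-ups are local on the base; the relative Proj of the Rees algebra is the blow-up. -/

set_option autoImplicit false
set_option backward.isDefEq.respectTransparency.types false

universe u

open CategoryTheory CategoryTheory.Limits AlgebraicGeometry TopologicalSpace Opposite

namespace Groth.Agent.Div89.BlowLocal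

variable {X P : Scheme.{u}}

theorem exists_lift_over {b : P ⟶ X} {W : X.Opens} {Z : Scheme.{u}} (m : Z ⟶ P) (g : Z ⟶ W.toScheme)
    (h : m ≫ b = g ≫ W.ι) : ∃ l : Z ⟶ (b ⁻¹ᵁ W).toScheme, l ≫ (b ⁻¹ᵁ W).ι = m ∧ l ≫ (b ∣_ W) = g := by
  refine ⟨IsOpenImmersion.lift (b ⁻¹ᵁ W).ι m (Set.range_subset_iff.2 fun z => ?_), IsOpenImmersion.lift_fac _ _ _, ?_⟩
  · rw [Scheme.Opens.range_ι]
    show (m ≫ b) z ∈ W
    rw [h]
    exact (g z).2
  · rw [← cancel_mono W.ι, Category.assoc, morphismRestrict_ι, ← Category.assoc, IsOpenImmersion.lift_fac, h]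

/-- Being a blow-up is local on the base. -/
theorem isBlowUp_of_local (b : P ⟶ X) (𝓘 : X.IdealSheafData) {ι : Type u} (U : ι → X.Opens) (hU : ⨆ i, U i = ⊤)
    (h : ∀ i, BlowUp.IsBlowUp (b ∣_ U i) (𝓘.comap (U i).ι)) : BlowUp.IsBlowUp b 𝓘 := by
  refine ⟨MP99.isEffCartier_of_local fun y => ?_, fun Y g hg => ?_⟩
  · obtain ⟨i, hi⟩ := Opens.mem_iSup.1 (hU.ge (Set.mem_univ (b y)))
    refine ⟨b ⁻¹ᵁ U i, hi, ?_⟩
    rw [← Scheme.IdealSheafData.comap_comp, ← morphismRestrict_ι, Scheme.IdealSheafData.comap_comp]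
    exact (h i).1
  -- uniqueness over an open
  have uniq : ∀ {Z : Scheme.{u}} (i : ι) (q : Z ⟶ Y) (t : Z ⟶ (U i).toScheme), q ≫ g = t ≫ (U i).ι →
      BlowUp.IsEffCartierIdeal (𝓘.comap (q ≫ g)) → ∀ m m' : Z ⟶ P, m ≫ b = q ≫ g → m' ≫ b = q ≫ g → m = m' := by
    intro Z i q t ht hc m m' hm hm'
    obtain ⟨l, hl, hlt⟩ := exists_lift_over m t (hm.trans ht)
    obtain ⟨l', hl', hlt'⟩ := exists_lift_over m' t (hm'.trans ht)
    rw [← hl, ← hl', ((h i).2 Z t (by rw [← Scheme.IdealSheafData.comap_comp, ← ht]; exact hc)).unique hlt hlt']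
  have hcov : ⨆ i, g ⁻¹ᵁ U i = ⊤ := top_unique fun y _ => by
    obtain ⟨i, hi⟩ := Opens.mem_iSup.1 (hU.ge (Set.mem_univ (g y)))
    exact Opens.mem_iSup.2 ⟨i, hi⟩
  have hlift : ∀ i, ∃ l : (g ⁻¹ᵁ U i).toScheme ⟶ P, l ≫ b = (g ⁻¹ᵁ U i).ι ≫ g := fun i => by
    obtain ⟨l, hl, -⟩ := (h i).2 _ (g ∣_ U i) (by
      rw [← Scheme.IdealSheafData.comap_comp, morphismRestrict_ι, Scheme.IdealSheafData.comap_comp]
      exact MP99.isEffCartier_comap_isOpenImmersion hg _)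
    exact ⟨l ≫ (b ⁻¹ᵁ U i).ι, by rw [Category.assoc, ← morphismRestrict_ι, ← Category.assoc, hl, morphismRestrict_ι]⟩
  choose l hl using hlift
  have huniq : ∀ (i : ι) (W : Y.Opens) (e : W ≤ g ⁻¹ᵁ U i) (m m' : W.toScheme ⟶ P),
      m ≫ b = W.ι ≫ g → m' ≫ b = W.ι ≫ g → m = m' := fun i W e => by
    refine uniq i W.ι (Y.homOfLE e ≫ g ∣_ U i) ?_ ?_
    · rw [Category.assoc, morphismRestrict_ι, Scheme.homOfLE_ι_assoc]
    · rw [Scheme.IdealSheafData.comap_comp]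
      exact MP99.isEffCartier_comap_isOpenImmersion hg _
  obtain ⟨k, hk⟩ := FBlow13.exists_glue_opens _ hcov l fun i j => by
    refine huniq i _ inf_le_left _ _ ?_ ?_ <;> rw [Category.assoc, hl, Scheme.homOfLE_ι_assoc]
  have hkg : k ≫ b = g := FBlow13.hom_ext_opens _ hcov fun i => by rw [← Category.assoc, hk, hl]
  refine ⟨k, hkg, fun k' hk' => FBlow13.hom_ext_opens _ hcov fun i => ?_⟩
  exact huniq i _ le_rfl _ _ (by rw [Category.assoc, hk']) (by rw [Category.assoc, hkg])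

theorem isBlowUp_iso_comp {P' : Scheme.{u}} (e : P' ≅ P) {b : P ⟶ X} {𝓘 : X.IdealSheafData}
    (h : BlowUp.IsBlowUp b 𝓘) : BlowUp.IsBlowUp (e.hom ≫ b) 𝓘 := by
  refine ⟨by rw [Scheme.IdealSheafData.comap_comp]; exact MP99.isEffCartier_comap_isOpenImmersion h.1 _,
    fun Y g hg => ?_⟩
  obtain ⟨l, hl, hu⟩ := h.2 Y g hg
  refine ⟨l ≫ e.inv, ?_, fun m hm => ?_⟩
  · show (l ≫ e.inv) ≫ e.hom ≫ b = g
    rw [Category.assoc, Iso.inv_hom_id_assoc]; exact hl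
  · refine (Iso.eq_comp_inv e).2 (hu _ ?_)
    exact (Category.assoc _ _ _).trans hm

open ReesRelProj

/-- A relative Proj of the Rees algebra is a blow-up. -/
theorem isBlowUp_relProj (𝓘 : X.IdealSheafData) {p : P ⟶ X}
    {chart : ∀ (U : X.Opens) (hU : IsAffineOpen U), (((p ⁻¹ᵁ U : P.Opens) : Scheme.{u}) ≅ Proj ((grAlg 𝓘).deg U hU))}
    (hp : RelProj.IsRelProj (grAlg 𝓘) p chart) : BlowUp.IsBlowUp p 𝓘 := by
  refine isBlowUp_of_local p 𝓘 (fun U : X.AffineZariskiSite => U.1) (top_unique fun x _ => ?_) fun U => ?_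
  · obtain ⟨V, hV, hx, -⟩ := exists_isAffineOpen_mem_and_subset (U := ⊤) (Opens.mem_top x)
    exact Opens.mem_iSup.2 ⟨⟨V, hV⟩, hx⟩
  obtain ⟨φ, hφ⟩ := exists_chart 𝓘 hp U
  have e : p ∣_ U.1 = φ.hom ≫ ReesChart.str (idl 𝓘 U) ≫ U.2.isoSpec.inv := by
    rw [← cancel_mono U.1.ι, morphismRestrict_ι, Category.assoc, Category.assoc, IsAffineOpen.isoSpec_inv_ι]
    exact hφ.symm
  rw [e]
  refine isBlowUp_iso_comp φ (isBlowUp_comp_iso U.2.isoSpec.symm _ _ ?_)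
  rw [Iso.symm_hom, ← Scheme.IdealSheafData.comap_comp, IsAffineOpen.isoSpec_inv_ι,
    CAlg9.BlowReg.comap_fromSpec 𝓘 ⟨U.1, U.2⟩]
  exact ReesChart.isBlowUp_str

theorem isProjective_of_isBlowUp (𝓘 : X.IdealSheafData) (h𝓘 : BlowUp.IsFiniteTypeIdeal 𝓘)
    (b : P ⟶ X) (hb : BlowUp.IsBlowUp b 𝓘) : RelProj.IsProjective b := by
  let 𝒮 := grAlg 𝓘
  let Q := EGAProj74.relProj 𝒮
  let q := EGAProj74.relProjTo 𝒮
  have hq := EGAProj74.isRelProj_relProj 𝒮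
  have hQ : BlowUp.IsBlowUp q 𝓘 := isBlowUp_relProj 𝓘 hq
  obtain ⟨u, hu, -⟩ := hQ.2 P b hb.1
  obtain ⟨v, hv, -⟩ := hb.2 Q q hQ.1
  have huv : u ≫ v = 𝟙 P := (hb.2 P b hb.1).unique
    (show (u ≫ v) ≫ b = b by rw [Category.assoc, hv, hu]) (Category.id_comp b)
  have hvu : v ≫ u = 𝟙 Q := (hQ.2 Q q hQ.1).unique
    (show (v ≫ u) ≫ q = q by rw [Category.assoc, hu, hv]) (Category.id_comp q)
  exact ⟨𝒮, Q, q, EGAProj74.relProjChart 𝒮, ⟨u, v, huv, hvu⟩, isGenDegOne 𝓘, isFTDeg_one 𝓘 h𝓘, hq, hu⟩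

end Groth.Agent.Div89.BlowLocal
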