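import Groth.Agent.Div89.RelFlat
import Groth.Agent.Div89.Cartier
import Mathlib.AlgebraicGeometry.Morphisms.Flat
import Mathlib.AlgebraicGeometry.Morphisms.ClosedImmersion

/-!
Relative effective Cartier divisors.
-/

set_option autoImplicit false
set_option linter.style.haveILetI false

noncomputable section

universe u

open CategoryTheory Limits AlgebraicGeometry Opposite nonZeroDivisors

namespace Groth.Agent.Div89

variable {X S : Scheme.{u}}

lemma quot_appLE_flat_iff (f : X ⟶ S) (I : X.IdealSheafData) (V : S.Opens) (U : X.affineOpens)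
    (e : U.1 ≤ f ⁻¹ᵁ V) (e' : I.subschemeι ⁻¹ᵁ U.1 ≤ (I.subschemeι ≫ f) ⁻¹ᵁ V) :
    ((I.subschemeι ≫ f).appLE V (I.subschemeι ⁻¹ᵁ U.1) e').hom.Flat ↔
      ((Ideal.Quotient.mk (I.ideal U)).comp (f.appLE V U.1 e).hom).Flat := by
  have h : (I.subschemeι ≫ f).appLE V (I.subschemeι ⁻¹ᵁ U.1) e' =
      f.appLE V U.1 e ≫ CommRingCat.ofHom (Ideal.Quotient.mk (I.ideal U)) ≫ (I.subschemeObjIso U).inv := by
    rw [← I.subschemeι_app U, Scheme.Hom.app_eq_appLE, Scheme.Hom.appLE_comp_appLE]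
  rw [h]
  simp only [CommRingCat.hom_comp, CommRingCat.hom_ofHom, RingHom.comp_assoc]
  exact RingHom.Flat.comp_iff_of_bijective_left
    (ConcreteCategory.bijective_of_isIso (I.subschemeObjIso U).inv)

lemma flat_quot_of_flat (f : X ⟶ S) (I : X.IdealSheafData) [Flat (I.subschemeι ≫ f)] (V : S.affineOpens)
    (U : X.affineOpens) (e : U.1 ≤ f ⁻¹ᵁ V.1) :
    ((Ideal.Quotient.mk (I.ideal U)).comp (f.appLE V.1 U.1 e).hom).Flat :=
  (quot_appLE_flat_iff f I V.1 U e fun _ hx => e hx).1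
    (Scheme.Hom.flat_appLE (I.subschemeι ≫ f) V.2 (U.2.preimage I.subschemeι) _)

lemma flat_subscheme_of_quot (f : X ⟶ S) (I : X.IdealSheafData)
    (h : ∀ x : X, ∃ (V : S.affineOpens) (U : X.affineOpens) (e : U.1 ≤ f ⁻¹ᵁ V.1), x ∈ U.1 ∧
      ((Ideal.Quotient.mk (I.ideal U)).comp (f.appLE V.1 U.1 e).hom).Flat) :
    Flat (I.subschemeι ≫ f) := by
  rw [HasRingHomProperty.iff_exists_appLE (P := @Flat)
    (RingHom.Flat.stableUnderComposition.stableUnderCompositionWithLocalizationAway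
      RingHom.Flat.holdsForLocalizationAway).left]
  intro d
  obtain ⟨V, U, e, hx, hf⟩ := h (I.subschemeι d)
  exact ⟨V, ⟨_, U.2.preimage I.subschemeι⟩, hx, fun _ hy => e hy, (quot_appLE_flat_iff f I V.1 U e _).2 hf⟩

lemma exists_affine_chart (f : X ⟶ S) {I : X.IdealSheafData} (hI : BlowUp.IsEffCartierIdeal I) (x : X) :
    ∃ (V : S.affineOpens) (U : X.affineOpens) (_ : U.1 ≤ f ⁻¹ᵁ V.1), x ∈ U.1 ∧
      ∃ a ∈ Γ(X, U.1)⁰, I.ideal U = Ideal.span {a} := by
  obtain ⟨V, hV⟩ := exists_affine_mem (f x)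
  obtain ⟨U0, hU0, a, ha, hIa⟩ := hI x
  obtain ⟨U, hxU, hle⟩ := exists_affine_le (U := U0.1 ⊓ f ⁻¹ᵁ V.1) (x := x) ⟨hU0, hV⟩
  exact ⟨V, U, fun y hy => (hle hy).2, hxU, _, res_mem_nonZeroDivisors (fun y hy => (hle hy).1) ha,
    ideal_res_span (fun y hy => (hle hy).1) hIa⟩

lemma exists_affine_chart₂ (f : X ⟶ S) {I J : X.IdealSheafData} (hI : BlowUp.IsEffCartierIdeal I)
    (hJ : BlowUp.IsEffCartierIdeal J) (x : X) :
    ∃ (V : S.affineOpens) (U : X.affineOpens) (_ : U.1 ≤ f ⁻¹ᵁ V.1), x ∈ U.1 ∧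
      ∃ a ∈ Γ(X, U.1)⁰, ∃ b ∈ Γ(X, U.1)⁰, I.ideal U = Ideal.span {a} ∧ J.ideal U = Ideal.span {b} := by
  obtain ⟨V, U0, e, hx, a, ha, hIa⟩ := exists_affine_chart f hI x
  obtain ⟨U1, hU1, b, hb, hJb⟩ := hJ x
  obtain ⟨U, hxU, hle⟩ := exists_affine_le (U := U0.1 ⊓ U1.1) (x := x) ⟨hx, hU1⟩
  exact ⟨V, U, fun y hy => e (hle hy).1, hxU,
    _, res_mem_nonZeroDivisors (fun y hy => (hle hy).1) ha,
    _, res_mem_nonZeroDivisors (fun y hy => (hle hy).2) hb,
    ideal_res_span (fun y hy => (hle hy).1) hIa, ideal_res_span (fun y hy => (hle hy).2) hJb⟩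

section algebra

variable {R B : Type u} [CommRing R] [CommRing B] [Algebra R B]

lemma flat_quot_mul {a b : B} (ha : a ∈ B⁰) :
    (Module.Flat R (B ⧸ Ideal.span {a}) → Module.Flat R (B ⧸ Ideal.span {b}) →
      Module.Flat R (B ⧸ Ideal.span {a * b})) ∧
    (Module.Flat R (B ⧸ Ideal.span {a}) → Module.Flat R (B ⧸ Ideal.span {a * b}) →
      Module.Flat R (B ⧸ Ideal.span {b})) := by
  let i : (B ⧸ Ideal.span {b}) →ₗ[R] (B ⧸ Ideal.span {a * b}) :=
    (Submodule.mapQ (Ideal.span {b}) (Ideal.span {a * b}) (LinearMap.mulLeft B a) (fun x hx => by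
      obtain ⟨c, rfl⟩ := Ideal.mem_span_singleton'.1 hx
      exact Ideal.mem_span_singleton'.2 ⟨c, show c * (a * b) = a * (c * b) by ring⟩)).restrictScalars R
  let p : (B ⧸ Ideal.span {a * b}) →ₗ[R] (B ⧸ Ideal.span {a}) :=
    (Submodule.factor (p := Ideal.span {a * b}) (p' := Ideal.span {a})
      (Ideal.span_singleton_le_span_singleton.2 (dvd_mul_right a b))).restrictScalars R
  have hi : Function.Injective i := by
    refine (injective_iff_map_eq_zero _).2 fun x hx => ?_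
    obtain ⟨x, rfl⟩ := Submodule.Quotient.mk_surjective _ x
    have hx' : a * x ∈ Ideal.span {a * b} := (Submodule.Quotient.mk_eq_zero _).1 hx
    obtain ⟨c, hc⟩ := Ideal.mem_span_singleton'.1 hx'
    refine (Submodule.Quotient.mk_eq_zero _).2 (Ideal.mem_span_singleton'.2 ⟨c, sub_eq_zero.1 ?_⟩)
    exact (mem_nonZeroDivisors_iff_right.1 ha) _ (by linear_combination hc)
  have hp : Function.Surjective p := fun x => by
    obtain ⟨x, rfl⟩ := Submodule.Quotient.mk_surjective _ x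
    exact ⟨Submodule.Quotient.mk x, rfl⟩
  have hex : Function.Exact i p := by
    intro x
    obtain ⟨x, rfl⟩ := Submodule.Quotient.mk_surjective _ x
    constructor
    · intro hx
      obtain ⟨c, hc⟩ := Ideal.mem_span_singleton'.1 ((Submodule.Quotient.mk_eq_zero _).1 hx)
      exact ⟨Submodule.Quotient.mk c, congrArg Submodule.Quotient.mk (show a * c = x from (mul_comm a c).trans hc)⟩
    · rintro ⟨y, hy⟩
      obtain ⟨y, rfl⟩ := Submodule.Quotient.mk_surjective _ y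
      rw [← hy]
      exact (Submodule.Quotient.mk_eq_zero _).2 (Ideal.mul_mem_right y _ (Ideal.mem_span_singleton_self a))
  exact ⟨fun _ _ => flat_middle i p hi hp hex, fun _ _ => flat_left i p hi hp hex⟩

end algebra

lemma relEffCartier_mul (f : X ⟶ S) {I J : X.IdealSheafData} (hI : BlowUp.IsEffCartierIdeal I)
    (hJ : BlowUp.IsEffCartierIdeal J) [Flat (I.subschemeι ≫ f)] [Flat (J.subschemeι ≫ f)] :
    Flat ((I * J).subschemeι ≫ f) := by
  refine flat_subscheme_of_quot f _ fun x => ?_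
  obtain ⟨V, U, e, hx, a, ha, b, hb, hIa, hJb⟩ := exists_affine_chart₂ f hI hJ x
  refine ⟨V, U, e, hx, ?_⟩
  letI := (f.appLE V.1 U.1 e).hom.toAlgebra
  haveI h1 : Module.Flat Γ(S, V.1) (Γ(X, U.1) ⧸ I.ideal U) :=
    RingHom.flat_algebraMap_iff.1 (flat_quot_of_flat f I V U e)
  haveI h2 : Module.Flat Γ(S, V.1) (Γ(X, U.1) ⧸ J.ideal U) :=
    RingHom.flat_algebraMap_iff.1 (flat_quot_of_flat f J V U e)
  refine RingHom.flat_algebraMap_iff.2 ?_
  rw [Scheme.IdealSheafData.ideal_mul, Pi.mul_apply, hIa, hJb, Ideal.span_singleton_mul_span_singleton]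
  rw [hIa] at h1; rw [hJb] at h2
  exact (flat_quot_mul ha).1 h1 h2

lemma relEffCartier_difference (f : X ⟶ S) {I J : X.IdealSheafData} (hI : BlowUp.IsEffCartierIdeal I)
    (hJ : BlowUp.IsEffCartierIdeal J) [Flat (I.subschemeι ≫ f)] [Flat ((I * J).subschemeι ≫ f)] :
    Flat (J.subschemeι ≫ f) := by
  refine flat_subscheme_of_quot f _ fun x => ?_
  obtain ⟨V, U, e, hx, a, ha, b, hb, hIa, hJb⟩ := exists_affine_chart₂ f hI hJ x
  refine ⟨V, U, e, hx, ?_⟩
  letI := (f.appLE V.1 U.1 e).hom.toAlgebra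
  haveI h1 : Module.Flat Γ(S, V.1) (Γ(X, U.1) ⧸ I.ideal U) :=
    RingHom.flat_algebraMap_iff.1 (flat_quot_of_flat f I V U e)
  haveI h2 : Module.Flat Γ(S, V.1) (Γ(X, U.1) ⧸ (I * J).ideal U) :=
    RingHom.flat_algebraMap_iff.1 (flat_quot_of_flat f (I * J) V U e)
  refine RingHom.flat_algebraMap_iff.2 ?_
  rw [hJb]
  rw [Scheme.IdealSheafData.ideal_mul, Pi.mul_apply, hIa, hJb, Ideal.span_singleton_mul_span_singleton] at h2
  rw [hIa] at h1
  exact (flat_quot_mul ha).2 h1 h2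

lemma flat_stalk_of_stalkMap_flat (f : X ⟶ S) (V : S.affineOpens) (U : X.affineOpens)
    (e : U.1 ≤ f ⁻¹ᵁ V.1) (x : X) (hx : x ∈ U.1) :
    ((X.presheaf.germ U.1 x hx).hom.comp (f.appLE V.1 U.1 e).hom).Flat ↔ (f.stalkMap x).hom.Flat := by
  letI a1 := stalkAlg V.1 (f x) (e hx)
  haveI := isLocalization_stalk V (f x) (e hx)
  letI a2 := (f.stalkMap x).hom.toAlgebra
  letI a3 := ((X.presheaf.germ U.1 x hx).hom.comp (f.appLE V.1 U.1 e).hom).toAlgebra
  haveI : IsScalarTower Γ(S, V.1) (S.presheaf.stalk (f x)) (X.presheaf.stalk x) :=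
    IsScalarTower.of_algebraMap_eq fun r => by
      show (X.presheaf.germ U.1 x hx).hom ((f.appLE V.1 U.1 e).hom r) =
        (f.stalkMap x).hom ((S.presheaf.germ V.1 (f x) (e hx)).hom r)
      erw [Scheme.Hom.germ_stalkMap_apply]
      exact X.presheaf.germ_res_apply (homOfLE e) x hx (f.app V.1 r)
  haveI := primeAt_isPrime V (f x) (e hx)
  exact (Module.flat_iff_of_isLocalization (R := Γ(S, V.1)) (S.presheaf.stalk (f x))
    (Ideal.primeCompl (primeAt V (f x) (e hx))) (M := X.presheaf.stalk x)).symm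

lemma flat_of_relEffCartier_off (f : X ⟶ S) {I : X.IdealSheafData} (hI : BlowUp.IsEffCartierIdeal I)
    [Flat (I.subschemeι ≫ f)] (h : ∀ x : X, x ∉ I.support → (f.stalkMap x).hom.Flat) : Flat f := by
  rw [HasRingHomProperty.iff_exists_appLE (P := @Flat)
    (RingHom.Flat.stableUnderComposition.stableUnderCompositionWithLocalizationAway
      RingHom.Flat.holdsForLocalizationAway).left]
  intro x
  obtain ⟨V, U, e, hx, a, ha, hIa⟩ := exists_affine_chart f hI x
  refine ⟨V, U, hx, e, ?_⟩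
  letI := (f.appLE V.1 U.1 e).hom.toAlgebra
  refine RingHom.flat_algebraMap_iff.2 ?_
  haveI : Module.Flat Γ(S, V.1) (Γ(X, U.1) ⧸ Ideal.span {a}) := by
    have h1 : Module.Flat Γ(S, V.1) (Γ(X, U.1) ⧸ I.ideal U) :=
      RingHom.flat_algebraMap_iff.1 (flat_quot_of_flat f I V U e)
    rwa [hIa] at h1
  refine flat_of_flat_quot_of_flat_away ha fun q hq haq => ?_
  obtain ⟨y, hy, rfl⟩ := exists_point U q
  have hys : y ∉ I.support := by
    rw [mem_support_iff_le I U y hy, hIa, Ideal.span_singleton_le_iff_mem]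
    exact haq
  letI := stalkAlg U.1 y hy
  haveI := isLocalization_stalk U y hy
  have hfl := (flat_stalk_of_stalkMap_flat f V U e y hy).2 (h y hys)
  letI := ((X.presheaf.germ U.1 y hy).hom.comp (f.appLE V.1 U.1 e).hom).toAlgebra
  haveI : IsScalarTower Γ(S, V.1) Γ(X, U.1) (X.presheaf.stalk y) := IsScalarTower.of_algebraMap_eq' rfl
  haveI : Module.Flat Γ(S, V.1) (X.presheaf.stalk y) := hfl
  exact Module.Flat.of_linearEquiv
    ((IsLocalization.algEquiv (primeAt U y hy).primeCompl (Localization.AtPrime (primeAt U y hy))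
      (X.presheaf.stalk y)).restrictScalars Γ(S, V.1)).toLinearEquiv

lemma flat_stalkMap_of_relEffCartier (f : X ⟶ S) {I : X.IdealSheafData} (hI : BlowUp.IsEffCartierIdeal I)
    [Flat (I.subschemeι ≫ f)] (x : X) (hxI : x ∈ I.support) [IsNoetherianRing (X.presheaf.stalk x)] :
    (f.stalkMap x).hom.Flat := by
  obtain ⟨V, U, e, hx, a, ha, hIa⟩ := exists_affine_chart f hI x
  rw [← flat_stalk_of_stalkMap_flat f V U e x hx]
  letI := stalkAlg U.1 x hx
  haveI := isLocalization_stalk U x hx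
  letI := (f.appLE V.1 U.1 e).hom.toAlgebra
  letI := ((X.presheaf.germ U.1 x hx).hom.comp (f.appLE V.1 U.1 e).hom).toAlgebra
  haveI : IsScalarTower Γ(S, V.1) Γ(X, U.1) (X.presheaf.stalk x) := IsScalarTower.of_algebraMap_eq' rfl
  haveI : Module.Flat Γ(S, V.1) (Γ(X, U.1) ⧸ I.ideal U) :=
    RingHom.flat_algebraMap_iff.1 (flat_quot_of_flat f I V U e)
  let g : X.presheaf.stalk x := algebraMap Γ(X, U.1) _ a
  have hmap : (I.ideal U).map (algebraMap Γ(X, U.1) (X.presheaf.stalk x)) = Ideal.span {g} := by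
    rw [hIa, Ideal.map_span, Set.image_singleton]
  haveI : Module.Flat (Γ(X, U.1) ⧸ I.ideal U)
      (X.presheaf.stalk x ⧸ (I.ideal U).map (algebraMap Γ(X, U.1) (X.presheaf.stalk x))) :=
    IsLocalization.flat _ (Algebra.algebraMapSubmonoid (Γ(X, U.1) ⧸ I.ideal U) (primeAt U x hx).primeCompl)
  haveI : Module.Flat Γ(S, V.1) (X.presheaf.stalk x ⧸ Ideal.span {g}) := by
    rw [← hmap]
    haveI : IsScalarTower Γ(S, V.1) (Γ(X, U.1) ⧸ I.ideal U)
        (X.presheaf.stalk x ⧸ (I.ideal U).map (algebraMap Γ(X, U.1) (X.presheaf.stalk x))) :=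
      IsScalarTower.of_algebraMap_eq fun r => rfl
    exact Module.Flat.trans Γ(S, V.1) (Γ(X, U.1) ⧸ I.ideal U) _
  refine RingHom.flat_algebraMap_iff.2 (flat_of_flat_quot_local
    (germ_mem_nonZeroDivisors U ha x hx) ?_)
  rw [mem_support_iff_stalkIdeal, stalkIdeal_eq_span hIa x hx, Ideal.span_singleton_le_iff_mem] at hxI
  exact hxI

lemma nzd_of_isPushout {A B A' P : CommRingCat.{u}} {φ : A ⟶ B} {ψ : A ⟶ A'} {i : B ⟶ P} {j : A' ⟶ P}
    (h : IsPushout φ ψ i j) {g : B} (hg : g ∈ B⁰)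
    (hfl : ((Ideal.Quotient.mk (Ideal.span {g})).comp φ.hom).Flat) : i g ∈ (P : Type u)⁰ := by
  letI := φ.hom.toAlgebra
  letI := ψ.hom.toAlgebra
  haveI : Module.Flat A (B ⧸ Ideal.span {g}) := RingHom.flat_algebraMap_iff.1 hfl
  let e : P ≅ CommRingCat.of (TensorProduct A B A') :=
    h.isoPushout ≪≫ (CommRingCat.isPushout_tensorProduct A B A').isoPushout.symm
  have he : e.hom (i g) = g ⊗ₜ[A] (1 : A') := by
    have h1 : i ≫ e.hom = CommRingCat.ofHom Algebra.TensorProduct.includeLeftRingHom := by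
      simp only [e, Iso.trans_hom, Iso.symm_hom, IsPushout.inl_isoPushout_hom_assoc]
      exact (CommRingCat.isPushout_tensorProduct A B A').inl_isoPushout_inv
    exact ConcreteCategory.congr_hom h1 g
  refine mem_nonZeroDivisors_iff_left.2 fun t ht => ?_
  have := (mem_nonZeroDivisors_iff_left.1 (tmul_one_mem_nonZeroDivisors hg A')) (e.hom t)
    (by rw [← he, ← map_mul, ht, map_zero])
  exact (ConcreteCategory.bijective_of_isIso e.hom).1 (by rw [this, map_zero])

lemma isEffCartier_comap_pullback {S' : Scheme.{u}} (f : X ⟶ S) {I : X.IdealSheafData}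
    (hI : BlowUp.IsEffCartierIdeal I) [Flat (I.subschemeι ≫ f)] (g : S' ⟶ S) :
    BlowUp.IsEffCartierIdeal (I.comap (pullback.fst f g)) := by
  intro z
  obtain ⟨V, U, e, hx, a, ha, hIa⟩ := exists_affine_chart f hI (pullback.fst f g z)
  have hfg : f (pullback.fst f g z) = g (pullback.snd f g z) := by
    rw [← Scheme.Hom.comp_apply, ← Scheme.Hom.comp_apply, pullback.condition]
  have hzV : pullback.snd f g z ∈ g ⁻¹ᵁ V.1 := by
    show g (pullback.snd f g z) ∈ V.1
    rw [← hfg]; exact e hx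
  obtain ⟨V', hzV', hV'⟩ := exists_affine_le hzV
  let W : (pullback f g).Opens := pullback.fst f g ⁻¹ᵁ U.1 ⊓ pullback.snd f g ⁻¹ᵁ V'.1
  have H := IsPullback.of_hasPullback f g
  have hiso := isIso_pushoutSection_of_isAffineOpen H (UY := W) hV' e rfl V.2 V'.2 U.2
  have hpo := (isIso_pushoutSection_iff H hV' e (UY := W) rfl).1 hiso
  have hfl := flat_quot_of_flat f I V U e
  rw [hIa] at hfl
  have hWaff : IsAffineOpen W := by
    haveI : IsAffine (U.1 : Scheme.{u}) := U.2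
    haveI : IsAffine (V'.1 : Scheme.{u}) := V'.2
    haveI : IsAffine (V.1 : Scheme.{u}) := V.2
    exact .of_isIso (Scheme.Hom.isPullback_resLE H hV' e rfl).isoPullback.hom
  refine ⟨⟨W, hWaff⟩, ⟨hx, hzV'⟩, _, nzd_of_isPushout hpo ha hfl, ?_⟩
  refine ideal_eq_span_of_stalk fun y hy => ?_
  rw [stalkIdeal_comap, stalkIdeal_eq_span hIa (pullback.fst f g y) hy.1, Ideal.map_span, Set.image_singleton]
  congr 2
  erw [Scheme.Hom.germ_stalkMap_apply]
  exact ((pullback f g).presheaf.germ_res_apply (homOfLE (inf_le_left : W ≤ _)) y hy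
    ((pullback.fst f g).app U.1 a)).symm

end Groth.Agent.Div89
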