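import Groth.Agent.Div89.Cartier
import Groth.Agent.CAlg9.TransRegUse
import Mathlib.AlgebraicGeometry.Morphisms.FinitePresentation

/-!
The closed immersion of an effective Cartier divisor is regular and locally of finite presentation.
-/

set_option autoImplicit false
set_option linter.style.haveILetI false
set_option backward.isDefEq.respectTransparency.types false

universe u

open CategoryTheory AlgebraicGeometry TopologicalSpace

namespace Groth.Agent.Div89

variable {X S : Scheme.{u}}

lemma subschemeι_mem_support (I : X.IdealSheafData) (z : I.subscheme) : I.subschemeι z ∈ I.support := by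
  show I.subschemeι z ∈ (I.support : Set X)
  rw [← I.range_subschemeι]
  exact Set.mem_range_self z

/-- A closed subscheme with locally finitely generated ideal is locally finitely presented. -/
lemma lfp_subschemeι (I : X.IdealSheafData)
    (h : ∀ x ∈ I.support, ∃ U : X.affineOpens, x ∈ U.1 ∧ (I.ideal U).FG) :
    LocallyOfFinitePresentation I.subschemeι := by
  rw [HasRingHomProperty.iff_exists_appLE (P := @LocallyOfFinitePresentation)
    (RingHom.finitePresentation_stableUnderComposition.stableUnderCompositionWithLocalizationAway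
      RingHom.finitePresentation_holdsForLocalizationAway).1]
  intro z
  obtain ⟨U, hU, hfg⟩ := h _ (subschemeι_mem_support I z)
  refine ⟨U, ⟨_, U.2.preimage I.subschemeι⟩, hU, le_rfl, ?_⟩
  rw [← Scheme.Hom.app_eq_appLE]
  refine RingHom.FinitePresentation.of_surjective _ (I.subschemeι.app_surjective U.1 U.2) ?_
  rwa [← Scheme.Hom.ker_apply, Scheme.IdealSheafData.ker_subschemeι]

/-- An effective Cartier divisor is a regular closed immersion. -/
lemma isRegularClosedImmersion_of_effCartier {I : X.IdealSheafData} (hI : BlowUp.IsEffCartierIdeal I) :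
    Mor2.IsRegularClosedImmersion I.subschemeι := by
  refine ⟨inferInstance, fun z => ?_⟩
  obtain ⟨U, hU, g, hg, hgI⟩ := hI (I.subschemeι z)
  refine ⟨U.1, U.2, hU, [g], ⟨?_, ?_⟩, ?_⟩
  · rw [RingTheory.Sequence.isWeaklyRegular_singleton_iff]
    exact fun a b h => (mul_cancel_left_mem_nonZeroDivisors hg).1 h
  · rw [smul_eq_mul, Ideal.mul_top, Ideal.ofList_singleton, ← hgI]
    intro ht
    exact (IsLocalRing.maximalIdeal.isMaximal _).ne_top (top_le_iff.1 (((stalkIdeal_eq I U _ hU).trans
      (ht ▸ Ideal.map_top _)).ge.trans ((mem_support_iff_stalkIdeal I _).1 (subschemeι_mem_support I z))))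
  · rw [Scheme.IdealSheafData.ker_subschemeι, Ideal.ofList_singleton]
    exact hgI

lemma lfp_of_effCartier {I : X.IdealSheafData} (hI : BlowUp.IsEffCartierIdeal I) :
    LocallyOfFinitePresentation I.subschemeι :=
  lfp_subschemeι I fun x _ => by
    obtain ⟨U, hU, g, -, hgI⟩ := hI x
    exact ⟨U, hU, hgI ▸ Submodule.fg_span_singleton g⟩

/-- Near a relative effective Cartier divisor the morphism is flat. -/
theorem exists_flat_nhd (f : X ⟶ S) [LocallyOfFinitePresentation f] {I : X.IdealSheafData}
    (hI : BlowUp.IsEffCartierIdeal I) [Flat (I.subschemeι ≫ f)] :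
    ∃ U : X.Opens, (I.support : Set X) ⊆ U ∧ Flat (U.ι ≫ f) := by
  haveI := lfp_of_effCartier hI
  have h := ((CAlg9.TransRegUse.regular_flat_iff I.subschemeι f).1
    ⟨inferInstance, isRegularClosedImmersion_of_effCartier hI⟩).1
  let U : X.Opens := ⟨{x | (f.stalkMap x).hom.Flat}, isOpen_iff_forall_mem_open.2 fun x hx => by
    obtain ⟨W, hxW, hW⟩ := (CAlg9.TransRegImm.exists_flat_open f x).2 hx
    exact ⟨W, fun y hy => (CAlg9.TransRegImm.exists_flat_open f y).1 ⟨W, hy, hW⟩, W.2, hxW⟩⟩
  refine ⟨U, fun x hx => ?_, (Flat.iff_flat_stalkMap _).2 fun w => ?_⟩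
  · obtain ⟨z, rfl⟩ : x ∈ Set.range I.subschemeι := by rw [I.range_subschemeι]; exact hx
    exact h z
  · rw [Scheme.Hom.stalkMap_comp]
    exact (RingHom.Flat.respectsIso.cancel_right_isIso (f.stalkMap (U.ι w)) (U.ι.stalkMap w)).2 w.2

end Groth.Agent.Div89
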