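import Groth.Agent.Mero90.OfMero
import Groth.Agent.Amp73.GlobGen
import Groth.Agent.Div89.Stalk
import Groth.Agent.QC70.Stalk

/-! The ideal of denominators of a regular meromorphic section. -/

set_option autoImplicit false
set_option linter.style.haveILetI false
set_option backward.isDefEq.respectTransparency.types false

noncomputable section

universe u

open CategoryTheory AlgebraicGeometry TopologicalSpace Opposite
open Groth.Agent.QC70
open scoped nonZeroDivisors

namespace Groth.Agent.Div89.Denom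

variable {X : Scheme.{u}} {L : X.Modules} (s : Γ(Mero.merMod L, ⊤))

/-- `g • s` is the section `m` on `U`. -/
def Cond (U : X.Opens) (g : Γ(X, U)) (m : Γ(L, U)) : Prop :=
  ∀ x : U, X.presheaf.germ U x.1 x.2 g • s.1 ⟨x.1, Opens.mem_top x.1⟩ =
    LocalizedModule.mkLinearMap (Mero.regStalk X x.1) _ (L.presheaf.germ U x.1 x.2 m)

variable {s}

lemma mem_denom {U : X.Opens} {g : Γ(X, U)} : g ∈ Mero.denomIdeal L s U ↔ ∃ m, Cond s U g m := Iff.rfl

lemma Cond.res {U V : X.Opens} {g : Γ(X, U)} {m : Γ(L, U)} (h : Cond s U g m) (hV : V ≤ U) :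
    Cond s V (resO X hV g) (res L hV m) := fun x => by
  have := h ⟨x.1, hV x.2⟩
  rw [← germ_resO hV x.2 g] at this
  rw [this]
  exact congrArg (LocalizedModule.mkLinearMap (Mero.regStalk X x.1) _) (germM_res hV x.2 m).symm

lemma Cond.smul {U : X.Opens} {g : Γ(X, U)} {m : Γ(L, U)} (h : Cond s U g m) (c : Γ(X, U)) :
    Cond s U (c * g) (c • m) := fun x => by
  rw [map_mul, mul_smul, h x, Mero.germ_smul, map_smul]

/-- Local fractions. -/
lemma exists_frac (U : X.Opens) (x : X) (hx : x ∈ U) :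
    ∃ (V : X.affineOpens) (_ : x ∈ V.1) (_ : V.1 ≤ U) (a : Γ(L, V.1)) (b : Γ(X, V.1)),
      (∀ z : V.1, X.presheaf.germ V.1 z.1 z.2 b ∈ (X.presheaf.stalk z.1)⁰) ∧
      Cond s V.1 b a := by
  obtain ⟨W, hxW, i, a, ⟨b, hb⟩, hw⟩ := s.2 ⟨x, Opens.mem_top x⟩
  obtain ⟨V, hV, hxV, hle⟩ := exists_isAffineOpen_mem_and_subset (show x ∈ W ⊓ U from ⟨hxW, hx⟩)
  have hVW : V ≤ W := fun z hz => (hle hz).1
  have hbz : ∀ z : V, X.presheaf.germ V z.1 z.2 (resO X hVW b) ∈ (X.presheaf.stalk z.1)⁰ := fun z => by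
    rw [germ_resO hVW z.2]; exact hb ⟨z.1, hVW z.2⟩
  have hc : Cond s V (resO X hVW b) (res L hVW a) := fun z => by
    rw [germ_resO hVW z.2]
    have := hw ⟨z.1, hVW z.2⟩
    rw [show s.1 ⟨z.1, Opens.mem_top z.1⟩ = _ from this, LocalizedModule.smul'_mk,
      LocalizedModule.mkLinearMap_apply]
    refine (Mero.mk_congr rfl rfl).trans ((LocalizedModule.mk_eq).2 ⟨1, ?_⟩)
    rw [show L.presheaf.germ V z.1 z.2 (res L hVW a) = L.presheaf.germ W z.1 (hVW z.2) a from germM_res hVW z.2 a]
    simp only [one_smul, Submonoid.smul_def]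
  exact ⟨⟨V, hV⟩, hxV, fun z hz => (hle hz).2, res L hVW a, resO X hVW b, hbz, hc⟩

variable (hL : PicF.IsInvertible L)

include hL in
/-- A denominator over a basic open extends after multiplying by a power. -/
theorem exists_extend (U : X.affineOpens) (f : Γ(X, U.1)) (g : Γ(X, U.1)) (m : Γ(L, U.1))
    (h : Cond s (X.basicOpen f) (resO X (X.basicOpen_le f) g) (res L (X.basicOpen_le f) m)) :
    ∃ N : ℕ, Cond s U.1 (f ^ N * g) (f ^ N • m) := by
  classical
  choose V hxV hVU a b hb hc using fun x : U.1 => exists_frac (s := s) U.1 x.1 x.2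
  have hqc := Mero90.isQCoh_of_isInvertible hL
  haveI : L.IsQuasicoherent := hqc
  let z : ∀ x : U.1, Γ(L, (V x).1) := fun x => resO X (hVU x) g • a x - b x • res L (hVU x) m
  have hz : ∀ x : U.1, ∃ n : ℕ, resO X (hVU x) f ^ n • z x = 0 := fun x => by
    refine (isLocAt_of_isQuasicoherent L (V x).2).eq_zero_of (resO X (hVU x) f) (z x) ?_
    refine section_ext L _ _ fun y hy => ?_
    have hyV : y ∈ (V x).1 := X.basicOpen_le _ hy
    have hyf : y ∈ X.basicOpen f := by
      have h' := hy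
      rw [show X.basicOpen (resO X (hVU x) f) = (V x).1 ⊓ X.basicOpen f from X.basicOpen_res f (homOfLE (hVU x)).op] at h'
      exact h'.2
    suffices hg0 : germM L (V x).1 y hyV (z x) = 0 by
      obtain ⟨W', h', hy', h0⟩ := germM_eq_zero ((germM_res (X.basicOpen_le _) hy (z x)).trans hg0)
      exact ⟨W', h', hy', h0.trans (QC70.res_zero (M := L) h').symm⟩
    have e1 := h ⟨y, hyf⟩
    have e2 := hc x ⟨y, hyV⟩
    rw [germ_resO (X.basicOpen_le f) hyf g, show L.presheaf.germ (X.basicOpen f) y hyf (res L (X.basicOpen_le f) m) =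
      L.presheaf.germ U.1 y (X.basicOpen_le f hyf) m from germM_res _ hyf m] at e1
    have e3 : LocalizedModule.mkLinearMap (Mero.regStalk X y) _ (germM L (V x).1 y hyV (z x)) = 0 := by
      show LocalizedModule.mkLinearMap (Mero.regStalk X y) _
        ((L.presheaf.germ (V x).1 y hyV).hom (resO X (hVU x) g • a x - b x • res L (hVU x) m)) = 0
      rw [map_sub, map_sub]
      show LocalizedModule.mkLinearMap (Mero.regStalk X y) _ (L.presheaf.germ (V x).1 y hyV (resO X (hVU x) g • a x)) -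
        LocalizedModule.mkLinearMap (Mero.regStalk X y) _ (L.presheaf.germ (V x).1 y hyV (b x • res L (hVU x) m)) = 0
      rw [Mero.germ_smul, Mero.germ_smul, map_smul, map_smul, germ_resO (hVU x) hyV g,
        show L.presheaf.germ (V x).1 y hyV (res L (hVU x) m) = L.presheaf.germ U.1 y (hVU x hyV) m from germM_res _ hyV m,
        ← e1, ← e2, smul_comm, sub_self]
    rw [LocalizedModule.mkLinearMap_apply, ← LocalizedModule.zero_mk 1, LocalizedModule.mk_eq] at e3
    obtain ⟨⟨w, hw⟩, hwe⟩ := e3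
    simp only [one_smul, smul_zero, Submonoid.smul_def] at hwe
    obtain ⟨U₁, hzU, e, he⟩ := Mero90.exists_frame' hL y
    obtain ⟨q, hq⟩ := (Mero90.isGen_germ he ⟨y, hzU⟩).2 (germM L (V x).1 y hyV (z x))
    have hq' : w * q = 0 := by
      refine (Mero90.isGen_germ he ⟨y, hzU⟩).1 ?_
      show (w * q) • _ = (0 : X.presheaf.stalk y) • _
      rw [mul_smul, zero_smul]
      exact (congrArg (w • ·) hq).trans hwe
    rw [← hq, (mem_nonZeroDivisors_iff.1 (Mero.regStalk_le_nonZeroDivisors y hw)).1 q hq']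
    exact zero_smul _ _
  choose n hn using hz
  obtain ⟨t, ht⟩ := U.2.isCompact.elim_finite_subcover (fun x : U.1 => ((V x).1 : Set X))
    (fun x => (V x).1.2) fun y hy => Set.mem_iUnion.2 ⟨⟨y, hy⟩, hxV ⟨y, hy⟩⟩
  refine ⟨t.sup n, fun y => ?_⟩
  obtain ⟨x, hxt, hyV⟩ := Set.mem_iUnion₂.1 (ht y.2)
  have h0 : resO X (hVU x) f ^ t.sup n • z x = 0 := by
    rw [← Nat.sub_add_cancel (Finset.le_sup (f := n) hxt), pow_add, mul_smul, hn x, smul_zero]
  have h1 := congrArg (fun w => LocalizedModule.mkLinearMap (Mero.regStalk X y.1) _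
    ((L.presheaf.germ (V x).1 y.1 hyV).hom w)) h0
  have e2 := hc x ⟨y.1, hyV⟩
  simp only [z, smul_sub, smul_smul, map_sub, map_zero] at h1
  change LocalizedModule.mkLinearMap (Mero.regStalk X y.1) _
      (L.presheaf.germ (V x).1 y.1 hyV ((resO X (hVU x) f ^ t.sup n * resO X (hVU x) g) • a x)) -
    LocalizedModule.mkLinearMap (Mero.regStalk X y.1) _
      (L.presheaf.germ (V x).1 y.1 hyV ((resO X (hVU x) f ^ t.sup n * b x) • res L (hVU x) m)) = 0 at h1
  rw [Mero.germ_smul, Mero.germ_smul, map_smul, map_smul, ← resO_pow, map_mul, map_mul, germ_resO, germ_resO,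
    show L.presheaf.germ (V x).1 y.1 hyV (res L (hVU x) m) = L.presheaf.germ U.1 y.1 y.2 m from germM_res _ hyV m,
    ← e2, smul_smul, sub_eq_zero] at h1
  rw [Mero.germ_smul, map_smul, map_mul]
  have hbn := hb x ⟨y.1, hyV⟩
  -- cancel the denominator
  refine sub_eq_zero.1 ((Module.End.isUnit_iff _).1 (IsLocalizedModule.map_units
    (LocalizedModule.mkLinearMap (Mero.regStalk X y.1) (L.presheaf.stalk y.1))
    (⟨X.presheaf.germ (V x).1 y.1 hyV (b x), ⟨(V x).1, hyV, b x, fun z => hb x z, rfl⟩⟩ : Mero.regStalk X y.1)) |>.1 ?_)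
  simp only [Module.algebraMap_end_apply, smul_sub, smul_zero, smul_smul, sub_eq_zero]
  convert h1 using 2 <;> ring

include hL in
theorem exists_idealSheaf :
    ∃ I : X.IdealSheafData, ∀ U : X.affineOpens, I.ideal U = Mero.denomIdeal L s U.1 := by
  haveI : L.IsQuasicoherent := Mero90.isQCoh_of_isInvertible hL
  refine ⟨{ ideal := fun U => Mero.denomIdeal L s U.1, map_ideal_basicOpen := fun U f => ?_ }, fun U => rfl⟩
  refine le_antisymm (Ideal.map_le_iff_le_comap.2 fun g hg => ?_) fun g' hg' => ?_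
  · obtain ⟨m, hm⟩ := mem_denom.1 hg
    exact mem_denom.2 ⟨_, hm.res (X.basicOpen_le f)⟩
  · obtain ⟨m', hm'⟩ := mem_denom.1 hg'
    obtain ⟨k, t, ht⟩ := (isLocAt_of_isQuasicoherent L U.2).exists_of f m'
    haveI := U.2.isLocalization_basicOpen f
    obtain ⟨⟨g, ⟨_, j, rfl⟩⟩, hg⟩ := IsLocalization.surj (Submonoid.powers f) g'
    let F := resO X (X.basicOpen_le f) f
    have hg1 : g' * F ^ j = resO X (X.basicOpen_le f) g := by
      rw [← resO_pow]; exact hg
    have hD : Cond s (X.basicOpen f) (resO X (X.basicOpen_le f) (f ^ k * g)) (res L (X.basicOpen_le f) (f ^ j • t)) := by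
      have e := hm'.smul (F ^ (k + j))
      rw [res_smul, ht, resO_pow, show resO X (X.basicOpen_le f) (f ^ k * g) = F ^ (k + j) * g' from by
        rw [show resO X (X.basicOpen_le f) (f ^ k * g) = resO X (X.basicOpen_le f) (f ^ k) * resO X (X.basicOpen_le f) g
          from map_mul _ _ _, resO_pow, ← hg1]
        ring, smul_smul, ← pow_add, add_comm j k]
      exact e
    obtain ⟨N, hN⟩ := exists_extend hL U f _ _ hD
    have hu : IsUnit (F ^ (N + k + j)) :=
      ((RingedSpace.isUnit_res_basicOpen X.toRingedSpace f).pow _)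
    obtain ⟨v, hv⟩ := hu.exists_left_inv
    have hmem : resO X (X.basicOpen_le f) (f ^ N * (f ^ k * g)) ∈
        (Mero.denomIdeal L s U.1).map (X.presheaf.map (homOfLE <| X.basicOpen_le f).op).hom :=
      Ideal.mem_map_of_mem _ (mem_denom.2 ⟨_, hN⟩)
    have : g' = v * resO X (X.basicOpen_le f) (f ^ N * (f ^ k * g)) := by
      rw [show resO X (X.basicOpen_le f) (f ^ N * (f ^ k * g)) =
        resO X (X.basicOpen_le f) (f ^ N) * (resO X (X.basicOpen_le f) (f ^ k) * resO X (X.basicOpen_le f) g) from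
        (map_mul _ _ _).trans (congrArg _ (map_mul _ _ _)), resO_pow, resO_pow, ← hg1]
      calc g' = (v * F ^ (N + k + j)) * g' := by rw [hv, one_mul]
        _ = _ := by ring
    rw [this]
    exact Ideal.mul_mem_left _ _ hmem

/-- The denominators vanish on no nonempty open. -/
theorem interior_support_eq_empty (I : X.IdealSheafData)
    (hI : ∀ U : X.affineOpens, I.ideal U = Mero.denomIdeal L s U.1) :
    interior (I.support : Set X) = ∅ := by
  refine Set.eq_empty_iff_forall_notMem.2 fun x hx => ?_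
  obtain ⟨V, hxV, hVU, a, b, hb, hc⟩ := exists_frac (s := s) ⟨interior (I.support : Set X), isOpen_interior⟩ x hx
  have hempty : X.basicOpen b = ⊥ := by
    ext y
    refine ⟨fun hy => ?_, fun hy => hy.elim⟩
    have hyV : y ∈ V.1 := X.basicOpen_le b hy
    have hs : y ∈ I.support := interior_subset (hVU hyV)
    rw [mem_support_iff_le I V y hyV] at hs
    exact ((mem_primeAt_iff V y hyV b).1 (hs ((hI V).ge (mem_denom.2 ⟨a, hc⟩))) hy).elim
  obtain ⟨n, hn⟩ := (Scheme.isNilpotent_iff_basicOpen_eq_bot_of_isCompact V.2.isCompact b).2 hempty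
  have := (pow_mem (hb ⟨x, hxV⟩) n : _ ∈ (X.presheaf.stalk x)⁰)
  rw [← map_pow, hn, map_zero] at this
  exact nonZeroDivisors.ne_zero this rfl

end Groth.Agent.Div89.Denom
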