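import Groth.Agent.Div89.Denom
import Groth.Agent.Div89.BlowUp
import Groth.Agent.Mero90.MulDiv
import Groth.Agent.Mero90.Sections
import Groth.Agent.Mero90.Div
import Groth.Agent.DCK91.PullStalk
import Groth.Agent.Props58.PullTensor
import Groth.Agent.Curves2.IdealFrame
import Groth.Agent.An92.Ample.Family

/-!
Blowing up the ideal of denominators of a regular meromorphic section.
-/

set_option autoImplicit false
set_option linter.style.haveILetI false
set_option backward.isDefEq.respectTransparency.types false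

noncomputable section

universe u

open CategoryTheory AlgebraicGeometry TopologicalSpace Opposite
open Groth.Agent.QC70 Groth.Agent.Mero90
open scoped nonZeroDivisors
open Groth.Agent.Var76.LineBundle (IsFrame)

namespace Groth.Agent.Div89.DenomTwist

variable {X : Scheme.{u}}

/-- A regular meromorphic section is locally a quotient of regular sections times a frame. -/
theorem exists_local {L : X.Modules} (hL : PicF.IsInvertible L) (s : Γ(Mero.merMod L, ⊤))
    (hs : Mero.IsRegularMero L s) (x : X) :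
    ∃ (V : X.Opens) (_ : x ∈ V) (e : Γ(L, V)) (_ : IsFrame L V e) (a b : Mero.regSub X V),
      ∀ z : V, s.1 ⟨z.1, trivial⟩ = IsLocalization.mk' (Mero.KStalk X z.1)
        (X.presheaf.germ V z.1 z.2 a.1) (Mero.regGerm z b) • mone (L.presheaf.germ V z.1 z.2 e) := by
  obtain ⟨U, hx, e, he⟩ := exists_frame' hL x
  obtain ⟨q, hq⟩ := exists_unit_coord s hs he
  obtain ⟨V, hxV, hV, a, b, w⟩ := exists_unit_frac q ⟨x, hx⟩
  refine ⟨V, hxV, res L hV e, he.res hV, a, b, fun z => ?_⟩
  rw [show s.1 ⟨z.1, trivial⟩ = _ from (hq ⟨z.1, hV z.2⟩).symm, w z,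
    show L.presheaf.germ V z.1 z.2 (res L hV e) = L.presheaf.germ U z.1 (hV z.2) e from germM_res hV z.2 e]

/-- Points where the ideal of denominators is trivial are the points of definition. -/
theorem compl_support_eq_domain {L : X.Modules} (s : Γ(Mero.merMod L, ⊤)) (I : X.IdealSheafData)
    (hI : ∀ V : X.affineOpens, I.ideal V = Mero.denomIdeal L s V.1) :
    ((I.support.compl : X.Opens) : Set X) = Mero.domain L s := by
  ext x
  change x ∉ I.support ↔ Mero.IsDefinedAt L s x
  constructor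
  · intro hx
    obtain ⟨V, hxV, -⟩ := exists_affine_le (U := (⊤ : X.Opens)) (x := x) trivial
    rw [mem_support_iff_le I V x hxV] at hx
    obtain ⟨g, hg, hgp⟩ := SetLike.not_le_iff_exists.1 hx
    rw [hI] at hg
    obtain ⟨m, hm⟩ := hg
    have hxb : x ∈ X.basicOpen g := Classical.byContradiction fun h =>
      hgp ((mem_primeAt_iff V x hxV g).2 h)
    obtain ⟨v, hv⟩ : ∃ v : Γ(X, X.basicOpen g), v * resO X (X.basicOpen_le g) g = 1 :=
      (RingedSpace.isUnit_res_basicOpen X.toRingedSpace g).exists_left_inv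
    refine ⟨X.basicOpen g, hxb, v • res L (X.basicOpen_le g) m, fun y => ?_⟩
    have h := hm ⟨y.1, X.basicOpen_le g y.2⟩
    have hv' := congrArg (X.presheaf.germ (X.basicOpen g) y.1 y.2) hv
    rw [map_mul, map_one, germ_resO] at hv'
    change s.1 ⟨y.1, trivial⟩ =
      mone (L.presheaf.germ (X.basicOpen g) y.1 y.2 (v • res L (X.basicOpen_le g) m))
    rw [Mero.germ_smul, mone, ← LocalizedModule.mkLinearMap_apply, map_smul,
      show L.presheaf.germ (X.basicOpen g) y.1 y.2 (res L (X.basicOpen_le g) m) =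
        L.presheaf.germ V.1 y.1 (X.basicOpen_le g y.2) m from germM_res _ y.2 m, ← h, smul_smul, hv', one_smul]
  · rintro ⟨W, hxW, m, hm⟩ hx
    obtain ⟨V, hxV, hVW⟩ := exists_affine_le hxW
    rw [mem_support_iff_le I V x hxV] at hx
    refine (primeAt V x hxV).ne_top_iff_one.1 (primeAt_isPrime V x hxV).ne_top (hx ?_)
    rw [hI]
    refine ⟨res L hVW m, fun y => ?_⟩
    rw [map_one, one_smul,
      show L.presheaf.germ V.1 y.1 y.2 (res L hVW m) = L.presheaf.germ W y.1 (hVW y.2) m from germM_res _ y.2 m]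
    exact hm ⟨y.1, hVW y.2⟩

/-- An effective divisor is the divisor of an effective Cartier ideal. -/
theorem exists_ideal_of_effective (D : Mero.Divisor X) (hD : Mero.IsEffective D) :
    ∃ I : X.IdealSheafData, BlowUp.IsEffCartierIdeal I ∧ Mero.IsDivOfIdeal D I := by
  rcases isEmpty_or_nonempty X with hX | hX
  · exact ⟨⊤, fun x => hX.elim x, fun x => hX.elim x⟩
  obtain ⟨s, -, hs⟩ := exists_section_of_effective (Mero.divMod D) (isInvertible_divMod D) D hD (Iso.refl _)
  refine ⟨_, fun x => ?_, hs⟩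
  obtain ⟨U, hx, f, hf, hI, -⟩ := hs x
  exact ⟨U, hx, f, (regSub_eq_nonZeroDivisors U.2).le hf, hI⟩

section IdealMod

variable {I : X.IdealSheafData} {D : Mero.Divisor X} (hD : Mero.IsDivOfIdeal D I)
include hD

lemma divCond_idealSect (U : X.Opens) (m : Γ(ClSub.idealMod I, U)) (y : U) :
    Mero.DivCond D⁻¹ y.1
      (algebraMap _ (Mero.KStalk X y.1) (X.presheaf.germ U y.1 y.2 (OmegaSh.idealSect I U m))) := by
  obtain ⟨W, hyW, f, hf, hIW, hDW⟩ := hD y.1
  obtain ⟨V, hyV, hle⟩ := exists_affine_le (show y.1 ∈ U ⊓ W.1 from ⟨y.2, hyW⟩)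
  have hVU : V.1 ≤ U := fun z hz => (hle hz).1
  have hVW : V.1 ≤ W.1 := fun z hz => (hle hz).2
  have hmem := Curves2.idealSect_mem_ideal I V (res (ClSub.idealMod I) hVU m)
  rw [Curves2.idealSect_res, ideal_res_span hVW hIW, Ideal.mem_span_singleton'] at hmem
  obtain ⟨c, hc⟩ := hmem
  have hc' := congrArg (X.presheaf.germ V.1 y.1 hyV) hc
  rw [map_mul] at hc'
  erw [TopCat.Presheaf.germ_res_apply, TopCat.Presheaf.germ_res_apply] at hc'
  have hD' : (D⁻¹).1 y.1 = QuotientGroup.mk (regUnit y.1 (Mero.regGerm ⟨y.1, hyW⟩ ⟨f, hf⟩))⁻¹ := by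
    change (D.1 y.1)⁻¹ = _
    rw [hDW ⟨y.1, hyW⟩]
    rfl
  refine (mk_regUnit_mul_cls D⁻¹ _ _ hD').mpr ⟨X.presheaf.germ V.1 y.1 hyV c, ?_⟩
  erw [← hc', map_mul, mul_assoc]
  rw [← regUnit_val y.1 (Mero.regGerm ⟨y.1, hyW⟩ ⟨f, hf⟩)]
  erw [Units.mul_inv, mul_one]

/-- The ideal module inside `K_X`. -/
def idealToDiv : ClSub.idealMod I ⟶ Mero.divMod D⁻¹ :=
  ⟨PresheafOfModules.homMk (M₁ := (ClSub.idealMod I).val) (M₂ := (Mero.divMod D⁻¹).val)
    { app := fun U => AddCommGrpCat.ofHom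
        { toFun := fun (m : Γ(ClSub.idealMod I, U.unop)) =>
            (⟨(Mero.toK X U.unop (OmegaSh.idealSect I U.unop m)).1,
              (Mero.toK X U.unop (OmegaSh.idealSect I U.unop m)).2,
              fun y => by rw [toK_val]; exact divCond_idealSect hD U.unop m y⟩ : Γ(Mero.divMod D⁻¹, U.unop))
          map_zero' := Subtype.ext (funext fun y => by
            change (Mero.toK X U.unop (OmegaSh.idealSect I U.unop 0)).1 y = 0
            rw [toK_val, show OmegaSh.idealSect I U.unop 0 = 0 from map_zero _, map_zero, map_zero])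
          map_add' := fun (m n : Γ(ClSub.idealMod I, U.unop)) => Subtype.ext (funext fun y => by
            change (Mero.toK X U.unop (OmegaSh.idealSect I U.unop (m + n))).1 y =
              (Mero.toK X U.unop (OmegaSh.idealSect I U.unop m)).1 y +
                (Mero.toK X U.unop (OmegaSh.idealSect I U.unop n)).1 y
            rw [toK_val, toK_val, toK_val,
              show OmegaSh.idealSect I U.unop (m + n) = OmegaSh.idealSect I U.unop m + OmegaSh.idealSect I U.unop n
                from map_add _ m n, map_add, map_add]) }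
      naturality := fun {V W} i => by
        ext m
        refine Subtype.ext (funext fun y => ?_)
        change (Mero.toK X W.unop (OmegaSh.idealSect I W.unop (res (ClSub.idealMod I) i.unop.le m))).1 y =
          (Mero.toK X V.unop (OmegaSh.idealSect I V.unop m)).1 ⟨y.1, i.unop.le y.2⟩
        rw [toK_val, toK_val, Curves2.idealSect_res, TopCat.Presheaf.germ_res_apply] }
    (fun V (r : Γ(X, V.unop)) (m : Γ(ClSub.idealMod I, V.unop)) => Subtype.ext (funext fun y => by
      change (Mero.toK X V.unop (OmegaSh.idealSect I V.unop (r • m))).1 y =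
        X.presheaf.germ V.unop y.1 y.2 r • (Mero.toK X V.unop (OmegaSh.idealSect I V.unop m)).1 y
      rw [toK_val, toK_val, Omega57.idealSect_smul, map_mul, map_mul, Algebra.smul_def]))⟩

theorem nonempty_idealMod_iso : Nonempty (ClSub.idealMod I ≅ Mero.divMod D⁻¹) := by
  haveI : IsIso (idealToDiv hD) := Props58.PullTensor.isIso_of_frames _ fun x => by
    obtain ⟨U, hx, f, hf, hI, hDU⟩ := hD x
    have hf' : f ∈ Γ(X, U.1)⁰ := (regSub_eq_nonZeroDivisors U.2).le hf
    obtain ⟨e, he⟩ := Curves2.exists_idealSect_of_mem I U (hI.ge (Ideal.mem_span_singleton_self f))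
    have hq : ∀ y : U.1, (D⁻¹).1 y.1 = Mero.germOf (toKUnit (U := U.1) ⟨f, hf⟩)⁻¹ y := fun y => by
      change (D.1 y.1)⁻¹ = _
      rw [hDU y, Mero.germOf, map_inv, evalK_toKUnit]
      rfl
    refine ⟨U.1, e, hx, Curves2.isFrame_of_span I U hf' hI e he, ?_⟩
    have : (idealToDiv hD).app U.1 e = frameSec D⁻¹ (toKUnit (U := U.1) ⟨f, hf⟩)⁻¹ hq := by
      refine Subtype.ext ?_
      change (Mero.toK X U.1 (OmegaSh.idealSect I U.1 e)).1 = _
      rw [he]
      rfl
    rw [this]
    exact isFrame_frameSec _ _ hq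
  exact ⟨asIso (idealToDiv hD)⟩

end IdealMod

theorem pullη_smul {X' : Scheme.{u}} (b : X' ⟶ X) (L : X.Modules) (y : X') (a : X.presheaf.stalk (b y))
    (m : L.presheaf.stalk (b y)) :
    DCK91.pullη b L y (a • m) = (b.stalkMap y).hom a • DCK91.pullη b L y m :=
  letI := (b.stalkMap y).hom.toAlgebra
  letI := Module.compHom (((Scheme.Modules.pullback b).obj L).presheaf.stalk y) (b.stalkMap y).hom
  (DCK91.pullη b L y).map_smul a m

section Blow

variable {X' : Scheme.{u}} {I : X.IdealSheafData} {b : X' ⟶ X} (hb : BlowUp.IsBlowUp b I) {L : X.Modules}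

include hb in
lemma stalkMap_mem_regStalk (y : X') (t : Mero.regStalk X (b y)) :
    (b.stalkMap y).hom t.1 ∈ Mero.regStalk X' y := by
  obtain ⟨W, hW, c, hc, hct⟩ := t.2
  refine ⟨b ⁻¹ᵁ W, hW, b.app W c, app_mem_regSub_blowUp hb W c hc, ?_⟩
  rw [← hct]
  exact (Scheme.Hom.germ_stalkMap_apply b W y hW c).symm

include hb in
/-- The image of a regular germ. -/
def regMap (y : X') (t : Mero.regStalk X (b y)) : Mero.regStalk X' y := ⟨_, stalkMap_mem_regStalk hb y t⟩

lemma regMap_regGerm (y : X') {U : X.Opens} (hy : b y ∈ U) (c : Mero.regSub X U) :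
    regMap hb y (Mero.regGerm ⟨b y, hy⟩ c) =
      Mero.regGerm (U := b ⁻¹ᵁ U) ⟨y, hy⟩ ⟨b.app U c.1, app_mem_regSub_blowUp hb U c.1 c.2⟩ :=
  Subtype.ext (Scheme.Hom.germ_stalkMap_apply b U y hy c.1)

include hb in
lemma exists_pull (y : X') (σ : Mero.MStalk L (b y)) :
    ∃ z : Mero.MStalk ((Scheme.Modules.pullback b).obj L) y,
      ∀ (m : L.presheaf.stalk (b y)) (t : Mero.regStalk X (b y)), σ = LocalizedModule.mk m t →
        z = LocalizedModule.mk (DCK91.pullη b L y m) (regMap hb y t) := by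
  induction σ using LocalizedModule.induction_on with
  | _ m₀ t₀ =>
    refine ⟨LocalizedModule.mk (DCK91.pullη b L y m₀) (regMap hb y t₀), fun m t h => ?_⟩
    rw [LocalizedModule.mk_eq] at h ⊢
    obtain ⟨v, hv⟩ := h
    refine ⟨regMap hb y v, ?_⟩
    have := congrArg (DCK91.pullη b L y) hv
    simp only [Submonoid.smul_def, pullη_smul] at this
    simp only [Submonoid.smul_def]
    exact this

include hb in
/-- The pulled back meromorphic section, pointwise. -/
def pullMeroFun (s : Γ(Mero.merMod L, ⊤)) (y : X') : Mero.MStalk ((Scheme.Modules.pullback b).obj L) y :=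
  (exists_pull hb y (s.1 ⟨b y, trivial⟩)).choose

lemma pullMeroFun_eq (s : Γ(Mero.merMod L, ⊤)) (y : X') (m : L.presheaf.stalk (b y))
    (t : Mero.regStalk X (b y)) (h : s.1 ⟨b y, trivial⟩ = LocalizedModule.mk m t) :
    pullMeroFun hb s y = LocalizedModule.mk (DCK91.pullη b L y m) (regMap hb y t) :=
  (exists_pull hb y _).choose_spec m t h

lemma pullMeroFun_pred (s : Γ(Mero.merMod L, ⊤)) :
    (Mero.mLoc ((Scheme.Modules.pullback b).obj L)).pred
      (fun y : (⊤ : X'.Opens) => pullMeroFun hb s y.1) := fun y => by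
  obtain ⟨V, hV, i, m, c, w⟩ := s.2 ⟨b y.1, trivial⟩
  refine ⟨b ⁻¹ᵁ V, hV, homOfLE le_top, Amp73.pullS b L V m,
    ⟨b.app V c.1, app_mem_regSub_blowUp hb V c.1 c.2⟩, fun z => ?_⟩
  refine (pullMeroFun_eq hb s z.1 _ _ (w ⟨b z.1, z.2⟩)).trans ?_
  rw [regMap_regGerm]
  exact Mero.mk_congr (DCK91.pullη_germ b L z.1 z.2 m) rfl

/-- The pulled back meromorphic section. -/
def pullMero (s : Γ(Mero.merMod L, ⊤)) : Γ(Mero.merMod ((Scheme.Modules.pullback b).obj L), ⊤) :=
  ⟨_, pullMeroFun_pred hb s⟩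

lemma pullMero_local (s : Γ(Mero.merMod L, ⊤)) {V : X.Opens} (e : Γ(L, V)) (a c : Mero.regSub X V)
    (h : ∀ z : V, s.1 ⟨z.1, trivial⟩ = IsLocalization.mk' (Mero.KStalk X z.1)
        (X.presheaf.germ V z.1 z.2 a.1) (Mero.regGerm z c) • mone (L.presheaf.germ V z.1 z.2 e))
    (y : X') (hy : b y ∈ V) :
    (pullMero hb s).1 ⟨y, trivial⟩ = ((regUnit y (regMap hb y (Mero.regGerm ⟨b y, hy⟩ a)) /
        regUnit y (regMap hb y (Mero.regGerm ⟨b y, hy⟩ c)) : (Mero.KStalk X' y)ˣ) : Mero.KStalk X' y) •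
      mone (((Scheme.Modules.pullback b).obj L).presheaf.germ (b ⁻¹ᵁ V) y hy (Amp73.pullS b L V e)) := by
  refine (pullMeroFun_eq hb s y _ _ ((h ⟨b y, hy⟩).trans (mk'_smul_mone _ _ _))).trans ?_
  rw [regUnit_div_val, mk'_smul_mone, pullη_smul]
  exact Mero.mk_congr (congrArg _ (DCK91.pullη_germ b L y hy e)) rfl

include hb in
/-- The twist of `L` by an effective divisor is the exceptional ideal. -/
theorem exists_twist (hL : PicF.IsInvertible L) (s : Γ(Mero.merMod L, ⊤)) (hs : Mero.IsRegularMero L s)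
    (hI : ∀ V : X.affineOpens, I.ideal V = Mero.denomIdeal L s V.1) :
    ∃ 𝓓 : X'.IdealSheafData, BlowUp.IsEffCartierIdeal 𝓓 ∧
      Nonempty (CohB1.tensorMod ((Scheme.Modules.pullback b).obj L) (ClSub.idealMod 𝓓) ≅
        ClSub.idealMod (I.comap b)) := by
  have hL' : PicF.IsInvertible ((Scheme.Modules.pullback b).obj L) := isInvertible_of_frames fun y => by
    obtain ⟨U, hy, e, he⟩ := exists_frame' hL (b y)
    exact ⟨b ⁻¹ᵁ U, hy, _, Props58.PullTensor.isFrame_pullS b he⟩
  have hs' : Mero.IsRegularMero _ (pullMero hb s) := isRegularMero_of_coords _ fun y => by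
    obtain ⟨V, hy, e, he, a, c, h⟩ := exists_local hL s hs (b y)
    exact ⟨_, _, isGen_germ (Props58.PullTensor.isFrame_pullS b he) ⟨y, hy⟩, pullMero_local hb s e a c h y hy⟩
  obtain ⟨D', hD'⟩ := exists_isDivOfMero hL' (pullMero hb s) hs'
  obtain ⟨E, hE, -⟩ := An92.AmpleFam.exists_isDivOfIdeal hb.1
  have hF : Mero.IsEffective (D' * E) := fun y => by
    obtain ⟨V, hy, e, he, a, c, h⟩ := exists_local hL s hs (b y)
    obtain ⟨U, hyU, f, hf, hIU, hEU⟩ := hE y
    have hdy := hD' y _ _ (isGen_germ (Props58.PullTensor.isFrame_pullS b he) ⟨y, hy⟩).span_eq_top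
      (pullMero_local hb s e a c h y hy)
    let A := X.presheaf.germ V (b y) hy a.1
    let C := X.presheaf.germ V (b y) hy c.1
    let φ := (b.stalkMap y).hom
    let t := Mero.regGerm ⟨y, hyU⟩ (⟨f, hf⟩ : Mero.regSub X' U.1)
    let K : Ideal (X'.presheaf.stalk y) :=
      { carrier := {z | φ C ∣ φ A * z}
        zero_mem' := by simp
        add_mem' := fun {p q} hp hq => by
          show φ C ∣ φ A * (p + q)
          rw [mul_add]; exact dvd_add hp hq
        smul_mem' := fun r p hp => by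
          show φ C ∣ φ A * (r * p)
          rw [mul_left_comm]; exact hp.mul_left r }
    have hle : stalkIdeal (I.comap b) y ≤ K := by
      obtain ⟨W, hyW, hWV⟩ := exists_affine_le hy
      rw [stalkIdeal_comap, stalkIdeal_eq I W (b y) hyW, Ideal.map_le_iff_le_comap, Ideal.map_le_iff_le_comap]
      intro g hg
      rw [hI] at hg
      obtain ⟨m, hm⟩ := hg
      obtain ⟨k, hk⟩ := (isGen_germ he ⟨b y, hy⟩).2 (L.presheaf.germ W.1 (b y) hyW m)
      have h1 := hm ⟨b y, hyW⟩
      rw [h ⟨b y, hy⟩] at h1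
      have h2 : (algebraMap _ (Mero.KStalk X (b y)) (X.presheaf.germ W.1 (b y) hyW g) *
          IsLocalization.mk' (Mero.KStalk X (b y)) A (Mero.regGerm ⟨b y, hy⟩ c)) •
            mone (L.presheaf.germ V (b y) hy e) =
          algebraMap _ (Mero.KStalk X (b y)) k • mone (L.presheaf.germ V (b y) hy e) := by
        rw [mul_smul, algebraMap_smul, ← mone_smul]
        refine h1.trans ?_
        rw [LocalizedModule.mkLinearMap_apply]
        exact congrArg mone hk.symm
      have h3 := (isGen_germ he ⟨b y, hy⟩).inj h2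
      rw [IsLocalization.mul_mk'_eq_mk'_of_mul] at h3
      obtain ⟨r, hr⟩ := range_eq.1 ⟨k, h3.symm⟩
      show φ C ∣ φ A * φ (X.presheaf.germ W.1 (b y) hyW g)
      exact ⟨φ r, by rw [← map_mul, ← map_mul, mul_comm A, hr]⟩
    have ht : t.1 ∈ stalkIdeal (I.comap b) y := by
      rw [stalkIdeal_eq_span hIU y hyU]
      exact Ideal.mem_span_singleton_self _
    obtain ⟨r, hr⟩ := hle ht
    let a' := regMap hb y (Mero.regGerm ⟨b y, hy⟩ a)
    let c' := regMap hb y (Mero.regGerm ⟨b y, hy⟩ c)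
    have hr' : r ∈ Mero.regStalk X' y := Mero90.mem_regStalk_of_mul (a := a' * t) hr.symm
    refine ⟨⟨r, hr'⟩, ?_⟩
    change D'.1 y * E.1 y = _
    rw [hdy, hEU ⟨y, hyU⟩, ← QuotientGroup.mk_mul]
    refine congrArg QuotientGroup.mk ?_
    show regUnit y a' / regUnit y c' * regUnit y t = regUnit y ⟨r, hr'⟩
    rw [div_mul_eq_mul_div, div_eq_iff_eq_mul]
    refine Units.ext ?_
    rw [Units.val_mul, Units.val_mul, regUnit_val, regUnit_val, regUnit_val, regUnit_val, ← map_mul, ← map_mul]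
    exact congrArg _ (hr.trans (mul_comm _ _))
  obtain ⟨𝓓, h𝓓, hdiv⟩ := exists_ideal_of_effective _ hF
  obtain ⟨φ, -⟩ := exists_iso_divMod hL' (pullMero hb s) hs' D' hD'
  obtain ⟨ψ⟩ := nonempty_idealMod_iso hdiv
  obtain ⟨ψE⟩ := nonempty_idealMod_iso hE
  haveI := isIso_mulPairing_lift φ ψ
  refine ⟨𝓓, h𝓓, ⟨asIso (mulPairing φ.hom ψ.hom).lift ≪≫ eqToIso (congrArg Mero.divMod ?_) ≪≫ ψE.symm⟩⟩
  exact Subtype.ext (funext fun y => by
    change D'.1 y * (D'.1 y * E.1 y)⁻¹ = (E.1 y)⁻¹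
    exact div_mul_cancel_left (D'.1 y) (E.1 y) ▸ (div_eq_mul_inv _ _).symm)

end Blow

end Groth.Agent.Div89.DenomTwist
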