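import Groth.Agent.CAlg4.ReducedCurve
import Mathlib.RingTheory.Flat.FaithfullyFlat.Algebra
import Mathlib.RingTheory.TensorProduct.Quotient
import Mathlib.LinearAlgebra.TensorProduct.Prod

/-!
Divisors of elements of a normal domain in a flat extension with prime fibres in height one.
-/

set_option autoImplicit false
set_option linter.style.haveILetI false
set_option linter.unusedSectionVars false

universe u

open scoped TensorProduct nonZeroDivisors

namespace Groth.Agent.Div89.DescUnit

variable {A B : Type u} [CommRing A] [CommRing B] [Algebra A B]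

theorem tmul_one_eq_zero_iff (I : Ideal A) (y : B) :
    (y ⊗ₜ[A] (1 : A ⧸ I) : B ⊗[A] (A ⧸ I)) = 0 ↔ y ∈ I.map (algebraMap A B) := by
  rw [← Ideal.Quotient.eq_zero_iff_mem, ← Algebra.TensorProduct.quotIdealMapEquivTensorQuot_mk B I y]
  exact map_eq_zero_iff _ (Algebra.TensorProduct.quotIdealMapEquivTensorQuot B I).injective

variable [Module.Flat A B]

theorem mem_map_of_mul_mem {I J : Ideal A} (x : A) (hIJ : ∀ z ∈ I, x * z ∈ J)
    (h : ∀ z, x * z ∈ J → z ∈ I) {y : B} (hy : algebraMap A B x * y ∈ J.map (algebraMap A B)) :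
    y ∈ I.map (algebraMap A B) := by
  let f : (A ⧸ I) →ₗ[A] (A ⧸ J) := Submodule.mapQ I J (LinearMap.mulLeft A x) (fun z hz => hIJ z hz)
  have hf : Function.Injective f := by
    rw [← LinearMap.ker_eq_bot, eq_bot_iff]
    intro w hw
    obtain ⟨z, rfl⟩ := Submodule.Quotient.mk_surjective _ w
    rw [LinearMap.mem_ker] at hw
    change (Submodule.Quotient.mk (x * z) : A ⧸ J) = 0 at hw
    rw [Submodule.mem_bot, Submodule.Quotient.mk_eq_zero]
    exact h z ((Submodule.Quotient.mk_eq_zero _).1 hw)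
  rw [← tmul_one_eq_zero_iff] at hy ⊢
  refine Module.Flat.lTensor_preserves_injective_linearMap (M := B) f hf ?_
  rw [map_zero, LinearMap.lTensor_tmul, ← hy, ← Algebra.smul_def, TensorProduct.smul_tmul]
  rfl

theorem mem_map_inf {I J : Ideal A} {y : B} (hI : y ∈ I.map (algebraMap A B))
    (hJ : y ∈ J.map (algebraMap A B)) : y ∈ (I ⊓ J).map (algebraMap A B) := by
  let f : (A ⧸ (I ⊓ J)) →ₗ[A] (A ⧸ I) × (A ⧸ J) :=
    LinearMap.prod (Submodule.mapQ (I ⊓ J) I LinearMap.id inf_le_left)
      (Submodule.mapQ (I ⊓ J) J LinearMap.id inf_le_right)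
  have hf : Function.Injective f := by
    rw [← LinearMap.ker_eq_bot, eq_bot_iff]
    intro w hw
    obtain ⟨z, rfl⟩ := Submodule.Quotient.mk_surjective _ w
    simp only [f, LinearMap.mem_ker, LinearMap.prod_apply, Function.prod_apply, Prod.mk_eq_zero,
      Submodule.mapQ_apply, LinearMap.id_apply, Submodule.Quotient.mk_eq_zero] at hw
    rw [Submodule.mem_bot, Submodule.Quotient.mk_eq_zero]
    exact hw
  rw [← tmul_one_eq_zero_iff] at hI hJ ⊢
  refine Module.Flat.lTensor_preserves_injective_linearMap (M := B) f hf ?_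
  rw [map_zero, LinearMap.lTensor_tmul]
  refine (TensorProduct.prodRight A A B (A ⧸ I) (A ⧸ J)).injective ?_
  rw [map_zero, TensorProduct.prodRight_tmul]
  exact Prod.ext hI hJ

theorem mem_map_finset_inf {ι : Type*} (S : Finset ι) (I : ι → Ideal A) {y : B}
    (h : ∀ i ∈ S, y ∈ (I i).map (algebraMap A B)) : y ∈ (S.inf I).map (algebraMap A B) := by
  classical
  induction S using Finset.induction_on with
  | empty => rw [Finset.inf_empty, Ideal.map_top]; trivial
  | insert a s _ ih =>
    rw [Finset.inf_insert]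
    exact mem_map_inf (h a (Finset.mem_insert_self a s)) (ih fun i hi => h i (Finset.mem_insert_of_mem hi))

/-- The symbolic power attached to an element generating the prime locally. -/
def sat (p : Ideal A) [p.IsPrime] (π : A) (j : ℕ) : Ideal A where
  carrier := {c | ∃ s ∉ p, s * c ∈ Ideal.span {π ^ j}}
  zero_mem' := ⟨1, Ideal.one_notMem p, by simp⟩
  add_mem' := by
    rintro a b ⟨s, hs, hsa⟩ ⟨t, ht, htb⟩
    refine ⟨s * t, fun h => (Ideal.IsPrime.mem_or_mem inferInstance h).elim hs ht, ?_⟩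
    rw [mul_add]
    refine add_mem ?_ ?_
    · rw [mul_comm s t, mul_assoc]; exact Ideal.mul_mem_left _ _ hsa
    · rw [mul_assoc]; exact Ideal.mul_mem_left _ _ htb
  smul_mem' := by
    rintro c a ⟨s, hs, hsa⟩
    exact ⟨s, hs, by rw [smul_eq_mul, mul_left_comm]; exact Ideal.mul_mem_left _ _ hsa⟩

variable {p : Ideal A} [p.IsPrime] {π : A}

theorem mem_sat_of_mul {j : ℕ} {s c : A} (hs : s ∉ p) (h : s * c ∈ sat p π j) : c ∈ sat p π j := by
  obtain ⟨t, ht, htc⟩ := h
  exact ⟨t * s, fun h => (Ideal.IsPrime.mem_or_mem inferInstance h).elim ht hs, by rwa [mul_assoc]⟩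

theorem sat_zero : sat p π 0 = ⊤ :=
  eq_top_iff.2 fun c _ => ⟨1, Ideal.one_notMem p, by simp⟩

theorem pow_mem_sat (j : ℕ) : π ^ j ∈ sat p π j :=
  ⟨1, Ideal.one_notMem p, by simp⟩

theorem sat_succ_le (hπ : π ∈ p) (j : ℕ) : sat p π (j + 1) ≤ p := by
  rintro c ⟨s, hs, hsc⟩
  have : s * c ∈ p := by
    refine (Ideal.span_singleton_le_iff_mem (I := p)).2 ?_ hsc
    rw [pow_succ]; exact p.mul_mem_left _ hπ
  exact (Ideal.IsPrime.mem_or_mem inferInstance this).resolve_left hs

theorem sat_mul {i j : ℕ} {c d : A} (hc : c ∈ sat p π i) (hd : d ∈ sat p π j) :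
    c * d ∈ sat p π (i + j) := by
  obtain ⟨s, hs, hsc⟩ := hc
  obtain ⟨t, ht, htd⟩ := hd
  refine ⟨s * t, fun h => (Ideal.IsPrime.mem_or_mem inferInstance h).elim hs ht, ?_⟩
  have := Ideal.mul_mem_mul hsc htd
  rw [Ideal.span_singleton_mul_span_singleton, ← pow_add] at this
  convert this using 1
  ring

theorem map_sat_mul {i j : ℕ} {y z : B} (hy : y ∈ (sat p π i).map (algebraMap A B))
    (hz : z ∈ (sat p π j).map (algebraMap A B)) : y * z ∈ (sat p π (i + j)).map (algebraMap A B) := by
  have := Ideal.mul_mem_mul hy hz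
  rw [← Ideal.map_mul] at this
  exact Ideal.map_mono (Ideal.mul_le.2 fun c hc d hd => sat_mul hc hd) this

theorem mem_map_sat_of_mul {j : ℕ} {s : A} (hs : s ∉ p) {y : B}
    (h : algebraMap A B s * y ∈ (sat p π j).map (algebraMap A B)) :
    y ∈ (sat p π j).map (algebraMap A B) :=
  mem_map_of_mul_mem s (fun _ hz => Ideal.mul_mem_left _ _ hz) (fun _ h => mem_sat_of_mul hs h) h

theorem mem_map_sat_of_pow_mul [IsDomain A] (hπ0 : π ≠ 0) (i : ℕ) {j : ℕ} {y : B}
    (h : algebraMap A B (π ^ i) * y ∈ (sat p π (i + j)).map (algebraMap A B)) :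
    y ∈ (sat p π j).map (algebraMap A B) := by
  refine mem_map_of_mul_mem (π ^ i) (fun z hz => sat_mul (pow_mem_sat i) hz) ?_ h
  rintro z ⟨s, hs, hz⟩
  refine ⟨s, hs, ?_⟩
  rw [Ideal.mem_span_singleton] at hz ⊢
  rw [mul_left_comm, pow_add] at hz
  exact (mul_dvd_mul_iff_left (pow_ne_zero i hπ0)).1 hz

theorem exists_mul_sat_le [IsNoetherianRing A] (j : ℕ) :
    ∃ s ∉ p, ∀ c ∈ sat p π j, s * c ∈ Ideal.span {π ^ j} := by
  classical
  obtain ⟨t, ht⟩ := IsNoetherian.noetherian (sat p π j)
  have hh : ∀ c : t, c.1 ∈ sat p π j := fun c => ht.le (Submodule.subset_span c.2)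
  choose s hs hsc using hh
  refine ⟨∏ c, s c, fun h => ?_, fun c hc => ?_⟩
  · obtain ⟨c, -, hc⟩ := (Ideal.IsPrime.prod_mem_iff (p := p)).1 h
    exact hs c hc
  · rw [← ht] at hc
    induction hc using Submodule.span_induction with
    | mem x hx =>
      rw [← Finset.mul_prod_erase _ _ (Finset.mem_univ (⟨x, hx⟩ : t)), mul_comm (s _), mul_assoc]
      exact Ideal.mul_mem_left _ _ (hsc ⟨x, hx⟩)
    | zero => simp
    | add x y _ _ hx hy => rw [mul_add]; exact add_mem hx hy
    | smul r x _ hx => rw [smul_eq_mul, mul_left_comm]; exact Ideal.mul_mem_left _ _ hx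

/-- The extension of a symbolic power is primary. -/
theorem mem_map_sat_of_notMem [IsDomain A] [IsNoetherianRing A] (hπ : π ∈ p) (hπ0 : π ≠ 0)
    (hgen : p ≤ sat p π 1) (hP : (p.map (algebraMap A B)).IsPrime) (j : ℕ) :
    ∀ {t y : B}, t ∉ p.map (algebraMap A B) → t * y ∈ (sat p π j).map (algebraMap A B) →
      y ∈ (sat p π j).map (algebraMap A B) := by
  induction j with
  | zero => intro t y _ _; rw [sat_zero, Ideal.map_top]; trivial
  | succ j ih =>
    intro t y ht hty
    have hy : y ∈ p.map (algebraMap A B) :=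
      (hP.mem_or_mem (Ideal.map_mono (sat_succ_le hπ j) hty)).resolve_left ht
    obtain ⟨s, hs, hsp⟩ := exists_mul_sat_le (A := A) (p := p) (π := π) 1
    have hsy : algebraMap A B s * y ∈ Ideal.span {algebraMap A B π} := by
      have : Ideal.span {algebraMap A B s} * p.map (algebraMap A B) ≤ Ideal.span {algebraMap A B π} := by
        rw [← Set.image_singleton, ← Ideal.map_span, ← Ideal.map_mul]
        refine (Ideal.map_mono ?_).trans (by rw [Ideal.map_span, Set.image_singleton] : (Ideal.span {π}).map (algebraMap A B) ≤ _)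
        refine Ideal.mul_le.2 fun x hx c hc => ?_
        obtain ⟨r, rfl⟩ := Ideal.mem_span_singleton'.1 hx
        rw [mul_assoc]
        exact Ideal.mul_mem_left _ _ (by simpa using hsp c (hgen hc))
      exact this (Ideal.mul_mem_mul (Ideal.mem_span_singleton_self _) hy)
    obtain ⟨y', hy'⟩ := Ideal.mem_span_singleton'.1 hsy
    have h1 : algebraMap A B (π ^ 1) * (t * y') ∈ (sat p π (1 + j)).map (algebraMap A B) := by
      rw [pow_one, add_comm, show algebraMap A B π * (t * y') = algebraMap A B s * (t * y) by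
        rw [mul_left_comm (algebraMap A B s) t, ← hy']; ring]
      exact Ideal.mul_mem_left _ _ hty
    have h2 : y' ∈ (sat p π j).map (algebraMap A B) := ih ht (mem_map_sat_of_pow_mul hπ0 1 h1)
    refine mem_map_sat_of_mul hs ?_
    rw [← hy']
    exact map_sat_mul h2 (Ideal.mem_map_of_mem _ (by simpa using pow_mem_sat (p := p) (π := π) 1))

/-- Generators of a height one prime of a normal domain, locally. -/
theorem exists_gen [IsDomain A] [IsNoetherianRing A] [IsIntegrallyClosed A] (p : Ideal A) [p.IsPrime]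
    (hp : p.height = 1) :
    ∃ π, π ∈ p ∧ π ≠ 0 ∧ p ≤ sat p π 1 ∧ ∀ a : A, a ≠ 0 → ∃ j, a ∉ sat p π j := by
  have := CAlg4.ReducedCurve.dvr_of_height_one p hp
  obtain ⟨ϖ, hϖ⟩ := IsDiscreteValuationRing.exists_irreducible (Localization.AtPrime p)
  obtain ⟨π, s, rfl⟩ := IsLocalization.exists_mk'_eq p.primeCompl ϖ
  have hm : IsLocalRing.maximalIdeal (Localization.AtPrime p) =
      Ideal.span {algebraMap A (Localization.AtPrime p) π} := by
    rw [hϖ.maximalIdeal_eq, ← IsLocalization.mk'_spec (Localization.AtPrime p) π s,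
      Ideal.span_singleton_mul_right_unit (IsLocalization.map_units (Localization.AtPrime p) s)]
  have hπ0 : π ≠ 0 := fun h => hϖ.ne_zero (by rw [h, IsLocalization.mk'_zero])
  have hπ : π ∈ p := by
    rw [← IsLocalization.AtPrime.under_maximalIdeal (Localization.AtPrime p) p, Ideal.mem_comap, hm]
    exact Ideal.mem_span_singleton_self _
  have key : ∀ (j : ℕ) (c : A), algebraMap A (Localization.AtPrime p) c ∈
      IsLocalRing.maximalIdeal (Localization.AtPrime p) ^ j ↔ c ∈ sat p π j := by
    intro j c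
    rw [hm, Ideal.span_singleton_pow, ← map_pow,
      show Ideal.span {algebraMap A (Localization.AtPrime p) (π ^ j)} =
        (Ideal.span {π ^ j}).map (algebraMap A _) by rw [Ideal.map_span, Set.image_singleton],
      IsLocalization.algebraMap_mem_map_algebraMap_iff p.primeCompl]
    rfl
  refine ⟨π, hπ, hπ0, fun c hc => (key 1 c).1 ?_, fun a ha => ?_⟩
  · rw [pow_one, ← Localization.AtPrime.map_eq_maximalIdeal]
    exact Ideal.mem_map_of_mem _ hc
  · by_contra! h
    have h0 : algebraMap A (Localization.AtPrime p) a ∈ (⊥ : Ideal _) := by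
      rw [← Ideal.iInf_pow_eq_bot_of_isLocalRing _ (IsLocalRing.maximalIdeal.isMaximal (Localization.AtPrime p)).ne_top]
      exact Ideal.mem_iInf.2 fun j => (key j a).2 (h j)
    rw [Ideal.mem_bot, IsLocalization.to_map_eq_zero_iff _ p.primeCompl_le_nonZeroDivisors] at h0
    exact ha h0

end DescUnit

open DescUnit in
/-- A divisor of an element of the normal base comes from the base up to a unit. -/
theorem exists_eq_algebraMap_mul_unit {A B : Type u} [CommRing A] [IsDomain A] [IsNoetherianRing A]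
    [IsIntegrallyClosed A] [CommRing B] [IsLocalRing B] [Algebra A B] [Module.FaithfullyFlat A B]
    (hP : ∀ p : Ideal A, p.IsPrime → p.height = 1 → (p.map (algebraMap A B)).IsPrime)
    {a : A} (ha : a ≠ 0) {b b' : B} (hb : b * b' = algebraMap A B a) :
    ∃ c : A, c ≠ 0 ∧ ∃ u : Bˣ, b = algebraMap A B c * u := by
  classical
  let F := {p : Ideal A // p.IsPrime ∧ p.height = 1 ∧ a ∈ p}
  have : Fintype F := (CAlg4.ReducedCurve.finite_height_one ha).fintype
  have hdata : ∀ q : F, ∃ (π : A) (k n : ℕ), π ∈ q.1 ∧ π ≠ 0 ∧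
      (haveI := q.2.1; q.1 ≤ sat q.1 π 1 ∧ a ∈ sat q.1 π k ∧ a ∉ sat q.1 π (k + 1) ∧
        ∀ y : B, y * b' ∈ (sat q.1 π k).map (algebraMap A B) ↔
          y ∈ (sat q.1 π n).map (algebraMap A B)) := by
    intro q
    haveI := q.2.1
    obtain ⟨π, hπ, hπ0, hgen, hfin⟩ := exists_gen q.1 q.2.2.1
    obtain ⟨k, hk⟩ : ∃ k, Nat.find (hfin a ha) = k + 1 := by
      refine ⟨Nat.find (hfin a ha) - 1, ?_⟩
      have : Nat.find (hfin a ha) ≠ 0 := fun h => by
        have := Nat.find_spec (hfin a ha)
        rw [h, sat_zero] at this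
        exact this trivial
      omega
    have hak : a ∈ sat q.1 π k := not_not.1 (Nat.find_min (hfin a ha) (by omega))
    have hak' : a ∉ sat q.1 π (k + 1) := hk ▸ Nat.find_spec (hfin a ha)
    have hP' := hP q.1 q.2.1 q.2.2.1
    let m := Nat.findGreatest (fun i => b' ∈ (sat q.1 π i).map (algebraMap A B)) k
    have hm : b' ∈ (sat q.1 π m).map (algebraMap A B) :=
      Nat.findGreatest_spec (P := fun i => b' ∈ (sat q.1 π i).map (algebraMap A B)) (Nat.zero_le k)
        (by rw [sat_zero, Ideal.map_top]; trivial)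
    have hmk : m ≤ k := Nat.findGreatest_le k
    refine ⟨π, k, k - m, hπ, hπ0, hgen, hak, hak', fun y => ⟨fun hy => ?_, fun hy => ?_⟩⟩
    · rcases eq_or_lt_of_le hmk with h | h
      · rw [h, Nat.sub_self, sat_zero, Ideal.map_top]; trivial
      · have hnot : b' ∉ (sat q.1 π (m + 1)).map (algebraMap A B) :=
          Nat.findGreatest_is_greatest (Nat.lt_succ_self m) h
        obtain ⟨s, hs, hsq⟩ := exists_mul_sat_le (A := A) (p := q.1) (π := π) m
        have hsb : algebraMap A B s * b' ∈ Ideal.span {algebraMap A B (π ^ m)} := by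
          have : Ideal.span {algebraMap A B s} * (sat q.1 π m).map (algebraMap A B) ≤
              (Ideal.span {π ^ m}).map (algebraMap A B) := by
            rw [← Set.image_singleton, ← Ideal.map_span, ← Ideal.map_mul]
            refine Ideal.map_mono (Ideal.mul_le.2 fun x hx c hc => ?_)
            obtain ⟨r, rfl⟩ := Ideal.mem_span_singleton'.1 hx
            rw [mul_assoc]
            exact Ideal.mul_mem_left _ _ (hsq c hc)
          have h2 := this (Ideal.mul_mem_mul (Ideal.mem_span_singleton_self _) hm)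
          rwa [Ideal.map_span, Set.image_singleton] at h2
        obtain ⟨β, hβ⟩ := Ideal.mem_span_singleton'.1 hsb
        have hβP : β ∉ q.1.map (algebraMap A B) := fun hβP => hnot (by
          refine mem_map_sat_of_mul hs ?_
          rw [← hβ, add_comm m 1]
          exact map_sat_mul (Ideal.map_mono hgen hβP) (Ideal.mem_map_of_mem _ (pow_mem_sat m)))
        refine mem_map_sat_of_notMem hπ hπ0 hgen hP' _ hβP ?_
        refine mem_map_sat_of_pow_mul hπ0 m ?_
        rw [Nat.add_sub_cancel' hmk, ← mul_assoc, mul_comm (algebraMap A B (π ^ m)) β, hβ, mul_assoc, mul_comm b' y]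
        exact Ideal.mul_mem_left _ _ hy
    · have := map_sat_mul hy hm
      rwa [Nat.sub_add_cancel hmk] at this
  choose π k n hπ hπ0 hgen1 hak hak' hiff using hdata
  let I : F → Ideal A := fun q => haveI := q.2.1; sat q.1 (π q) (n q)
  let K : F → Ideal A := fun q => haveI := q.2.1; sat q.1 (π q) (k q)
  let D : Ideal A := Finset.univ.inf I
  have haA : ∀ c : A, c ∈ Finset.univ.inf K → a ∣ c := fun c hc => by
    refine CAlg4.ReducedCurve.dvd_of_forall_height_one a c ha fun q _ hq haq => ?_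
    let q' : F := ⟨q, inferInstance, hq, haq⟩
    obtain ⟨s', hs', hc'⟩ := (Finset.inf_le (f := K) (Finset.mem_univ q')) hc
    obtain ⟨s, hs, hsa⟩ := hak q'
    obtain ⟨r, hr⟩ := Ideal.mem_span_singleton'.1 hsa
    obtain ⟨t, ht⟩ := Ideal.mem_span_singleton'.1 hc'
    have hrq : r ∉ q := fun hrq => hak' q' (by
      haveI := q'.2.1
      obtain ⟨s2, hs2, h2⟩ := hgen1 q' hrq
      refine ⟨s2 * s, fun h => (Ideal.IsPrime.mem_or_mem inferInstance h).elim hs2 hs, ?_⟩
      rw [mul_assoc, ← hr, pow_succ', ← mul_assoc, ← Ideal.span_singleton_mul_span_singleton]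
      exact Ideal.mul_mem_mul (by simpa using h2) (Ideal.mem_span_singleton_self _))
    have hu : IsUnit (algebraMap A (Localization.AtPrime q) (s' * r)) :=
      IsLocalization.map_units (Localization.AtPrime q)
        (⟨s' * r, fun h => (Ideal.IsPrime.mem_or_mem inferInstance h).elim hs' hrq⟩ : q.primeCompl)
    refine (hu.dvd_mul_right).1 ⟨algebraMap A _ (s * t), ?_⟩
    rw [← map_mul, ← map_mul]
    congr 1
    linear_combination t * hr - r * ht
  have hbb : b' ∈ B⁰ := by
    have ha' : algebraMap A B a ∈ B⁰ := by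
      refine mem_nonZeroDivisors_iff_right.2 fun z hz => ?_
      refine Module.Flat.isSMulRegular_of_nonZeroDivisors (M := B) (mem_nonZeroDivisors_of_ne_zero ha) ?_
      show a • z = a • (0 : B)
      rw [smul_zero, Algebra.smul_def, mul_comm]; exact hz
    rw [← hb] at ha'
    exact (mul_mem_nonZeroDivisors.1 ha').2
  have hb1 : b ∈ D.map (algebraMap A B) := mem_map_finset_inf _ _ fun q _ => by
    haveI := q.2.1
    rw [← hiff q, hb]
    exact Ideal.mem_map_of_mem _ (hak q)
  let Γ : Set B := {γ | b * γ ∈ Set.range (algebraMap A B)}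
  have hD : D.map (algebraMap A B) ≤ Ideal.span {b} * Ideal.span Γ := Ideal.map_le_iff_le_comap.2 fun d hd => by
    have h1 : algebraMap A B d * b' ∈ (Finset.univ.inf K).map (algebraMap A B) :=
      mem_map_finset_inf _ _ fun q _ => by
        haveI := q.2.1
        exact (hiff q _).2 (Ideal.mem_map_of_mem _ ((Finset.inf_le (f := I) (Finset.mem_univ q)) hd))
    have h2 : algebraMap A B d * b' ∈ Ideal.span {algebraMap A B a} := by
      have hle : Finset.univ.inf K ≤ Ideal.span {a} := fun c hc => Ideal.mem_span_singleton.2 (haA c hc)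
      have := Ideal.map_mono (f := algebraMap A B) hle h1
      rwa [Ideal.map_span, Set.image_singleton] at this
    obtain ⟨γ, hγ⟩ := Ideal.mem_span_singleton'.1 h2
    have h3 : b * γ = algebraMap A B d :=
      (mul_cancel_right_mem_nonZeroDivisors hbb).1 (by rw [mul_right_comm, hb, mul_comm, hγ])
    rw [Ideal.mem_comap, ← h3]
    exact Ideal.mul_mem_mul (Ideal.mem_span_singleton_self b) (Ideal.subset_span ⟨d, h3.symm⟩)
  have hbnz : b ∈ B⁰ := by
    have ha' : algebraMap A B a ∈ B⁰ := by
      refine mem_nonZeroDivisors_iff_right.2 fun z hz => ?_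
      refine Module.Flat.isSMulRegular_of_nonZeroDivisors (M := B) (mem_nonZeroDivisors_of_ne_zero ha) ?_
      show a • z = a • (0 : B)
      rw [smul_zero, Algebra.smul_def, mul_comm]; exact hz
    rw [← hb] at ha'
    exact (mul_mem_nonZeroDivisors.1 ha').1
  obtain ⟨e, he, hbe⟩ := Ideal.mem_span_singleton_mul.1 (hD hb1)
  have he1 : e = 1 := (mul_cancel_left_mem_nonZeroDivisors hbnz).1 (by rw [hbe, mul_one])
  obtain ⟨γ, ⟨d, hd⟩, hγ⟩ : ∃ γ ∈ Γ, IsUnit γ := by
    by_contra! hcon
    have hle : Ideal.span Γ ≤ IsLocalRing.maximalIdeal B := Ideal.span_le.2 fun γ hγ => hcon γ hγ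
    exact (IsLocalRing.maximalIdeal.isMaximal B).ne_top ((Ideal.eq_top_iff_one _).2 (hle (he1 ▸ he)))
  refine ⟨d, fun h => ?_, hγ.unit⁻¹, ?_⟩
  · rw [h, map_zero] at hd
    exact (mem_nonZeroDivisors_iff_right.1 (hγ.mem_nonZeroDivisors) b hd.symm ▸ nonZeroDivisors.ne_zero hbnz) rfl
  · rw [hd, mul_assoc]
    simp

end Groth.Agent.Div89
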