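import Groth.Agent.Div89.Codim
import Groth.Agent.Div89.Comap
import Groth.Agent.Div89.UFD

set_option autoImplicit false
set_option linter.style.haveILetI false

universe u

open CategoryTheory AlgebraicGeometry Opposite nonZeroDivisors TopologicalSpace

namespace Groth.Agent.Div89

theorem mem_span_pow_of_mul_mem {R : Type*} [CommRing R] {h t : R} (hh : h ∈ R⁰)
    (hp : (Ideal.span {h}).IsPrime) (ht : t ∉ Ideal.span {h}) :
    ∀ (n : ℕ) (z : R), t * z ∈ Ideal.span {h} ^ n → z ∈ Ideal.span {h} ^ n := by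
  intro n
  induction n with
  | zero => intro z _; simp
  | succ n ih =>
    intro z hz
    rw [Ideal.span_singleton_pow, Ideal.mem_span_singleton'] at hz
    obtain ⟨c, hc⟩ := hz
    have h1 : z ∈ Ideal.span {h} := (hp.mem_or_mem (x := t) (y := z)
      (Ideal.mem_span_singleton'.2 ⟨c * h ^ n, by rw [← hc, pow_succ]; ring⟩)).resolve_left ht
    obtain ⟨z', rfl⟩ := Ideal.mem_span_singleton'.1 h1
    have h2 : t * z' = c * h ^ n := (mul_cancel_right_mem_nonZeroDivisors hh).1
      (by rw [mul_assoc, ← hc, pow_succ, mul_assoc])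
    have := ih z' (by rw [h2, Ideal.span_singleton_pow]; exact Ideal.mem_span_singleton'.2 ⟨c, rfl⟩)
    rw [pow_succ, mul_comm (Ideal.span {h} ^ n)]
    rw [mul_comm z']
    exact Ideal.mul_mem_mul (Ideal.mem_span_singleton_self h) this

theorem mem_prod_pow {R : Type*} [CommRing R] {ι : Type*} (S : Finset ι) (P : ι → Ideal R) (a : ι → ℕ)
    (hP : ∀ i ∈ S, P i = ⊤ ∨ (P i).IsPrime ∧ ∃ h ∈ R⁰, P i = Ideal.span {h})
    (hne : ∀ i ∈ S, ∀ j ∈ S, i ≠ j → P j ≠ ⊤ → ¬ P i ≤ P j)
    (z : R) (hz : ∀ i ∈ S, z ∈ P i ^ a i) : z ∈ ∏ i ∈ S, P i ^ a i := by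
  classical
  induction S using Finset.induction_on with
  | empty => simp
  | insert j S hj ih =>
    have h1 := ih (fun i hi => hP i (Finset.mem_insert_of_mem hi))
      (fun i hi k hk => hne i (Finset.mem_insert_of_mem hi) k (Finset.mem_insert_of_mem hk))
      (fun i hi => hz i (Finset.mem_insert_of_mem hi))
    rw [Finset.prod_insert hj]
    rcases hP j (Finset.mem_insert_self j S) with hj' | ⟨hpj, h, hh, hh'⟩
    · rw [hj', Ideal.top_pow, Ideal.top_mul]
      exact h1
    · have hprin : ∃ M, ∏ i ∈ S, P i ^ a i = Ideal.span {M} := by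
        refine Finset.prod_induction _ (fun I => ∃ M, I = Ideal.span {M}) ?_ ⟨1, by simp⟩ fun i hi => ?_
        · rintro _ _ ⟨M, rfl⟩ ⟨N, rfl⟩; exact ⟨M * N, Ideal.span_singleton_mul_span_singleton M N⟩
        · rcases hP i (Finset.mem_insert_of_mem hi) with hi' | ⟨-, g, -, hg⟩
          · exact ⟨1, by rw [hi', Ideal.top_pow]; simp⟩
          · exact ⟨g ^ a i, by rw [hg, Ideal.span_singleton_pow]⟩
      obtain ⟨M, hM⟩ := hprin
      have hMP : M ∉ P j := fun hMP => by
        have hle : ∏ i ∈ S, P i ^ a i ≤ P j := hM ▸ (Ideal.span_singleton_le_iff_mem _).2 hMP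
        obtain ⟨i, hi, hle'⟩ := (hpj.prod_le).1 hle
        have hij : i ≠ j := fun e => hj (e ▸ hi)
        exact hne i (Finset.mem_insert_of_mem hi) j (Finset.mem_insert_self j S) hij hpj.ne_top
          (hpj.le_of_pow_le hle')
      rw [hM, Ideal.mem_span_singleton'] at h1
      obtain ⟨c, rfl⟩ := h1
      rw [hh'] at hpj hMP
      have hc := mem_span_pow_of_mul_mem hh hpj hMP (a j) c
        (by rw [mul_comm]; exact hh' ▸ hz j (Finset.mem_insert_self j S))
      rw [hM, hh']
      exact Ideal.mul_mem_mul hc (Ideal.mem_span_singleton_self M)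

variable {X : Scheme.{u}}

theorem stalkIdeal_prod {ι : Type*} (S : Finset ι) (K : ι → X.IdealSheafData) (x : X) :
    stalkIdeal (∏ i ∈ S, K i) x = ∏ i ∈ S, stalkIdeal (K i) x := by
  classical
  induction S using Finset.induction_on with
  | empty =>
    rw [Finset.prod_empty, Finset.prod_empty, Ideal.one_eq_top]
    exact stalkIdeal_top x
  | insert a S ha ih => rw [Finset.prod_insert ha, Finset.prod_insert ha, stalkIdeal_mul, ih]

/-- Finitely generated ideal sheaves equal at a stalk are equal nearby. -/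
theorem eventually_stalkIdeal_le [IsLocallyNoetherian X] (I J : X.IdealSheafData) (x : X)
    (h : stalkIdeal I x ≤ stalkIdeal J x) :
    ∃ W : X.Opens, x ∈ W ∧ ∀ y ∈ W, stalkIdeal I y ≤ stalkIdeal J y := by
  obtain ⟨U, hx⟩ := exists_affine_mem x
  have : IsNoetherianRing Γ(X, U.1) := IsLocallyNoetherian.component_noetherian U
  obtain ⟨t, ht⟩ := IsNoetherian.noetherian (I.ideal U)
  letI := stalkAlg U.1 x hx
  haveI := isLocalization_stalk U x hx
  rw [stalkIdeal_eq I U x hx, stalkIdeal_eq J U x hx] at h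
  have hd : ∀ g : t, ∃ s : Γ(X, U.1), s ∉ primeAt U x hx ∧ s * g.1 ∈ J.ideal U := fun g => by
    have hg : algebraMap Γ(X, U.1) (X.presheaf.stalk x) g.1 ∈
        (J.ideal U).map (algebraMap Γ(X, U.1) (X.presheaf.stalk x)) :=
      h (Ideal.mem_map_of_mem _ (ht.le (Submodule.subset_span g.2)))
    rwa [IsLocalization.algebraMap_mem_map_algebraMap_iff (primeAt U x hx).primeCompl] at hg
  choose s hs hsg using hd
  refine ⟨X.basicOpen (∏ g, s g), ?_, fun y hy => ?_⟩
  · rw [mem_basicOpen_iff_notMem U x hx]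
    intro hc
    obtain ⟨g, -, hg⟩ := (Ideal.IsPrime.prod_mem_iff).1 hc
    exact hs g hg
  · have hyU : y ∈ U.1 := X.basicOpen_le _ hy
    rw [mem_basicOpen_iff_notMem U y hyU] at hy
    rw [stalkIdeal_eq I U y hyU, stalkIdeal_eq J U y hyU, Ideal.map_le_iff_le_comap, ← ht,
      Submodule.span_le]
    intro g hg
    letI := stalkAlg U.1 y hyU
    haveI := isLocalization_stalk U y hyU
    have hsy : s ⟨g, hg⟩ ∉ primeAt U y hyU := fun hm =>
      hy (Ideal.IsPrime.prod_mem_iff.2 ⟨⟨g, hg⟩, Finset.mem_univ _, hm⟩)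
    show algebraMap Γ(X, U.1) (X.presheaf.stalk y) g ∈ (J.ideal U).map (algebraMap _ _)
    rw [IsLocalization.algebraMap_mem_map_algebraMap_iff (primeAt U y hyU).primeCompl]
    exact ⟨_, hsy, hsg ⟨g, hg⟩⟩

/-- Sum of the integral divisors inside a closed subscheme. -/
theorem exists_effCartier_in_closed [IsNoetherian X] (Z : X.IdealSheafData) {I : Type u}
    (D : I → X.IdealSheafData) (hD : ∀ i, BlowUp.IsEffCartierIdeal (D i))
    (hDint : ∀ i, IsIntegral (D i).subscheme)
    (Z' : Set X) (hZ' : IsClosed Z')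
    (hcodim : ∀ z ∈ Z', (∀ y ∈ Z', y ⤳ z → y = z) → (2 : WithBot ℕ∞) ≤ ringKrullDim (X.presheaf.stalk z))
    (hcover : (Z.support : Set X) ⊆ Z' ∪ ⋃ i, ((D i).support : Set X)) :
    ∃ a : I →₀ ℕ, Z ≤ a.prod (fun i n => D i ^ n) ∧
      ∃ U : X.Opens, (a.prod (fun i n => D i ^ n)).comap U.ι = Z.comap U.ι ∧
        ∀ z ∈ (Z.support : Set X) \ (U : Set X),
          (2 : WithBot ℕ∞) ≤ ringKrullDim (X.presheaf.stalk z) := by
  classical
  -- generic points of the divisors
  have hgen : ∀ i, ∃ η : X, IsGenericPoint η ((D i).support : Set X) := fun i => by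
    have := hDint i
    refine ⟨(D i).subschemeι (genericPoint _), ?_⟩
    have h := (genericPoint_spec (D i).subscheme).image (D i).subschemeι.continuous
    rw [Set.image_univ, (D i).range_subschemeι] at h
    rwa [(D i).support.isClosed.closure_eq] at h
  choose η hη using hgen
  have hmax : ∀ i, ∀ y ∈ (D i).support, y ⤳ η i → y = η i := fun i y hy h =>
    Specializes.antisymm h ((hη i).specializes hy) |>.eq
  have hdim1 : ∀ i, ringKrullDim (X.presheaf.stalk (η i)) = 1 := fun i =>
    dim_stalk_eq_one_of_effCartier (hD i) (hη i).mem (hmax i)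
  -- strict generalizations of the generic points are off `Z`
  have hoff : ∀ i (y : X), y ⤳ η i → y ≠ η i → y ∉ Z.support ∧ ∀ j, y ∉ (D j).support := by
    intro i y hy hne
    obtain ⟨V, hV⟩ := exists_affine_mem (η i)
    have hyV := mem_affine_of_specializes hy hV
    have : IsNoetherianRing Γ(X, V.1) := IsLocallyNoetherian.component_noetherian V
    have hlt : primeAt V y hyV < primeAt V (η i) hV :=
      lt_of_le_of_ne ((specializes_iff_primeAt_le V hV hyV).1 hy) fun e => hne (primeAt_inj V hyV hV e)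
    have h1 : ((primeAt V (η i) hV).height : WithBot ℕ∞) = 1 := by
      rw [← ringKrullDim_stalk_eq_height V (η i) hV]; exact hdim1 i
    have h0 : (primeAt V y hyV).height = 0 := by
      have := Ideal.height_strict_mono_of_isPrime hlt
      rw [show (primeAt V (η i) hV).height = 1 from by exact_mod_cast h1] at this
      exact Order.lt_one_iff.1 this
    have hD' : ∀ j, y ∉ (D j).support := fun j hj => by
      obtain ⟨U, hU, f, hf0, hf⟩ := hD j y
      have h1 := one_le_height_primeAt hf0 hU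
        ((mem_support_iff_le (D j) U y hU).1 hj (hf.ge (Ideal.mem_span_singleton_self f)))
      have h2 := (ringKrullDim_stalk_eq_height U y hU).symm.trans (ringKrullDim_stalk_eq_height V y hyV)
      rw [WithBot.coe_inj.1 h2, h0] at h1
      exact not_lt_of_ge h1 zero_lt_one
    refine ⟨fun hyZ => ?_, hD'⟩
    rcases hcover hyZ with hy' | hy'
    · have h2 := hcodim y hy' fun w _ hw => by
        have hwV := mem_affine_of_specializes hw hyV
        refine primeAt_inj V hwV hyV (eq_of_le_of_not_lt ((specializes_iff_primeAt_le V hyV hwV).1 hw) fun hl => ?_)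
        have := Ideal.height_strict_mono_of_isPrime hl
        rw [h0] at this
        exact not_lt_bot this
      rw [ringKrullDim_stalk_eq_height V y hyV, h0] at h2
      exact absurd h2 (by decide)
    · obtain ⟨j, hj⟩ := Set.mem_iUnion.1 hy'
      exact hD' j hj
  have hZmax : ∀ i, η i ∈ Z.support → ∀ y ∈ Z.support, y ⤳ η i → y = η i := fun i _ y hy h =>
    by_contra fun hne => (hoff i y h hne).1 hy
  -- finitely many generic points lie in `Z`
  have hfin : ({p : X | ∃ i, η i = p ∧ p ∈ Z.support}).Finite := by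
    obtain ⟨F, hF⟩ := isCompact_univ.elim_finite_subcover (fun V : X.affineOpens => (V.1 : Set X))
      (fun V => V.1.2) fun x _ => Set.mem_iUnion.2 (exists_affine_mem x)
    refine ((F.finite_toSet).biUnion (t := fun V : X.affineOpens =>
      {p : X | ∃ i, η i = p ∧ p ∈ Z.support} ∩ (V.1 : Set X)) fun V _ => ?_).subset fun p hp => ?_
    rotate_left
    · obtain ⟨V, hV, hpV⟩ := Set.mem_iUnion₂.1 (hF (Set.mem_univ p))
      exact Set.mem_biUnion hV ⟨hp, hpV⟩
    · have : IsNoetherianRing Γ(X, V.1) := IsLocallyNoetherian.component_noetherian V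
      refine Set.Finite.of_finite_image (f := fun p : X => if hp : p ∈ V.1 then primeAt V p hp else ⊥)
        ((Ideal.finite_minimalPrimes_of_isNoetherianRing _ (Z.ideal V)).subset ?_) ?_
      · rintro _ ⟨p, ⟨⟨i, rfl, hp⟩, hpV⟩, rfl⟩
        show (if hp : η i ∈ V.1 then primeAt V (η i) hp else ⊥) ∈ _
        rw [dif_pos (show η i ∈ V.1 from hpV)]
        exact primeAt_mem_minimalPrimes Z V (η i) hpV hp (hZmax i hp)
      · rintro p ⟨-, hp⟩ q ⟨-, hq⟩ e
        have hp' : p ∈ V.1 := hp
        have hq' : q ∈ V.1 := hq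
        simp only [dif_pos hp', dif_pos hq'] at e
        exact primeAt_inj V hp hq e
  -- representatives
  have hrep : ∀ p : hfin.toFinset, ∃ i, η i = p.1 ∧ p.1 ∈ Z.support := fun p => hfin.mem_toFinset.1 p.2
  choose rep hrep hrepZ using hrep
  let S : Finset I := Finset.univ.image rep
  have hS_inj : ∀ i ∈ S, ∀ j ∈ S, η i = η j → i = j := by
    simp only [S, Finset.mem_image, Finset.mem_univ, true_and]
    rintro _ ⟨p, rfl⟩ _ ⟨q, rfl⟩ e
    rw [hrep, hrep] at e
    rw [Subtype.ext e]
  have hS_Z : ∀ i ∈ S, η i ∈ Z.support := by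
    simp only [S, Finset.mem_image, Finset.mem_univ, true_and]
    rintro _ ⟨p, rfl⟩
    rw [hrep]; exact hrepZ p
  have hS_all : ∀ i, η i ∈ Z.support → ∃ j ∈ S, η j = η i := fun i hi =>
    ⟨rep ⟨η i, hfin.mem_toFinset.2 ⟨i, rfl, hi⟩⟩, Finset.mem_image_of_mem _ (Finset.mem_univ _),
      hrep _⟩
  -- multiplicities
  have hmult : ∀ i ∈ S, ∃ n : ℕ, n ≠ 0 ∧
      stalkIdeal Z (η i) = stalkIdeal (D i) (η i) ^ n := by
    intro i hi
    have := hDint i
    have hm := stalkIdeal_eq_maximalIdeal_of_genericPoint (D i) (hη i)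
    obtain ⟨g, hg, hgm⟩ := exists_stalk_generator (hD i) (η i)
    rw [hm] at hgm ⊢
    obtain ⟨V, hV⟩ := exists_affine_mem (η i)
    have : IsNoetherianRing Γ(X, V.1) := IsLocallyNoetherian.component_noetherian V
    letI := stalkAlg V.1 (η i) hV
    haveI := isLocalization_stalk V (η i) hV
    have hne : stalkIdeal Z (η i) ≠ ⊥ := fun hbot => by
      obtain ⟨P, hP, hPle⟩ := Ideal.exists_minimalPrimes_le (bot_le : ⊥ ≤ primeAt V (η i) hV)
      have : P.IsPrime := hP.1.1
      obtain ⟨y, hy, rfl⟩ := exists_point V P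
      have hyη : y ⤳ η i := (specializes_iff_primeAt_le V hV hy).2 hPle
      have hyne : y ≠ η i := by
        rintro rfl
        have h1 := hdim1 i
        rw [ringKrullDim_stalk_eq_height V (η i) hy, Ideal.height_eq_zero_iff.2 hP] at h1
        exact absurd h1 (by decide)
      refine (hoff i y hyη hyne).1 ((mem_support_iff_le Z V y hy).2 fun z hz => ?_)
      have h0 : algebraMap Γ(X, V.1) (X.presheaf.stalk (η i)) z = 0 := by
        rw [← Ideal.mem_bot, ← hbot, stalkIdeal_eq Z V (η i) hV]
        exact Ideal.mem_map_of_mem _ hz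
      obtain ⟨⟨s, hs⟩, hsz⟩ := (IsLocalization.map_eq_zero_iff (primeAt V (η i) hV).primeCompl _ _).1 h0
      exact ((hP.1.1).mem_or_mem (show s * z ∈ primeAt V y hy by rw [hsz]; exact zero_mem _)).resolve_left
        fun h => hs (hPle h)
    have hle := (mem_support_iff_stalkIdeal Z (η i)).1 (hS_Z i hi)
    have hK := Ideal.iInf_pow_eq_bot_of_isLocalRing (IsLocalRing.maximalIdeal (X.presheaf.stalk (η i)))
      (IsLocalRing.maximalIdeal.isMaximal _).ne_top
    have hex : ∃ n, ¬ stalkIdeal Z (η i) ≤ IsLocalRing.maximalIdeal _ ^ n := by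
      by_contra! h
      exact hne (le_bot_iff.1 (hK ▸ le_iInf h))
    have h0 : Nat.find hex ≠ 0 := fun h => Nat.find_spec hex (by rw [h, pow_zero, Ideal.one_eq_top]; exact le_top)
    have h1' : Nat.find hex ≠ 1 := fun h => Nat.find_spec hex (by rw [h, pow_one]; exact hle)
    obtain ⟨n, hn⟩ := Nat.exists_eq_succ_of_ne_zero h0
    have h1 : stalkIdeal Z (η i) ≤ IsLocalRing.maximalIdeal _ ^ n :=
      not_not.1 (Nat.find_min hex (by omega))
    obtain ⟨z, hz, hzn⟩ := SetLike.not_le_iff_exists.1 (Nat.find_spec hex)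
    refine ⟨n, by omega, le_antisymm h1 ?_⟩
    rw [hn, hgm, Ideal.span_singleton_pow] at hzn
    rw [hgm, Ideal.span_singleton_pow, Ideal.span_singleton_le_iff_mem]
    have hz' := h1 hz
    rw [hgm, Ideal.span_singleton_pow, Ideal.mem_span_singleton'] at hz'
    obtain ⟨v, rfl⟩ := hz'
    have hv : IsUnit v := by
      by_contra hv
      have hvm : v ∈ IsLocalRing.maximalIdeal (X.presheaf.stalk (η i)) :=
        (IsLocalRing.mem_maximalIdeal v).2 hv
      rw [hgm, Ideal.mem_span_singleton'] at hvm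
      obtain ⟨c, rfl⟩ := hvm
      exact hzn (Ideal.mem_span_singleton'.2 ⟨c, by rw [pow_succ]; ring⟩)
    obtain ⟨w, hw⟩ := hv.exists_left_inv
    have := Ideal.mul_mem_left _ w hz
    rwa [← mul_assoc, hw, one_mul] at this
  choose n hn0 hn using hmult
  let m : I → ℕ := fun i => if h : i ∈ S then n i h else 0
  let a : I →₀ ℕ := Finsupp.onFinset S m fun i hi => by_contra fun h => hi (dif_neg h)
  have hprod : a.prod (fun i k => D i ^ k) = ∏ i ∈ S, D i ^ m i :=
    Finsupp.prod_of_support_subset a Finsupp.support_onFinset_subset _ fun i _ => pow_zero _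
  refine ⟨a, ?_⟩
  rw [hprod]
  have hm : ∀ i ∈ S, stalkIdeal Z (η i) = stalkIdeal (D i) (η i) ^ m i := fun i hi => by
    simp only [m, dif_pos hi]; exact hn i hi
  -- the product contains `Z`
  have hle : Z ≤ ∏ i ∈ S, D i ^ m i := by
    refine (le_iff_stalkIdeal _ _).2 fun x z hz => ?_
    rw [stalkIdeal_prod, Finset.prod_congr rfl fun i _ => stalkIdeal_pow (D i) (m i) x]
    obtain ⟨V, hV⟩ := exists_affine_mem x
    letI := stalkAlg V.1 x hV
    haveI := isLocalization_stalk V x hV
    -- primes at `x`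
    have hPr : ∀ i, x ∈ (D i).support → ∃ hi : η i ∈ V.1,
        (D i).ideal V = primeAt V (η i) hi ∧ primeAt V (η i) hi ≤ primeAt V x hV := fun i hx => by
      have := hDint i
      have hs : η i ⤳ x := (hη i).specializes hx
      exact ⟨mem_affine_of_specializes hs hV, ideal_eq_primeAt_of_genericPoint (D i) (hη i) V _,
        (specializes_iff_primeAt_le V hV _).1 hs⟩
    have hdisj : ∀ i, x ∈ (D i).support → ∀ hi : η i ∈ V.1,
        (primeAt V (η i) hi).map (algebraMap Γ(X, V.1) (X.presheaf.stalk x)) = stalkIdeal (D i) x :=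
      fun i hx hi => by
        obtain ⟨_, h1, -⟩ := hPr i hx
        rw [stalkIdeal_eq (D i) V x hV, h1]
        rfl
    have hpr : ∀ i, x ∈ (D i).support → ∀ hi : η i ∈ V.1,
        (stalkIdeal (D i) x).IsPrime ∧
        (stalkIdeal (D i) x).comap (algebraMap Γ(X, V.1) (X.presheaf.stalk x)) = primeAt V (η i) hi :=
      fun i hx hi => by
        obtain ⟨_, -, h2⟩ := hPr i hx
        have hd : Disjoint ((primeAt V x hV).primeCompl : Set Γ(X, V.1)) (primeAt V (η i) hi) :=
          Set.disjoint_left.2 fun s hs hs' => hs (h2 hs')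
        rw [← hdisj i hx hi]
        exact ⟨IsLocalization.isPrime_of_isPrime_disjoint _ _ _ inferInstance hd,
          IsLocalization.under_map_of_isPrime_disjoint _ _ inferInstance hd⟩
    refine mem_prod_pow S (fun i => stalkIdeal (D i) x) m (fun i _ => ?_) (fun i hi j hj hij hjt hle => ?_)
      z fun i hi => ?_
    · by_cases hx : x ∈ (D i).support
      · obtain ⟨g, hg, hg'⟩ := exists_stalk_generator (hD i) x
        exact Or.inr ⟨(hpr i hx (hPr i hx).1).1, g, hg, hg'⟩
      · exact Or.inl ((notMem_support_iff_stalkIdeal _ _).1 hx)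
    · have hxj : x ∈ (D j).support := by
        by_contra h; exact hjt ((notMem_support_iff_stalkIdeal _ _).1 h)
      have hxi : x ∈ (D i).support := by
        by_contra h
        rw [(notMem_support_iff_stalkIdeal _ _).1 h, top_le_iff] at hle
        exact hjt hle
      have h1 := Ideal.comap_mono (f := algebraMap Γ(X, V.1) (X.presheaf.stalk x)) hle
      rw [(hpr i hxi (hPr i hxi).1).2, (hpr j hxj (hPr j hxj).1).2] at h1
      have hs := (specializes_iff_primeAt_le V (hPr j hxj).1 (hPr i hxi).1).2 h1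
      by_cases e : η i = η j
      · exact hij (hS_inj i hi j hj e)
      · exact (hoff j (η i) hs e).2 i (hη i).mem
    · by_cases hx : x ∈ (D i).support
      swap
      · rw [(notMem_support_iff_stalkIdeal _ _).1 hx, Ideal.top_pow]; trivial
      obtain ⟨hi', h1, h2⟩ := hPr i hx
      obtain ⟨g, hg, hg'⟩ := exists_stalk_generator (hD i) x
      have hsZ : stalkIdeal Z x = (Z.ideal V).map (algebraMap Γ(X, V.1) (X.presheaf.stalk x)) :=
        stalkIdeal_eq Z V x hV
      suffices hh : (Z.ideal V).map (algebraMap Γ(X, V.1) (X.presheaf.stalk x)) ≤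
          stalkIdeal (D i) x ^ m i from hh (hsZ.le hz)
      rw [Ideal.map_le_iff_le_comap]
      intro w hw
      have hmem : (X.presheaf.germ V.1 (η i) hi').hom w ∈
          (primeAt V (η i) hi' ^ m i).map (X.presheaf.germ V.1 (η i) hi').hom := by
        rw [Ideal.map_pow, ← h1, ← stalkIdeal_eq (D i) V (η i) hi', ← hm i hi, stalkIdeal_eq Z V (η i) hi']
        exact Ideal.mem_map_of_mem _ hw
      obtain ⟨t, ht, htw⟩ : ∃ t ∉ primeAt V (η i) hi', t * w ∈ primeAt V (η i) hi' ^ m i := by
        letI := stalkAlg V.1 (η i) hi'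
        haveI := isLocalization_stalk V (η i) hi'
        exact (IsLocalization.algebraMap_mem_map_algebraMap_iff (primeAt V (η i) hi').primeCompl _ _ _).1 hmem
      have hpp := hpr i hx hi'
      rw [Ideal.mem_comap, hg']
      refine mem_span_pow_of_mul_mem hg (hg' ▸ hpp.1)
        (t := algebraMap Γ(X, V.1) (X.presheaf.stalk x) t) (fun hc => ht ?_) (m i) _ ?_
      · rw [← hpp.2]; exact hg'.symm ▸ hc
      · rw [← map_mul, ← hg', ← hdisj i hx hi', ← Ideal.map_pow]
        exact Ideal.mem_map_of_mem _ htw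
  refine ⟨hle, ?_⟩
  set K := ∏ i ∈ S, D i ^ m i
  let U : X.Opens := ⟨{x | ∃ W : X.Opens, x ∈ W ∧ ∀ y ∈ W, stalkIdeal K y ≤ stalkIdeal Z y}, by
    refine isOpen_iff_forall_mem_open.2 fun x ⟨W, hx, hW⟩ => ?_
    exact ⟨W, fun y hy => ⟨W, hy, hW⟩, W.2, hx⟩⟩
  refine ⟨U, ext_stalkIdeal fun x => ?_, ?_⟩
  · rw [stalkIdeal_comap, stalkIdeal_comap]
    obtain ⟨W, hxW, hW⟩ := x.2
    exact congrArg _ (le_antisymm (hW _ hxW) ((le_iff_stalkIdeal _ _).1 hle _))
  rintro z ⟨hzZ, hzU⟩
  rcases hcover hzZ with hz' | hz'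
  · obtain ⟨V, hV⟩ := exists_affine_mem z
    let J := Scheme.IdealSheafData.vanishingIdeal (⟨Z', hZ'⟩ : Closeds X)
    have hJ : (J.support : Set X) = Z' := by
      simp only [J, Scheme.IdealSheafData.coe_support_vanishingIdeal]
      rfl
    have hzJ : z ∈ J.support := hJ.ge hz'
    obtain ⟨P, hP, hPle⟩ := Ideal.exists_minimalPrimes_le ((mem_support_iff_le J V z hV).1 hzJ)
    have : P.IsPrime := hP.1.1
    obtain ⟨y, hy, rfl⟩ := exists_point V P
    have hyJ : y ∈ J.support := (mem_support_iff_le J V y hy).2 hP.1.2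
    refine (hcodim y (hJ.le hyJ) fun w hw hwy => ?_).trans ?_
    · have hwV := mem_affine_of_specializes hwy hy
      have hle' := (specializes_iff_primeAt_le V hy hwV).1 hwy
      exact primeAt_inj V hwV hy (le_antisymm hle'
        (hP.2 ⟨inferInstance, (mem_support_iff_le J V w hwV).1 (hJ.ge hw)⟩ hle'))
    · rw [ringKrullDim_stalk_eq_height V y hy, ringKrullDim_stalk_eq_height V z hV]
      exact WithBot.coe_le_coe.2 (Ideal.height_mono hPle)
  · obtain ⟨j, hj⟩ := Set.mem_iUnion.1 hz'
    by_cases e : z = η j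
    · exfalso
      subst e
      obtain ⟨i, hi, hij⟩ := hS_all j hzZ
      have heq : stalkIdeal K (η j) ≤ stalkIdeal Z (η j) := by
        rw [← hij, stalkIdeal_prod, Finset.prod_eq_single i]
        · rw [stalkIdeal_pow, hm i hi]
        · intro k hk hki
          rw [stalkIdeal_pow, (notMem_support_iff_stalkIdeal _ _).1 (fun h => ?_), Ideal.top_pow, Ideal.one_eq_top]
          have hs := (hη k).specializes h
          exact (hoff i (η k) hs fun e => hki (hS_inj k hk i hi e)).2 k (hη k).mem
        · exact fun h => absurd hi h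
      obtain ⟨W, hW, hW'⟩ := eventually_stalkIdeal_le K Z (η j) heq
      exact hzU ⟨W, hW, hW'⟩
    · obtain ⟨V, hV⟩ := exists_affine_mem z
      have hs : η j ⤳ z := (hη j).specializes hj
      have hjV := mem_affine_of_specializes hs hV
      have : IsNoetherianRing Γ(X, V.1) := IsLocallyNoetherian.component_noetherian V
      have hlt : primeAt V (η j) hjV < primeAt V z hV :=
        lt_of_le_of_ne ((specializes_iff_primeAt_le V hV hjV).1 hs) fun h => e (primeAt_inj V hjV hV h).symm
      have h1 := hdim1 j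
      rw [ringKrullDim_stalk_eq_height V (η j) hjV] at h1
      rw [ringKrullDim_stalk_eq_height V z hV]
      have h3 := Ideal.height_strict_mono_of_isPrime hlt
      rw [show (primeAt V (η j) hjV).height = 1 from by exact_mod_cast h1] at h3
      exact le_trans (b := ((2 : ℕ∞) : WithBot ℕ∞)) le_rfl (WithBot.coe_le_coe.2 ((one_add_one_eq_two (R := ℕ∞)).ge.trans (Order.add_one_le_of_lt h3)))

end Groth.Agent.Div89
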