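import Groth.Agent.QC70.SubMod
import Groth.Agent.QC70.StalkLoc
import Groth.Agent.QC70.Coherent
import Groth.Agent.QC70.CohOps
import Groth.Agent.Div89.Stalk
import Groth.Agent.Div89.Cartier
import Groth.Agent.Mero90.Div
import Groth.Prelude.Def_CohB1

/-!
The largest coherent subsheaf with nowhere dense support; removal of embedded points.
-/

set_option autoImplicit false
set_option linter.style.haveILetI false
set_option backward.isDefEq.respectTransparency.types false

noncomputable section

universe u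

open CategoryTheory CategoryTheory.Limits AlgebraicGeometry TopologicalSpace IsLocalRing Opposite
open Groth.Agent.QC70

namespace Groth.Agent.Div89.EmbeddedKill

variable {X : Scheme.{u}}

/-- The generic points of the support. -/
def IsGen (F : X.Modules) (η : X) : Prop :=
  η ∈ CohB1.support F ∧ ∀ y ∈ CohB1.support F, y ⤳ η → y = η

/-- The sections vanishing at the generic points of the support. -/
def torSub (F : X.Modules) : LocalSubmod F where
  obj V :=
    { carrier := {s | ∀ (η : X) (hη : η ∈ V), IsGen F η → germM F V η hη s = 0}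
      add_mem' := fun {a b} ha hb η hη hg => by rw [germM_add, ha η hη hg, hb η hη hg, add_zero]
      zero_mem' := fun η hη _ => germM_zero hη
      smul_mem' := fun c s hs η hη hg => by rw [germM_smul, hs η hη hg, smul_zero] }
  res_mem {V W} h s hs η hη hg := by rw [germM_res]; exact hs η (h hη) hg
  of_locally {V} s h η hη hg := by
    obtain ⟨W, hW, hηW, hs⟩ := h η hη
    rw [← germM_res hW hηW s]
    exact hs η hηW hg

theorem stalk_tor_subsingleton (F : X.Modules) {η : X} (h : IsGen F η) :
    Subsingleton ((torSub F).mod.presheaf.stalk η) := by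
  refine subsingleton_of_forall_eq 0 fun e => ?_
  obtain ⟨W, hW, s, rfl⟩ := germM_exist e
  refine injective_stalkMapM_of_mono (torSub F).ι η ?_
  refine (stalkMapM_germ _ _ _).trans (Eq.trans ?_ ((stalkLinear (torSub F).ι η).map_zero).symm)
  exact (show (torSub F).obj W from s).2 η hW h

variable {F : X.Modules}

theorem mem_support_tor_sub {y : X} (hy : y ∈ CohB1.support (torSub F).mod) : y ∈ CohB1.support F :=
  mem_support_of_mono (torSub F).ι hy

/-- The sequence of the quotient. -/
theorem quot_exact (K : Subobject F) :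
    (ShortComplex.mk K.arrow (cokernel.π K.arrow) (cokernel.condition _)).Exact :=
  ShortComplex.exact_cokernel _

variable [IsLocallyNoetherian X]

theorem exists_gen_specializes {x : X} (hx : x ∈ CohB1.support F) : ∃ η, η ⤳ x ∧ IsGen F η := by
  obtain ⟨η, hη, hηs, hmin⟩ := Mero90.exists_minimal_generization (fun y => y ∈ CohB1.support F) x hx
  exact ⟨η, hη, hηs, fun y hy hyη => Classical.byContradiction fun hne => hmin y hyη hne hy⟩

variable (hF : Coh.IsCoh F)
include hF

theorem finite_gen (U : X.affineOpens) : {η : X | η ∈ U.1 ∧ IsGen F η}.Finite := by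
  haveI := IsLocallyNoetherian.component_noetherian U
  haveI : F.IsQuasicoherent := hF.1
  haveI : F.IsFiniteType := hF.2
  haveI := QC70.finite_sections_of_isFiniteType F U.2
  have hsupp : ∀ (y : X) (hy : y ∈ U.1), y ∈ CohB1.support F ↔
      Module.annihilator Γ(X, U.1) Γ(F, U.1) ≤ primeAt U y hy := by
    intro y hy
    haveI := primeAt_isPrime U y hy
    refine (mem_support_iff_exists F hF.1 U y hy).trans ?_
    have h := (Module.mem_support_iff_of_finite (R := Γ(X, U.1)) (M := Γ(F, U.1))
      (p := ⟨primeAt U y hy, inferInstance⟩))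
    rw [Module.mem_support_iff'] at h
    rw [← h]
    exact exists_congr fun m => ⟨fun hm r hr he => hr (hm r he), fun hm t ht => by
      by_contra hc; exact hm t hc ht⟩
  have hfin : (Module.annihilator Γ(X, U.1) Γ(F, U.1)).minimalPrimes.Finite :=
    Ideal.finite_minimalPrimes_of_isNoetherianRing _ _
  have : Finite {η : X | η ∈ U.1 ∧ IsGen F η} := by
    haveI := hfin.to_subtype
    refine Finite.of_injective (β := (Module.annihilator Γ(X, U.1) Γ(F, U.1)).minimalPrimes)
      (fun η => ⟨primeAt U η.1 η.2.1, ⟨⟨primeAt_isPrime U η.1 η.2.1, (hsupp _ η.2.1).1 η.2.2.1⟩, ?_⟩⟩) ?_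
    · intro q hq hle
      haveI := hq.1
      obtain ⟨y, hy, rfl⟩ := exists_point U q
      obtain rfl := η.2.2.2 y ((hsupp y hy).2 hq.2) ((specializes_iff_primeAt_le U η.2.1 hy).2 hle)
      exact le_rfl
    · intro a b hab
      exact Subtype.ext (primeAt_inj U a.2.1 b.2.1 (congrArg Subtype.val hab))
  exact Set.toFinite _

theorem exists_nhd_gen (x : X) :
    ∃ W : X.affineOpens, x ∈ W.1 ∧ ∀ η ∈ W.1, IsGen F η → η ⤳ x := by
  obtain ⟨U, hxU⟩ := exists_affine_mem x
  let B : Set X := {η | (η ∈ U.1 ∧ IsGen F η) ∧ ¬ η ⤳ x}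
  have hB : B.Finite := (finite_gen hF U).subset fun η h => h.1
  let C : Set X := ⋃ η ∈ B, closure {η}
  have hC : IsClosed C := hB.isClosed_biUnion fun η _ => isClosed_closure
  have hxC : x ∈ U.1 ⊓ (⟨Cᶜ, hC.isOpen_compl⟩ : X.Opens) := ⟨hxU, fun h => by
    obtain ⟨η, hη, hxη⟩ := Set.mem_iUnion₂.1 h
    exact hη.2 (specializes_iff_mem_closure.2 hxη)⟩
  obtain ⟨W, hxW, hle⟩ := exists_affine_le hxC
  refine ⟨W, hxW, fun η hη hg => Classical.byContradiction fun hne => ?_⟩
  exact (hle hη).2 (Set.mem_iUnion₂.2 ⟨η, ⟨⟨(hle hη).1, hg⟩, hne⟩, subset_closure rfl⟩)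

omit [IsLocallyNoetherian X] in
theorem isLocAt_self {U : X.Opens} (hU : IsAffineOpen U) : IsLocAt F U :=
  haveI : F.IsQuasicoherent := hF.1
  isLocAt_of_isQuasicoherent F hU

theorem exists_pow_kills (U : X.affineOpens) (f : Γ(X, U.1)) :
    ∃ m : ℕ, ∀ (η : X) (hη : η ∈ U.1), IsGen F η → η ∉ X.basicOpen f →
      ∀ s : Γ(F, U.1), germM F U.1 η hη (f ^ m • s) = 0 := by
  haveI := IsLocallyNoetherian.component_noetherian U
  haveI : F.IsQuasicoherent := hF.1
  haveI : F.IsFiniteType := hF.2
  haveI := QC70.finite_sections_of_isFiniteType F U.2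
  let K : ℕ →o Submodule Γ(X, U.1) Γ(F, U.1) :=
    ⟨fun m => LinearMap.ker (f ^ m • LinearMap.id : Γ(F, U.1) →ₗ[Γ(X, U.1)] Γ(F, U.1)), fun a b hab s hs => by
      simp only [LinearMap.mem_ker, LinearMap.smul_apply, LinearMap.id_apply] at hs ⊢
      rw [← Nat.sub_add_cancel hab, pow_add, mul_smul, hs, smul_zero]⟩
  obtain ⟨m, hm⟩ := monotone_stabilizes_iff_noetherian.2 inferInstance K
  refine ⟨m, fun η hη hg hηf s => ?_⟩
  have hfm : X.presheaf.germ U.1 η hη f ∈ maximalIdeal (X.presheaf.stalk η) := fun hu =>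
    hηf ((X.mem_basicOpen f η hη).2 hu)
  have hloc := isLocalizedModule_germ (isLocAt_self hF U.2) U.2 hη
  -- the stalk is killed by a power of `f`
  obtain ⟨k, hk⟩ : ∃ k, X.presheaf.germ U.1 η hη f ^ k • germM F U.1 η hη s = 0 := by
    haveI := IsLocallyNoetherian.component_noetherian U
    haveI := primeAt_isPrime U η hη
    let I := Submodule.span Γ(X, U.1) {s}
    by_contra hcon
    push Not at hcon
    -- the multiplicative set generated by `f` and the complement of the prime avoids the annihilator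
    let S : Submonoid Γ(X, U.1) := Submonoid.powers f ⊔ (primeAt U η hη).primeCompl
    have hdisj : Disjoint ((Module.annihilator Γ(X, U.1) I : Ideal Γ(X, U.1)) : Set Γ(X, U.1)) S := by
      refine Set.disjoint_left.2 fun r hr hrS => ?_
      obtain ⟨a, ⟨k, rfl⟩, w, hw, rfl⟩ := Submonoid.mem_sup.1 hrS
      rw [SetLike.mem_coe, Submodule.mem_annihilator_span_singleton, mul_smul] at hr
      apply hcon k
      have h1 := congrArg (germM F U.1 η hη) hr
      rw [germM_smul, germM_smul, germM_zero, map_pow, smul_comm] at h1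
      exact ((Classical.byContradiction fun h => hw ((mem_primeAt_iff U η hη w).2 fun hb => h
        ((X.mem_basicOpen w η hη).1 hb))) : IsUnit (X.presheaf.germ U.1 η hη w)).smul_eq_zero.1 h1
    obtain ⟨q, hq, hqI, hqS⟩ := Ideal.exists_le_prime_disjoint _ S hdisj
    haveI := hq
    obtain ⟨y, hy, rfl⟩ := exists_point U q
    have hys : y ∈ CohB1.support F := (mem_support_iff_exists F hF.1 U y hy).2
      ⟨s, fun t ht => hqI (by rw [Submodule.mem_annihilator_span_singleton]; exact ht)⟩
    have hyη : y ⤳ η := (specializes_iff_primeAt_le U hη hy).2 fun r hr => by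
      by_contra hc
      exact Set.disjoint_left.1 hqS hr (Submonoid.mem_sup_right hc)
    obtain rfl := hg.2 y hys hyη
    exact Set.disjoint_left.1 hqS ((mem_primeAt_iff U y hy f).2 hηf)
      (Submonoid.mem_sup_left (Submonoid.mem_powers f))
  rw [← map_pow, ← germM_smul] at hk
  letI := QC70.stalkModule F hη
  obtain ⟨w, hw⟩ := (hloc.eq_iff_exists (x₁ := f ^ k • s) (x₂ := 0)).1 (hk.trans (germM_zero hη).symm)
  rw [smul_zero, Submonoid.smul_def, smul_comm] at hw
  have hmem : (w : Γ(X, U.1)) • s ∈ K k := by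
    simp only [K, OrderHom.coe_mk, LinearMap.mem_ker, LinearMap.smul_apply, LinearMap.id_apply]
    exact hw
  have hmem' : (w : Γ(X, U.1)) • s ∈ K m := by
    rcases le_total k m with h | h
    · exact K.mono h hmem
    · rw [hm k h]; exact hmem
  simp only [K, OrderHom.coe_mk, LinearMap.mem_ker, LinearMap.smul_apply, LinearMap.id_apply] at hmem'
  exact ((hloc.eq_iff_exists (x₁ := f ^ m • s) (x₂ := 0)).2 ⟨w, by
    rw [smul_zero, Submonoid.smul_def, smul_comm]; exact hmem'⟩).trans (germM_zero hη)

theorem isQuasicoherent_tor : (torSub F).mod.IsQuasicoherent := by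
  refine isQuasicoherent_of_forall_isLocAt _ fun U hU => ?_
  refine ⟨fun f t => ?_, fun f t ht => ?_⟩
  · obtain ⟨n, u, hu⟩ := (isLocAt_self hF hU).exists_of f ((torSub F).ι.app _ t)
    obtain ⟨m, hm⟩ := exists_pow_kills hF ⟨U, hU⟩ f
    have hu' : f ^ m • u ∈ (torSub F).obj U := by
      intro η hη hg
      by_cases hf : η ∈ X.basicOpen f
      · rw [germM_smul, ← germM_res (X.basicOpen_le f) hf u, hu, germM_smul]
        rw [(show (torSub F).obj _ from t).2 η hf hg |> fun h => (h : germM F _ η hf ((torSub F).ι.app _ t) = 0),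
          smul_zero, smul_zero]
      · exact hm η hη hg hf u
    refine ⟨m + n, (⟨_, hu'⟩ : (torSub F).obj U), ?_⟩
    refine Subtype.ext ?_
    show res F (X.basicOpen_le f) (f ^ m • u) = _
    rw [res_smul, hu, resO_pow, smul_smul, ← pow_add]
    rfl
  · obtain ⟨n, hn⟩ := (isLocAt_self hF hU).eq_zero_of f ((torSub F).ι.app U t)
      ((app_res (torSub F).ι (X.basicOpen_le f) t).symm.trans ((congrArg _ ht).trans (map_zero _)))
    exact ⟨n, Subtype.ext hn⟩

theorem isCoh_tor : Coh.IsCoh (torSub F).mod := by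
  haveI := isQuasicoherent_tor hF
  haveI : F.IsFiniteType := hF.2
  haveI : F.IsQuasicoherent := hF.1
  exact ⟨isQuasicoherent_tor hF, isFiniteType_of_mono (torSub F).ι⟩

/-- A coherent subsheaf with nowhere dense support has no germs at the generic points. -/
theorem notMem_support_of_gen {K' : X.Modules} (hK : Coh.IsCoh K')
    (h : ∀ U : X.Opens, (U : Set X) ∩ CohB1.support F ⊆ CohB1.support K' → (U : Set X) ∩ CohB1.support F = ∅)
    {η : X} (hη : IsGen F η) : η ∉ CohB1.support K' := by
  intro hmem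
  haveI : K'.IsFiniteType := hK.2
  obtain ⟨W, hηW, hW⟩ := exists_nhd_gen hF η
  refine (Set.eq_empty_iff_forall_notMem.1 (h W.1 fun y hy => ?_)) η ⟨hηW, hη.1⟩
  obtain ⟨ζ, hζy, hζ⟩ := exists_gen_specializes hy.2
  obtain rfl : ζ = η := hη.2 ζ hζ.1 (hW ζ (hζy.mem_open W.1.2 hy.1) hζ)
  exact hζy.mem_closed (isClosed_support K') hmem

theorem tor_nowhereDense (U : X.Opens)
    (h : (U : Set X) ∩ CohB1.support F ⊆ CohB1.support (torSub F).mod) : (U : Set X) ∩ CohB1.support F = ∅ := by
  refine Set.eq_empty_iff_forall_notMem.2 fun x hx => ?_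
  haveI : F.IsFiniteType := hF.2
  obtain ⟨η, hηx, hη⟩ := exists_gen_specializes hx.2
  exact h ⟨hηx.mem_open U.2 hx.1, hη.1⟩ (stalk_tor_subsingleton F hη)

theorem support_cokernel (K : Subobject F) (hK : ∀ η, IsGen F η → Subsingleton ((K : X.Modules).presheaf.stalk η)) :
    CohB1.support (cokernel K.arrow) = CohB1.support F := by
  refine Set.Subset.antisymm (fun x hx => mem_support_of_epi (cokernel.π K.arrow) hx) fun x hx => ?_
  haveI : F.IsFiniteType := hF.2
  haveI := isFiniteType_cokernel K.arrow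
  obtain ⟨η, hηx, hη⟩ := exists_gen_specializes hx
  refine hηx.mem_closed (isClosed_support _) fun hss => hη.1 ?_
  refine subsingleton_of_forall_eq 0 fun e => ?_
  haveI : Mono (ShortComplex.mk K.arrow (cokernel.π K.arrow) (cokernel.condition _)).f :=
    inferInstanceAs (Mono K.arrow)
  obtain ⟨k, hk⟩ := stalkMapM_exact _ (quot_exact K) η e (@Subsingleton.elim _ hss _ _)
  rw [← hk, @Subsingleton.elim _ (hK η hη) k 0]
  exact map_zero _

/-- The associated points of the quotient are generic points. -/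
theorem isGen_of_isAssPoint {x : X} (h : Curv2.IsAssPoint (cokernel (Subobject.mk (torSub F).ι).arrow) x) :
    IsGen F x := by
  by_contra hx
  let π := cokernel.π (Subobject.mk (torSub F).ι).arrow
  obtain ⟨e, he⟩ := h.2
  obtain ⟨e', rfl⟩ := surjective_stalkMapM_of_epi π x e
  obtain ⟨V, hxV, s₀, rfl⟩ := germM_exist e'
  obtain ⟨W₀, hxW₀, hWgen⟩ := exists_nhd_gen hF x
  obtain ⟨W, hxW, hle⟩ := exists_affine_le (show x ∈ V ⊓ W₀.1 from ⟨hxV, hxW₀⟩)
  have hWV : W.1 ≤ V := fun z hz => (hle hz).1
  set s := res F hWV s₀ with hs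
  rw [← germM_res hWV hxW s₀] at he
  have hmem : s ∈ (torSub F).obj W.1 := by
    intro η hη hg
    have hηx : η ⤳ x := hWgen η (hle hη).2 hg
    obtain ⟨g, hg1, hg2⟩ : ∃ g ∈ maximalIdeal (X.presheaf.stalk x),
        IsUnit ((X.presheaf.stalkSpecializes hηx).hom g) := by
      by_contra hcon
      push Not at hcon
      have hp : maximalIdeal (X.presheaf.stalk x) ≤ (Cyc90.genPrime hηx).asIdeal := fun g hgm => hcon g hgm
      have he1 : Cyc90.genPrime hηx = closedPoint (X.presheaf.stalk x) :=
        PrimeSpectrum.ext ((le_antisymm (le_maximalIdeal (Cyc90.genPrime hηx).isPrime.ne_top) hp).trans rfl)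
      have he2 := Cyc90.fromSpecStalk_genPrime hηx
      rw [he1, Scheme.fromSpecStalk_closedPoint] at he2
      exact hx (he2 ▸ hg)
    rw [he] at hg1
    obtain ⟨k, hk⟩ := hg1
    rw [Submodule.mem_colon_singleton, Submodule.mem_bot] at hk
    obtain ⟨W₁, hxW₁, g₁, hg₁⟩ := X.presheaf.exists_germ_eq (g ^ k)
    obtain ⟨W₂, hW₂, hxW₂⟩ : ∃ W₂ : X.Opens, (W₂ ≤ W.1 ⊓ W₁) ∧ x ∈ W₂ := ⟨_, le_rfl, hxW, hxW₁⟩
    have hgs : germM _ W₂ x hxW₂ (π.app W₂ (resO X (hW₂.trans inf_le_right) g₁ •
        res F (hW₂.trans inf_le_left) s)) = 0 := by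
      rw [← stalkMapM_germ, germM_smul, germ_resO, germM_res, hg₁]
      exact ((stalkLinear π x).map_smul _ _).trans hk
    obtain ⟨W₃, hW₃, hxW₃, h3⟩ := germM_eq_zero hgs
    have hηW₃ : η ∈ W₃ := hηx.mem_open W₃.2 hxW₃
    have h4 : stalkMapM π η (germM F W₂ η (hW₃ hηW₃) (resO X (hW₂.trans inf_le_right) g₁ •
        res F (hW₂.trans inf_le_left) s)) = 0 := by
      rw [stalkMapM_germ, ← germM_res hW₃ hηW₃, h3, germM_zero]
    haveI : Mono (ShortComplex.mk (Subobject.mk (torSub F).ι).arrow π (cokernel.condition _)).f :=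
      inferInstanceAs (Mono (Subobject.mk (torSub F).ι).arrow)
    obtain ⟨q, hq⟩ := stalkMapM_exact _ (quot_exact _) η _ h4
    have hq0 : germM F W₂ η (hW₃ hηW₃) (resO X (hW₂.trans inf_le_right) g₁ •
        res F (hW₂.trans inf_le_left) s) = 0 := by
      rw [← hq]
      haveI := stalk_tor_subsingleton F hg
      haveI : Subsingleton ((Subobject.mk (torSub F).ι : X.Modules).presheaf.stalk η) :=
        subsingleton_stalk_of_mono (Subobject.underlyingIso (torSub F).ι).hom η inferInstance
      rw [Subsingleton.elim q 0]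
      exact map_zero _
    rw [germM_smul, germ_resO, germM_res] at hq0
    have hu : IsUnit (X.presheaf.germ W₁ η (hW₂ (hW₃ hηW₃)).2 g₁) := by
      have := congrArg (X.presheaf.stalkSpecializes hηx).hom hg₁
      rw [TopCat.Presheaf.germ_stalkSpecializes_apply, map_pow] at this
      rw [this]
      exact hg2.pow k
    exact hu.smul_eq_zero.1 hq0
  have h0 : stalkMapM π x (germM F W.1 x hxW s) = 0 := by
    let t : Γ((torSub F).mod, W.1) := (⟨s, hmem⟩ : (torSub F).obj W.1)
    have h1 : germM F W.1 x hxW s = stalkMapM (torSub F).ι x (germM _ W.1 x hxW t) :=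
      (stalkMapM_germ (torSub F).ι hxW t).symm
    rw [h1, ← stalkMapM_comp]
    have : (torSub F).ι ≫ π = 0 := by
      show (torSub F).ι ≫ cokernel.π (Subobject.mk (torSub F).ι).arrow = 0
      have e := congrArg (· ≫ cokernel.π (Subobject.mk (torSub F).ι).arrow) (Subobject.underlyingIso_arrow (torSub F).ι)
      simp only [Category.assoc, cokernel.condition, comp_zero] at e
      exact e.symm
    rw [this, stalkMapM_zero]
  refine (maximalIdeal.isMaximal (X.presheaf.stalk x)).ne_top ?_
  rw [he, show stalkMapM π x (germM F W.1 x hxW s) = 0 from h0, Ideal.radical_eq_top, eq_top_iff]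
  intro r _
  rw [Submodule.mem_colon_singleton, smul_zero]
  exact zero_mem _

theorem exists_max_nowhereDense :
    ∃ K : Subobject F, Coh.IsCoh (K : X.Modules) ∧
      (∀ U : X.Opens, (U : Set ↥X) ∩ CohB1.support F ⊆ CohB1.support (K : X.Modules) → (U : Set ↥X) ∩ CohB1.support F = ∅) ∧
      (∀ K' : Subobject F, Coh.IsCoh (K' : X.Modules) →
        (∀ U : X.Opens, (U : Set ↥X) ∩ CohB1.support F ⊆ CohB1.support (K' : X.Modules) → (U : Set ↥X) ∩ CohB1.support F = ∅) →
        K' ≤ K) ∧
      CohB1.support (cokernel K.arrow) = CohB1.support F ∧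
      (∀ x : ↥X, Curv2.IsAssPoint (cokernel K.arrow) x → ∀ y : ↥X, Curv2.IsAssPoint (cokernel K.arrow) y → y ⤳ x → y = x) ∧
      ∃ U : X.Opens, Dense (U : Set ↥X) ∧ CohB1.support F ⊆ closure ((U : Set ↥X) ∩ CohB1.support F) ∧
        IsIso ((Scheme.Modules.restrictFunctor U.ι).map (cokernel.π K.arrow)) := by
  let N := torSub F
  let K := Subobject.mk N.ι
  have hKc : Coh.IsCoh (K : X.Modules) := isCoh_of_iso (Subobject.underlyingIso N.ι).symm (isCoh_tor hF)
  have hKs : CohB1.support (K : X.Modules) = CohB1.support N.mod :=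
    Set.Subset.antisymm (mem_support_of_mono (Subobject.underlyingIso N.ι).hom)
      (mem_support_of_mono (Subobject.underlyingIso N.ι).inv)
  have hgen : ∀ η, IsGen F η → Subsingleton ((K : X.Modules).presheaf.stalk η) := fun η h =>
    subsingleton_stalk_of_mono (Subobject.underlyingIso N.ι).hom η (stalk_tor_subsingleton F h)
  refine ⟨K, hKc, fun U hU => tor_nowhereDense hF U (hKs ▸ hU), fun K' hK' h' => ?_,
    support_cokernel hF K hgen, fun x hx y hy hyx => (isGen_of_isAssPoint hF hx).2 y (isGen_of_isAssPoint hF hy).1 hyx,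
    ?_⟩
  · have hlift : ∀ (V : X.Opens) (t : Γ((K' : X.Modules), V)), K'.arrow.app V t ∈ N.obj V := by
      intro V t η hη hg
      haveI := notMem_support_iff.1 (notMem_support_of_gen hF hK' h' hg)
      rw [← stalkMapM_germ K'.arrow hη t, Subsingleton.elim (germM _ V η hη t) 0]
      exact map_zero _
    exact Subobject.le_mk_of_comm (N.lift K'.arrow hlift) (N.lift_ι _ hlift)
  · haveI : (K : X.Modules).IsFiniteType := hKc.2
    let U : X.Opens := ⟨(CohB1.support (K : X.Modules))ᶜ, (isClosed_support _).isOpen_compl⟩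
    have hUg : ∀ η, IsGen F η → η ∈ U := fun η h hm => hm (hgen η h)
    refine ⟨U, ?_, fun x hx => ?_, ?_⟩
    · rw [dense_iff_inter_open]
      intro O hO hne
      by_contra hcon
      rw [Set.not_nonempty_iff_eq_empty] at hcon
      have hsub : O ⊆ CohB1.support (K : X.Modules) := fun z hz => by
        by_contra hc
        exact (Set.eq_empty_iff_forall_notMem.1 hcon) z ⟨hz, hc⟩
      obtain ⟨z, hz⟩ := hne
      exact Set.eq_empty_iff_forall_notMem.1 (tor_nowhereDense hF ⟨O, hO⟩ fun w hw => hKs ▸ hsub hw.1) z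
        ⟨hz, mem_support_tor_sub (hKs ▸ hsub hz)⟩
    · obtain ⟨η, hηx, hη⟩ := exists_gen_specializes hx
      have hmem : η ∈ (U : Set X) ∩ CohB1.support F := ⟨hUg η hη, hη.1⟩
      exact closure_mono (Set.singleton_subset_iff.2 hmem) (specializes_iff_mem_closure.1 hηx)
    · haveI := mono_restrict_of_kernel_subsingleton (U := U) (cokernel.π K.arrow) fun W hW => by
        refine subsingleton_of_forall_eq 0 fun c => TopCat.Presheaf.section_ext
          (⟨_, (kernel (cokernel.π K.arrow)).isSheaf⟩ : TopCat.Sheaf AddCommGrpCat X) W c 0 fun z hz => ?_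
        haveI := notMem_support_iff.1 (show z ∉ CohB1.support (K : X.Modules) from hW hz)
        haveI := subsingleton_stalk_kernel (cokernel.π K.arrow) z fun a b hab => by
          haveI : Mono (ShortComplex.mk K.arrow (cokernel.π K.arrow) (cokernel.condition _)).f :=
            inferInstanceAs (Mono K.arrow)
          have h0 : stalkMapM (cokernel.π K.arrow) z (a - b) = 0 := by
            have := (stalkLinear (cokernel.π K.arrow) z).map_sub a b
            exact this.trans (sub_eq_zero.2 hab)
          obtain ⟨q, hq⟩ := stalkMapM_exact _ (quot_exact K) z _ h0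
          rw [Subsingleton.elim q 0] at hq
          exact sub_eq_zero.1 (hq.symm.trans (map_zero _))
        exact @Subsingleton.elim _ this _ _
      haveI : Epi ((Scheme.Modules.restrictFunctor U.ι).map (cokernel.π K.arrow)) := inferInstance
      exact isIso_of_mono_of_epi _

end Groth.Agent.Div89.EmbeddedKill
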