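import Groth.Agent.Div89.Comap
import Groth.Agent.Div89.CartierImm
import Groth.Agent.Div89.CartierFibre
import Groth.Agent.FlatMor68.FibreStalk
import Mathlib.RingTheory.Ideal.MinimalPrime.Noetherian

/-!
Containment of a flat closed subscheme over a reduced Noetherian base, detected on the fibres.
-/

set_option autoImplicit false
set_option linter.style.haveILetI false
set_option backward.isDefEq.respectTransparency.types false

universe u

open CategoryTheory CategoryTheory.Limits AlgebraicGeometry TopologicalSpace IsLocalRing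

namespace Groth.Agent.Div89.FibreLe

section Alg

variable {A : Type u} [CommRing A] [IsReduced A]

/-- An element of a minimal prime of a reduced ring is killed outside it. -/
theorem exists_mul_eq_zero_of_minimal {p : Ideal A} (hp : p ∈ minimalPrimes A) {r : A} (hr : r ∈ p) :
    ∃ s ∉ p, s * r = 0 := by
  haveI := Ideal.minimalPrimes_isPrime hp
  by_contra hne
  have hdis : Disjoint ((⊥ : Ideal A) : Set A) (p.primeCompl ⊔ Submonoid.powers r : Submonoid A) := by
    rw [Set.disjoint_left]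
    rintro _ rfl hm
    obtain ⟨s, hs, _, ⟨n, rfl⟩, h⟩ := Submonoid.mem_sup.1 hm
    have h : s * r ^ n = 0 := h
    rcases n with _ | n
    · exact hs (by rw [pow_zero, mul_one] at h; rw [h]; exact zero_mem p)
    · refine hne ⟨s, hs, eq_zero_of_pow_eq_zero (n := n + 1) ?_⟩
      rw [mul_pow, pow_succ s, mul_assoc, h, mul_zero]
  obtain ⟨q, hq, -, hqd⟩ := Ideal.exists_le_prime_disjoint _ _ hdis
  have hqp : q ≤ p := fun x hx => by
    by_contra hxp
    exact Set.disjoint_left.1 hqd hx (Submonoid.mem_sup_left hxp)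
  exact Set.disjoint_left.1 hqd (hp.2 ⟨hq, bot_le⟩ hqp hr) (Submonoid.mem_sup_right (Submonoid.mem_powers r))

/-- An element outside all minimal primes of a reduced ring is regular. -/
theorem isSMulRegular_of_forall_minimal {s : A} (hs : ∀ p ∈ minimalPrimes A, s ∉ p) : IsSMulRegular A s := by
  refine IsSMulRegular.of_right_eq_zero_of_smul fun b hb => ?_
  have : b ∈ sInf (minimalPrimes A) := Submodule.mem_sInf.2 fun p hp =>
    ((Ideal.minimalPrimes_isPrime hp).mem_or_mem (show s * b ∈ p by rw [show s * b = 0 from hb]; exact zero_mem p)).resolve_left (hs p hp)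
  rw [Ideal.sInf_minimalPrimes] at this
  exact (IsReduced.eq_zero b (mem_nilradical.1 this))

variable [IsNoetherianRing A] {B : Type u} [CommRing B] [Algebra A B] [Module.Flat A B]

/-- A flat algebra over a reduced Noetherian ring injects into its localisations over the generic points. -/
theorem eq_zero_of_forall_minimal {b : B}
    (h : ∀ q : Ideal B, q.IsPrime → q.under A ∈ minimalPrimes A → ∃ u ∉ q, u * b = 0) : b = 0 := by
  let J : Ideal A := (LinearMap.toSpanSingleton A B b).ker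
  have hJ : ∀ p ∈ minimalPrimes A, ¬ J ≤ p := fun p hp hle => by
    haveI := Ideal.minimalPrimes_isPrime hp
    let K : Ideal B := (LinearMap.toSpanSingleton B B b).ker
    have hdis : Disjoint (K : Set B) (p.primeCompl.map (algebraMap A B) : Submonoid B) := by
      rw [Set.disjoint_left]
      rintro _ hK ⟨s, hs, rfl⟩
      refine hs (hle ?_)
      rw [LinearMap.mem_ker, LinearMap.toSpanSingleton_apply, Algebra.smul_def]
      simpa [K, LinearMap.mem_ker] using hK
    obtain ⟨q, hq, hKq, hqd⟩ := Ideal.exists_le_prime_disjoint _ _ hdis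
    have hqp : q.under A ≤ p := fun a ha => by
      by_contra hap
      exact Set.disjoint_left.1 hqd ha ⟨a, hap, rfl⟩
    have heq : q.under A = p := le_antisymm hqp (hp.2 ⟨inferInstance, bot_le⟩ hqp)
    obtain ⟨u, hu, hub⟩ := h q hq (heq.symm ▸ hp)
    exact hu (hKq (by simpa [K, LinearMap.mem_ker] using hub))
  obtain ⟨s, hsJ, hs⟩ : ∃ s ∈ J, ∀ p ∈ minimalPrimes A, s ∉ p := by
    by_contra! hne
    have hfin := minimalPrimes.finite_of_isNoetherianRing A
    have hsub : (J : Set A) ⊆ ⋃ p ∈ (hfin.toFinset : Set (Ideal A)), (p : Set A) := fun s hs => by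
      obtain ⟨p, hp, hsp⟩ := hne s hs
      exact Set.mem_biUnion (by simpa using hp) hsp
    obtain ⟨p, hp, hle⟩ := (Ideal.subset_union_prime ⊥ ⊥ fun p hp _ _ =>
      Ideal.minimalPrimes_isPrime (hfin.mem_toFinset.1 hp)).1 hsub
    exact hJ p (hfin.mem_toFinset.1 hp) hle
  exact (isSMulRegular_of_forall_minimal hs).of_flat.right_eq_zero_of_smul
    (by rw [LinearMap.mem_ker, LinearMap.toSpanSingleton_apply] at hsJ; simpa [Algebra.smul_def] using hsJ)

end Alg

section Scheme

variable {X T : Scheme.{u}} [IsLocallyNoetherian T] [AlgebraicGeometry.IsReduced T] (π : X ⟶ T)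

/-- A subscheme flat over a reduced Noetherian base lies in another when it does so on every fibre. -/
theorem le_of_forall_fibre (D D' : X.IdealSheafData) [Flat (D'.subschemeι ≫ π)]
    (hfib : ∀ t : T, D.comap (π.fiberι t) ≤ D'.comap (π.fiberι t)) : D ≤ D' := by
  have key : ∀ x : X, stalkIdeal D x ≤ stalkIdeal D' x ⊔ CAlg9.TransRegImm.fibJ π x := by
    have h0 : ∀ (t : T) (w : π.fiber t),
        stalkIdeal D (π.fiberι t w) ≤ stalkIdeal D' (π.fiberι t w) ⊔ CAlg9.TransRegImm.fibJ π (π.fiberι t w) := by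
      intro t w
      have h1 : stalkIdeal (D.comap (π.fiberι t)) w ≤ stalkIdeal (D'.comap (π.fiberι t)) w := by
        obtain ⟨W, hW, hwW, -⟩ := exists_isAffineOpen_mem_and_subset (X := π.fiber t) (x := w) (U := ⊤) trivial
        rw [stalkIdeal_eq _ ⟨W, hW⟩ w hwW, stalkIdeal_eq _ ⟨W, hW⟩ w hwW]
        exact Ideal.map_mono (hfib t ⟨W, hW⟩)
      rw [stalkIdeal_comap, stalkIdeal_comap, Ideal.map_le_iff_le_comap, Ideal.comap_map_of_surjective _
        (FlatMor68.FibreStalk.fiberι_stalkMap_surjective π t w), ← RingHom.ker_eq_comap_bot,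
        FlatMor68.FibreStalk.ker_fiberι_stalkMap π t w] at h1
      exact h1
    intro x
    have := h0 (π x) (π.asFiber x)
    rwa [Scheme.Hom.fiberι_asFiber] at this
  refine Scheme.IdealSheafData.le_of_iSup_eq_top
    (fun p : {p : X.affineOpens × T.affineOpens // p.1.1 ≤ π ⁻¹ᵁ p.2.1} => p.1.1) ?_ ?_
  · refine top_le_iff.1 fun x _ => ?_
    obtain ⟨V, hV, hxV, -⟩ := exists_isAffineOpen_mem_and_subset (X := T) (x := π x) (U := ⊤) trivial
    obtain ⟨U, hU, hxU, e⟩ := exists_isAffineOpen_mem_and_subset (X := X) (x := x) (U := π ⁻¹ᵁ V) hxV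
    exact Opens.mem_iSup.2 ⟨⟨(⟨U, hU⟩, ⟨V, hV⟩), e⟩, hxU⟩
  rintro ⟨⟨⟨U, hU⟩, ⟨V, hV⟩⟩, e⟩ a ha
  replace e : U ≤ π ⁻¹ᵁ V := e
  haveI : IsNoetherianRing Γ(T, V) := IsLocallyNoetherian.component_noetherian ⟨V, hV⟩
  letI := (π.appLE V U e).hom.toAlgebra
  let I' := D'.ideal ⟨U, hU⟩
  haveI : Module.Flat Γ(T, V) (Γ(X, U) ⧸ I') := by
    have eB : D'.subschemeι ⁻¹ᵁ U ≤ (D'.subschemeι ≫ π) ⁻¹ᵁ V := fun _ hy => e hy
    letI := ((D'.subschemeι ≫ π).appLE V (D'.subschemeι ⁻¹ᵁ U) eB).hom.toAlgebra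
    haveI : Module.Flat Γ(T, V) Γ(D'.subscheme, D'.subschemeι ⁻¹ᵁ U) :=
      (D'.subschemeι ≫ π).flat_appLE hV (hU.preimage D'.subschemeι) eB
    let φ : Γ(X, U) →ₐ[Γ(T, V)] Γ(D'.subscheme, D'.subschemeι ⁻¹ᵁ U) :=
      { (D'.subschemeι.app U).hom with
        commutes' := fun r => by
          show (π.appLE V U e ≫ D'.subschemeι.app U) r = _
          rw [Scheme.Hom.app_eq_appLE, Scheme.Hom.appLE_comp_appLE]
          rfl }
    have hk : RingHom.ker φ = I' := by
      show RingHom.ker (D'.subschemeι.app U).hom = _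
      rw [← CAlg9.TransRegImm.ker_app_eq D'.subschemeι hU, Scheme.IdealSheafData.ker_subschemeι]
    exact Module.Flat.of_linearEquiv ((Ideal.quotientEquivAlgOfEq Γ(T, V) hk.symm).trans
      (Ideal.quotientKerAlgEquivOfSurjective (f := φ) (D'.subschemeι.app_surjective U hU))).toLinearEquiv
  rw [← Ideal.Quotient.eq_zero_iff_mem]
  refine eq_zero_of_forall_minimal (A := Γ(T, V)) fun q hq hmin => ?_
  let Q : PrimeSpectrum Γ(X, U) := ⟨q.comap (Ideal.Quotient.mk I'), inferInstance⟩
  let x := hU.fromSpec Q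
  have hxU : x ∈ U := hU.opensRange_fromSpec ▸ ⟨Q, rfl⟩
  have hQ : hU.primeIdealOf ⟨x, hxU⟩ = Q :=
    hU.fromSpec.isOpenEmbedding.injective (hU.fromSpec_primeIdealOf ⟨x, hxU⟩)
  let O := X.presheaf.stalk x
  letI : Algebra Γ(X, U) O := X.presheaf.algebra_section_stalk ⟨x, hxU⟩
  haveI hloc : IsLocalization.AtPrime O Q.asIdeal := by
    have h := hU.isLocalization_stalk ⟨x, hxU⟩
    rw [hQ] at h
    exact h
  have hJ : CAlg9.TransRegImm.fibJ π x = ⊥ := by
    rw [CAlg9.TransRegImm.fibJ, CAlg9.CIT.map_maximalIdeal_stalkMap π hV hU e x hxU, eq_bot_iff,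
      Ideal.map_le_iff_le_comap]
    intro r hr
    have hr : r ∈ q.under Γ(T, V) := by rw [hQ] at hr; exact hr
    obtain ⟨s, hs, hsr⟩ := exists_mul_eq_zero_of_minimal hmin hr
    have hu : IsUnit (algebraMap Γ(X, U) O (algebraMap Γ(T, V) Γ(X, U) s)) :=
      IsLocalization.map_units O (⟨algebraMap Γ(T, V) Γ(X, U) s, hs⟩ : Q.asIdeal.primeCompl)
    rw [Ideal.mem_comap, Ideal.mem_bot]
    refine hu.mul_right_eq_zero.1 ?_
    show algebraMap Γ(X, U) O (algebraMap Γ(T, V) Γ(X, U) s) * algebraMap Γ(X, U) O (algebraMap Γ(T, V) Γ(X, U) r) = 0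
    rw [← map_mul, ← map_mul, hsr, map_zero, map_zero]
  have h1 := key x
  rw [hJ, sup_bot_eq, stalkIdeal_eq D ⟨U, hU⟩ x hxU, stalkIdeal_eq D' ⟨U, hU⟩ x hxU] at h1
  obtain ⟨u, hu, hua⟩ := (IsLocalization.algebraMap_mem_map_algebraMap_iff Q.asIdeal.primeCompl O I' a).1
    (h1 (Ideal.mem_map_of_mem _ ha))
  exact ⟨Ideal.Quotient.mk I' u, hu, by rw [← map_mul]; exact Ideal.Quotient.eq_zero_iff_mem.2 hua⟩

end Scheme

end Groth.Agent.Div89.FibreLe
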