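import Groth.Prelude.Def_Fitting
import Groth.Prelude.Def_CohB1
import Groth.Prelude.Def_FlatMod2
import Groth.Agent.Fit14.Local
import Groth.Agent.Fit14.Props
import Groth.Agent.QCPull72.Sections
import Groth.Agent.Props58.LocFree.FP
import Groth.Agent.Props58.LocFree.Criteria
import Groth.Agent.Div89.Stalk
import Groth.Agent.Div89.Cartier
import Groth.Agent.Div89.Comap

/-!
The Fitting ideal sheaves of quasi-coherent modules of finite type: affine values, stalks,
base change.
-/

set_option autoImplicit false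
set_option linter.style.haveILetI false
set_option backward.isDefEq.respectTransparency.types false

noncomputable section

universe u

open CategoryTheory CategoryTheory.Limits AlgebraicGeometry Opposite TopologicalSpace TensorProduct
open Groth.Agent.Props58.LocFree Groth.Agent.QC70

namespace Groth.Agent.Div89

variable {X Y : Scheme.{u}}

/-- An isomorphism of modules is linear on sections. -/
def sectionsEquiv {M N : X.Modules} (e : M ≅ N) (U : X.Opens) : Γ(M, U) ≃ₗ[Γ(X, U)] Γ(N, U) where
  toFun := e.hom.app U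
  invFun := e.inv.app U
  map_add' := map_add _
  map_smul' r x := Scheme.Modules.Hom.app_smul _ r x
  left_inv x := by
    rw [← ConcreteCategory.comp_apply, ← Scheme.Modules.Hom.comp_app, e.hom_inv_id]; rfl
  right_inv x := by
    rw [← ConcreteCategory.comp_apply, ← Scheme.Modules.Hom.comp_app, e.inv_hom_id]; rfl

theorem fitting_sections_pullback (f : Y ⟶ X) (F : X.Modules) (hF : Coh.IsQCoh F) (hft : CohB1.IsFT F)
    (U : X.affineOpens) (V : Y.affineOpens) (e : V.1 ≤ f ⁻¹ᵁ U.1) (r : ℕ) :
    Fitt.ideal Γ(Y, V.1) Γ((Scheme.Modules.pullback f).obj F, V.1) r =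
      (Fitt.ideal Γ(X, U.1) Γ(F, U.1) r).map (f.appLE U.1 V.1 e).hom := by
  haveI : F.IsQuasicoherent := hF
  haveI : F.IsFiniteType := hft
  letI := (f.appLE U.1 V.1 e).hom.toAlgebra
  haveI := finite_sections_of_isFiniteType F U.2
  have h := QCPull72.sectionsPullbackEquiv f F U.2 V.2 e
  rw [← Fit14.ideal_congr h.symm r]
  exact Fit14.ideal_baseChange Γ(Y, V.1) r

theorem fitting_sections_res (F : X.Modules) (hF : Coh.IsQCoh F) (hft : CohB1.IsFT F)
    {U V : X.affineOpens} (h : V.1 ≤ U.1) (r : ℕ) :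
    Fitt.ideal Γ(X, V.1) Γ(F, V.1) r =
      (Fitt.ideal Γ(X, U.1) Γ(F, U.1) r).map (X.presheaf.map (homOfLE h).op).hom := by
  haveI : F.IsQuasicoherent := hF
  haveI : F.IsFiniteType := hft
  haveI := finite_sections_of_isFiniteType F V.2
  have e := fitting_sections_pullback (𝟙 X) F hF hft U V h r
  have he : Scheme.Hom.appLE (𝟙 X) U.1 V.1 h = X.presheaf.map (homOfLE h).op := by
    simp [Scheme.Hom.appLE]; exact Category.id_comp _
  rw [he] at e
  rw [← e]
  exact @Fit14.ideal_congr Γ(X, V.1) _ Γ(F, V.1) _ _ _ _ _ (by assumption) (sectionsEquiv ((Scheme.Modules.pullbackId X).app F) V.1).symm r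

theorem fitting_ideal_eq (F : X.Modules) (hF : Coh.IsQCoh F) (hft : CohB1.IsFT F) (r : ℕ)
    (U : X.affineOpens) :
    (Fitt.sheafIdeal F r).ideal U = Fitt.ideal Γ(X, U.1) Γ(F, U.1) r := by
  refine le_antisymm (Scheme.IdealSheafData.ideal_ofIdeals_le _ U) ?_
  let J : X.IdealSheafData :=
    { ideal := fun U => Fitt.ideal Γ(X, U.1) Γ(F, U.1) r
      map_ideal_basicOpen := fun U f =>
        (fitting_sections_res F hF hft (U := U) (V := X.affineBasicOpen f) (X.basicOpen_le f) r).symm }
  exact (show J ≤ Fitt.sheafIdeal F r from Scheme.IdealSheafData.le_ofIdeals_iff.2 le_rfl) U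

theorem fitting_stalkIdeal (F : X.Modules) (hF : Coh.IsQCoh F) (hft : CohB1.IsFT F) (r : ℕ) (x : X) :
    stalkIdeal (Fitt.sheafIdeal F r) x = Fitt.ideal (X.presheaf.stalk x) (F.presheaf.stalk x) r := by
  obtain ⟨U, hx⟩ := exists_affine_mem x
  haveI : F.IsQuasicoherent := hF
  haveI : F.IsFiniteType := hft
  haveI := finite_sections_of_isFiniteType F U.2
  rw [stalkIdeal_eq _ U x hx, fitting_ideal_eq F hF hft]
  letI := stalkAlg U.1 x hx
  letI := stalkModule F U.1 x hx
  haveI := isScalarTower_stalk F U.1 x hx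
  haveI := isLocalization_stalk U x hx
  haveI := isLocalizedModule_germLin F hF U x hx
  have hb := IsLocalizedModule.isBaseChange (primeAt U x hx).primeCompl (X.presheaf.stalk x)
    (germLin F U.1 x hx)
  rw [← Fit14.ideal_congr hb.equiv r, Fit14.ideal_baseChange (X.presheaf.stalk x) r]
  rfl

theorem fitting_comap (f : Y ⟶ X) (F : X.Modules) (hF : Coh.IsQCoh F) (hft : CohB1.IsFT F) (r : ℕ) :
    (Fitt.sheafIdeal F r).comap f = Fitt.sheafIdeal ((Scheme.Modules.pullback f).obj F) r := by
  haveI : F.IsQuasicoherent := hF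
  haveI : F.IsFiniteType := hft
  refine ext_stalkIdeal fun y => ?_
  obtain ⟨U, hU⟩ := exists_affine_mem (f y)
  obtain ⟨V, hV, e⟩ := exists_affine_le (X := Y) (U := f ⁻¹ᵁ U.1) (x := y) hU
  rw [stalkIdeal_comap, stalkIdeal_eq _ U (f y) hU, stalkIdeal_eq _ V y hV,
    fitting_ideal_eq F hF hft, fitting_ideal_eq _ (QCPull72.isQuasicoherent_pullback f F)
      (QCPull72.isFiniteType_pullback f F), fitting_sections_pullback f F hF hft U V e r,
    Ideal.map_map, Ideal.map_map, ← CommRingCat.hom_comp, ← CommRingCat.hom_comp,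
    Scheme.Hom.germ_stalkMap, Scheme.Hom.appLE, Category.assoc, TopCat.Presheaf.germ_res]

theorem fitting_fg (F : X.Modules) (hF : CohB1.IsFP F) (r : ℕ) :
    BlowUp.IsFiniteTypeIdeal (Fitt.sheafIdeal F r) := by
  intro U
  haveI := hF
  haveI : F.IsQuasicoherent := inferInstance
  haveI : F.IsFiniteType := inferInstance
  haveI := finitePresentation_sections F U.2
  rw [fitting_ideal_eq F inferInstance inferInstance]
  exact Fit14.fg_of_finitePresentation r

theorem notMem_support_fitting_iff (F : X.Modules) (hF : Coh.IsQCoh F) (hft : CohB1.IsFT F) (r : ℕ)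
    (x : X) : x ∉ (Fitt.sheafIdeal F r).support ↔
      ∃ y : Fin r → F.presheaf.stalk x, Submodule.span (X.presheaf.stalk x) (Set.range y) = ⊤ := by
  haveI : F.IsFiniteType := hft
  haveI := finite_stalk_of_isFiniteType (M := F) x
  rw [notMem_support_iff_stalkIdeal, fitting_stalkIdeal F hF hft]
  exact ⟨Fit14.exists_gens_of_ideal_eq_top,
    fun ⟨y, hy⟩ => Fit14.ideal_eq_top_of_gens y hy le_rfl⟩

theorem fitting_support_zero (F : X.Modules) (hF : Coh.IsQCoh F) (hft : CohB1.IsFT F) :
    ((Fitt.sheafIdeal F 0).support : Set X) = CohB1.support F := by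
  ext x
  rw [SetLike.mem_coe, ← not_iff_not, notMem_support_fitting_iff F hF hft]
  simp only [CohB1.support, Set.mem_ofPred_eq, not_not]
  constructor
  · rintro ⟨y, hy⟩
    rw [Set.range_eq_empty, Submodule.span_empty] at hy
    exact ⟨fun a b => by
      have ha : a ∈ (⊥ : Submodule (X.presheaf.stalk x) (F.presheaf.stalk x)) := hy ▸ trivial
      have hb : b ∈ (⊥ : Submodule (X.presheaf.stalk x) (F.presheaf.stalk x)) := hy ▸ trivial
      rw [(Submodule.mem_bot _).1 ha, (Submodule.mem_bot _).1 hb]⟩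
  · intro h
    exact ⟨Fin.elim0, Subsingleton.elim _ _⟩

theorem fitting_exists_notMem (F : X.Modules) (hF : Coh.IsQCoh F) (hft : CohB1.IsFT F) (x : X) :
    ∃ r : ℕ, x ∉ (Fitt.sheafIdeal F r).support := by
  haveI : F.IsFiniteType := hft
  haveI := finite_stalk_of_isFiniteType (M := F) x
  obtain ⟨n, y, hy⟩ := Module.Finite.exists_fin (R := X.presheaf.stalk x) (M := F.presheaf.stalk x)
  exact ⟨n, (notMem_support_fitting_iff F hF hft n x).2 ⟨y, hy⟩⟩

lemma germComb_surjective_iff {M : X.Modules} {U : X.Opens} {n : ℕ} (s : Fin n → Γ(M, U)) (x : X)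
    (hx : x ∈ U) :
    Function.Surjective (germComb s x hx) ↔
      Submodule.span (X.presheaf.stalk x) (Set.range fun i => germM M U x hx (s i)) = ⊤ := by
  rw [← Fintype.range_linearCombination, LinearMap.range_eq_top]
  have : ⇑(Fintype.linearCombination (X.presheaf.stalk x) fun i => germM M U x hx (s i)) =
      germComb s x hx := funext fun c => by rw [Fintype.linearCombination_apply]; rfl
  rw [this]

theorem exists_nhd_free (F : X.Modules) (hF : Coh.IsQCoh F) (hft : CohB1.IsFT F) {r : ℕ} (x : X)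
    (b : Fin r → F.presheaf.stalk x)
    (hb : Submodule.span (X.presheaf.stalk x) (Set.range b) = ⊤)
    (h1 : ∀ k : ℕ, k < r → Fitt.sheafIdeal F k = ⊥) :
    ∃ W : X.Opens, x ∈ W ∧ Nonempty (F.restrict W.ι ≅ FlatMod.freeMod (↑W) r) := by
  haveI : F.IsFiniteType := hft
  obtain ⟨U, hx, s, hs⟩ := exists_lift_family x b
  obtain ⟨W, hW, hxW, hWs⟩ := exists_nhd_surjective s hx
    ((germComb_surjective_iff s x hx).2 (by simpa only [hs] using hb))
  refine ⟨W, hxW, nonempty_iso_of_stalkBasis (s := fun i => res F hW (s i)) fun y hy => ?_⟩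
  have hspan := (germComb_surjective_iff s y (hW hy)).1 (hWs y hy)
  obtain ⟨B, hB⟩ : ∃ B : Module.Basis (Fin r) (X.presheaf.stalk y) (F.presheaf.stalk y), True :=
    ⟨(Fit14.free_of_gens_of_ideal_eq_bot _ hspan fun k hk => by
      rw [← fitting_stalkIdeal F hF hft, h1 k hk, stalkIdeal_bot]).some, trivial⟩
  let e : F.presheaf.stalk y ≃ₗ[X.presheaf.stalk y] (Fin r → X.presheaf.stalk y) := B.equivFun
  let l := Fintype.linearCombination (X.presheaf.stalk y) fun i => germM F U y (hW hy) (s i)
  have hl : ⇑l = germComb s y (hW hy) := funext fun c => by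
    rw [Fintype.linearCombination_apply]; rfl
  have hsurj : Function.Surjective (e.toLinearMap ∘ₗ l) :=
    e.surjective.comp (by rw [hl]; exact hWs y hy)
  have hbij : Function.Bijective (e.toLinearMap ∘ₗ l) :=
    ⟨OrzechProperty.injective_of_surjective_endomorphism _ hsurj, hsurj⟩
  have : Function.Bijective l := (Function.Bijective.of_comp_iff' e.bijective l).1 hbij
  rw [funext (germComb_res s hW y hy), ← hl]
  exact this

/-- A finite type quasi-coherent module on an integral scheme is free near the generic point. -/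
theorem exists_open_free [IsIntegral X] (F : X.Modules) (hF : Coh.IsQCoh F) (hft : CohB1.IsFT F) :
    ∃ U : X.Opens, (U : Set X).Nonempty ∧ Nonempty (F.restrict U.ι ≅ FlatMod.freeMod (↑U)
      (Module.finrank ↑(X.presheaf.stalk (genericPoint X)) ↑(F.presheaf.stalk (genericPoint X)))) := by
  haveI : F.IsFiniteType := hft
  haveI := finite_stalk_of_isFiniteType (M := F) (genericPoint X)
  letI : Field (X.presheaf.stalk (genericPoint X)) := inferInstanceAs (Field X.functionField)
  let b := Module.finBasis (X.presheaf.stalk (genericPoint X)) (F.presheaf.stalk (genericPoint X))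
  have h1 : ∀ k < Module.finrank (X.presheaf.stalk (genericPoint X))
      (F.presheaf.stalk (genericPoint X)), Fitt.sheafIdeal F k = ⊥ := by
    intro k hk
    refine Scheme.IdealSheafData.ext (funext fun U => ?_)
    refine eq_bot_iff.2 fun a ha => ?_
    rw [Ideal.mem_bot]
    by_cases hU : U.1 = ⊥
    · haveI : Subsingleton Γ(X, U.1) := by
        rw [hU]; infer_instance
      exact Subsingleton.elim _ _
    · obtain ⟨y, hy⟩ := U.1.ne_bot_iff_nonempty.1 hU
      have hη : genericPoint X ∈ U.1 := ((genericPoint_spec X).specializes trivial).mem_open U.1.2 hy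
      haveI : Nonempty U.1 := ⟨⟨y, hy⟩⟩
      apply (injective_iff_map_eq_zero _).1 (germ_injective_of_isIntegral X (genericPoint X) hη)
      have := Ideal.mem_map_of_mem (X.presheaf.germ U.1 (genericPoint X) hη).hom ha
      rwa [← stalkIdeal_eq _ U (genericPoint X) hη, fitting_stalkIdeal F hF hft,
        Fit14.ideal_of_free, if_neg (by omega), Ideal.mem_bot] at this
  obtain ⟨W, hW, e⟩ := exists_nhd_free F hF hft (genericPoint X) b b.span_eq h1
  exact ⟨W, ⟨_, hW⟩, e⟩

theorem finLocFreeOfRank_iff_fitting (F : X.Modules) (hF : Coh.IsQCoh F) (hft : CohB1.IsFT F)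
    (r : ℕ) :
    FlatMod.IsFinLocFreeOfRank r F ↔
      (∀ k : ℕ, k < r → Fitt.sheafIdeal F k = ⊥) ∧ (∀ k : ℕ, r ≤ k → Fitt.sheafIdeal F k = ⊤) := by
  haveI : F.IsFiniteType := hft
  constructor
  · intro h
    have key : ∀ x k, stalkIdeal (Fitt.sheafIdeal F k) x =
        if r ≤ k then (⊤ : Ideal (X.presheaf.stalk x)) else ⊥ := by
      intro x k
      obtain ⟨U, hx, ⟨e⟩⟩ := h x
      obtain ⟨s, hs⟩ := exists_stalkBasis_of_iso e
      haveI := hs.finite_stalk x hx
      haveI := hs.free_stalk x hx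
      rw [fitting_stalkIdeal F hF hft, Fit14.ideal_of_free, ← (hs.stalkEquiv x hx).finrank_eq,
        Module.finrank_fin_fun]
    exact ⟨fun k hk => ext_stalkIdeal fun x => by rw [key, if_neg (by omega), stalkIdeal_bot],
      fun k hk => ext_stalkIdeal fun x => by rw [key, if_pos hk, stalkIdeal_top]⟩
  · rintro ⟨h1, h2⟩ x
    haveI := fun y : X => finite_stalk_of_isFiniteType (M := F) y
    obtain ⟨b, hb⟩ := Fit14.exists_gens_of_ideal_eq_top (R := X.presheaf.stalk x)
      (M := F.presheaf.stalk x) (k := r)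
      (by rw [← fitting_stalkIdeal F hF hft, h2 r le_rfl, stalkIdeal_top])
    exact exists_nhd_free F hF hft x b hb h1

theorem fitting_epi_iff (F : X.Modules) (hF : Coh.IsQCoh F) (hft : CohB1.IsFT F) (x : X) (r : ℕ) :
    (∃ U : X.Opens, x ∈ U ∧ ∃ π : FlatMod.freeMod (↑U) r ⟶ F.restrict U.ι, Epi π) ↔
      x ∉ (Fitt.sheafIdeal F r).support := by
  rw [notMem_support_fitting_iff F hF hft]
  haveI : F.IsFiniteType := hft
  constructor
  · rintro ⟨U, hx, π, hπ⟩
    let v : Fin r → Γ(F.restrict U.ι, ⊤) := fun i => π.app ⊤ (unitVec _ r i)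
    let s : Fin r → Γ(F, U) := fun i =>
      res F U.ι_image_top.ge ((F.restrictAppIso U.ι ⊤).hom (v i))
    refine ⟨fun i => germM F U x hx (s i), (germComb_surjective_iff s x hx).1 fun z => ?_⟩
    obtain ⟨V, hxV, w, rfl⟩ := germM_exist z
    let W := U.ι ⁻¹ᵁ V
    have hW : U.ι ''ᵁ W ≤ V := U.ι.image_preimage_le V
    obtain ⟨W', hW', p, hxW', hp⟩ := exists_local_lift π
      ((F.restrictAppIso U.ι W).inv (res F hW w)) (p := ⟨x, hx⟩) hxV
    obtain ⟨a, rfl⟩ := free_exists_comb p
    have hy : x ∈ U.ι ''ᵁ W' := ⟨⟨x, hx⟩, hxW', rfl⟩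
    refine ⟨fun i => X.presheaf.germ _ x hy ((U.ι.appIso W').inv (a i)), ?_⟩
    rw [← germ_comb s ((U.ι.image_mono le_top).trans U.ι_image_top.le)]
    have hcomb : (F.restrictAppIso U.ι W').hom (π.app W' (∑ i, a i • res _ le_top (unitVec _ r i))) =
        ∑ i, (U.ι.appIso W').inv (a i) •
          res F ((U.ι.image_mono le_top).trans U.ι_image_top.le) (s i) := by
      rw [map_sum]
      simp only [Scheme.Modules.Hom.app_smul, app_res]
      rw [restrictAppIso_comb]
      exact Finset.sum_congr rfl fun i _ => by rw [res_res]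
    rw [← hcomb, hp]
    refine Eq.trans ?_ (germM_res ((U.ι.image_mono hW').trans hW) hy w)
    congr 1
    exact res_res hW (U.ι.image_mono hW') w
  · rintro ⟨b, hb⟩
    obtain ⟨U, hx, s, hs⟩ := exists_lift_family x b
    obtain ⟨W, hW, hxW, hWs⟩ := exists_nhd_surjective s hx
      ((germComb_surjective_iff s x hx).2 (by simpa only [hs] using hb))
    let N := F.restrict W.ι
    let t : Fin r → Γ(N, ⊤) := fun i =>
      (F.restrictAppIso W.ι ⊤).inv (res F (W.ι_image_top.le.trans hW) (s i))
    let g : ∀ _ : Fin r, Coh.structureModule W.toScheme ⟶ N := fun i =>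
      N.unitHomEquiv.symm ⟨fun V => res N (le_top : V.unop ≤ ⊤) (t i),
        fun {V _} j => res_res (le_top : V.unop ≤ ⊤) (leOfHom j.unop) (t i)⟩
    let ψ : FlatMod.freeMod W.toScheme r ⟶ N := Sigma.desc g
    have hg : ∀ i, ψ.app ⊤ (unitVec _ r i) = t i := by
      intro i
      change (Sigma.ι (fun _ : Fin r => Coh.structureModule W.toScheme) i ≫ ψ).app ⊤ (toUnit 1) = _
      rw [Sigma.ι_desc]
      refine (one_smul Γ(W.toScheme, ⊤) _).trans ?_
      exact res_self (t i)
    refine ⟨W, hxW, ψ, epi_of_locally_surjective ψ fun V z q hq => ?_⟩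
    have hV : W.ι ''ᵁ V ≤ U := ((W.ι.image_mono le_top).trans W.ι_image_top.le).trans hW
    have hqV : q.1 ∈ W.ι ''ᵁ V := ⟨q, hq, rfl⟩
    obtain ⟨c, hc⟩ := hWs q.1 q.2 (germM F (W.ι ''ᵁ V) q.1 hqV ((F.restrictAppIso W.ι V).hom z))
    obtain ⟨O, hO, hqO, a, ha⟩ := exists_common_lift (U := W.ι ''ᵁ V) hqV c
    obtain ⟨O', hO', hqO', e⟩ := exists_comb_eq (hO.trans hV) a
      (res F hO ((F.restrictAppIso W.ι V).hom z)) hqO (by rw [funext ha, germM_res]; exact hc)
    let V' := W.ι ⁻¹ᵁ O'
    have hV'O : W.ι ''ᵁ V' ≤ O' := W.ι.image_preimage_le O'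
    have hV' : V' ≤ V := fun p hp => by
      obtain ⟨p', hp', hpp⟩ := hO (hO' hp)
      rwa [Subtype.ext hpp] at hp'
    refine ⟨V', hV', ∑ i, (W.ι.appIso V').hom (resO X (hV'O.trans hO') (a i)) •
      res _ le_top (unitVec _ r i), hqO', ?_⟩
    apply (ConcreteCategory.bijective_of_isIso (F.restrictAppIso W.ι V').hom).1
    rw [map_sum]
    simp only [Scheme.Modules.Hom.app_smul, app_res, hg]
    rw [restrictAppIso_comb]
    simp only [Iso.hom_inv_id_apply, t, Iso.inv_hom_id_apply, res_res]
    have := congrArg (res F hV'O) e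
    rw [res_res, res_res, res_sum] at this
    refine Eq.trans (Finset.sum_congr rfl fun i _ => ?_) (this.trans ?_)
    · rw [res_smul, resO_resO, res_res]
    · rfl

end Groth.Agent.Div89
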