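import Groth.Agent.Div89.Fitting
import Groth.Agent.Om3.Finite
import Groth.Agent.Om3.ExtPowOmega
import Groth.Agent.Omega57.StalkZero
import Groth.Agent.SchBasics.UnramAt

/-!
Fitting ideals of the module of differentials.
-/

set_option autoImplicit false
set_option linter.style.haveILetI false
set_option backward.isDefEq.respectTransparency.types false

universe u

open CategoryTheory CategoryTheory.Limits AlgebraicGeometry TopologicalSpace

namespace Groth.Agent.Div89

/-- The Fitting ideal sheaves only depend on the isomorphism class. -/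
theorem fitting_congr {X : Scheme.{u}} {M N : X.Modules} (e : M ≅ N) (hM : Coh.IsQCoh M) (hMt : CohB1.IsFT M)
    (hN : Coh.IsQCoh N) (hNt : CohB1.IsFT N) (r : ℕ) : Fitt.sheafIdeal M r = Fitt.sheafIdeal N r := by
  refine Scheme.IdealSheafData.ext (funext fun U => ?_)
  rw [fitting_ideal_eq M hM hMt r U, fitting_ideal_eq N hN hNt r U]
  haveI : M.IsQuasicoherent := hM
  haveI : M.IsFiniteType := hMt
  haveI := QC70.finite_sections_of_isFiniteType M U.2
  exact Fit14.ideal_congr (sectionsEquiv e U.1) r

theorem isFT_omegaSheaf {X S : Scheme.{u}} (f : X ⟶ S) [LocallyOfFiniteType f] [QuasiSeparated f] :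
    CohB1.IsFT (Omega.sheaf f) :=
  Om3.isFT_omega (Var76.OmegaUniv.isUniversal f)

/-- Fitting ideals of differentials commute with base change. -/
theorem fitting_omega_comap {X S S' : Scheme.{u}} (f : X ⟶ S) [LocallyOfFiniteType f] [QuasiSeparated f]
    (g : S' ⟶ S) (i : ℕ) :
    (Fitt.sheafIdeal (Omega.sheaf f) i).comap (pullback.fst f g) =
      Fitt.sheafIdeal (Omega.sheaf (pullback.snd f g)) i := by
  have hF : Coh.IsQCoh (Omega.sheaf f) := Omega57.isQuasicoherent_omega f
  have hF' : Coh.IsQCoh (Omega.sheaf (pullback.snd f g)) := Omega57.isQuasicoherent_omega _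
  haveI : QuasiSeparated (pullback.snd f g) := MorphismProperty.pullback_snd _ _ inferInstance
  haveI : LocallyOfFiniteType (pullback.snd f g) := MorphismProperty.pullback_snd _ _ inferInstance
  have sq : IsPullback (pullback.fst f g) (pullback.snd f g) f g := IsPullback.of_hasPullback f g
  obtain ⟨c, hc, -⟩ := Om3.existsUnique_diffCompat (pullback.fst f g) sq.w.symm (Var76.OmegaUniv.isUniversal f)
    (OmegaSh.dOmega (pullback.snd f g))
  haveI := Om3.isIso_of_isPullback f g (pullback.fst f g) (pullback.snd f g) sq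
    (Var76.OmegaUniv.isUniversal f) (Var76.OmegaUniv.isUniversal (pullback.snd f g)) c hc
  rw [fitting_comap _ _ hF (isFT_omegaSheaf f) i]
  haveI : (Omega.sheaf f).IsQuasicoherent := hF
  haveI : (Omega.sheaf f).IsFiniteType := isFT_omegaSheaf f
  exact fitting_congr (asIso c) (QCPull72.isQuasicoherent_pullback _ _) (QCPull72.isFiniteType_pullback _ _) hF'
    (isFT_omegaSheaf _) i

end Groth.Agent.Div89

namespace Groth.Agent.Div89

/-- The stalk of the differentials vanishes exactly at unramified points. -/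
theorem omega_stalk_subsingleton_iff {X S : Scheme.{u}} (f : X ⟶ S) [LocallyOfFiniteType f] [QuasiSeparated f] (x : X) :
    Subsingleton ((Omega.sheaf f).presheaf.stalk x) ↔ (f.stalkMap x).hom.FormallyUnramified := by
  obtain ⟨V, hV, hxV, -⟩ := exists_isAffineOpen_mem_and_subset (X := S) (x := f x) (U := ⊤) trivial
  obtain ⟨U, hU, hxU, hUV⟩ := exists_isAffineOpen_mem_and_subset (show x ∈ f ⁻¹ᵁ V from hxV)
  letI := (f.appLE V U hUV).hom.toAlgebra
  letI := ((X.presheaf.germ U x hxU).hom.comp (f.appLE V U hUV).hom).toAlgebra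
  letI := (f.stalkMap x).hom.toAlgebra
  letI := (S.presheaf.germ V (f x) hxV).hom.toAlgebra
  haveI : IsScalarTower Γ(S, V) (S.presheaf.stalk (f x)) (X.presheaf.stalk x) := by
    refine IsScalarTower.of_algebraMap_eq fun a => ?_
    show X.presheaf.germ U x hxU (f.appLE V U hUV a) = f.stalkMap x (S.presheaf.germ V (f x) hxV a)
    rw [Scheme.Hom.germ_stalkMap_apply, Scheme.Hom.appLE, ConcreteCategory.comp_apply,
      TopCat.Presheaf.germ_res_apply]
  haveI : IsLocalization.AtPrime (S.presheaf.stalk (f x)) (hV.primeIdealOf ⟨f x, hxV⟩).asIdeal :=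
    hV.isLocalization_stalk ⟨f x, hxV⟩
  haveI : Algebra.FormallyUnramified Γ(S, V) (S.presheaf.stalk (f x)) :=
    .of_isLocalization (hV.primeIdealOf ⟨f x, hxV⟩).asIdeal.primeCompl
  rw [Omega57.omega_stalk_iff f ⟨U, hU⟩ ⟨V, hV⟩ hUV x hxU]
  exact ⟨fun _ => Algebra.FormallyUnramified.of_restrictScalars Γ(S, V) _ _,
    fun (_ : Algebra.FormallyUnramified (S.presheaf.stalk (f x)) (X.presheaf.stalk x)) =>
      Algebra.FormallyUnramified.comp _ (S.presheaf.stalk (f x)) _⟩

/-- The zeroth Fitting ideal of the differentials cuts out the ramification locus. -/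
theorem mem_support_fitting_zero_omega_iff {X S : Scheme.{u}} (f : X ⟶ S) [LocallyOfFiniteType f] [QuasiSeparated f]
    (x : X) : x ∈ (Fitt.sheafIdeal (Omega.sheaf f) 0).support ↔
      ¬ ∃ U : X.Opens, x ∈ U ∧ FormallyUnramified (U.ι ≫ f) := by
  rw [SchBasics.exists_formallyUnramified_iff_stalkMap, ← omega_stalk_subsingleton_iff]
  exact Set.ext_iff.1 (fitting_support_zero _ (Omega57.isQuasicoherent_omega f) (isFT_omegaSheaf f)) x

end Groth.Agent.Div89
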