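import Groth.Agent.Var76.ZeroScheme
import Groth.Agent.Mero90.Frames
import Groth.Agent.QC70.Closure
import Mathlib.AlgebraicGeometry.FunctionField

/-!
Coordinates of sections of an invertible module on an integral scheme with respect to a frame.
-/

set_option autoImplicit false
set_option linter.unusedSectionVars false
set_option backward.isDefEq.respectTransparency.types false

universe u

open CategoryTheory AlgebraicGeometry TopologicalSpace Opposite

noncomputable section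

namespace Groth.Agent.Div89.Coord

open Var76.LineBundle Var76.ZeroScheme

variable {X : Scheme.{u}} [IsIntegral X]

theorem gen_mem {U : X.Opens} {x : X} (hx : x ∈ U) : genericPoint X ∈ U :=
  ((genericPoint_spec X).specializes trivial).mem_open U.2 hx

/-- The germ of a function at the generic point. -/
def gK (U : X.Opens) (hU : genericPoint X ∈ U) : Γ(X, U) →+* X.functionField :=
  (X.presheaf.germ U (genericPoint X) hU).hom

theorem gK_res {U V : X.Opens} (h : V ≤ U) (hV : genericPoint X ∈ V) (a : Γ(X, U)) :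
    gK V hV (fres h a) = gK U (h hV) a :=
  TopCat.Presheaf.germ_res_apply X.presheaf (homOfLE h) _ hV a

theorem gK_injective (U : X.Opens) (hU : genericPoint X ∈ U) : Function.Injective (gK U hU) :=
  have : Nonempty U := ⟨⟨_, hU⟩⟩
  germ_injective_of_isIntegral X (genericPoint X) hU

variable {L : X.Modules} {U₀ : X.Opens} {e₀ : Γ(L, U₀)} (he₀ : IsFrame L U₀ e₀)
  (hU₀ : genericPoint X ∈ U₀)

/-- The coordinate of a section with respect to a frame. -/
def co {U : X.Opens} (hU : genericPoint X ∈ U) (m : Γ(L, U)) : X.functionField :=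
  gK (U ⊓ U₀) ⟨hU, hU₀⟩ ((he₀ (U ⊓ U₀) inf_le_right).2 (res L inf_le_left m)).choose

theorem co_eq {U W : X.Opens} (hU : genericPoint X ∈ U) (m : Γ(L, U)) (hW : W ≤ U) (hW₀ : W ≤ U₀)
    (hWx : genericPoint X ∈ W) (a : Γ(X, W)) (ha : a • res L hW₀ e₀ = res L hW m) :
    co he₀ hU₀ hU m = gK W hWx a := by
  have h := ((he₀ (U ⊓ U₀) inf_le_right).2 (res L inf_le_left m)).choose_spec
  set b := ((he₀ (U ⊓ U₀) inf_le_right).2 (res L inf_le_left m)).choose
  have hWle : W ≤ U ⊓ U₀ := le_inf hW hW₀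
  have h2 : fres hWle b = a := by
    refine (he₀ W hW₀).1 ?_
    show fres hWle b • res L hW₀ e₀ = a • res L hW₀ e₀
    rw [ha]
    have h3 := congrArg (res L hWle) h
    rw [res_smul, res_res, res_res] at h3
    exact h3
  rw [co, ← h2, gK_res]

theorem co_res {U V : X.Opens} (h : V ≤ U) (hV : genericPoint X ∈ V) (m : Γ(L, U)) :
    co he₀ hU₀ hV (res L h m) = co he₀ hU₀ (h hV) m := by
  obtain ⟨a, ha⟩ := (he₀ (V ⊓ U₀) inf_le_right).2 (res L inf_le_left (res L h m))
  rw [co_eq he₀ hU₀ hV _ inf_le_left inf_le_right ⟨hV, hU₀⟩ a ha,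
    co_eq he₀ hU₀ (h hV) m (inf_le_left.trans h) inf_le_right ⟨hV, hU₀⟩ a (by rw [← res_res L h]; exact ha)]

theorem co_smul {U : X.Opens} (hU : genericPoint X ∈ U) (a : Γ(X, U)) (m : Γ(L, U)) :
    co he₀ hU₀ hU (a • m) = gK U hU a * co he₀ hU₀ hU m := by
  obtain ⟨b, hb⟩ := (he₀ (U ⊓ U₀) inf_le_right).2 (res L inf_le_left m)
  rw [co_eq he₀ hU₀ hU m inf_le_left inf_le_right ⟨hU, hU₀⟩ b hb,
    co_eq he₀ hU₀ hU (a • m) inf_le_left inf_le_right ⟨hU, hU₀⟩ (fres inf_le_left a * b)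
      (by rw [mul_smul, res_smul]; exact congrArg _ hb), map_mul, gK_res]

theorem co_frame_ne_zero {U : X.Opens} (hU : genericPoint X ∈ U) {e : Γ(L, U)} (he : IsFrame L U e) :
    co he₀ hU₀ hU e ≠ 0 := by
  intro h
  obtain ⟨a, ha⟩ := (he (U ⊓ U₀) inf_le_left).2 (res L inf_le_right e₀)
  have h1 : co he₀ hU₀ (show genericPoint X ∈ U ⊓ U₀ from ⟨hU, hU₀⟩) (a • res L inf_le_left e) = 1 := by
    rw [co_eq he₀ hU₀ _ _ le_rfl inf_le_right ⟨hU, hU₀⟩ 1
      (by rw [one_smul]; refine Eq.trans ?_ (congrArg (res L le_rfl) ha).symm; rw [res_res]),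
      map_one]
  rw [co_smul, co_res, h, mul_zero] at h1
  exact zero_ne_one h1

theorem eq_of_co (hL : PicF.IsInvertible L) {U : X.Opens} {m m' : Γ(L, U)}
    (h : ∀ hU : genericPoint X ∈ U, co he₀ hU₀ hU m = co he₀ hU₀ hU m') : m = m' := by
  refine eq_of_locally L _ _ fun x hx => ?_
  obtain ⟨W, hxW, e, he⟩ := Mero90.exists_frame' hL x
  refine ⟨W ⊓ U, inf_le_right, ⟨hxW, hx⟩, ?_⟩
  have hWU : genericPoint X ∈ W ⊓ U := gen_mem (show x ∈ W ⊓ U from ⟨hxW, hx⟩)
  obtain ⟨a, ha⟩ := (he (W ⊓ U) inf_le_left).2 (res L inf_le_right m)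
  obtain ⟨b, hb⟩ := (he (W ⊓ U) inf_le_left).2 (res L inf_le_right m')
  have hab : a = b := by
    refine gK_injective _ hWU (mul_right_cancel₀
      (co_frame_ne_zero he₀ hU₀ hWU (he.res inf_le_left)) ?_)
    rw [← co_smul, ← co_smul]
    show co he₀ hU₀ hWU ((fun c : Γ(X, W ⊓ U) => c • res L inf_le_left e) a) =
      co he₀ hU₀ hWU ((fun c : Γ(X, W ⊓ U) => c • res L inf_le_left e) b)
    rw [ha, hb, co_res, co_res, h]
  rw [← ha, ← hb, hab]

theorem exists_of_co (hL : PicF.IsInvertible L) {U : X.Opens} (k : X.functionField)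
    (h : ∀ x ∈ U, ∃ (W : X.Opens) (hxW : x ∈ W) (m : Γ(L, W)), co he₀ hU₀ (gen_mem hxW) m = k) :
    ∃ m : Γ(L, U), ∀ hU : genericPoint X ∈ U, co he₀ hU₀ hU m = k := by
  choose W hW m hm using h
  let V : U → X.Opens := fun x => W x.1 x.2 ⊓ U
  obtain ⟨t, ht⟩ := QC70.exists_glue L V (fun x => inf_le_right)
    (fun y hy => Opens.mem_iSup.2 ⟨⟨y, hy⟩, hW y hy, hy⟩)
    (fun x => res L inf_le_left (m x.1 x.2)) (fun x y => by
      show res L _ (res L _ _) = res L _ (res L _ _)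
      rw [res_res, res_res]
      refine eq_of_co he₀ hU₀ hL fun h' => ?_
      rw [co_res, co_res]
      exact (hm x.1 x.2).trans (hm y.1 y.2).symm)
  refine ⟨t, fun hU => ?_⟩
  have h1 : genericPoint X ∈ V ⟨_, hU⟩ := ⟨hW _ hU, hU⟩
  rw [← co_res he₀ hU₀ (inf_le_right : V ⟨_, hU⟩ ≤ U) h1]
  refine (congrArg (co he₀ hU₀ h1) (ht ⟨_, hU⟩)).trans ?_
  rw [co_res]
  exact hm _ hU

end Groth.Agent.Div89.Coord
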