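import Groth.Agent.Div89.DescUnit
import Groth.Agent.Div89.FrameCoord
import Groth.Agent.Cyc90.Gen
import Groth.Agent.Amp73.Gen
import Groth.Agent.Props58.PullTensor
import Groth.Agent.FlatMor68.FibreStalk
import Groth.Agent.SubMod72.ToModules
import Groth.Agent.E4O.DvrCrit
import Groth.Prelude.Def_ega3
import Groth.Prelude.Def_Pi1

/-!
Invertible modules trivial on the generic fibre of a flat morphism with integral fibres to a normal base.
-/

set_option autoImplicit false
set_option linter.style.haveILetI false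
set_option linter.unusedSectionVars false
set_option backward.isDefEq.respectTransparency.types false

universe u

open CategoryTheory AlgebraicGeometry TopologicalSpace Opposite IsLocalRing
open scoped nonZeroDivisors

noncomputable section

namespace Groth.Agent.Div89.GenTriv

open Var76.LineBundle Var76.ZeroScheme Coord

variable {X Y : Scheme.{u}}

theorem app_fres (φ : X ⟶ Y) {W W' : Y.Opens} (h : W' ≤ W) (a : Γ(Y, W)) :
    φ.app W' (fres h a) = X.presheaf.map (homOfLE (φ.preimage_mono h)).op (φ.app W a) :=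
  ConcreteCategory.congr_hom (φ.naturality (homOfLE h).op) a

section Stalks

variable (φ : X ⟶ Y)

theorem comap_genPrime {z x : X} (h : z ⤳ x) :
    (Cyc90.genPrime h).asIdeal.comap (φ.stalkMap x).hom =
      (Cyc90.genPrime (h.map φ.continuous)).asIdeal := by
  show Ideal.comap (φ.stalkMap x).hom (Ideal.comap (X.presheaf.stalkSpecializes h).hom (maximalIdeal _)) =
    Ideal.comap (Y.presheaf.stalkSpecializes (h.map φ.continuous)).hom (maximalIdeal _)
  rw [Ideal.comap_comap, ← CommRingCat.hom_comp, ← Scheme.Hom.stalkSpecializes_stalkMap φ z x h,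
    CommRingCat.hom_comp, ← Ideal.comap_comap]
  have : (maximalIdeal (X.presheaf.stalk z)).comap (φ.stalkMap z).hom = maximalIdeal _ :=
    ((IsLocalRing.local_hom_TFAE (φ.stalkMap z).hom).out 0 4).mp
      (show IsLocalHom (φ.stalkMap z).hom from inferInstance)
  rw [this]

theorem isPrime_map_stalk [Flat φ] (hfib : ∀ y : Y, IsIntegral (φ.fiber y)) (x : X)
    (p : Ideal (Y.presheaf.stalk (φ x))) [p.IsPrime] : (p.map (φ.stalkMap x).hom).IsPrime := by
  letI := (φ.stalkMap x).hom.toAlgebra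
  haveI : Module.Flat (Y.presheaf.stalk (φ x)) (X.presheaf.stalk x) := Flat.stalkMap φ x
  haveI : IsLocalHom (algebraMap (Y.presheaf.stalk (φ x)) (X.presheaf.stalk x)) :=
    inferInstanceAs (IsLocalHom (φ.stalkMap x).hom)
  haveI : Module.FaithfullyFlat (Y.presheaf.stalk (φ x)) (X.presheaf.stalk x) :=
    Module.FaithfullyFlat.of_flat_of_isLocalHom
  let pp : PrimeSpectrum (Y.presheaf.stalk (φ x)) := ⟨p, inferInstance⟩
  set y' : Y := (Y.fromSpecStalk (φ x)).base pp with hy'
  have hgen : ∀ (z : Y) (h : z ⤳ φ x), z = y' → (Cyc90.genPrime h).asIdeal = p := fun z h e => by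
    subst e
    rw [Cyc90.genPrime_fromSpecStalk]
  haveI := hfib y'
  set F := φ.fiber y'
  have hfibre : ∀ w : F, φ (φ.fiberι y' w) = y' := fun w => by
    have := Set.mem_range_self (f := φ.fiberι y') w
    rwa [Scheme.Hom.range_fiberι] at this
  have hlift : ∀ Q : Ideal (X.presheaf.stalk x), ∀ _ : Q.IsPrime,
      Q.comap (φ.stalkMap x).hom = p → ∃ (w : F) (h : φ.fiberι y' w ⤳ x),
        (Cyc90.genPrime h).asIdeal = Q := by
    intro Q hQ hQp
    let qq : PrimeSpectrum (X.presheaf.stalk x) := ⟨Q, hQ⟩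
    have hz : φ ((X.fromSpecStalk x).base qq) = y' := by
      have h1 := comap_genPrime φ (Cyc90.fromSpecStalk_specializes qq)
      rw [Cyc90.genPrime_fromSpecStalk] at h1
      refine (Cyc90.genPrime_eq_iff ((Cyc90.fromSpecStalk_specializes qq).map φ.continuous)
        (Cyc90.fromSpecStalk_specializes pp)).1 (PrimeSpectrum.ext ?_)
      rw [Cyc90.genPrime_fromSpecStalk pp]
      exact h1.symm.trans hQp
    obtain ⟨w, hw⟩ : (X.fromSpecStalk x).base qq ∈ Set.range (φ.fiberι y') := by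
      rw [Scheme.Hom.range_fiberι]; exact hz
    have key : ∀ (z : X) (h : z ⤳ x), z = (X.fromSpecStalk x).base qq → (Cyc90.genPrime h).asIdeal = Q :=
      fun z h e => by subst e; rw [Cyc90.genPrime_fromSpecStalk]
    exact ⟨w, hw ▸ Cyc90.fromSpecStalk_specializes qq, key _ _ hw⟩
  obtain ⟨Q₀, hQ₀⟩ := PrimeSpectrum.comap_surjective_of_faithfullyFlat (B := X.presheaf.stalk x) pp
  obtain ⟨w₀, hw₀, -⟩ := hlift Q₀.asIdeal Q₀.2 (congrArg PrimeSpectrum.asIdeal hQ₀)
  have hgw : ∀ w : F, φ.fiberι y' (genericPoint F) ⤳ φ.fiberι y' w := fun w =>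
    ((genericPoint_spec F).specializes trivial).map (φ.fiberι y').continuous
  set P := (Cyc90.genPrime ((hgw w₀).trans hw₀)).asIdeal with hP
  suffices hPeq : p.map (φ.stalkMap x).hom = P by rw [hPeq]; exact (Cyc90.genPrime _).2
  refine le_antisymm (Ideal.map_le_iff_le_comap.2 ?_) fun b hb => ?_
  · rw [hP, comap_genPrime, hgen _ _ (hfibre _)]
  by_contra hbI
  let I : Ideal (X.presheaf.stalk x) :=
    { carrier := {c : X.presheaf.stalk x | c * b ∈ p.map (φ.stalkMap x).hom}
      zero_mem' := by simp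
      add_mem' := fun {c d} hc hd => by
        simp only [Set.mem_setOf_eq] at hc hd ⊢
        rw [add_mul]; exact add_mem hc hd
      smul_mem' := fun r c hc => by
        simp only [Set.mem_setOf_eq, smul_eq_mul] at hc ⊢
        rw [mul_assoc]; exact Ideal.mul_mem_left _ r hc }
  let M : Submonoid (X.presheaf.stalk x) := p.primeCompl.map (φ.stalkMap x).hom
  have hdisj : Disjoint (I : Set (X.presheaf.stalk x)) (M : Set (X.presheaf.stalk x)) := by
    refine Set.disjoint_left.2 ?_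
    rintro _ hc ⟨s, hs, rfl⟩
    exact hbI (DescUnit.mem_map_of_mul_mem (A := Y.presheaf.stalk (φ x)) (I := p) (J := p) s
      (fun _ hz => Ideal.mul_mem_left _ _ hz)
      (fun c hc => (Ideal.IsPrime.mem_or_mem inferInstance hc).resolve_left hs) hc)
  obtain ⟨Q, hQ, hIQ, hQM⟩ := Ideal.exists_le_prime_disjoint I M hdisj
  have hQp : Q.comap (φ.stalkMap x).hom = p := by
    refine le_antisymm (fun s hs => by_contra fun hsp => ?_) fun s hs => ?_
    · exact Set.disjoint_left.1 hQM hs ⟨s, hsp, rfl⟩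
    · exact hIQ (Ideal.mul_mem_right _ _ (Ideal.mem_map_of_mem _ hs))
  obtain ⟨w, hw, hwQ⟩ := hlift Q hQ hQp
  set z := φ.fiberι y' w
  -- `b` vanishes in the fibre at `w`
  have hbz : (X.presheaf.stalkSpecializes hw).hom b ∈
      RingHom.ker ((φ.fiberι y').stalkMap w).hom := by
    rw [RingHom.mem_ker]
    have hinj : Function.Injective (F.presheaf.stalkSpecializes ((genericPoint_spec F).specializes trivial :
        genericPoint F ⤳ w)).hom := IsFractionRing.injective (F.presheaf.stalk w) F.functionField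
    refine hinj ?_
    rw [map_zero]
    erw [← Scheme.Hom.stalkSpecializes_stalkMap_apply, TopCat.Presheaf.stalkSpecializes_comp_apply]
    haveI : IsLocalHom ((φ.fiberι y').stalkMap (genericPoint F)).hom := inferInstance
    by_contra h0
    have hu := IsLocalHom.map_nonunit _ (show IsUnit (((φ.fiberι y').stalkMap (genericPoint F)).hom _) from
      (Ne.isUnit (G₀ := F.functionField) h0))
    exact hb hu
  rw [FlatMor68.FibreStalk.ker_fiberι_stalkMap] at hbz
  letI := (Y.presheaf.stalkSpecializes (hw.map φ.continuous)).hom.toAlgebra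
  have hmax : maximalIdeal (Y.presheaf.stalk (φ z)) =
      p.map (Y.presheaf.stalkSpecializes (hw.map φ.continuous)).hom := by
    haveI := Cyc90.isLocalization_genPrime (hw.map φ.continuous)
    rw [← IsLocalization.AtPrime.map_eq_maximalIdeal (Cyc90.genPrime (hw.map φ.continuous)).asIdeal
      (Y.presheaf.stalk (φ z)), hgen _ _ (hfibre w)]
    rfl
  rw [hmax, Ideal.map_map, ← CommRingCat.hom_comp, Scheme.Hom.stalkSpecializes_stalkMap φ z x hw,
    CommRingCat.hom_comp, ← Ideal.map_map] at hbz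
  letI := (X.presheaf.stalkSpecializes hw).hom.toAlgebra
  haveI := Cyc90.isLocalization_genPrime hw
  obtain ⟨t, ht, htb⟩ := (IsLocalization.algebraMap_mem_map_algebraMap_iff
    (Cyc90.genPrime hw).asIdeal.primeCompl (X.presheaf.stalk z) _ b).1 hbz
  exact ht (hwQ.symm ▸ hIQ htb)

end Stalks

section Field

variable [IsIntegral X] [IsIntegral Y] (φ : X ⟶ Y) (hη : φ (genericPoint X) = genericPoint Y)

/-- The map of function fields. -/
def emb : Y.functionField →+* X.functionField :=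
  CohIII.stalkToFunctionField φ (genericPoint Y) (specializes_of_eq hη)

theorem gK_eq_algebraMap (U : X.Opens) (x : X) (hx : x ∈ U) (a : Γ(X, U)) :
    algebraMap (X.presheaf.stalk x) X.functionField ((X.presheaf.germ U x hx).hom a) =
      gK U (gen_mem hx) a :=
  (TopCat.Presheaf.germ_stalkSpecializes_apply X.presheaf hx _ a)

theorem emb_gK (V : Y.Opens) (hV : genericPoint Y ∈ V) (a : Γ(Y, V)) :
    emb φ hη (gK V hV a) = gK (φ ⁻¹ᵁ V) (hη ▸ hV : φ (genericPoint X) ∈ V) (φ.app V a) := by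
  show (φ.stalkMap (genericPoint X)).hom ((Y.presheaf.stalkSpecializes _).hom
    ((Y.presheaf.germ V _ hV).hom a)) = _
  erw [TopCat.Presheaf.germ_stalkSpecializes_apply]
  exact Scheme.Hom.germ_stalkMap_apply φ V _ _ a

theorem emb_toK (x : X) (a : Y.presheaf.stalk (φ x)) :
    emb φ hη (algebraMap (Y.presheaf.stalk (φ x)) Y.functionField a) =
      algebraMap (X.presheaf.stalk x) X.functionField ((φ.stalkMap x).hom a) := by
  show (φ.stalkMap (genericPoint X)).hom ((Y.presheaf.stalkSpecializes _).hom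
    ((Y.presheaf.stalkSpecializes _).hom a)) = _
  erw [TopCat.Presheaf.stalkSpecializes_comp_apply]
  exact Scheme.Hom.stalkSpecializes_stalkMap_apply φ (genericPoint X) x _ a

end Field

section Main

variable [IsIntegral X] [IsIntegral Y] (φ : X ⟶ Y) (hη : φ (genericPoint X) = genericPoint Y)
  {L : X.Modules} (hL : PicF.IsInvertible L) {U₀ : X.Opens} {e₀ : Γ(L, U₀)}
  (he₀ : IsFrame L U₀ e₀) (hU₀ : genericPoint X ∈ U₀)

/-- There is a frame near `x` with coordinate `k`. -/
def Good (x : X) (k : X.functionField) : Prop :=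
  ∃ (U : X.Opens) (hx : x ∈ U) (e : Γ(L, U)), IsFrame L U e ∧ co he₀ hU₀ (gen_mem hx) e = k

variable {φ he₀ hU₀}

include hL in
theorem exists_good (x : X) : ∃ k, Good he₀ hU₀ x k := by
  obtain ⟨U, hx, e, he⟩ := Mero90.exists_frame' hL x
  exact ⟨_, U, hx, e, he, rfl⟩

theorem Good.ne_zero {x : X} {k : X.functionField} (h : Good he₀ hU₀ x k) : k ≠ 0 := by
  obtain ⟨U, hx, e, he, rfl⟩ := h
  exact co_frame_ne_zero he₀ hU₀ _ he

theorem Good.mono {x x' : X} {k : X.functionField} (h : Good he₀ hU₀ x k) (hx : x' ⤳ x) :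
    Good he₀ hU₀ x' k := by
  obtain ⟨U, hxU, e, he, hk⟩ := h
  exact ⟨U, hx.mem_open U.2 hxU, e, he, hk⟩

theorem Good.ratio {x : X} {k k' : X.functionField} (h : Good he₀ hU₀ x k) (h' : Good he₀ hU₀ x k') :
    ∃ v : X.presheaf.stalk x, k' = algebraMap _ X.functionField v * k := by
  obtain ⟨U, hx, e, he, rfl⟩ := h
  obtain ⟨U', hx', e', -, rfl⟩ := h'
  have hm : x ∈ U ⊓ U' := ⟨hx, hx'⟩
  obtain ⟨a, ha⟩ := (he (U ⊓ U') inf_le_left).2 (res L inf_le_right e')
  refine ⟨(X.presheaf.germ _ x hm).hom a, ?_⟩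
  rw [gK_eq_algebraMap, ← co_res he₀ hU₀ (inf_le_right : U ⊓ U' ≤ U') (gen_mem hm) e',
    ← co_res he₀ hU₀ (inf_le_left : U ⊓ U' ≤ U) (gen_mem hm) e, ← co_smul]
  exact congrArg _ ha.symm

theorem Good.scale {x : X} {k : X.functionField} (h : Good he₀ hU₀ x k) {v : X.presheaf.stalk x}
    (hv : IsUnit v) : Good he₀ hU₀ x (algebraMap _ X.functionField v * k) := by
  obtain ⟨U, hx, e, he, rfl⟩ := h
  obtain ⟨W, hxW, a, rfl⟩ := X.presheaf.exists_germ_eq (x := x) v
  let W' : X.Opens := X.basicOpen a ⊓ U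
  have hW' : x ∈ W' := ⟨(X.mem_basicOpen a x hxW).2 hv, hx⟩
  let a' : Γ(X, W') := fres (inf_le_left.trans (X.basicOpen_le a)) a
  refine ⟨W', hW', a' • res L inf_le_right e, (Amp73.isFrame_smul_iff (he.res _) a').2 ?_, ?_⟩
  · have h := (show IsUnit (fres (X.basicOpen_le a) a) from X.toRingedSpace.isUnit_res_basicOpen a)
    have h2 := h.map (X.presheaf.map (homOfLE (inf_le_left : W' ≤ X.basicOpen a)).op).hom
    convert h2 using 1
    exact (fres_fres _ _ _).symm
  · rw [co_smul, co_res, gK_res, gK_eq_algebraMap]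

theorem emb_mem_imp [Flat φ] {x : X} (k : Y.functionField) (v : X.presheaf.stalk x)
    (h : emb φ hη k = algebraMap _ X.functionField v) :
    ∃ a : Y.presheaf.stalk (φ x), algebraMap _ Y.functionField a = k := by
  letI := (φ.stalkMap x).hom.toAlgebra
  haveI : Module.Flat (Y.presheaf.stalk (φ x)) (X.presheaf.stalk x) := Flat.stalkMap φ x
  haveI : IsLocalHom (algebraMap (Y.presheaf.stalk (φ x)) (X.presheaf.stalk x)) :=
    inferInstanceAs (IsLocalHom (φ.stalkMap x).hom)
  haveI : Module.FaithfullyFlat (Y.presheaf.stalk (φ x)) (X.presheaf.stalk x) :=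
    Module.FaithfullyFlat.of_flat_of_isLocalHom
  obtain ⟨a, b, hb, rfl⟩ := IsFractionRing.div_surjective (A := Y.presheaf.stalk (φ x)) k
  have hb0 : algebraMap _ Y.functionField b ≠ 0 :=
    IsFractionRing.to_map_ne_zero_of_mem_nonZeroDivisors hb
  rw [map_div₀, div_eq_iff ((map_ne_zero_iff _ (emb φ hη).injective).2 hb0), emb_toK φ hη x a, emb_toK φ hη x b,
    ← map_mul] at h
  have h1 := IsFractionRing.injective (X.presheaf.stalk x) X.functionField h
  have h2 : a ∈ ((Ideal.span {b}).map (algebraMap _ (X.presheaf.stalk x))).comap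
      (algebraMap (Y.presheaf.stalk (φ x)) (X.presheaf.stalk x)) := by
    rw [Ideal.mem_comap, Ideal.map_span, Set.image_singleton]
    exact Ideal.mem_span_singleton'.2 ⟨v, h1.symm⟩
  rw [Ideal.comap_map_eq_self_of_faithfullyFlat, Ideal.mem_span_singleton'] at h2
  obtain ⟨c, rfl⟩ := h2
  exact ⟨c, by rw [map_mul, mul_div_assoc, div_self hb0, mul_one]⟩

variable {σ : X.functionField} (hσ : ∀ x, φ x = genericPoint Y → Good he₀ hU₀ x σ)

theorem exists_mul_mem {x : X} {r : X.functionField}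
    (hr : ∀ (x' : X) (h : x' ⤳ x), φ x' = genericPoint Y →
      ∃ v : X.presheaf.stalk x', algebraMap _ X.functionField v = r) :
    ∃ a : Y.presheaf.stalk (φ x), a ≠ 0 ∧
      ∃ b : X.presheaf.stalk x, algebraMap _ X.functionField b =
        algebraMap _ X.functionField ((φ.stalkMap x).hom a) * r := by
  let J : Ideal (X.presheaf.stalk x) :=
    { carrier := {g | ∃ b : X.presheaf.stalk x, algebraMap _ X.functionField b =
        algebraMap _ X.functionField g * r}
      zero_mem' := ⟨0, by simp⟩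
      add_mem' := by
        rintro g g' ⟨b, hb⟩ ⟨b', hb'⟩
        exact ⟨b + b', by rw [map_add, map_add, add_mul, hb, hb']⟩
      smul_mem' := by
        rintro c g ⟨b, hb⟩
        exact ⟨c * b, by rw [smul_eq_mul, map_mul, map_mul, hb, mul_assoc]⟩ }
  let M : Submonoid (X.presheaf.stalk x) :=
    (nonZeroDivisors (Y.presheaf.stalk (φ x))).map (φ.stalkMap x).hom
  by_contra hcon
  push Not at hcon
  have hdisj : Disjoint (J : Set (X.presheaf.stalk x)) (M : Set (X.presheaf.stalk x)) := by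
    refine Set.disjoint_left.2 ?_
    rintro _ ⟨b, hb⟩ ⟨a, ha, rfl⟩
    exact hcon a (nonZeroDivisors.ne_zero ha) b hb
  obtain ⟨Q, hQ, hJQ, hQM⟩ := Ideal.exists_le_prime_disjoint J M hdisj
  let qq : PrimeSpectrum (X.presheaf.stalk x) := ⟨Q, hQ⟩
  set x' := (X.fromSpecStalk x).base qq
  have hx' : x' ⤳ x := Cyc90.fromSpecStalk_specializes qq
  have hgQ : (Cyc90.genPrime hx').asIdeal = Q := by rw [Cyc90.genPrime_fromSpecStalk]
  have hη' : genericPoint Y ⤳ φ x := (genericPoint_spec Y).specializes trivial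
  have hφ : φ x' = genericPoint Y := by
    refine (Cyc90.genPrime_eq_iff (hx'.map φ.continuous) hη').1 (PrimeSpectrum.ext ?_)
    rw [← comap_genPrime φ hx', hgQ]
    have h0 : (Cyc90.genPrime hη').asIdeal = ⊥ := by
      show Ideal.comap (algebraMap (Y.presheaf.stalk (φ x)) Y.functionField) (maximalIdeal Y.functionField) = ⊥
      rw [IsLocalRing.isField_iff_maximalIdeal_eq.1 (Field.toIsField Y.functionField)]
      exact (RingHom.injective_iff_ker_eq_bot _).1 (IsFractionRing.injective _ _)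
    rw [h0, eq_bot_iff]
    intro a ha
    by_contra ha0
    exact Set.disjoint_left.1 hQM ha ⟨a, mem_nonZeroDivisors_of_ne_zero ha0, rfl⟩
  obtain ⟨v, hv⟩ := hr x' hx' hφ
  letI := (X.presheaf.stalkSpecializes hx').hom.toAlgebra
  haveI := Cyc90.isLocalization_genPrime hx'
  obtain ⟨⟨b, t⟩, hbt⟩ := IsLocalization.surj (Cyc90.genPrime hx').asIdeal.primeCompl v
  have hcomp : ∀ g : X.presheaf.stalk x, algebraMap (X.presheaf.stalk x') X.functionField
      ((X.presheaf.stalkSpecializes hx').hom g) = algebraMap _ X.functionField g := fun g =>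
    TopCat.Presheaf.stalkSpecializes_comp_apply X.presheaf _ hx' g
  refine t.2 ?_
  show (t : X.presheaf.stalk x) ∈ (Cyc90.genPrime hx').asIdeal
  refine hgQ.ge (hJQ ⟨b, ?_⟩)
  rw [← hcomp b, ← hcomp t.1, ← hv]
  exact ((congrArg _ hbt).symm.trans (map_mul _ _ _)).trans (mul_comm _ _)

include hσ hL in
theorem exists_scalar [IsLocallyNoetherian Y] [Flat φ] (hY : Pi1.IsNormalScheme Y)
    (hfib : ∀ y : Y, IsIntegral (φ.fiber y)) (x : X) :
    ∃ c : Y.functionField, c ≠ 0 ∧ Good he₀ hU₀ x (σ * emb φ hη c) := by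
  haveI := (hY (φ x)).1
  haveI := (hY (φ x)).2
  obtain ⟨k, hk⟩ := exists_good hL (he₀ := he₀) (hU₀ := hU₀) x
  have h1 : ∀ (x' : X) (h : x' ⤳ x), φ x' = genericPoint Y →
      ∃ v : X.presheaf.stalk x', algebraMap _ X.functionField v = σ * k⁻¹ := fun x' h e => by
    obtain ⟨v, hv⟩ := (hk.mono h).ratio (hσ x' e)
    exact ⟨v, by rw [hv, mul_assoc, mul_inv_cancel₀ hk.ne_zero, mul_one]⟩
  have h2 : ∀ (x' : X) (h : x' ⤳ x), φ x' = genericPoint Y →
      ∃ v : X.presheaf.stalk x', algebraMap _ X.functionField v = k * σ⁻¹ := fun x' h e => by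
    obtain ⟨v, hv⟩ := (hσ x' e).ratio (hk.mono h)
    exact ⟨v, by rw [hv, mul_assoc, mul_inv_cancel₀ (hσ x' e).ne_zero, mul_one]⟩
  obtain ⟨a, ha, b, hb⟩ := exists_mul_mem h1
  obtain ⟨a', ha', b', hb'⟩ := exists_mul_mem h2
  letI := (φ.stalkMap x).hom.toAlgebra
  haveI : Module.Flat (Y.presheaf.stalk (φ x)) (X.presheaf.stalk x) := Flat.stalkMap φ x
  haveI : IsLocalHom (algebraMap (Y.presheaf.stalk (φ x)) (X.presheaf.stalk x)) :=
    inferInstanceAs (IsLocalHom (φ.stalkMap x).hom)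
  haveI : Module.FaithfullyFlat (Y.presheaf.stalk (φ x)) (X.presheaf.stalk x) :=
    Module.FaithfullyFlat.of_flat_of_isLocalHom
  have hσ0 : σ ≠ 0 := (hσ (genericPoint X) hη).ne_zero
  have hbb : b * b' = algebraMap _ (X.presheaf.stalk x) (a * a') := by
    refine IsFractionRing.injective (X.presheaf.stalk x) X.functionField ?_
    rw [map_mul, map_mul (algebraMap (Y.presheaf.stalk (φ x)) (X.presheaf.stalk x)), map_mul, hb, hb']
    show _ = algebraMap _ X.functionField ((φ.stalkMap x).hom a) * algebraMap _ X.functionField ((φ.stalkMap x).hom a')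
    have hk0 := hk.ne_zero
    field_simp
  obtain ⟨c, hc, w, hw⟩ := exists_eq_algebraMap_mul_unit (A := Y.presheaf.stalk (φ x))
    (fun p hp _ => haveI := hp; isPrime_map_stalk φ hfib x p) (mul_ne_zero ha ha') hbb
  have hinj := IsFractionRing.injective (Y.presheaf.stalk (φ x)) Y.functionField
  refine ⟨algebraMap _ _ a / algebraMap _ _ c,
    div_ne_zero ((map_ne_zero_iff _ hinj).2 ha) ((map_ne_zero_iff _ hinj).2 hc), ?_⟩
  have hgood := hk.scale w.isUnit
  convert hgood using 1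
  rw [map_div₀, emb_toK, emb_toK]
  rw [hw, map_mul] at hb
  have hk0 := hk.ne_zero
  have hc' : algebraMap _ X.functionField ((φ.stalkMap x).hom c) ≠ 0 := by
    rw [← emb_toK φ hη]
    exact (map_ne_zero_iff _ (emb φ hη).injective).2 ((map_ne_zero_iff _ hinj).2 hc)
  change algebraMap _ X.functionField ((φ.stalkMap x).hom c) * _ = _ at hb
  field_simp at hb ⊢
  linear_combination -hb

include hσ in
theorem good_ratio [Flat φ] {w : X} {c c' : Y.functionField} (hc : c ≠ 0)
    (h : Good he₀ hU₀ w (σ * emb φ hη c)) (h' : Good he₀ hU₀ w (σ * emb φ hη c')) :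
    ∃ a : Y.presheaf.stalk (φ w), algebraMap _ Y.functionField a = c' / c := by
  obtain ⟨v, hv⟩ := h.ratio h'
  refine emb_mem_imp hη (c' / c) v ?_
  have hσ0 : σ ≠ 0 := (hσ (genericPoint X) hη).ne_zero
  rw [map_div₀, div_eq_iff ((map_ne_zero_iff _ (emb φ hη).injective).2 hc)]
  exact mul_left_cancel₀ hσ0 (hv.trans (mul_left_comm _ _ _))

include hσ hL in
theorem good_of_fibre [IsLocallyNoetherian Y] [Flat φ] (hY : Pi1.IsNormalScheme Y)
    (hfib : ∀ y : Y, IsIntegral (φ.fiber y)) {x x' : X} (hxx : φ x' = φ x) {c : Y.functionField}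
    (hc : c ≠ 0) (h : Good he₀ hU₀ x (σ * emb φ hη c)) : Good he₀ hU₀ x' (σ * emb φ hη c) := by
  obtain ⟨c', hc', h'⟩ := exists_scalar hη hL hσ hY hfib x'
  haveI := hfib (φ x)
  let F := φ.fiber (φ x)
  set w := φ.fiberι (φ x) (genericPoint F)
  have hspec : ∀ x₁ : X, φ x₁ = φ x → w ⤳ x₁ := fun x₁ e => by
    obtain ⟨z, rfl⟩ : x₁ ∈ Set.range (φ.fiberι (φ x)) := by rw [Scheme.Hom.range_fiberι]; exact e
    exact ((genericPoint_spec F).specializes trivial).map (φ.fiberι (φ x)).continuous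
  have hw : φ w = φ x' := by
    have := Set.mem_range_self (f := φ.fiberι (φ x)) (genericPoint F)
    rw [Scheme.Hom.range_fiberι] at this
    exact (Set.mem_preimage.1 this).trans hxx.symm
  have key : ∀ y : Y, φ w = y → (∃ a : Y.presheaf.stalk (φ w), algebraMap _ Y.functionField a = c / c') →
      ∃ a : Y.presheaf.stalk y, algebraMap _ Y.functionField a = c / c' := fun y e he => e ▸ he
  have key' : ∀ y : Y, φ w = y → (∃ a : Y.presheaf.stalk (φ w), algebraMap _ Y.functionField a = c' / c) →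
      ∃ a : Y.presheaf.stalk y, algebraMap _ Y.functionField a = c' / c := fun y e he => e ▸ he
  obtain ⟨a, ha⟩ := key _ hw (good_ratio hη hσ hc' (h'.mono (hspec x' hxx)) (h.mono (hspec x rfl)))
  obtain ⟨a', ha'⟩ := key' _ hw (good_ratio hη hσ hc (h.mono (hspec x rfl)) (h'.mono (hspec x' hxx)))
  have hu : IsUnit ((φ.stalkMap x').hom a) := (IsUnit.of_mul_eq_one a'
    (IsFractionRing.injective (Y.presheaf.stalk (φ x')) Y.functionField (by
      rw [map_mul, ha, ha', map_one]; field_simp))).map _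
  have := h'.scale hu
  rwa [← emb_toK φ hη, ha, map_div₀, mul_left_comm, div_mul_cancel₀ _
    ((map_ne_zero_iff _ (emb φ hη).injective).2 hc')] at this

end Main

section Generic

/-- The coordinate making frames trivial along the generic fibre. -/
theorem exists_sigma [IsIntegral X] [IsIntegral Y] (φ : X ⟶ Y)
    (hη : φ (genericPoint X) = genericPoint Y) [IsIntegral (φ.fiber (genericPoint Y))]
    {L : X.Modules} (hL : PicF.IsInvertible L) {U₀ : X.Opens} {e₀ : Γ(L, U₀)}
    (he₀ : IsFrame L U₀ e₀) (hU₀ : genericPoint X ∈ U₀)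
    (i : (Scheme.Modules.pullback (φ.fiberι (genericPoint Y))).obj L ≅
      Coh.structureModule (φ.fiber (genericPoint Y))) :
    ∃ σ : X.functionField, ∀ x, φ x = genericPoint Y → Good he₀ hU₀ x σ := by
  set F := φ.fiber (genericPoint Y)
  set ι := φ.fiberι (genericPoint Y)
  have hξ : ι (genericPoint F) = genericPoint X := by
    obtain ⟨w, hw⟩ : genericPoint X ∈ Set.range ι := by rw [Scheme.Hom.range_fiberι]; exact hη
    have h1 : ι (genericPoint F) ⤳ genericPoint X :=
      hw ▸ ((genericPoint_spec F).specializes trivial).map ι.continuous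
    exact (h1.antisymm ((genericPoint_spec X).specializes trivial)).eq
  -- the function of a section
  let g : ∀ (U : X.Opens), Γ(L, U) → Γ(F, ι ⁻¹ᵁ U) := fun U m =>
    i.hom.app (ι ⁻¹ᵁ U) (Amp73.pullS ι L U m)
  have g_smul : ∀ (U : X.Opens) (a : Γ(X, U)) (m : Γ(L, U)), g U (a • m) = ι.app U a * g U m :=
    fun U a m => by
      show i.hom.app _ _ = _
      rw [Amp73.pullS_smul, Scheme.Modules.Hom.app_smul]
      rfl
  have g_res : ∀ {U V : X.Opens} (h : V ≤ U) (m : Γ(L, U)),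
      g V (res L h m) = fres (ι.preimage_mono h) (g U m) := fun {U V} h m => by
    show i.hom.app _ _ = _
    rw [← Amp73.res_pullS, Mero90.app_res]
    rfl
  have g_unit : ∀ {U : X.Opens} {e : Γ(L, U)}, IsFrame L U e → IsUnit (g U e) := fun {U e} he => by
    have h1 := (Amp73.isFrame_app_iff i.hom (Amp73.pullS ι L U e)).2 (Props58.PullTensor.isFrame_pullS ι he)
    obtain ⟨b, hb⟩ := (h1 (ι ⁻¹ᵁ U) le_rfl).2 ((1 : Γ(F, ι ⁻¹ᵁ U)) : Γ(Coh.structureModule F, ι ⁻¹ᵁ U))
    refine IsUnit.of_mul_eq_one_right b ?_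
    refine Eq.trans ?_ hb
    show b * g U e = b * fres le_rfl (g U e)
    rw [Amp73.fres_self]
  let j := emb ι hξ
  have jsurj : Function.Surjective j := fun v => by
    obtain ⟨r, rfl⟩ := FlatMor68.FibreStalk.fiberι_stalkMap_surjective φ (genericPoint Y) (genericPoint F) v
    refine ⟨(X.presheaf.stalkSpecializes (specializes_of_eq hξ.symm)).hom r, ?_⟩
    show (ι.stalkMap _).hom ((X.presheaf.stalkSpecializes _).hom ((X.presheaf.stalkSpecializes _).hom r)) = _
    erw [TopCat.Presheaf.stalkSpecializes_comp_apply, TopCat.Presheaf.stalkSpecializes_refl]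
    rfl
  have hF : ∀ {U : X.Opens}, genericPoint X ∈ U → genericPoint F ∈ ι ⁻¹ᵁ U := fun {U} hU => by
    show ι (genericPoint F) ∈ U
    rw [hξ]; exact hU
  let G : ∀ (U : X.Opens), genericPoint X ∈ U → Γ(L, U) → F.functionField := fun U hU m =>
    gK (ι ⁻¹ᵁ U) (hF hU) (g U m)
  have hG0 : G U₀ hU₀ e₀ ≠ 0 := ((g_unit he₀).map _).ne_zero
  have hG : ∀ (U : X.Opens) (hU : genericPoint X ∈ U) (m : Γ(L, U)),
      G U hU m = j (co he₀ hU₀ hU m) * G U₀ hU₀ e₀ := by
    intro U hU m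
    obtain ⟨a, ha⟩ := (he₀ (U ⊓ U₀) inf_le_right).2 (res L inf_le_left m)
    rw [co_eq he₀ hU₀ hU m inf_le_left inf_le_right ⟨hU, hU₀⟩ a ha]
    show G U hU m = emb ι hξ (gK (U ⊓ U₀) ⟨hU, hU₀⟩ a) * _
    rw [emb_gK ι hξ]
    show gK (ι ⁻¹ᵁ U) _ (g U m) = _
    have h1 := congrArg (fun s => gK (ι ⁻¹ᵁ (U ⊓ U₀)) (hF ⟨hU, hU₀⟩) (g (U ⊓ U₀) s)) ha
    simp only [g_smul, g_res, map_mul, gK_res] at h1
    exact h1.symm
  obtain ⟨k₀, hk₀⟩ := jsurj (G U₀ hU₀ e₀)
  refine ⟨k₀⁻¹, fun x hx => ?_⟩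
  obtain ⟨w, rfl⟩ : x ∈ Set.range ι := by rw [Scheme.Hom.range_fiberι]; exact hx
  obtain ⟨U, hxU, e, he⟩ := Mero90.exists_frame' hL (ι w)
  obtain ⟨h, hh⟩ := FlatMor68.FibreStalk.fiberι_stalkMap_surjective φ (genericPoint Y) w
    ((F.presheaf.germ (ι ⁻¹ᵁ U) w hxU).hom (g U e))
  have hhu : IsUnit h := IsLocalHom.map_nonunit (f := (ι.stalkMap w).hom) h
    (by rw [show (ι.stalkMap w).hom h = _ from hh]; exact (g_unit he).map _)
  have hk0 : k₀ ≠ 0 := fun e' => hG0 (by rw [← hk₀, e', map_zero])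
  have e1 : algebraMap (X.presheaf.stalk (ι w)) X.functionField h = co he₀ hU₀ (gen_mem hxU) e * k₀ := by
    refine j.injective ?_
    rw [emb_toK ι hξ w h, map_mul, hk₀, show (ι.stalkMap w).hom h = _ from hh, gK_eq_algebraMap]
    exact (hG U (gen_mem hxU) e)
  have := Good.scale (he₀ := he₀) (hU₀ := hU₀) ⟨U, hxU, e, he, rfl⟩ hhu.unit⁻¹.isUnit
  convert this using 1
  rw [map_units_inv, IsUnit.unit_spec, e1, mul_inv, mul_comm (co _ _ _ _)⁻¹, mul_assoc,
    inv_mul_cancel₀ (co_frame_ne_zero he₀ hU₀ _ he), mul_one]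

end Generic

/-- An invertible module trivial on the generic fibre comes from the normal base. -/
theorem exists_pullback_iso (φ : X ⟶ Y) [IsLocallyNoetherian X] [IsLocallyNoetherian Y]
    [IsIntegral X] [IsIntegral Y] (hY : Pi1.IsNormalScheme Y) [Flat φ]
    (hfib : ∀ y : Y, IsIntegral (φ.fiber y)) (hφ : QuasiCompact φ ∨ LocallyOfFiniteType φ)
    (L : X.Modules) (hL : PicF.IsInvertible L)
    (hgen : Nonempty ((Scheme.Modules.pullback (φ.fiberι (genericPoint Y))).obj L ≅
      Coh.structureModule (φ.fiber (genericPoint Y)))) :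
    ∃ N : Y.Modules, PicF.IsInvertible N ∧ Nonempty (L ≅ (Scheme.Modules.pullback φ).obj N) := by
  haveI : Surjective φ := ⟨fun y => by
    have : Nonempty (φ.fiber y) := (hfib y).1
    obtain ⟨w⟩ := this
    refine ⟨φ.fiberι y w, ?_⟩
    have := Set.mem_range_self (f := φ.fiberι y) w
    rwa [Scheme.Hom.range_fiberι] at this⟩
  have hη : φ (genericPoint X) = genericPoint Y := by
    obtain ⟨z, hz, hzz⟩ := AlgebraicGeometry.Flat.generalizingMap φ
      ((genericPoint_spec Y).specializes (Set.mem_univ (φ (genericPoint X))))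
    rw [← hzz, (hz.antisymm ((genericPoint_spec X).specializes trivial)).eq]
  have hq : Topology.IsQuotientMap φ := by
    rcases hφ with h | h
    · exact Flat.isQuotientMap_of_surjective φ
    · haveI := E4O.locallyOfFinitePresentation_of_isLocallyNoetherian φ
      exact (φ.isOpenMap).isQuotientMap φ.continuous φ.surjective
  haveI := hfib (genericPoint Y)
  obtain ⟨U₀, hU₀, e₀, he₀⟩ := Mero90.exists_frame' hL (genericPoint X)
  obtain ⟨i⟩ := hgen
  obtain ⟨σ, hσ⟩ := exists_sigma φ hη hL he₀ hU₀ i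
  have hσ0 : σ ≠ 0 := (hσ _ hη).ne_zero
  let C := {c : Y.functionField // c ≠ 0}
  let P : C → X → Prop := fun c x => Good he₀ hU₀ x (σ * emb φ hη c.1)
  have hopen : ∀ c, IsOpen {y : Y | ∃ x, φ x = y ∧ P c x} := fun c => by
    rw [← hq.isOpen_preimage]
    have : φ ⁻¹' {y : Y | ∃ x, φ x = y ∧ P c x} = {x | P c x} := by
      ext x
      exact ⟨fun ⟨x', e, h⟩ => good_of_fibre hη hL hσ hY hfib e.symm c.2 h, fun h => ⟨x, rfl, h⟩⟩
    rw [this]
    refine isOpen_iff_forall_mem_open.2 fun x ⟨U, hx, e, he, hk⟩ => ?_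
    exact ⟨U, fun y hy => ⟨U, hy, e, he, hk⟩, U.2, hx⟩
  let V : C → Y.Opens := fun c => ⟨_, hopen c⟩
  have hP : ∀ c x, φ x ∈ V c → P c x := fun c x ⟨x', e, h⟩ =>
    good_of_fibre hη hL hσ hY hfib e.symm c.2 h
  have hcov : ∀ y : Y, ∃ c, y ∈ V c := fun y => by
    obtain ⟨x, rfl⟩ := φ.surjective y
    obtain ⟨c, hc, h⟩ := exists_scalar hη hL hσ hY hfib x
    exact ⟨⟨c, hc⟩, x, rfl, h⟩
  -- the generators
  have hτ : ∀ c, ∃ t : Γ(L, φ ⁻¹ᵁ V c), IsFrame L (φ ⁻¹ᵁ V c) t ∧
      ∀ h : genericPoint X ∈ φ ⁻¹ᵁ V c, co he₀ hU₀ h t = σ * emb φ hη c.1 := by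
    intro c
    obtain ⟨t, ht⟩ := exists_of_co he₀ hU₀ hL (U := φ ⁻¹ᵁ V c) (σ * emb φ hη c.1) fun x hx => by
      obtain ⟨U, hxU, e, -, hk⟩ := hP c x hx
      exact ⟨U, hxU, e, hk⟩
    refine ⟨t, Amp73.isFrame_of_locally t fun x hx => ?_, ht⟩
    obtain ⟨U, hxU, e, he, hk⟩ := hP c x hx
    refine ⟨U ⊓ φ ⁻¹ᵁ V c, inf_le_right, ⟨hxU, hx⟩, ?_⟩
    rw [show res L (inf_le_right : U ⊓ φ ⁻¹ᵁ V c ≤ φ ⁻¹ᵁ V c) t = res L inf_le_left e from
      eq_of_co he₀ hU₀ hL fun h => by rw [co_res, co_res, ht]; exact hk.symm]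
    exact he.res _
  choose τ hτf hτc using hτ
  -- change of generators
  have htrans : ∀ c c' (y : Y), y ∈ V c → y ∈ V c' → ∃ (W : Y.Opens) (h : W ≤ V c) (h' : W ≤ V c')
      (a : Γ(Y, W)), y ∈ W ∧ res L (φ.preimage_mono h') (τ c') = φ.app W a • res L (φ.preimage_mono h) (τ c) := by
    intro c c' y hy hy'
    obtain ⟨x, rfl⟩ := φ.surjective y
    obtain ⟨a, ha⟩ := good_ratio hη hσ c.2 (hP c x hy) (hP c' x hy')
    obtain ⟨W₀, hW₀, a₀, rfl⟩ := Y.presheaf.exists_germ_eq (x := φ x) a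
    let W := W₀ ⊓ V c ⊓ V c'
    have hxW : φ x ∈ W := ⟨⟨hW₀, hy⟩, hy'⟩
    refine ⟨W, inf_le_left.trans inf_le_right, inf_le_right, fres (inf_le_left.trans inf_le_left) a₀, hxW,
      eq_of_co he₀ hU₀ hL fun h => ?_⟩
    rw [gK_eq_algebraMap] at ha
    rw [co_res, co_smul, co_res, hτc, hτc, ← emb_gK φ hη W (hη ▸ h), gK_res, ha, map_div₀]
    have := (map_ne_zero_iff _ (emb φ hη).injective).2 c.2
    field_simp
  -- the submodule of the direct image
  let Q : SubMod72.Sub ((Scheme.Modules.pushforward φ).obj L) :=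
    { carrier := fun W =>
        { carrier := {t : Γ((Scheme.Modules.pushforward φ).obj L, W) | ∀ p ∈ W, ∃ (c : C) (W' : Y.Opens)
            (h : W' ≤ W) (hV : W' ≤ V c) (a : Γ(Y, W')), p ∈ W' ∧
            res L (φ.preimage_mono h) (t : Γ(L, φ ⁻¹ᵁ W)) = φ.app W' a • res L (φ.preimage_mono hV) (τ c)}
          zero_mem' := fun p hp => by
            obtain ⟨c, hc⟩ := hcov p
            refine ⟨c, W ⊓ V c, inf_le_left, inf_le_right, 0, ⟨hp, hc⟩, ?_⟩
            rw [map_zero, zero_smul]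
            exact map_zero _
          add_mem' := by
            rintro s t hs ht p hp
            obtain ⟨c, W₁, h₁, hV₁, a, hp₁, e₁⟩ := hs p hp
            obtain ⟨d, W₂, h₂, hV₂, b, hp₂, e₂⟩ := ht p hp
            obtain ⟨W₃, h₃, h₃', u, hp₃, e₃⟩ := htrans c d p (hV₁ hp₁) (hV₂ hp₂)
            let W' := W₁ ⊓ W₂ ⊓ W₃
            have i₁ : W' ≤ W₁ := inf_le_left.trans inf_le_left
            have i₂ : W' ≤ W₂ := inf_le_left.trans inf_le_right
            have i₃ : W' ≤ W₃ := inf_le_right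
            refine ⟨c, W', i₁.trans h₁, i₁.trans hV₁, fres i₁ a + fres i₂ b * fres i₃ u, ⟨⟨hp₁, hp₂⟩, hp₃⟩, ?_⟩
            have k₁ := congrArg (res L (φ.preimage_mono i₁)) e₁
            have k₂ := congrArg (res L (φ.preimage_mono i₂)) e₂
            have k₃ := congrArg (res L (φ.preimage_mono i₃)) e₃
            simp only [res_res, res_smul] at k₁ k₂ k₃
            rw [← app_fres φ i₁] at k₁
            rw [← app_fres φ i₂] at k₂
            rw [← app_fres φ i₃] at k₃
            rw [map_add, map_mul, add_smul, mul_smul, ← k₃, ← k₂, ← k₁]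
            exact Amp73.res_add L _ _ _
          smul_mem' := by
            intro r t ht p hp
            obtain ⟨c, W', h, hV, a, hp', e⟩ := ht p hp
            refine ⟨c, W', h, hV, fres h r * a, hp', ?_⟩
            show res L _ (HSMul.hSMul (α := Γ(X, φ ⁻¹ᵁ W)) (β := Γ(L, φ ⁻¹ᵁ W)) (φ.app W r) t) = _
            rw [res_smul, e, map_mul, mul_smul, ← app_fres φ h] }
      res_mem := by
        intro W₁ W h t ht p hp
        obtain ⟨c, W', h', hV, a, hp', e⟩ := ht p (h hp)
        refine ⟨c, W' ⊓ W₁, inf_le_right, inf_le_left.trans hV, fres inf_le_left a, ⟨hp', hp⟩, ?_⟩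
        have k := congrArg (res L (φ.preimage_mono (inf_le_left : W' ⊓ W₁ ≤ W'))) e
        rw [res_res, res_smul, res_res, ← app_fres φ (inf_le_left : W' ⊓ W₁ ≤ W')] at k
        show res L _ (res L (φ.preimage_mono h) _) = _
        rw [res_res]
        exact k
      local_mem := by
        intro W t ht p hp
        obtain ⟨W₁, h₁, hp₁, ht₁⟩ := ht p hp
        obtain ⟨c, W', h, hV, a, hp', e⟩ := ht₁ p hp₁
        refine ⟨c, W', h.trans h₁, hV, a, hp', ?_⟩
        have e' : res L _ (res L (φ.preimage_mono h₁) (t : Γ(L, φ ⁻¹ᵁ W))) = _ := e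
        rw [res_res] at e'
        exact e' }
  let N := SubMod72.toMod Q
  have hmem : ∀ c, ((τ c : Γ(L, φ ⁻¹ᵁ V c)) : Γ((Scheme.Modules.pushforward φ).obj L, V c)) ∈ Q.carrier (V c) :=
    fun c p hp => ⟨c, V c, le_rfl, le_rfl, 1, hp, by rw [map_one, one_smul]⟩
  let n : ∀ c, Γ(N, V c) := fun c => (⟨_, hmem c⟩ : Q.carrier (V c))
  have hn : ∀ c, IsFrame N (V c) (n c) := by
    intro c W hW
    have hval : ∀ a : Γ(Y, W), ((a • res N hW (n c) : Γ(N, W)) : Q.carrier W).1 =
        (φ.app W a • res L (φ.preimage_mono hW) (τ c) : Γ(L, φ ⁻¹ᵁ W)) := fun a => rfl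
    refine ⟨fun a b hab => ?_, fun t => ?_⟩
    · have h1 : φ.app W a • res L (φ.preimage_mono hW) (τ c) =
          φ.app W b • res L (φ.preimage_mono hW) (τ c) :=
        (hval a).symm.trans ((congrArg (fun s : Γ(N, W) => ((s : Q.carrier W)).1) hab).trans (hval b))
      have h2 := ((hτf c).res (φ.preimage_mono hW) _ le_rfl).1 (a₁ := φ.app W a) (a₂ := φ.app W b)
        (by show _ • res L _ (res L _ _) = _ • res L _ (res L _ _); rw [res_res]; exact h1)
      rcases (W : Set Y).eq_empty_or_nonempty with h0 | ⟨p, hp⟩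
      · exact (TopCat.Sheaf.eq_of_locally_eq' Y.sheaf (fun q : W => W) W (fun q => 𝟙 _)
          (fun q hq => Opens.mem_iSup.2 ⟨⟨q, hq⟩, hq⟩) a b fun q => absurd (show q.1 ∈ (∅ : Set Y) from h0 ▸ q.2) (Set.notMem_empty _))
      · have hY' : genericPoint Y ∈ W := ((genericPoint_spec Y).specializes trivial).mem_open W.2 hp
        refine gK_injective W hY' ((emb φ hη).injective ?_)
        rw [emb_gK, emb_gK, h2]
    · have htQ : ∀ p ∈ W, ∃ (W' : Y.Opens) (h : W' ≤ W) (a : Γ(Y, W')), p ∈ W' ∧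
          res L (φ.preimage_mono h) ((t : Q.carrier W).1 : Γ(L, φ ⁻¹ᵁ W)) =
            φ.app W' a • res L (φ.preimage_mono (h.trans hW)) (τ c) := by
        intro p hp
        obtain ⟨d, W₁, h₁, hV₁, a, hp₁, e₁⟩ := (t : Q.carrier W).2 p hp
        obtain ⟨W₂, h₂, h₂', u, hp₂, e₂⟩ := htrans c d p (hW hp) (hV₁ hp₁)
        refine ⟨W₁ ⊓ W₂, inf_le_left.trans h₁, fres inf_le_left a * fres inf_le_right u, ⟨hp₁, hp₂⟩, ?_⟩
        have k₁ := congrArg (res L (φ.preimage_mono (inf_le_left : W₁ ⊓ W₂ ≤ W₁))) e₁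
        have k₂ := congrArg (res L (φ.preimage_mono (inf_le_right : W₁ ⊓ W₂ ≤ W₂))) e₂
        simp only [res_res, res_smul] at k₁ k₂
        rw [← app_fres φ (inf_le_left : W₁ ⊓ W₂ ≤ W₁)] at k₁
        rw [← app_fres φ (inf_le_right : W₁ ⊓ W₂ ≤ W₂)] at k₂
        rw [map_mul, mul_smul, ← k₂]
        exact k₁
      choose W' hW' a hpW' ha using htQ
      obtain ⟨b, hb, -⟩ := Y.sheaf.existsUnique_gluing' (fun q : W => W' q.1 q.2) W
        (fun q => homOfLE (hW' q.1 q.2)) (fun q hq => Opens.mem_iSup.2 ⟨⟨q, hq⟩, hpW' q hq⟩)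
        (fun q => a q.1 q.2) (fun q r => by
          by_cases hne : genericPoint Y ∈ W' q.1 q.2 ⊓ W' r.1 r.2
          · refine gK_injective _ hne ((emb φ hη).injective ?_)
            rw [emb_gK, emb_gK]
            congr 1
            refine ((hτf c).res (φ.preimage_mono ((inf_le_left.trans (hW' q.1 q.2)).trans hW)) _ le_rfl).1 ?_
            show _ • res L _ (res L _ _) = _ • res L _ (res L _ _)
            rw [res_res]
            have k₁ := congrArg (res L (φ.preimage_mono (inf_le_left : W' q.1 q.2 ⊓ W' r.1 r.2 ≤ W' q.1 q.2))) (ha q.1 q.2)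
            have k₂ := congrArg (res L (φ.preimage_mono (inf_le_right : W' q.1 q.2 ⊓ W' r.1 r.2 ≤ W' r.1 r.2))) (ha r.1 r.2)
            simp only [res_res, res_smul] at k₁ k₂
            rw [← app_fres φ (inf_le_left : W' q.1 q.2 ⊓ W' r.1 r.2 ≤ W' q.1 q.2)] at k₁
            rw [← app_fres φ (inf_le_right : W' q.1 q.2 ⊓ W' r.1 r.2 ≤ W' r.1 r.2)] at k₂
            exact k₁.symm.trans k₂
          · refine TopCat.Sheaf.eq_of_locally_eq' Y.sheaf (fun s : (W' q.1 q.2 ⊓ W' r.1 r.2 : Y.Opens) => W' q.1 q.2 ⊓ W' r.1 r.2) _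
              (fun _ => 𝟙 _) (fun s hs => Opens.mem_iSup.2 ⟨⟨s, hs⟩, hs⟩) _ _ fun s =>
                absurd (((genericPoint_spec Y).specializes trivial).mem_open (W' q.1 q.2 ⊓ W' r.1 r.2).2 s.2) hne)
      refine ⟨b, Subtype.ext ?_⟩
      refine (hval b).trans ?_
      refine eq_of_locally L _ _ fun x hx => ?_
      refine ⟨φ ⁻¹ᵁ W' (φ x) hx, φ.preimage_mono (hW' _ hx), hpW' _ hx, ?_⟩
      rw [res_smul, res_res, ← app_fres φ (hW' _ hx), ha]
      congr 2
      exact hb ⟨φ x, hx⟩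
  refine ⟨N, Mero90.isInvertible_of_frames fun y => ?_, ?_⟩
  · obtain ⟨c, hc⟩ := hcov y
    exact ⟨V c, hc, n c, hn c⟩
  let ψ := ((Scheme.Modules.pullbackPushforwardAdjunction φ).homEquiv N L).symm (SubMod72.toModι Q)
  have hψ : ∀ c, ψ.app (φ ⁻¹ᵁ V c) (Amp73.pullS φ N (V c) (n c)) = τ c := fun c => by
    have h : (Scheme.Modules.pullbackPushforwardAdjunction φ).homEquiv N L ψ = SubMod72.toModι Q :=
      Equiv.apply_symm_apply _ _
    rw [Adjunction.homEquiv_unit] at h
    exact ConcreteCategory.congr_hom (congrArg (fun f => Scheme.Modules.Hom.app f (V c)) h) (n c)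
  have : IsIso ψ := Amp73.isIso_of_frames ψ fun x => by
    obtain ⟨c, hc⟩ := hcov (φ x)
    refine ⟨φ ⁻¹ᵁ V c, _, hc, Props58.PullTensor.isFrame_pullS φ (hn c), ?_⟩
    rw [hψ]
    exact hτf c
  exact ⟨(asIso ψ).symm⟩

end Groth.Agent.Div89.GenTriv

end
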