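import Mathlib.AlgebraicGeometry.Morphisms.Proper
import Mathlib.AlgebraicGeometry.Morphisms.SchemeTheoreticallyDominant
import Mathlib.AlgebraicGeometry.Noetherian

/-!
Extension of a morphism after a proper modification: closure of the graph.
-/

set_option autoImplicit false
set_option backward.isDefEq.respectTransparency.types false

universe u

open CategoryTheory CategoryTheory.Limits AlgebraicGeometry TopologicalSpace

namespace Groth.Agent.Div89

theorem isSchemeTheoreticallyDominant_toImage {X Y : Scheme.{u}} (f : X ⟶ Y) [QuasiCompact f] :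
    IsSchemeTheoreticallyDominant f.toImage := by
  have hcov : ⨆ U : Y.affineOpens, f.imageι ⁻¹ᵁ U.1 = ⊤ := by
    refine top_unique fun x _ => ?_
    have := (iSup_affineOpens_eq_top Y).ge (Set.mem_univ (f.imageι x))
    obtain ⟨U, hU⟩ := Opens.mem_iSup.1 this
    exact Opens.mem_iSup.2 ⟨U, hU⟩
  refine ⟨Scheme.IdealSheafData.ext_of_iSup_eq_top (fun U : Y.affineOpens => ⟨_, U.2.preimage f.imageι⟩)
    hcov fun U => ?_⟩
  rw [Scheme.Hom.ker_apply, Scheme.IdealSheafData.ideal_bot, Pi.bot_apply,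
    ← RingHom.injective_iff_ker_eq_bot]
  exact Scheme.Hom.toImage_app_injective f U

/-- The scheme-theoretic image does nothing over an open where the morphism is a closed immersion. -/
theorem isIso_lift_image {U P : Scheme.{u}} (j : U ⟶ P) [QuasiCompact j] (W : P.Opens)
    (jW : U ⟶ W.toScheme) [IsClosedImmersion jW] (h : jW ≫ W.ι = j) :
    ∃ g : U ⟶ (j.imageι ⁻¹ᵁ W).toScheme, IsIso g ∧ g ≫ (j.imageι ⁻¹ᵁ W).ι = j.toImage := by
  have hsub : Set.range j.toImage ⊆ Set.range (j.imageι ⁻¹ᵁ W).ι := by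
    rw [Scheme.Opens.range_ι]
    rintro _ ⟨x, rfl⟩
    show j.imageι (j.toImage x) ∈ W
    rw [← Scheme.Hom.comp_apply, Scheme.Hom.toImage_imageι, ← h, Scheme.Hom.comp_apply]
    exact (jW x).2
  let g := IsOpenImmersion.lift (j.imageι ⁻¹ᵁ W).ι j.toImage hsub
  have hg : g ≫ (j.imageι ⁻¹ᵁ W).ι = j.toImage := IsOpenImmersion.lift_fac _ _ _
  have hgW : g ≫ (j.imageι ∣_ W) = jW := by
    rw [← cancel_mono W.ι, Category.assoc, morphismRestrict_ι, ← Category.assoc, hg,
      Scheme.Hom.toImage_imageι, h]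
  have : IsClosedImmersion (g ≫ (j.imageι ∣_ W)) := by rw [hgW]; infer_instance
  have : IsClosedImmersion g := IsClosedImmersion.of_comp_isClosedImmersion g (j.imageι ∣_ W)
  have hdom := isSchemeTheoreticallyDominant_toImage j
  have sq : IsPullback (𝟙 U) g j.toImage (j.imageι ⁻¹ᵁ W).ι := by
    refine IsPullback.of_iso_pullback ⟨by rw [Category.id_comp, hg]⟩ ?_ ?_ ?_
    · refine ⟨pullback.lift (𝟙 U) g (by rw [Category.id_comp, hg]), pullback.fst _ _, ?_, ?_⟩
      · rw [pullback.lift_fst]
      · ext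
        · rw [Category.assoc, pullback.lift_fst, Category.comp_id, Category.id_comp]
        · rw [Category.assoc, pullback.lift_snd, Category.id_comp, ← cancel_mono (j.imageι ⁻¹ᵁ W).ι,
            Category.assoc, hg, pullback.condition]
    · exact pullback.lift_fst _ _ _
    · exact pullback.lift_snd _ _ _
  have : IsSchemeTheoreticallyDominant g := IsSchemeTheoreticallyDominant.of_isPullback sq
  exact ⟨g, IsClosedImmersion.isIso_iff_ker_eq_bot.2 g.ker_eq_bot, hg⟩

/-- Closure of the graph. -/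
theorem exists_proper_modification {X Y S : Scheme.{u}} [IsNoetherian X] (a : X ⟶ S) (b : Y ⟶ S)
    [IsProper b] (U : X.Opens) (f : (U : Scheme.{u}) ⟶ Y) (hf : f ≫ b = U.ι ≫ a) :
    ∃ (X' : Scheme.{u}) (p : X' ⟶ X) (f' : X' ⟶ Y), IsProper p ∧ IsIso (p ∣_ U) ∧ f' ≫ b = p ≫ a ∧
      (p ⁻¹ᵁ U).ι ≫ f' = (p ∣_ U) ≫ f := by
  let j : U.toScheme ⟶ pullback a b := pullback.lift U.ι f hf.symm
  have hU : CompactSpace U.toScheme :=
    isCompact_iff_compactSpace.1 (NoetherianSpace.isCompact (U : Set X))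
  have : QuasiCompact (j ≫ pullback.fst a b) := by
    simp only [j, pullback.lift_fst]
    exact quasiCompact_of_compactSpace U.ι
  have : QuasiCompact j := QuasiCompact.of_comp j (pullback.fst a b)
  let W : (pullback a b).Opens := pullback.fst a b ⁻¹ᵁ U
  have hjW : Set.range j ⊆ Set.range W.ι := by
    rw [Scheme.Opens.range_ι]
    rintro _ ⟨x, rfl⟩
    show pullback.fst a b (j x) ∈ U
    rw [← Scheme.Hom.comp_apply]
    simp only [j, pullback.lift_fst]
    exact x.2
  let jW := IsOpenImmersion.lift W.ι j hjW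
  have hjW' : jW ≫ W.ι = j := IsOpenImmersion.lift_fac _ _ _
  have hsec : jW ≫ (pullback.fst a b ∣_ U) = 𝟙 _ := by
    rw [← cancel_mono U.ι, Category.assoc, morphismRestrict_ι, ← Category.assoc, hjW',
      Category.id_comp]
    exact pullback.lift_fst _ _ _
  have : IsClosedImmersion (jW ≫ (pullback.fst a b ∣_ U)) := by rw [hsec]; infer_instance
  have : IsSeparated (pullback.fst a b ∣_ U) := inferInstance
  have : IsClosedImmersion jW := IsClosedImmersion.of_comp jW (pullback.fst a b ∣_ U)
  obtain ⟨g, hgi, hg⟩ := isIso_lift_image j W jW hjW'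
  let p := j.imageι ≫ pullback.fst a b
  let f' := j.imageι ≫ pullback.snd a b
  let g' : U.toScheme ⟶ (p ⁻¹ᵁ U).toScheme := g
  have hgi' : IsIso g' := hgi
  have hg' : g' ≫ (p ⁻¹ᵁ U).ι = j.toImage := hg
  have hgp : g' ≫ (p ∣_ U) = 𝟙 _ := by
    rw [← cancel_mono U.ι, Category.assoc, morphismRestrict_ι, ← Category.assoc, Category.id_comp,
      hg', ← Category.assoc, Scheme.Hom.toImage_imageι]
    exact pullback.lift_fst _ _ _
  have hiso : IsIso (p ∣_ U) := by
    rw [show p ∣_ U = inv g' from IsIso.eq_inv_of_hom_inv_id hgp]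
    infer_instance
  refine ⟨_, p, f', inferInstance, hiso, ?_, ?_⟩
  · simp only [p, f', Category.assoc, pullback.condition]
  · rw [← cancel_epi g', ← Category.assoc, hg', ← Category.assoc, ← Category.assoc g',
      Scheme.Hom.toImage_imageι, hgp, Category.id_comp]
    exact pullback.lift_snd _ _ _

end Groth.Agent.Div89
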