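import Groth.Prelude.Def_RefHull
import Groth.Agent.QC70.StalkLoc
import Groth.Agent.QC70.Stalk
import Groth.Agent.QC70.Coherent
import Groth.Agent.Props58.LocFree.FP
import Groth.Agent.Props58.LocFree.Criteria

/-!
The sheaf Hom `RefHull.homSh`: sections are local morphisms, the stalks for finitely presented
source, quasi-coherence.
-/

set_option autoImplicit false
set_option linter.style.haveILetI false
set_option backward.isDefEq.respectTransparency.types false

noncomputable section

universe u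

open CategoryTheory AlgebraicGeometry Opposite TopologicalSpace
open Groth.Agent.QC70 Groth.Agent.Props58.LocFree

namespace Groth.Agent.Div89

variable {X : Scheme.{u}} {F G : X.Modules} {U V : X.Opens}

lemma homOn_exists_stalkVal (φ : HomOn F G U) (x : X) (hx : x ∈ U) (e : F.presheaf.stalk x) :
    ∃ v : G.presheaf.stalk x, ∀ (W : X.Opens) (hW : W ≤ U) (hxW : x ∈ W) (s : Γ(F, W)),
      germM F W x hxW s = e → germM G W x hxW (φ.app W hW s) = v := by
  obtain ⟨W₀, hxW₀, s₀, rfl⟩ := germM_exist e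
  let W₁ := W₀ ⊓ U
  refine ⟨germM G W₁ x ⟨hxW₀, hx⟩ (φ.app W₁ inf_le_right (res F inf_le_left s₀)), fun W hW hxW s hs => ?_⟩
  rw [← germM_res (inf_le_left : W₁ ≤ W₀) (show x ∈ W₁ from ⟨hxW₀, hx⟩) s₀] at hs
  obtain ⟨W₂, hxW₂, i₁, i₂, he⟩ := TopCat.Presheaf.germ_eq F.presheaf x hxW _ _ _ hs
  have he' : res F i₁.le s = res F i₂.le (res F (inf_le_left : W₁ ≤ W₀) s₀) := he
  rw [← germM_res i₁.le hxW₂, ← germM_res i₂.le hxW₂, ← φ.app_res, ← φ.app_res, he']

/-- The stalk map of a local morphism. -/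
def homOnStalk (φ : HomOn F G U) (x : X) (hx : x ∈ U) : RefHull.StalkHom F G x where
  toFun e := (homOn_exists_stalkVal φ x hx e).choose
  map_add' a b := by
    obtain ⟨W₁, hx₁, s, rfl⟩ := germM_exist a
    obtain ⟨W₂, hx₂, t, rfl⟩ := germM_exist b
    let W := W₁ ⊓ W₂ ⊓ U
    have hxW : x ∈ W := ⟨⟨hx₁, hx₂⟩, hx⟩
    have key := fun (e : F.presheaf.stalk x) (r : Γ(F, W)) (h : germM F W x hxW r = e) =>
      (homOn_exists_stalkVal φ x hx e).choose_spec W inf_le_right hxW r h
    rw [← key _ (res F (inf_le_left.trans inf_le_left) s) (germM_res _ _ _),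
      ← key _ (res F (inf_le_left.trans inf_le_right) t) (germM_res _ _ _),
      ← key _ (res F (inf_le_left.trans inf_le_left) s + res F (inf_le_left.trans inf_le_right) t)
        (by rw [germM_add, germM_res, germM_res]),
      map_add, germM_add]
  map_smul' r a := by
    obtain ⟨W₁, hx₁, s, rfl⟩ := germM_exist a
    obtain ⟨W₂, hx₂, c, rfl⟩ := TopCat.Presheaf.exists_germ_eq X.presheaf r
    let W := W₁ ⊓ W₂ ⊓ U
    have hxW : x ∈ W := ⟨⟨hx₁, hx₂⟩, hx⟩
    have key := fun (e : F.presheaf.stalk x) (r : Γ(F, W)) (h : germM F W x hxW r = e) =>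
      (homOn_exists_stalkVal φ x hx e).choose_spec W inf_le_right hxW r h
    rw [RingHom.id_apply, ← key _ (res F (inf_le_left.trans inf_le_left) s) (germM_res _ _ _),
      ← key _ (resO X (inf_le_left.trans inf_le_right) c • res F (inf_le_left.trans inf_le_left) s)
        (by rw [germM_smul, germ_resO, germM_res]),
      map_smul, germM_smul, germ_resO]

lemma homOnStalk_germ (φ : HomOn F G U) {W : X.Opens} (hW : W ≤ U) (x : X) (hx : x ∈ W) (s : Γ(F, W)) :
    homOnStalk φ x (hW hx) (germM F W x hx s) = germM G W x hx (φ.app W hW s) :=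
  ((homOn_exists_stalkVal φ x (hW hx) _).choose_spec W hW hx s rfl).symm

/-- The section of the sheaf Hom of a local morphism. -/
def secOfHomOn (φ : HomOn F G U) : Γ(RefHull.homSh F G, U) :=
  ⟨fun x => homOnStalk φ x.1 x.2, fun W i m x => ⟨W, x.2, 𝟙 W, φ.app W i.le m, fun y =>
    homOnStalk_germ φ i.le y.1 y.2 m⟩⟩

@[simp] lemma secOfHomOn_apply (φ : HomOn F G U) (x : X) (hx : x ∈ U) :
    (secOfHomOn φ).1 ⟨x, hx⟩ = homOnStalk φ x hx := rfl

lemma exists_sec_germ (g : Γ(RefHull.homSh F G, U)) {W : X.Opens} (hW : W ≤ U) (m : Γ(F, W)) :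
    ∃! n : Γ(G, W), ∀ (y : X) (hy : y ∈ W),
      germM G W y hy n = g.1 ⟨y, hW hy⟩ (germM F W y hy m) := by
  have hu : ∀ n n' : Γ(G, W), (∀ (y : X) (hy : y ∈ W), germM G W y hy n = germM G W y hy n') → n = n' :=
    fun n n' h => TopCat.Presheaf.section_ext (⟨G.presheaf, G.isSheaf⟩ : TopCat.Sheaf Ab X) W n n' h
  choose O hxO j n hn using fun x : W => RefHull.isLocSect_of_mem g W (homOfLE hW) m x
  obtain ⟨t, ht⟩ := exists_glue G O (fun x => (j x).le)
    (fun y hy => Opens.mem_iSup.2 ⟨⟨y, hy⟩, hxO ⟨y, hy⟩⟩) n fun a b => by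
    refine TopCat.Presheaf.section_ext (⟨G.presheaf, G.isSheaf⟩ : TopCat.Sheaf Ab X) _ _ _ fun y hy => ?_
    show germM G _ y hy _ = germM G _ y hy _
    rw [germM_res, germM_res]
    exact (hn a ⟨y, hy.1⟩).symm.trans (hn b ⟨y, hy.2⟩)
  refine ⟨t, fun y hy => ?_, fun t' ht' => hu _ _ fun y hy => (ht' y hy).trans ?_⟩
  · rw [← germM_res ((j ⟨y, hy⟩).le) (hxO ⟨y, hy⟩) t, ht]
    exact (hn ⟨y, hy⟩ ⟨y, hxO ⟨y, hy⟩⟩).symm
  · rw [← germM_res ((j ⟨y, hy⟩).le) (hxO ⟨y, hy⟩) t, ht]
    exact hn ⟨y, hy⟩ ⟨y, hxO ⟨y, hy⟩⟩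

/-- The local morphism of a section of the sheaf Hom. -/
def homOnOfSec (g : Γ(RefHull.homSh F G, U)) : HomOn F G U where
  app W hW :=
    { toFun := fun m => (exists_sec_germ g hW m).choose
      map_add' := fun a b => ((exists_sec_germ g hW (a + b)).choose_spec.2 _ fun y hy => by
        rw [germM_add, germM_add, map_add, (exists_sec_germ g hW a).choose_spec.1 y hy,
          (exists_sec_germ g hW b).choose_spec.1 y hy]).symm
      map_smul' := fun r a => ((exists_sec_germ g hW (r • a)).choose_spec.2 _ fun y hy => by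
        rw [RingHom.id_apply, germM_smul, germM_smul, map_smul,
          (exists_sec_germ g hW a).choose_spec.1 y hy]).symm }
  app_res {W W'} hW h m := ((exists_sec_germ g (h.trans hW) (res F h m)).choose_spec.2 _ fun y hy => by
    simp only [LinearMap.coe_mk, AddHom.coe_mk]
    rw [germM_res, germM_res]
    exact (exists_sec_germ g hW m).choose_spec.1 y (h hy)).symm

lemma homOnOfSec_germ (g : Γ(RefHull.homSh F G, U)) {W : X.Opens} (hW : W ≤ U) (m : Γ(F, W)) (y : X)
    (hy : y ∈ W) :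
    germM G W y hy ((homOnOfSec g).app W hW m) = g.1 ⟨y, hW hy⟩ (germM F W y hy m) :=
  (exists_sec_germ g hW m).choose_spec.1 y hy

lemma sec_ext (g g' : Γ(RefHull.homSh F G, U)) (h : ∀ (x : X) (hx : x ∈ U), g.1 ⟨x, hx⟩ = g'.1 ⟨x, hx⟩) :
    g = g' :=
  Subtype.ext (funext fun x => h x.1 x.2)

lemma secOfHomOn_homOnOfSec (g : Γ(RefHull.homSh F G, U)) : secOfHomOn (homOnOfSec g) = g :=
  sec_ext _ _ fun x hx => LinearMap.ext fun e => by
    obtain ⟨W, hxW, m, rfl⟩ := germM_exist e
    rw [secOfHomOn_apply, ← germM_res (inf_le_left : W ⊓ U ≤ W) (show x ∈ W ⊓ U from ⟨hxW, hx⟩) m]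
    exact (homOnStalk_germ (homOnOfSec g) inf_le_right x ⟨hxW, hx⟩ _).trans
      (homOnOfSec_germ g inf_le_right _ x ⟨hxW, hx⟩)

lemma homOnOfSec_secOfHomOn (φ : HomOn F G U) : homOnOfSec (secOfHomOn φ) = φ := by
  refine HomOn.ext (funext fun W => funext fun hW => LinearMap.ext fun m => ?_)
  refine TopCat.Presheaf.section_ext (⟨G.presheaf, G.isSheaf⟩ : TopCat.Sheaf Ab X) _ _ _ fun y hy => ?_
  exact (homOnOfSec_germ _ hW m y hy).trans (homOnStalk_germ φ hW y hy m)

lemma homSh_res_apply (h : V ≤ U) (g : Γ(RefHull.homSh F G, U)) (x : X) (hx : x ∈ V) :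
    (res (RefHull.homSh F G) h g).1 ⟨x, hx⟩ = g.1 ⟨x, h hx⟩ := rfl

lemma evalStalk_germ' (g : Γ(RefHull.homSh F G, U)) (x : X) (hx : x ∈ U) :
    RefHull.evalStalk F G x (germM (RefHull.homSh F G) U x hx g) = g.1 ⟨x, hx⟩ :=
  RefHull.evalStalk_germ F G x hx g

lemma exists_nhd_zero {x : X} {W : X.Opens} (hx : x ∈ W) {ι : Type u} [Finite ι] (a : ι → Γ(G, W))
    (h : ∀ i, germM G W x hx (a i) = 0) :
    ∃ (O : X.Opens) (hO : O ≤ W), x ∈ O ∧ ∀ i, res G hO (a i) = 0 := by
  choose V hV hxV h0 using fun i => germM_eq_zero (h i)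
  let O : X.Opens := ⟨(W : Set X) ∩ ⋂ i, (V i : Set X), W.2.inter (isOpen_iInter_of_finite fun i => (V i).2)⟩
  have hOV : ∀ i, O ≤ V i := fun i z hz => Set.mem_iInter.1 hz.2 i
  exact ⟨O, fun z hz => hz.1, ⟨hx, Set.mem_iInter.2 hxV⟩, fun i => by
    rw [← res_res (hV i) (hOV i), h0 i, res_zero]⟩

/-- The germ of a section of the sheaf Hom is determined by the stalk map when the source is of
finite type. -/
theorem evalStalk_injective (F G : X.Modules) [F.IsFiniteType] (x : X) :
    Function.Injective (RefHull.evalStalk F G x) := by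
  refine (injective_iff_map_eq_zero _).2 fun θ hθ => ?_
  obtain ⟨U, hxU, g, rfl⟩ := germM_exist θ
  rw [evalStalk_germ'] at hθ
  obtain ⟨V, ι, _, t, hxV, ht⟩ := exists_locGenBy F x
  let φ := homOnOfSec g
  have hxO : x ∈ U ⊓ V := ⟨hxU, hxV⟩
  obtain ⟨O, hO, hxO', hO0⟩ := exists_nhd_zero hxO (fun j => φ.app (U ⊓ V) inf_le_left (res F inf_le_right (t j)))
    fun j => by
      rw [homOnOfSec_germ, germM_res, hθ, LinearMap.zero_apply]
  rw [← germM_res (hO.trans inf_le_left) hxO' g]
  refine (congrArg (germM _ O x hxO') (sec_ext (res _ (hO.trans inf_le_left) g) 0 fun y hy => ?_)).trans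
    (germM_zero hxO')
  rw [homSh_res_apply]
  refine LinearMap.ext fun e => ?_
  obtain ⟨W, hyW, z, rfl⟩ := germM_exist e
  obtain ⟨W', h₁, h₂, a, hy', e'⟩ := ht (W ⊓ V) inf_le_right (res F inf_le_left z) y ⟨hyW, (hO hy).2⟩
  rw [← germM_res (h₁.trans inf_le_left) hy', ← res_res inf_le_left h₁, e']
  refine ((congrArg _ (map_sum _ _ _)).trans (map_sum _ _ _)).trans ?_
  show _ = (0 : G.presheaf.stalk y)
  refine Finset.sum_eq_zero fun j _ => ?_
  refine (congrArg (g.1 ⟨y, _⟩) ((germM_smul hy' (a j) _).trans (congrArg _ (germM_res h₂ hy' (t j))))).trans ?_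
  rw [map_smul, ← germM_res (inf_le_right : U ⊓ V ≤ V) (hO hy) (t j),
    ← homOnOfSec_germ g inf_le_left, ← germM_res hO hy, hO0 j, germM_zero, smul_zero]

/-- Every stalk map out of a finitely presented module extends to a neighbourhood. -/
theorem evalStalk_surjective (F G : X.Modules) [CohB1.IsFP F] (x : X) :
    Function.Surjective (RefHull.evalStalk F G x) := by
  classical
  intro ψ
  haveI : F.IsQuasicoherent := inferInstance
  obtain ⟨U, hU, hx, -⟩ := exists_isAffineOpen_mem_and_subset (show x ∈ (⊤ : X.Opens) from trivial)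
  haveI := finitePresentation_sections F hU
  obtain ⟨σ, hσ, hker⟩ := Module.FinitePresentation.out (R := Γ(X, U)) (M := Γ(F, U))
  obtain ⟨W₀, hxW₀, n₀, hn₀⟩ := exists_lift_family (M := G) x
    fun i : Fin σ.card => ψ (germM F U x hx ((σ.equivFin.symm i : σ) : Γ(F, U)))
  let n : σ → Γ(G, W₀) := fun i => n₀ (σ.equivFin i)
  have hn : ∀ i : σ, germM G W₀ x hxW₀ (n i) = ψ (germM F U x hx (i : Γ(F, U))) := fun i => by
    rw [hn₀, Equiv.symm_apply_apply]
  obtain ⟨W, hWle, hxW, n', hn'⟩ : ∃ (W : X.Opens) (_ : W ≤ U) (hxW : x ∈ W) (n' : σ → Γ(G, W)),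
      ∀ i : σ, germM G W x hxW (n' i) = ψ (germM F U x hx (i : Γ(F, U))) :=
    ⟨W₀ ⊓ U, inf_le_right, ⟨hxW₀, hx⟩, fun i => res G inf_le_left (n i), fun i => by rw [germM_res, hn]⟩
  obtain ⟨τ, hτ⟩ := hker
  have hrel : ∀ r : τ, germM G W x hxW ((r : σ →₀ Γ(X, U)).sum fun i c => resO X hWle c • n' i) = 0 := by
    intro r
    have h0 : Finsupp.linearCombination Γ(X, U) ((↑) : σ → Γ(F, U)) (r : σ →₀ Γ(X, U)) = 0 :=
      LinearMap.mem_ker.1 (hτ ▸ Submodule.subset_span r.2)
    rw [Finsupp.linearCombination_apply] at h0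
    have h1 := congrArg (fun m => ψ (germM F U x hx m)) h0
    simp only [Finsupp.sum, map_zero, germM, map_sum] at h1 ⊢
    refine Eq.trans ?_ h1
    refine Finset.sum_congr rfl fun i _ => ?_
    show germM G W x hxW (resO X hWle _ • n' i) = ψ (germM F U x hx (_ • (i : Γ(F, U))))
    rw [germM_smul, germ_resO, hn', germM_smul, map_smul]
  obtain ⟨O, hO, hxO, hO0⟩ := exists_nhd_zero hxW _ hrel
  obtain ⟨f, hfO, hxf⟩ := hU.exists_basicOpen_le ⟨x, hxO⟩ hx
  let D := X.basicOpen f
  have hD : D ≤ U := X.basicOpen_le f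
  letI := resModule G hD
  let n'' : σ → Γ(G, D) := fun i => res G (hfO.trans hO) (n' i)
  have hπ : Function.Surjective (Finsupp.linearCombination Γ(X, U) ((↑) : σ → Γ(F, U))) := by
    rw [← LinearMap.range_eq_top, Finsupp.range_linearCombination, Subtype.range_coe_subtype]
    simpa using hσ
  let L := Finsupp.linearCombination Γ(X, U) n''
  have hLker : LinearMap.ker (Finsupp.linearCombination Γ(X, U) ((↑) : σ → Γ(F, U))) ≤ LinearMap.ker L := by
    rw [← hτ, Submodule.span_le]
    intro r hr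
    rw [SetLike.mem_coe, LinearMap.mem_ker, Finsupp.linearCombination_apply]
    have := congrArg (res G hfO) (hO0 ⟨r, hr⟩)
    rw [res_zero, res_res, Finsupp.sum, res_sum] at this
    refine Eq.trans (Finset.sum_congr rfl fun i _ => ?_) this
    rw [res_smul, resO_resO]
    rfl
  let l₀ : Γ(F, U) →ₗ[Γ(X, U)] Γ(G, D) :=
    ((LinearMap.ker _).liftQ L hLker) ∘ₗ (LinearMap.quotKerEquivOfSurjective _ hπ).symm.toLinearMap
  have hl₀ : ∀ i : σ, l₀ (i : Γ(F, U)) = n'' i := fun i => by
    show (LinearMap.ker _).liftQ L hLker ((LinearMap.quotKerEquivOfSurjective _ hπ).symm _) = _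
    rw [show (LinearMap.quotKerEquivOfSurjective _ hπ).symm (i : Γ(F, U)) =
      Submodule.Quotient.mk (Finsupp.single i 1) from
        (LinearEquiv.symm_apply_eq _).2 (by simp [Finsupp.linearCombination_single]),
      Submodule.liftQ_apply]
    simp [L, Finsupp.linearCombination_single]
  letI := resAlg hD
  letI := resModule F hD
  haveI := isScalarTower_res F hD
  haveI := isScalarTower_res G hD
  haveI := isLocalization_resAlg hU f
  haveI := isLocalizedModule_resLin F (isLocAt_of_isQuasicoherent F hU) f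
  have hunit : ∀ s : Submonoid.powers f, IsUnit (algebraMap Γ(X, U) (Module.End Γ(X, U) Γ(G, D)) s) := fun s => by
    rw [Module.End.isUnit_iff]
    exact (IsUnit.smul_bijective (IsLocalization.map_units Γ(X, D) s) :
      Function.Bijective fun m : Γ(G, D) => algebraMap Γ(X, U) Γ(X, D) s.1 • m)
  let l₁ := IsLocalizedModule.lift (Submonoid.powers f) (resLin F hD) l₀ hunit
  let l : Γ(F, D) →ₗ[Γ(X, D)] Γ(G, D) :=
    l₁.extendScalarsOfIsLocalization (Submonoid.powers f) Γ(X, D)
  let φ := HomOn.ofLinear (hU.basicOpen f) l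
  refine ⟨germM (RefHull.homSh F G) D x hxf (secOfHomOn φ), ?_⟩
  rw [evalStalk_germ', secOfHomOn_apply]
  letI := QC70.stalkModule F hx
  have hgen : ∀ i : σ, homOnStalk φ x hxf (germM F U x hx (i : Γ(F, U))) = ψ (germM F U x hx (i : Γ(F, U))) := by
    intro i
    rw [← germM_res hD hxf, homOnStalk_germ φ le_rfl x hxf, germM_res hD hxf, HomOn.ofLinear_app_self]
    have : l (res F hD (i : Γ(F, U))) = n'' i :=
      (IsLocalizedModule.lift_apply (Submonoid.powers f) (resLin F hD) l₀ hunit _).trans (hl₀ i)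
    rw [this, germM_res, hn']
  have hall : ∀ m : Γ(F, U), homOnStalk φ x hxf (germM F U x hx m) = ψ (germM F U x hx m) := by
    intro m
    have hm : m ∈ Submodule.span Γ(X, U) (σ : Set Γ(F, U)) := hσ ▸ Submodule.mem_top
    induction hm using Submodule.span_induction with
    | mem v hv => exact hgen ⟨v, hv⟩
    | zero => rw [germM_zero, map_zero, map_zero]
    | add v w _ _ hv hw => rw [germM_add, map_add, map_add, hv, hw]
    | smul r v _ hv => rw [germM_smul, map_smul, map_smul, hv]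
  refine LinearMap.ext fun e => ?_
  haveI := QC70.isLocalizedModule_germ (isLocAt_of_isQuasicoherent F hU) hU hx
  obtain ⟨⟨m, t⟩, hmt⟩ := IsLocalizedModule.surj (hU.primeIdealOf ⟨x, hx⟩).asIdeal.primeCompl (germLinear F hx) e
  have hmt' : X.presheaf.germ U x hx t.1 • e = germM F U x hx m := hmt
  have hu : IsUnit (X.presheaf.germ U x hx t.1) :=
    isUnit_germ ((mem_basicOpen_iff_primeCompl hU hx t.1).2 t.2)
  refine hu.smul_left_cancel.1 ?_
  rw [← map_smul, ← map_smul, hmt']
  exact hall m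

theorem evalStalk_bijective (F G : X.Modules) [CohB1.IsFP F] (x : X) :
    Function.Bijective (RefHull.evalStalk F G x) :=
  haveI : F.IsFiniteType := inferInstance
  ⟨evalStalk_injective F G x, evalStalk_surjective F G x⟩

/-- Sections of the sheaf Hom over an affine open are linear maps of sections. -/
def secEquiv (F G : X.Modules) [F.IsQuasicoherent] (hU : IsAffineOpen U) :
    Γ(RefHull.homSh F G, U) ≃ₗ[Γ(X, U)] (Γ(F, U) →ₗ[Γ(X, U)] Γ(G, U)) where
  toFun g := (homOnOfSec g).app U le_rfl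
  map_add' g g' := LinearMap.ext fun m => by
    refine TopCat.Presheaf.section_ext (⟨G.presheaf, G.isSheaf⟩ : TopCat.Sheaf Ab X) _ _ _ fun y hy => ?_
    show germM G U y hy _ = germM G U y hy _
    rw [LinearMap.add_apply, germM_add, homOnOfSec_germ, homOnOfSec_germ, homOnOfSec_germ]
    rfl
  map_smul' r g := LinearMap.ext fun m => by
    refine TopCat.Presheaf.section_ext (⟨G.presheaf, G.isSheaf⟩ : TopCat.Sheaf Ab X) _ _ _ fun y hy => ?_
    show germM G U y hy _ = germM G U y hy _
    rw [RingHom.id_apply, LinearMap.smul_apply, germM_smul, homOnOfSec_germ, homOnOfSec_germ]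
    rfl
  invFun l := secOfHomOn (HomOn.ofLinear hU l)
  left_inv g := by
    show secOfHomOn (HomOn.ofLinear hU ((homOnOfSec g).app U le_rfl)) = g
    conv_rhs => rw [← secOfHomOn_homOnOfSec g]
    refine congrArg secOfHomOn (HomOn.ext (funext fun W => funext fun hW => LinearMap.ext fun m => ?_))
    exact HomOn.ext_of_affine hU (isLocAt_of_isQuasicoherent F hU) _ _
      (HomOn.ofLinear_app_self hU _) hW m
  right_inv l := by
    show (homOnOfSec (secOfHomOn (HomOn.ofLinear hU l))).app U le_rfl = l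
    rw [homOnOfSec_secOfHomOn, HomOn.ofLinear_app_self]

lemma secEquiv_germ (F G : X.Modules) [F.IsQuasicoherent] (hU : IsAffineOpen U)
    (g : Γ(RefHull.homSh F G, U)) (m : Γ(F, U)) (y : X) (hy : y ∈ U) :
    germM G U y hy (secEquiv F G hU g m) = g.1 ⟨y, hy⟩ (germM F U y hy m) :=
  homOnOfSec_germ g le_rfl m y hy

lemma secEquiv_res (F G : X.Modules) [F.IsQuasicoherent] (hU : IsAffineOpen U) (hV : IsAffineOpen V)
    (h : V ≤ U) (g : Γ(RefHull.homSh F G, U)) (m : Γ(F, U)) :
    secEquiv F G hV (res (RefHull.homSh F G) h g) (res F h m) = res G h (secEquiv F G hU g m) := by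
  refine TopCat.Presheaf.section_ext (⟨G.presheaf, G.isSheaf⟩ : TopCat.Sheaf Ab X) _ _ _ fun y hy => ?_
  show germM G V y hy _ = germM G V y hy _
  rw [germM_res, secEquiv_germ, secEquiv_germ, germM_res, homSh_res_apply]

/-- The sheaf Hom out of a finitely presented module into a quasi-coherent one is quasi-coherent. -/
theorem isQCoh_homSh (F G : X.Modules) [CohB1.IsFP F] [G.IsQuasicoherent] :
    Coh.IsQCoh (RefHull.homSh F G) := by
  haveI : F.IsQuasicoherent := inferInstance
  refine isQuasicoherent_of_forall_isLocAt _ fun U hU => ⟨fun f s => ?_, fun f t ht => ?_⟩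
  · haveI := finitePresentation_sections F hU
    let D := X.basicOpen f
    have hD : D ≤ U := X.basicOpen_le f
    letI := resAlg hD
    letI := resModule F hD
    letI := resModule G hD
    haveI := isScalarTower_res F hD
    haveI := isScalarTower_res G hD
    haveI := isLocalization_resAlg hU f
    haveI := isLocalizedModule_resLin F (isLocAt_of_isQuasicoherent F hU) f
    haveI := isLocalizedModule_resLin G (isLocAt_of_isQuasicoherent G hU) f
    let lD := secEquiv F G (hU.basicOpen f) s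
    obtain ⟨h, ⟨_, k, rfl⟩, e⟩ := Module.FinitePresentation.exists_lift_of_isLocalizedModule
      (Submonoid.powers f) (resLin G hD) ((lD.restrictScalars Γ(X, U)) ∘ₗ resLin F hD)
    refine ⟨k, (secEquiv F G hU).symm h, (secEquiv F G (hU.basicOpen f)).injective ?_⟩
    rw [map_smul]
    let L : Γ(F, D) →ₗ[Γ(X, D)] Γ(G, D) :=
      secEquiv F G (hU.basicOpen f) (res (RefHull.homSh F G) hD ((secEquiv F G hU).symm h))
    suffices key : L.restrictScalars Γ(X, U) = ((resO X hD f ^ k) • lD).restrictScalars Γ(X, U) from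
      LinearMap.ext fun z => LinearMap.congr_fun key z
    refine IsLocalizedModule.linearMap_ext (Submonoid.powers f) (resLin F hD) (resLin G hD)
      (LinearMap.ext fun m => ?_)
    show secEquiv F G (hU.basicOpen f) _ (res F hD m) = resO X hD f ^ k • lD (res F hD m)
    rw [secEquiv_res F G hU (hU.basicOpen f) hD, LinearEquiv.apply_symm_apply, ← resO_pow]
    exact LinearMap.congr_fun e m
  · haveI := finitePresentation_sections F hU
    let D := X.basicOpen f
    have hD : D ≤ U := X.basicOpen_le f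
    have h0 : ∀ m, res G hD (secEquiv F G hU t m) = 0 := fun m => by
      rw [← secEquiv_res F G hU (hU.basicOpen f) hD, ht, map_zero, LinearMap.zero_apply]
    obtain ⟨T, hT⟩ := Module.Finite.fg_top (R := Γ(X, U)) (M := Γ(F, U))
    choose k hk using fun m : T => (isLocAt_of_isQuasicoherent G hU).eq_zero_of f _ (h0 m)
    refine ⟨T.attach.sup k, (secEquiv F G hU).injective ?_⟩
    rw [map_smul, map_zero]
    refine LinearMap.ext_on hT fun m hm => ?_
    have hle : k ⟨m, hm⟩ ≤ T.attach.sup k := Finset.le_sup (f := k) (Finset.mem_attach _ _)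
    obtain ⟨d, hd⟩ := Nat.exists_eq_add_of_le hle
    rw [LinearMap.smul_apply, hd, add_comm, pow_add, mul_smul, hk ⟨m, hm⟩, smul_zero, LinearMap.zero_apply]

end Groth.Agent.Div89
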