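import Groth.Agent.Amp73.IdealNhd
import Groth.Agent.H98Strict.Admissible
import Groth.Agent.Div89.FTIdeal

/-!
Extension of finite type ideals from quasi-compact opens.
-/

universe u

open CategoryTheory CategoryTheory.Limits AlgebraicGeometry Opposite TopologicalSpace

noncomputable section

namespace Groth.Agent.Div89

open QC70 SubMod72

set_option backward.isDefEq.respectTransparency.types false

variable {X : Scheme.{u}}

/-- The image of a quasi-coherent module in the structure sheaf is an ideal sheaf. -/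
theorem exists_idealSheaf_of_hom (J : X.Modules) [J.IsQuasicoherent]
    (i : J ⟶ Coh.structureModule X) : ∃ I : X.IdealSheafData,
      ∀ (W : X.affineOpens) (a : Γ(X, W.1)), a ∈ I.ideal W ↔ ∃ z, (i.app W.1 z : Γ(X, W.1)) = a := by
  let ideal : ∀ W : X.affineOpens, Ideal Γ(X, W.1) := fun W => LinearMap.range (appLinear i W.1)
  refine ⟨{ ideal := ideal
            map_ideal_basicOpen := fun W g => ?_ }, fun W a => Iff.rfl⟩
  refine le_antisymm (Ideal.map_le_iff_le_comap.2 ?_) ?_
  · rintro _ ⟨w, rfl⟩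
    exact ⟨QC70.res J (X.basicOpen_le g) w, QC70.app_res i (X.basicOpen_le g) w⟩
  · rintro _ ⟨z, rfl⟩
    obtain ⟨k, w, hw⟩ := (isLocAt_of_isQuasicoherent J W.2).exists_of g z
    have hr : IsUnit (QC70.resO X (X.basicOpen_le g) g) := RingedSpace.isUnit_res_basicOpen _ g
    obtain ⟨v, hv⟩ := (hr.pow k).exists_left_inv
    have hz : appLinear i _ z = (v : Γ(X, X.basicOpen g)) *
        X.presheaf.map (homOfLE (X.basicOpen_le g)).op (appLinear i W.1 w : Γ(X, W.1)) := by
      have h1 := congrArg (i.app (X.basicOpen g)) hw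
      rw [QC70.app_res, Scheme.Modules.Hom.app_smul] at h1
      refine Eq.trans ?_ (congrArg (v * ·) h1.symm)
      show _ = v * (QC70.resO X (X.basicOpen_le g) g ^ k * _)
      rw [← mul_assoc, hv, one_mul]
      rfl
    refine (congrArg (fun q : Γ(X, X.basicOpen g) =>
      q ∈ Ideal.map (X.presheaf.map (homOfLE (X.basicOpen_le g)).op).hom (ideal W)) hz).mpr ?_
    exact Ideal.mul_mem_left _ v (Ideal.mem_map_of_mem _ ⟨w, rfl⟩)

/-- A quasi-coherent ideal of finite type on a quasi-compact open contains an ideal of finite type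
agreeing with it there. -/
theorem exists_ft_le [CompactSpace X] [QuasiSeparatedSpace X] (J0 : X.IdealSheafData) (V : X.Opens)
    (hV : IsCompact (V : Set X)) (hfg : ∀ W : X.affineOpens, W.1 ≤ V → (J0.ideal W).FG) :
    ∃ K : X.IdealSheafData, BlowUp.IsFiniteTypeIdeal K ∧ K ≤ J0 ∧
      ∀ W : X.affineOpens, W.1 ≤ V → K.ideal W = J0.ideal W := by
  classical
  let F0 := ClSub.idealMod J0
  have hq : F0.IsQuasicoherent := Omega57.isQuasicoherent_idealMod J0
  have hinj : ∀ W : X.Opens, Function.Injective (OmegaSh.idealSect J0 W) := fun W a b h =>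
    OmegaSh.idealModι_app_injective (W := W) J0 h
  have hFG : FG V (Amp73.topSub F0) := by
    intro p hp
    obtain ⟨D, hpD, hDV⟩ := MP99.exists_affine_le p (W := V) hp
    obtain ⟨t, ht⟩ := hfg D hDV
    have hm : ∀ r : t, ∃ m, OmegaSh.idealSect J0 D.1 m = r.1 := fun r =>
      Curves2.exists_idealSect_of_mem J0 D (ht.le (Submodule.subset_span r.2))
    choose m hm using hm
    refine ⟨D.1, Set.range m, hDV, hpD, Set.finite_range m, fun W hW => ?_⟩
    refine le_antisymm (fun x _ => ?_) le_top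
    refine (locSpan (Set.range m)).local_mem x fun q hq' => ?_
    obtain ⟨E, hqE, hEW⟩ := MP99.exists_affine_le q (W := W) hq'
    refine ⟨E.1, hEW, hqE, mem_locSpan (hEW.trans hW) ?_⟩
    have hx : OmegaSh.idealSect J0 E.1 (res F0 hEW x) ∈
        Ideal.span ((fun r : t => X.presheaf.map (homOfLE (hEW.trans hW)).op r.1) '' Set.univ) := by
      have h1 := Curves2.idealSect_mem_ideal J0 E (res F0 hEW x)
      rw [← J0.map_ideal (U := E) (V := D) (hEW.trans hW), ← ht, Ideal.map_span] at h1
      refine Ideal.span_mono ?_ h1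
      rintro _ ⟨r, hr, rfl⟩
      exact ⟨⟨r, hr⟩, trivial, rfl⟩
    suffices h : ∀ y : Γ(X, E.1), y ∈ Ideal.span ((fun r : t => X.presheaf.map (homOfLE (hEW.trans hW)).op r.1) '' Set.univ) →
        ∀ z, OmegaSh.idealSect J0 E.1 z = y →
          z ∈ Submodule.span Γ(X, E.1) (res F0 (hEW.trans hW) '' Set.range m) from h _ hx _ rfl
    intro y hy
    induction hy using Submodule.span_induction with
    | mem w hw =>
      obtain ⟨r, -, rfl⟩ := hw
      intro z hz
      refine Submodule.subset_span ⟨m r, ⟨r, rfl⟩, hinj _ ?_⟩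
      rw [Curves2.idealSect_res, hm, hz]
    | zero =>
      intro z hz
      rw [hinj _ (hz.trans (map_zero _).symm)]
      exact zero_mem _
    | add a b ha hb iha ihb =>
      intro z hz
      have ha' : a ∈ J0.ideal E := by
        rw [← J0.map_ideal (U := E) (V := D) (hEW.trans hW), ← ht, Ideal.map_span]
        refine Ideal.span_mono ?_ ha
        rintro _ ⟨r, -, rfl⟩
        exact ⟨r.1, r.2, rfl⟩
      obtain ⟨za, hza⟩ := Curves2.exists_idealSect_of_mem J0 E ha'
      have hzb : OmegaSh.idealSect J0 E.1 (z - za) = b := by rw [map_sub, hz, hza, add_sub_cancel_left]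
      rw [← add_sub_cancel za z]
      exact add_mem (iha za hza) (ihb _ hzb)
    | smul c a ha iha =>
      intro z hz
      have ha' : a ∈ J0.ideal E := by
        rw [← J0.map_ideal (U := E) (V := D) (hEW.trans hW), ← ht, Ideal.map_span]
        refine Ideal.span_mono ?_ ha
        rintro _ ⟨r, -, rfl⟩
        exact ⟨r.1, r.2, rfl⟩
      obtain ⟨za, hza⟩ := Curves2.exists_idealSect_of_mem J0 E ha'
      rw [hinj _ (hz.trans (((Omega57.idealSect_smul J0 E.1 c za).trans (by rw [hza, smul_eq_mul])).symm))]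
      exact Submodule.smul_mem _ _ (iha za hza)
  obtain ⟨Q, hQ, hQV⟩ := exists_extension_qcqs hV hFG
  let J := toMod Q
  obtain ⟨hJ, hJft⟩ := isQuasicoherent_isFiniteType_toMod hQ
  let i : J ⟶ Coh.structureModule X := toModι Q ≫ ClSub.idealModι J0
  obtain ⟨I, hI⟩ := exists_idealSheaf_of_hom J i
  have hle : I ≤ J0 := fun W a ha => by
    obtain ⟨z, rfl⟩ := (hI W a).1 ha
    exact Curves2.idealSect_mem_ideal J0 W ((toModι Q).app W.1 z)
  refine ⟨I, fun W => ?_, hle, fun W hW => le_antisymm (hle W) fun a ha => ?_⟩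
  · have := finite_sections_of_isFiniteType J W.2
    rw [show I.ideal W = LinearMap.range (appLinear i W.1) from Ideal.ext (hI W),
      LinearMap.range_eq_map]
    exact Module.Finite.fg_top.map _
  · obtain ⟨m, hm⟩ := Curves2.exists_idealSect_of_mem J0 W ha
    have h1 : m ∈ Q.carrier W.1 := by rw [hQV W.1 hW]; trivial
    obtain ⟨z, hz⟩ := (mem_iff_exists Q _).mp h1
    refine (hI W a).2 ⟨z, ?_⟩
    rw [← hm, ← hz]
    rfl

theorem comap_map_ι (V : X.Opens) [QuasiCompact V.ι] (I : V.toScheme.IdealSheafData) :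
    (I.map V.ι).comap V.ι = I := by
  refine le_antisymm (Scheme.IdealSheafData.comap_map_le _ _) fun U => ?_
  have hU' : IsAffineOpen (V.ι ⁻¹ᵁ (V.ι ''ᵁ U.1)) := by
    rw [Scheme.Hom.preimage_image_eq]; exact U.2
  intro a ha
  rw [Scheme.IdealSheafData.ideal_comap_of_isOpenImmersion, Ideal.mem_comap,
    Scheme.IdealSheafData.ideal_map I V.ι ⟨_, U.2.image_of_isOpenImmersion V.ι⟩ hU', Ideal.mem_comap]
  have h2 := Ideal.mem_map_of_mem (V.toScheme.presheaf.map (homOfLE
    (Scheme.Hom.preimage_image_eq V.ι U.1).le).op).hom ha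
  have e := I.map_ideal (U := ⟨_, hU'⟩) (V := U) (Scheme.Hom.preimage_image_eq V.ι U.1).le
  replace h2 := e.le h2
  convert h2 using 1
  change (((V.ι.appIso U.1).inv ≫ V.ι.app (V.ι ''ᵁ U.1))).hom a = _
  rw [Scheme.Hom.appIso_inv_app]
  rfl

theorem fg_comap_of_bijective {R S : Type*} [CommRing R] [CommRing S] (f : R →+* S)
    (hf : Function.Bijective f) {J : Ideal S} (hJ : J.FG) : (J.comap f).FG := by
  let e := RingEquiv.ofBijective f hf
  have h : Ideal.map (e.symm : S →+* R) J = Ideal.comap f J := Ideal.map_symm (I := J) e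
  exact h ▸ hJ.map (e.symm : S →+* R)

/-- An admissible ideal on an open extends to an admissible ideal. -/
theorem exists_admissible_extension [CompactSpace X] [QuasiSeparatedSpace X] (U V : X.Opens)
    (hU : IsCompact (U : Set X)) (hV : IsCompact (V : Set X)) (I : V.toScheme.IdealSheafData)
    (hI : BlowUp.IsAdmissibleFor (V.ι ⁻¹ᵁ U) I) :
    ∃ J : X.IdealSheafData, BlowUp.IsAdmissibleFor U J ∧ J.comap V.ι = I := by
  have : CompactSpace V.toScheme := isCompact_iff_compactSpace.1 hV
  have : QuasiCompact V.ι := quasiCompact_of_compactSpace V.ι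
  have hfg : ∀ W : X.affineOpens, W.1 ≤ V → ((I.map V.ι).ideal W).FG := by
    intro W hW
    have e1 : V.ι ''ᵁ (V.ι ⁻¹ᵁ W.1) = W.1 := by
      rw [Scheme.Hom.image_preimage_eq_opensRange_inf, Scheme.Opens.opensRange_ι]
      exact inf_eq_right.2 hW
    have hW' : IsAffineOpen (V.ι ⁻¹ᵁ W.1) := W.2.preimage_of_isOpenImmersion V.ι
      (by rw [Scheme.Opens.opensRange_ι]; exact hW)
    rw [Scheme.IdealSheafData.ideal_map I V.ι W hW']
    have hbij : Function.Bijective (V.ι.app W.1).hom := by
      have : IsIso (V.ι.app W.1) := V.ι.isIso_app _ (by rw [Scheme.Opens.opensRange_ι]; exact hW)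
      exact ConcreteCategory.bijective_of_isIso (V.ι.app W.1)
    exact fg_comap_of_bijective _ hbij (hI.1 ⟨_, hW'⟩)
  obtain ⟨K, hK, -, hKV⟩ := exists_ft_le (I.map V.ι) V hV hfg
  have hKI : K.comap V.ι = I := by
    refine Eq.trans ?_ (comap_map_ι V I)
    refine Scheme.IdealSheafData.ext (funext fun T => ?_)
    rw [Scheme.IdealSheafData.ideal_comap_of_isOpenImmersion,
      Scheme.IdealSheafData.ideal_comap_of_isOpenImmersion]
    rw [hKV ⟨_, T.2.image_of_isOpenImmersion V.ι⟩ (V.ι.image_le_opensRange _ |>.trans_eq V.opensRange_ι)]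
  obtain ⟨A, hA, hAs⟩ := H98Strict.exists_ideal_support U hU
  have hAI : I.support ≤ (A.comap V.ι).support := by
    intro x hx
    rw [Scheme.IdealSheafData.support_comap]
    show V.ι x ∈ (A.support : Set X)
    rw [hAs]
    exact Set.disjoint_left.1 hI.2 hx
  obtain ⟨n, hn0, hn⟩ := H98Strict.exists_pow_le (isFiniteTypeIdeal_comap V.ι hA) hAI
  refine ⟨K ⊔ A ^ n, ⟨fun W => ?_, ?_⟩, ?_⟩
  · rw [Scheme.IdealSheafData.ideal_sup, Pi.sup_apply, Scheme.IdealSheafData.ideal_pow, Pi.pow_apply]
    exact Submodule.FG.sup (hK W) (Ideal.FG.pow (hA W))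
  · rw [Scheme.IdealSheafData.support_sup, Scheme.IdealSheafData.support_pow A n hn0.ne']
    exact Set.disjoint_left.2 fun x hx hxU => hAs.le hx.2 hxU
  · rw [Scheme.IdealSheafData.comap_sup, comap_pow, hKI]
    exact sup_eq_left.2 hn

end Groth.Agent.Div89

end
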