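import Groth.Agent.Div89.JacScheme
import Groth.Agent.Unr55.StalkCrit
import Groth.Agent.S2063
import Groth.Agent.VarGal.LocalDim
import Groth.Agent.E4O.JacobsonLocalDim
import Groth.Agent.Cyc90.FieldSetup
import Groth.Agent.Open62.SmoothFibre

/-!
For a flat morphism with fibres of pure dimension `d` the Jacobian locus in degree `d` is the non-smooth locus.
-/

set_option autoImplicit false
set_option linter.style.haveILetI false
set_option backward.isDefEq.respectTransparency.types false

universe u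

open CategoryTheory CategoryTheory.Limits AlgebraicGeometry TopologicalSpace

namespace Groth.Agent.Div89.JacScheme

theorem localDim_eq_of_pure {k : Type u} [Field k] {Z : Scheme.{u}} (g : Z ⟶ Spec (CommRingCat.of k))
    [LocallyOfFiniteType g] (d : ℕ) (hd : ∀ T ∈ irreducibleComponents Z, topologicalKrullDim T = d) (z : Z) :
    FlatMor.localDim Z z = d := by
  haveI : IsLocallyNoetherian Z := LocallyOfFiniteType.isLocallyNoetherian g
  haveI : JacobsonSpace Z := LocallyOfFiniteType.jacobsonSpace g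
  obtain ⟨δ, hδ, h0⟩ := E4O.exists_dimFun_lft g (fun _ => 0) (Cyc90.isSetup_spec_field k) fun _ _ => rfl
  obtain ⟨N, M, -, -, h1, h2, -⟩ := E4O.exists_localDim_data hδ.2.2 h0 Set.univ isClosed_univ z (Set.mem_univ z)
  let j : ↥(Set.univ : Set Z) → Z := Subtype.val
  have hj : Topology.IsOpenEmbedding j := isOpen_univ.isOpenEmbedding_subtypeVal
  rw [show FlatMor.localDim Z z = FlatMor.localDim (Set.univ : Set Z) ⟨z, Set.mem_univ z⟩ from
    (VarGal.localDim_isOpenEmbedding hj ⟨z, Set.mem_univ z⟩).symm, h1, ← h2]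
  have hdim : ∀ C ∈ irreducibleComponents (Set.univ : Set Z), topologicalKrullDim C = (d : WithBot ℕ∞) := by
    intro C hC
    rw [← E4O.dim_image_val C]
    refine hd _ ?_
    have e := (Homeomorph.Set.univ Z)
    exact image_mem_irreducibleComponents_of_isPreirreducible_fiber j hj.continuous hj.isOpenMap
      (fun x => Set.Subsingleton.isPreirreducible fun a ha b hb => Subtype.ext ((ha : j a = x).trans (hb : j b = x).symm))
      (fun x => ⟨⟨x, trivial⟩, rfl⟩) hC
  refine le_antisymm (iSup₂_le fun C hC => (hdim C hC.1).le) ?_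
  let x : (Set.univ : Set Z) := ⟨z, Set.mem_univ z⟩
  refine le_trans (hdim _ (irreducibleComponent_mem_irreducibleComponents x)).ge ?_
  exact le_iSup₂_of_le (irreducibleComponent x)
    ⟨irreducibleComponent_mem_irreducibleComponents x, mem_irreducibleComponent⟩ le_rfl

theorem notMem_support_iff_formallySmooth_of_field {k : Type u} [Field k] {Z : Scheme.{u}}
    (g : Z ⟶ Spec (CommRingCat.of k)) [LocallyOfFiniteType g] [QuasiSeparated g] (d : ℕ)
    (hd : ∀ T ∈ irreducibleComponents Z, topologicalKrullDim T = d) (z : Z) :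
    z ∉ (Fitt.sheafIdeal (Omega.sheaf g) d).support ↔ (g.stalkMap z).hom.FormallySmooth := by
  have hV : IsAffineOpen (⊤ : (Spec (CommRingCat.of k)).Opens) := isAffineOpen_top _
  obtain ⟨W, hW, hzW, -⟩ := exists_isAffineOpen_mem_and_subset (X := Z) (x := z) (U := ⊤) trivial
  have e : W ≤ g ⁻¹ᵁ ⊤ := fun _ _ => trivial
  letI := (g.appLE ⊤ W e).hom.toAlgebra
  letI : Field Γ(Spec (CommRingCat.of k), ⊤) :=
    ((Scheme.ΓSpecIso (CommRingCat.of k)).commRingCatIsoToRingEquiv.toMulEquiv.isField
      (Field.toIsField k)).toField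
  haveI : Algebra.FiniteType Γ(Spec (CommRingCat.of k), ⊤) Γ(Z, W) :=
    (HasRingHomProperty.appLE @LocallyOfFiniteType g inferInstance ⟨⊤, hV⟩ ⟨W, hW⟩ e :)
  let q := hW.primeIdealOf ⟨z, hzW⟩
  have hloc : FlatMor.localDim (PrimeSpectrum Γ(Z, W)) q = d := by
    have h1 := VarGal.localDim_isOpenEmbedding hW.fromSpec.isOpenEmbedding q
    rw [hW.fromSpec_primeIdealOf, localDim_eq_of_pure g d hd] at h1
    exact h1
  rw [notMem_support_iff_chart g d hW hV e hzW, Fit14.not_le_iff_finrank_le]
  have hpt : (g.stalkMap z).hom.FormallySmooth ↔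
      (g.stalkMap (hW.fromSpec q)).hom.FormallySmooth :=
    (congrArg (fun y : Z => (g.stalkMap y).hom.FormallySmooth) (hW.fromSpec_primeIdealOf ⟨z, hzW⟩)).symm.to_iff
  rw [hpt, Unr55.formallySmooth_stalkMap_iff_chart g hV hW e, S2063.result q.asIdeal, hloc]
  exact ⟨fun h => WithBot.coe_le_coe.2 (Nat.cast_le.2 h),
    fun h => Nat.cast_le.1 (WithBot.coe_le_coe.1 h)⟩

theorem notMem_support_iff_smooth_of_flat {X S : Scheme.{u}} (f : X ⟶ S) [Flat f] [LocallyOfFinitePresentation f]
    [QuasiSeparated f] (d : ℕ)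
    (hdim : ∀ s : S, ∀ T ∈ irreducibleComponents (f.fiber s), topologicalKrullDim T = d) (x : X) :
    x ∉ (Fitt.sheafIdeal (Omega.sheaf f) d).support ↔ ∃ U : X.Opens, x ∈ U ∧ Smooth (U.ι ≫ f) := by
  haveI : ∀ s : S, LocallyOfFinitePresentation (f.fiberToSpecResidueField s) := fun s =>
    MorphismProperty.pullback_snd _ _ inferInstance
  haveI : QuasiSeparated (pullback.snd f (S.fromSpecResidueField (f x))) :=
    MorphismProperty.pullback_snd _ _ inferInstance
  haveI : LocallyOfFiniteType (pullback.snd f (S.fromSpecResidueField (f x))) :=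
    MorphismProperty.pullback_snd _ _ inferInstance
  have h0 : (f.stalkMap x).hom.FormallySmooth ↔ x ∈ (f.smoothLocus : Set X) := Iff.rfl
  rw [Unr55.exists_smooth_iff f, h0, ← Open62.fibreSmooth_of_flat f, Open62.mem_fibreSmooth_iff f x]
  refine Iff.trans ?_ (notMem_support_iff_formallySmooth_of_field (k := S.residueField (f x))
    (pullback.snd f (S.fromSpecResidueField (f x))) d (hdim (f x)) (f.asFiber x))
  rw [← fitting_omega_comap f (S.fromSpecResidueField (f x)) d, Scheme.IdealSheafData.support_comap]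
  show x ∉ (Fitt.sheafIdeal (Omega.sheaf f) d).support ↔
    f.fiberι (f x) (f.asFiber x) ∉ (Fitt.sheafIdeal (Omega.sheaf f) d).support
  rw [Scheme.Hom.fiberι_asFiber]

end Groth.Agent.Div89.JacScheme
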