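import Groth.Agent.Div89.JacSmooth
import Groth.Agent.Unr55.Coordinates
import Mathlib.RingTheory.Smooth.Locus
import Mathlib.RingTheory.Etale.Kaehler

/-!
The Jacobian criterion for a quotient of a standard smooth algebra by a regular sequence: smoothness at a
prime is equivalent to the non-vanishing of the Fitting ideal of the differentials in virtual dimension.
-/

set_option autoImplicit false
set_option linter.style.haveILetI false
set_option backward.isDefEq.respectTransparency.types false

universe u

open MvPolynomial Algebra TensorProduct KaehlerDifferential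

namespace Groth.Agent.Div89.JacSmooth

section Minor

variable {R A : Type u} [CommRing R] [CommRing A] [Algebra R A] {N k : ℕ}
  (φ : MvPolynomial (Fin N) R →ₐ[R] A) (hφ : Function.Surjective φ)
  (g : Fin k → MvPolynomial (Fin N) R) (hker : RingHom.ker φ.toRingHom = Ideal.span (Set.range g))
  {m : ℕ}

include hφ hker in
/-- A maximal minor of the Jacobian of all the equations cuts out a standard smooth algebra. -/
theorem isStandardSmooth_of_minor (hk : k + m = N) (e : Fin k → Fin N) (he : Function.Injective e)
    (T : Type u) [CommRing T] [Algebra R T] [Algebra A T] [IsScalarTower R A T]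
    [IsLocalization.Away (φ (Matrix.of fun i j => pderiv (e i) (g j)).det) T] :
    Algebra.IsStandardSmoothOfRelativeDimension m R T := by
  classical
  set h := (Matrix.of fun i j => pderiv (e i) (g j)).det with hh
  let S0 := MvPolynomial (Fin N) R ⧸ Ideal.span (Set.range g)
  let ε : S0 ≃ₐ[R] A := (Ideal.quotientEquivAlgOfEq R hker.symm).trans
    (Ideal.quotientKerAlgEquivOfSurjective hφ)
  have hε : ∀ x, ε (Ideal.Quotient.mk _ x) = φ x := fun x => rfl
  letI : Algebra S0 T := ((algebraMap A T).comp ε.toRingEquiv.toRingHom).toAlgebra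
  haveI : IsScalarTower R S0 T := IsScalarTower.of_algebraMap_eq (R := R) (S := S0) (A := T) fun r => by
    show algebraMap R T r = algebraMap A T (ε (algebraMap R S0 r))
    rw [ε.commutes, ← IsScalarTower.algebraMap_apply]
  haveI : IsLocalization.Away (Ideal.Quotient.mk (Ideal.span (Set.range g)) h) T := by
    refine IsLocalization.Away.mk _ ?_ (fun z => ?_) fun x y hxy => ?_
    · show IsUnit (algebraMap A T (φ h))
      exact IsLocalization.Away.algebraMap_isUnit (φ h)
    · obtain ⟨n, x, hx⟩ := IsLocalization.Away.surj (φ h) z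
      obtain ⟨x', rfl⟩ := ε.surjective x
      exact ⟨n, x', hx⟩
    · obtain ⟨⟨_, n, rfl⟩, hn⟩ := (IsLocalization.eq_iff_exists (Submonoid.powers (φ h)) T).1
        (show algebraMap A T (ε x) = algebraMap A T (ε y) from hxy)
      refine ⟨n, ε.injective ?_⟩
      rw [map_mul, map_mul, map_pow, hε]
      exact hn
  let P0 : PreSubmersivePresentation R S0 (Fin N) (Fin k) :=
    PreSubmersivePresentation.naive e he
  let P1 := SubmersivePresentation.localizationAway T (Ideal.Quotient.mk (Ideal.span (Set.range g)) h)
  let P2 := P1.toPreSubmersivePresentation.comp P0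
  have hjac : IsUnit P2.jacobian := by
    rw [PreSubmersivePresentation.comp_jacobian_eq_jacobian_smul_jacobian, Algebra.smul_def, IsUnit.mul_iff]
    refine ⟨?_, P1.jacobian_isUnit⟩
    have hval : ∀ z, algebraMap P0.Ring S0 z = Ideal.Quotient.mk _ z := fun z => by
      rw [P0.algebraMap_apply]
      exact AlgHom.congr_fun (show aeval P0.val = Ideal.Quotient.mkₐ R _ from
        MvPolynomial.algHom_ext fun i => by rw [aeval_X]; simp [P0, PreSubmersivePresentation.naive,
          Presentation.naive, Generators.naive]; rfl) z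
    have hJ : P0.jacobian = Ideal.Quotient.mk _ h := by
      rw [PreSubmersivePresentation.jacobian_eq_jacobiMatrix_det, hval, hh]
      congr 2
      ext i j : 1
      rw [PreSubmersivePresentation.jacobiMatrix_naive]
      rfl
    rw [hJ]
    exact IsLocalization.Away.algebraMap_isUnit _
  refine SubmersivePresentation.isStandardSmoothOfRelativeDimension ⟨P2, hjac⟩ ?_
  show Nat.card (Unit ⊕ Fin N) - Nat.card (Unit ⊕ Fin k) = m
  simp only [Nat.card_sum, Nat.card_fin, Nat.card_unique]
  omega

include hker in
theorem det_notMem_of_relations (e : Fin k → Fin N) (g' : Fin k → MvPolynomial (Fin N) R)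
    (hg' : ∀ j, φ (g' j) = 0) (q : Ideal A) [q.IsPrime]
    (h : φ (Matrix.of fun i j => pderiv (e i) (g' j)).det ∉ q) :
    φ (Matrix.of fun i j => pderiv (e i) (g j)).det ∉ q := by
  classical
  have hmem : ∀ j, g' j ∈ Ideal.span (Set.range g) := fun j => hker ▸ (show g' j ∈ RingHom.ker φ.toRingHom from hg' j)
  choose a ha using fun j => Ideal.mem_span_range_iff_exists_fun.1 (hmem j)
  have h0 : ∀ l, φ (g l) = 0 := fun l => by
    have : g l ∈ RingHom.ker φ.toRingHom := hker ▸ Ideal.subset_span ⟨l, rfl⟩
    exact this
  have hM : φ.mapMatrix (Matrix.of fun i j => pderiv (e i) (g' j)) =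
      φ.mapMatrix (Matrix.of fun i j => pderiv (e i) (g j)) * φ.mapMatrix (Matrix.of fun l j => a j l) := by
    ext i j
    simp only [AlgHom.mapMatrix_apply, Matrix.map_apply, Matrix.of_apply, Matrix.mul_apply]
    rw [← ha j, map_sum, map_sum]
    refine Finset.sum_congr rfl fun l _ => ?_
    simp [h0, mul_comm]
  intro hmem'
  apply h
  rw [AlgHom.map_det] at hmem' ⊢
  rw [hM, Matrix.det_mul]
  exact Ideal.mul_mem_right _ _ hmem'

include hφ hker in
theorem exists_minor_of_fitting (hk : k + m = N) (q : Ideal A) [q.IsPrime]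
    (hq : ¬ Fitt.ideal A Ω[A⁄R] m ≤ q) :
    ∃ e : Fin k → Fin N, Function.Injective e ∧ φ (Matrix.of fun i j => pderiv (e i) (g j)).det ∉ q := by
  haveI : Algebra.FiniteType R A := Algebra.FiniteType.of_surjective φ hφ
  obtain rfl : k = N - m := by omega
  obtain ⟨g', e, hg', he, h⟩ := exists_relations φ hφ q hq
  exact ⟨e, he, det_notMem_of_relations φ g hker e g' hg' q h⟩

end Minor

section Lci

variable {R B A : Type u} [CommRing R] [CommRing B] [CommRing A] [Algebra R B] [Algebra R A] [Algebra B A]
  [IsScalarTower R B A]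

open Groth.Agent.Unr55.Coord in
/-- Near a smooth point of a quotient of a standard smooth algebra by elements all whose relations have
coefficients in their ideal, the equations have independent differentials. -/
theorem exists_minor_of_smoothAt {N M c : ℕ} (P : SubmersivePresentation R B (Fin N) (Fin M))
    (hs : Function.Surjective (algebraMap B A)) (f : Fin c → B)
    (hker : RingHom.ker (algebraMap B A) = Ideal.span (Set.range f))
    (hrel : ∀ a : Fin c → B, ∑ i, a i * f i = 0 → ∀ i, a i ∈ Ideal.span (Set.range f))
    (ft : Fin c → MvPolynomial (Fin N) R) (hft : ∀ j, aeval P.val (ft j) = f j)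
    (q : Ideal A) [q.IsPrime] (hsm : Algebra.IsSmoothAt R q) :
    ∃ e : Fin (M + c) → Fin N, Function.Injective e ∧
      algebraMap B A (aeval P.val (Matrix.of fun i j => pderiv (e i) (Fin.append P.relation ft j)).det) ∉ q := by
  classical
  haveI : Algebra.IsStandardSmooth R B := P.isStandardSmooth
  let q' := q.comap (algebraMap B A)
  let L := Localization.AtPrime q'
  let κ := IsLocalRing.ResidueField L
  let ρ : B →+* κ := (IsLocalRing.residue L).comp (algebraMap B L)
  have hρ : ∀ x, ρ x = 0 ↔ x ∈ q' := fun x => by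
    show IsLocalRing.residue L (algebraMap B L x) = 0 ↔ _
    rw [IsLocalRing.residue_eq_zero_iff, IsLocalization.AtPrime.to_map_mem_maximal_iff L q']
  have hmap : (RingHom.ker (algebraMap B A)).map (algebraMap B L) =
      Ideal.span (Set.range fun i : ULift.{u} (Fin c) => algebraMap B L (f i.down)) := by
    rw [hker, Ideal.map_span, ← Set.range_comp]
    exact congrArg Ideal.span (Set.ext fun x => ⟨fun ⟨i, h⟩ => ⟨⟨i⟩, h⟩, fun ⟨i, h⟩ => ⟨i.down, h⟩⟩)
  have hsmB : Algebra.IsSmoothAt R q' := inferInstance
  obtain ⟨t, ht, hli⟩ := (isSmoothAt_iff R hs (hker ▸ Submodule.fg_span (Set.finite_range f)) q hsmB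
    (fun i : ULift.{u} (Fin c) => f i.down) hmap).1 hsm
  have hall : ∀ j : Fin c, (⟨j⟩ : ULift.{u} (Fin c)) ∈ t := by
    intro j
    by_contra hj
    let D : Set (Fin c) := {i | (⟨i⟩ : ULift.{u} (Fin c)) ∈ t}
    have h1 : algebraMap B L (f j) ∈ (Ideal.span (f '' D)).map (algebraMap B L) := by
      have h2 : algebraMap B L (f j) ∈ (RingHom.ker (algebraMap B A)).map (algebraMap B L) :=
        Ideal.mem_map_of_mem _ (hker ▸ Ideal.subset_span ⟨j, rfl⟩)
      rw [ht] at h2
      refine Ideal.span_le.2 ?_ h2
      rintro _ ⟨i, hi, rfl⟩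
      exact Ideal.mem_map_of_mem _ (Ideal.subset_span ⟨i.down, hi, rfl⟩)
    obtain ⟨s, hs', hsf⟩ := (IsLocalization.algebraMap_mem_map_algebraMap_iff q'.primeCompl L _ _).1 h1
    obtain ⟨l, hl, hsum⟩ := (Finsupp.mem_span_image_iff_linearCombination B).1 hsf
    have hlj : l j = 0 := Finsupp.notMem_support_iff.1 fun hh => hj (hl hh)
    have h3 := hrel (fun i => (if i = j then s else 0) - l i) (by
      rw [Finsupp.linearCombination_apply, Finsupp.sum_fintype _ _ (fun i => zero_smul B (f i))] at hsum
      simp only [smul_eq_mul] at hsum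
      simp only [sub_mul, Finset.sum_sub_distrib, ite_mul, zero_mul, Finset.sum_ite_eq', Finset.mem_univ,
        if_true, hsum, sub_self]) j
    rw [if_pos rfl, hlj, sub_zero, ← hker] at h3
    exact hs' (show algebraMap B A s ∈ q by rw [RingHom.mem_ker.1 h3]; exact zero_mem q)
  have hliδ : LinearIndependent κ (fun j : Fin c => δ R q' (f j)) := by
    have := hli.comp (fun j : Fin c => (⟨⟨j⟩, hall j⟩ : ↥t)) (fun a b hab => by simpa using hab)
    exact this
  let gr : MvPolynomial (Fin N) R → (Fin N → κ) := fun y i => ρ (aeval P.val (pderiv i y))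
  let Λ : (Fin N → κ) →ₗ[κ] κ ⊗[L] Ω[L⁄R] := Fintype.linearCombination κ (fun i => δ R q' (P.val i))
  have hδadd : ∀ a b, δ R q' (a + b) = δ R q' a + δ R q' b := fun a b => by
    simp only [δ, map_add, tmul_add]
  have hδalg : ∀ r : R, δ R q' (algebraMap R B r) = 0 := fun r => by
    simp only [δ, ← IsScalarTower.algebraMap_apply R B (Localization.AtPrime q'), Derivation.map_algebraMap, tmul_zero]
  have htm : ∀ (l : L) (w : Ω[L⁄R]), (1 : κ) ⊗ₜ[L] (l • w) = IsLocalRing.residue L l • ((1 : κ) ⊗ₜ[L] w) :=
    fun l w => by
      rw [tmul_smul, ← algebraMap_smul κ l]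
      rfl
  have hδmul : ∀ a b, δ R q' (a * b) = ρ a • δ R q' b + ρ b • δ R q' a := fun a b => by
    simp only [δ, map_mul, Derivation.leibniz, tmul_add]
    exact congrArg₂ (· + ·) (htm _ _) (htm _ _)
  have hΛ : ∀ y, Λ (gr y) = δ R q' (aeval P.val y) := by
    intro y
    induction y using MvPolynomial.induction_on with
    | C r =>
      rw [aeval_C, hδalg, show gr (C r) = 0 from funext fun i => by simp [gr], map_zero]
    | add a b ha hb =>
      rw [show gr (a + b) = gr a + gr b from funext fun i => by simp [gr], map_add, ha, hb, map_add, hδadd]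
    | mul_X a n ha =>
      have hgr : gr (a * X n) = ρ (P.val n) • gr a + ρ (aeval P.val a) • Pi.single n 1 := by
        funext i
        rcases eq_or_ne i n with rfl | hin
        · simp [gr]; ring
        · simp [gr, hin, hin.symm]
      rw [hgr, map_add, LinearMap.map_smul, LinearMap.map_smul, ha, map_mul, aeval_X, hδmul, add_comm,
        Fintype.linearCombination_apply_single, one_smul]
  have hval0 : ∀ j, aeval P.val (P.relation j) = 0 := fun j => P.aeval_val_relation j
  have hr : LinearIndependent κ (fun j : Fin M => gr (P.relation j)) := by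
    refine LinearIndependent.of_comp (LinearMap.funLeft κ κ P.map) ?_
    have hu : IsUnit (P.jacobiMatrix.transpose.map fun x => ρ (aeval P.val x)) := by
      rw [Matrix.isUnit_iff_isUnit_det]
      have hj : IsUnit (ρ (aeval P.val P.jacobiMatrix.det)) := by
        have := P.jacobian_isUnit
        rw [PreSubmersivePresentation.jacobian_eq_jacobiMatrix_det, P.algebraMap_apply] at this
        exact this.map ρ
      rw [show (P.jacobiMatrix.transpose.map fun x => ρ (aeval P.val x)) =
        (ρ.comp (aeval P.val : MvPolynomial (Fin N) R →ₐ[R] B).toRingHom).mapMatrix P.jacobiMatrix.transpose from rfl,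
        ← RingHom.map_det, Matrix.det_transpose]
      exact hj
    have h1 := Matrix.linearIndependent_rows_iff_isUnit.2 hu
    convert h1 using 1
    funext j i
    simp [gr, LinearMap.funLeft, Matrix.row, PreSubmersivePresentation.jacobiMatrix_apply]
  have hind : LinearIndependent κ (fun j => gr (Fin.append P.relation ft j)) := by
    rw [Fintype.linearIndependent_iff]
    intro w hw
    rw [Fin.sum_univ_add] at hw
    simp only [Fin.append_left, Fin.append_right] at hw
    have h0 := congrArg Λ hw
    simp only [map_add, map_sum, LinearMap.map_smul, hΛ, hval0, hft, map_zero] at h0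
    have hz : δ R q' (0 : B) = 0 := by simp [δ]
    simp only [hz, smul_zero, Finset.sum_const_zero, zero_add] at h0
    have hβ := Fintype.linearIndependent_iff.1 hliδ _ h0
    simp only [hβ, zero_smul, Finset.sum_const_zero, add_zero] at hw
    have hα := Fintype.linearIndependent_iff.1 hr _ hw
    intro i
    refine Fin.addCases (fun i => hα i) (fun i => hβ i) i
  obtain ⟨e, he, hdet⟩ := exists_det_ne_zero _ hind
  refine ⟨e, he, fun hmem => hdet ?_⟩
  have h1 := (hρ _).2 (show aeval P.val (Matrix.of fun i j => pderiv (e i) (Fin.append P.relation ft j)).det ∈ q'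
    from hmem)
  rw [show ρ (aeval P.val (Matrix.of fun i j => pderiv (e i) (Fin.append P.relation ft j)).det) =
    ρ.comp (aeval P.val : MvPolynomial (Fin N) R →ₐ[R] B).toRingHom
      (Matrix.of fun i j => pderiv (e i) (Fin.append P.relation ft j)).det from rfl, RingHom.map_det] at h1
  exact h1

/-- The Jacobian criterion: a quotient of a standard smooth algebra of relative dimension `m + c` by `c` elements
with no unexpected relations is smooth at a prime iff the Fitting ideal of degree `m` is trivial there. -/
theorem isSmoothAt_iff_fitting {m c : ℕ} [Algebra.IsStandardSmoothOfRelativeDimension (m + c) R B]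
    (hs : Function.Surjective (algebraMap B A)) (f : Fin c → B)
    (hker : RingHom.ker (algebraMap B A) = Ideal.span (Set.range f))
    (hrel : ∀ a : Fin c → B, ∑ i, a i * f i = 0 → ∀ i, a i ∈ Ideal.span (Set.range f))
    (q : Ideal A) [q.IsPrime] :
    Algebra.IsSmoothAt R q ↔ ¬ Fitt.ideal A Ω[A⁄R] m ≤ q := by
  classical
  obtain ⟨ι, σ, _, _, P₀, hdim⟩ := ‹Algebra.IsStandardSmoothOfRelativeDimension (m + c) R B›.out
  let := Fintype.ofFinite ι
  let := Fintype.ofFinite σ
  obtain ⟨N, ⟨eι⟩⟩ : ∃ n, Nonempty (Fin n ≃ ι) := ⟨_, ⟨(Fintype.equivFin ι).symm⟩⟩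
  obtain ⟨M, ⟨eσ⟩⟩ : ∃ n, Nonempty (Fin n ≃ σ) := ⟨_, ⟨(Fintype.equivFin σ).symm⟩⟩
  let P := P₀.reindex eι eσ
  haveI : Algebra.IsStandardSmooth R B := P.isStandardSmooth
  have hcard : M ≤ N := by
    simpa using P.toPreSubmersivePresentation.card_relations_le_card_vars_of_isFinite
  have hNM : N - M = m + c := by
    rw [← hdim, show P₀.dimension = Nat.card ι - Nat.card σ from rfl, ← Nat.card_congr eι, ← Nat.card_congr eσ,
      Nat.card_fin, Nat.card_fin]
  have hπs : Function.Surjective (aeval P.val : MvPolynomial (Fin N) R →ₐ[R] B) := fun x => ⟨P.σ x, P.aeval_val_σ x⟩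
  choose ft hft using fun j => hπs (f j)
  let φ : MvPolynomial (Fin N) R →ₐ[R] A := (IsScalarTower.toAlgHom R B A).comp (aeval P.val)
  have hφ : Function.Surjective φ := hs.comp hπs
  have hkφ : RingHom.ker φ.toRingHom = Ideal.span (Set.range (Fin.append P.relation ft)) := by
    refine le_antisymm (fun x hx => ?_) (Ideal.span_le.2 ?_)
    · have h1 : aeval P.val x ∈ Ideal.span (Set.range f) := hker ▸ (show algebraMap B A (aeval P.val x) = 0 from hx)
      obtain ⟨a, ha⟩ := Ideal.mem_span_range_iff_exists_fun.1 h1
      choose at' hat using fun j => hπs (a j)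
      have h2 : x - ∑ j, at' j * ft j ∈ Ideal.span (Set.range P.relation) := by
        rw [P.span_range_relation_eq_ker, P.toGenerators.ker_eq_ker_aeval_val, RingHom.mem_ker]
        simp [map_sum, hat, hft, ha]
      rw [← sub_add_cancel x (∑ j, at' j * ft j)]
      refine add_mem (Ideal.span_mono ?_ h2) (sum_mem fun j _ => Ideal.mul_mem_left _ _
        (Ideal.subset_span ⟨Fin.natAdd M j, Fin.append_right _ _ _⟩))
      rintro _ ⟨j, rfl⟩
      exact ⟨Fin.castAdd c j, Fin.append_left _ _ _⟩
    · rintro _ ⟨j, rfl⟩
      show algebraMap B A (aeval P.val (Fin.append P.relation ft j)) = 0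
      refine Fin.addCases (fun i => ?_) (fun i => ?_) j
      · rw [Fin.append_left, P.aeval_val_relation, map_zero]
      · rw [Fin.append_right, hft]
        exact RingHom.mem_ker.1 (hker ▸ Ideal.subset_span ⟨i, rfl⟩)
  have hfp : Algebra.FinitePresentation R A :=
    Algebra.FinitePresentation.of_surjective (f := φ) hφ (hkφ ▸ Submodule.fg_span (Set.finite_range _))
  have hminor : ∀ e : Fin (M + c) → Fin N, Function.Injective e →
      φ (Matrix.of fun i j => pderiv (e i) (Fin.append P.relation ft j)).det ∉ q →
        Algebra.IsSmoothAt R q ∧ ¬ Fitt.ideal A Ω[A⁄R] m ≤ q := by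
    intro e he hd
    set a := φ (Matrix.of fun i j => pderiv (e i) (Fin.append P.relation ft j)).det with ha
    haveI hT : Algebra.IsStandardSmoothOfRelativeDimension m R (Localization.Away a) :=
      isStandardSmooth_of_minor φ hφ _ hkφ (by omega) e he (Localization.Away a)
    haveI := IsStandardSmoothOfRelativeDimension.isStandardSmooth m (R := R) (S := Localization.Away a)
    refine ⟨?_, fun hle => ?_⟩
    · have hsub : ↑(PrimeSpectrum.basicOpen a) ⊆ Algebra.smoothLocus R A :=
        Algebra.basicOpen_subset_smoothLocus_iff_smooth.2 inferInstance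
      exact @hsub ⟨q, inferInstance⟩ hd
    · haveI : Algebra.FormallyEtale A (Localization.Away a) :=
        Algebra.FormallyEtale.of_isLocalization (Submonoid.powers a)
      have h1 := fitting_eq_top_of_quotient (p := m) (AlgHom.id R (Localization.Away a)) Function.surjective_id
      rw [← Fit14.ideal_congr (KaehlerDifferential.tensorKaehlerEquivOfFormallyEtale R A (Localization.Away a)) m,
        Fit14.ideal_baseChange (Localization.Away a) m] at h1
      refine absurd h1 ?_
      rw [← ne_eq, IsLocalization.map_algebraMap_ne_top_iff_disjoint (Submonoid.powers a)]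
      refine Set.disjoint_left.2 ?_
      rintro _ ⟨n, rfl⟩ hn
      exact hd (Ideal.IsPrime.mem_of_pow_mem ‹q.IsPrime› n (hle hn))
  constructor
  · intro h
    obtain ⟨e, he, hd⟩ := exists_minor_of_smoothAt P hs f hker hrel ft hft q h
    exact (hminor e he hd).2
  · intro h
    obtain ⟨e, he, hd⟩ := exists_minor_of_fitting φ hφ _ hkφ (show (M + c) + m = N by omega) q h
    exact (hminor e he hd).1

end Lci

end Groth.Agent.Div89.JacSmooth
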