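import Groth.Agent.Div89.JacSmooth
import Groth.Agent.Div89.FittingOmega
import Groth.Agent.Var76.OmegaSmooth
import Mathlib.AlgebraicGeometry.Morphisms.Smooth

/-!
The Jacobian loci through local closed immersions into smooth schemes of relative dimension `p`.
-/

set_option autoImplicit false
set_option linter.style.haveILetI false
set_option backward.isDefEq.respectTransparency.types false

universe u

open CategoryTheory CategoryTheory.Limits AlgebraicGeometry TopologicalSpace Opposite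

namespace Groth.Agent.Div89.JacScheme

variable {X Y : Scheme.{u}}

/-- The Jacobian loci on an affine chart. -/
theorem notMem_support_iff_chart (f : X ⟶ Y) [LocallyOfFiniteType f] [QuasiSeparated f] (p : ℕ) {x : X}
    {W : X.Opens} (hW : IsAffineOpen W) {V : Y.Opens} (hV : IsAffineOpen V) (e : W ≤ f ⁻¹ᵁ V) (hx : x ∈ W) :
    letI := (f.appLE V W e).hom.toAlgebra
    x ∉ (Fitt.sheafIdeal (Omega.sheaf f) p).support ↔
      ¬ Fitt.ideal Γ(X, W) Ω[Γ(X, W)⁄Γ(Y, V)] p ≤ (hW.primeIdealOf ⟨x, hx⟩).asIdeal := by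
  letI := (f.appLE V W e).hom.toAlgebra
  haveI : Algebra.FiniteType Γ(Y, V) Γ(X, W) :=
    (HasRingHomProperty.appLE @LocallyOfFiniteType f inferInstance ⟨V, hV⟩ ⟨W, hW⟩ e :)
  obtain ⟨j⟩ := Var76.OmegaSmooth.exists_equiv f hW hV e
  rw [Scheme.IdealSheafData.mem_support_iff_of_mem (U := ⟨W, hW⟩) hx,
    fitting_ideal_eq _ (Omega57.isQuasicoherent_omega f) (isFT_omegaSheaf f), ← Fit14.ideal_congr j p,
    not_iff_not]
  have := hW.fromSpec_preimage_zeroLocus (Fitt.ideal Γ(X, W) Ω[Γ(X, W)⁄Γ(Y, V)] p : Set Γ(X, W))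
  have h1 := Set.ext_iff.1 this (hW.primeIdealOf ⟨x, hx⟩)
  rw [Set.mem_preimage, hW.fromSpec_primeIdealOf] at h1
  exact h1

/-- Existence of a local embedding into a smooth scheme of relative dimension `p`. -/
theorem exists_embedding (f : X ⟶ Y) [LocallyOfFiniteType f] [QuasiSeparated f] (p : ℕ) (x : X)
    (h : x ∉ (Fitt.sheafIdeal (Omega.sheaf f) p).support) :
    ∃ (U : X.Opens) (U' : Scheme.{u}) (i : (U : Scheme.{u}) ⟶ U') (g : U' ⟶ Y),
      x ∈ U ∧ IsClosedImmersion i ∧ SmoothOfRelativeDimension p g ∧ i ≫ g = U.ι ≫ f := by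
  obtain ⟨V, hV, hxV, -⟩ := exists_isAffineOpen_mem_and_subset (X := Y) (x := f x) (U := ⊤) trivial
  obtain ⟨W, hW, hxW, hWV⟩ := exists_isAffineOpen_mem_and_subset (show x ∈ f ⁻¹ᵁ V from hxV)
  have e : W ≤ f ⁻¹ᵁ V := hWV
  letI := (f.appLE V W e).hom.toAlgebra
  haveI : Algebra.FiniteType Γ(Y, V) Γ(X, W) :=
    (HasRingHomProperty.appLE @LocallyOfFiniteType f inferInstance ⟨V, hV⟩ ⟨W, hW⟩ e :)
  obtain ⟨a, ha, B, instB, instRB, hB, ψ, hψ⟩ := JacSmooth.exists_standardSmooth_cover _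
    ((notMem_support_iff_chart f p hW hV e hxW).1 h)
  let D := X.basicOpen a
  have hD : IsAffineOpen D := hW.basicOpen a
  have hxD : x ∈ D := by
    have h1 := hW.fromSpec_preimage_basicOpen a
    have h2 : hW.primeIdealOf ⟨x, hxW⟩ ∈ PrimeSpectrum.basicOpen a := ha
    rw [← h1] at h2
    have h3 : hW.fromSpec (hW.primeIdealOf ⟨x, hxW⟩) ∈ D := h2
    rw [hW.fromSpec_primeIdealOf ⟨x, hxW⟩] at h3
    exact h3
  letI := (X.presheaf.map (homOfLE (X.basicOpen_le a)).op).hom.toAlgebra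
  haveI : IsLocalization.Away a Γ(X, D) := hW.isLocalization_basicOpen a
  let t : Localization.Away a ≃ₐ[Γ(X, W)] Γ(X, D) := IsLocalization.algEquiv (Submonoid.powers a) _ _
  let χ : B →+* Γ(X, D) := t.toRingEquiv.toRingHom.comp ψ.toRingHom
  let σ : CommRingCat.of Γ(Y, V) ⟶ CommRingCat.of B := CommRingCat.ofHom (algebraMap Γ(Y, V) B)
  refine ⟨D, Spec (CommRingCat.of B), hD.isoSpec.hom ≫ Spec.map (CommRingCat.ofHom χ),
    Spec.map σ ≫ hV.fromSpec, hxD, ?_, ?_, ?_⟩
  · haveI : IsClosedImmersion (Spec.map (CommRingCat.ofHom χ)) :=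
      IsClosedImmersion.spec_of_surjective _ (t.surjective.comp hψ)
    infer_instance
  · haveI : SmoothOfRelativeDimension p (Spec.map σ) := by
      rw [HasRingHomProperty.Spec_iff (P := @SmoothOfRelativeDimension p)]
      exact RingHom.locally_of RingHom.isStandardSmoothOfRelativeDimension_respectsIso _
        ((RingHom.isStandardSmoothOfRelativeDimension_algebraMap p).2 hB)
    have : SmoothOfRelativeDimension (p + 0) (Spec.map σ ≫ hV.fromSpec) := inferInstance
    exact this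
  · have eD : D ≤ f ⁻¹ᵁ V := (X.basicOpen_le a).trans e
    have hχ : σ ≫ CommRingCat.ofHom χ = f.appLE V D eD := by
      rw [← Scheme.Hom.appLE_map f e (homOfLE (X.basicOpen_le a)).op]
      ext r
      show t (ψ (algebraMap Γ(Y, V) B r)) = X.presheaf.map _ (f.appLE V W e r)
      rw [ψ.commutes, IsScalarTower.algebraMap_apply Γ(Y, V) Γ(X, W) (Localization.Away a), t.commutes]
      rfl
    rw [Category.assoc, ← Spec.map_comp_assoc, hχ, IsAffineOpen.SpecMap_appLE_fromSpec f hV hD eD,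
      ← hD.isoSpec_inv_ι, Category.assoc, Iso.hom_inv_id_assoc]

/-- A local embedding into a smooth scheme of relative dimension `p` bounds the differentials. -/
theorem notMem_support_of_embedding (f : X ⟶ Y) [LocallyOfFiniteType f] [QuasiSeparated f] (p : ℕ) (x : X)
    {U : X.Opens} {U' : Scheme.{u}} (i : (U : Scheme.{u}) ⟶ U') (g : U' ⟶ Y) (hx : x ∈ U)
    [IsClosedImmersion i] (hg : SmoothOfRelativeDimension p g) (hcomp : i ≫ g = U.ι ≫ f) :
    x ∉ (Fitt.sheafIdeal (Omega.sheaf f) p).support := by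
  obtain ⟨V, hV, W', hW', hxW', e', hstd⟩ :=
    hg.exists_isStandardSmoothOfRelativeDimension (i ⟨x, hx⟩)
  let W₀ : (U : Scheme.{u}).Opens := i ⁻¹ᵁ W'
  have hW₀ : IsAffineOpen W₀ := hW'.preimage i
  let W : X.Opens := U.ι ''ᵁ W₀
  have hW : IsAffineOpen W := hW₀.image_of_isOpenImmersion U.ι
  have hxW : x ∈ W := ⟨⟨x, hx⟩, hxW', rfl⟩
  have e0 : W₀ ≤ (U.ι ≫ f) ⁻¹ᵁ V := by
    rw [← hcomp]; exact i.preimage_mono e'
  have e : W ≤ f ⁻¹ᵁ V := by
    rintro _ ⟨w, hw, rfl⟩
    exact e0 hw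
  letI := (f.appLE V W e).hom.toAlgebra
  letI := (g.appLE V W' e').hom.toAlgebra
  haveI : Algebra.FiniteType Γ(Y, V) Γ(X, W) :=
    (HasRingHomProperty.appLE @LocallyOfFiniteType f inferInstance ⟨V, hV⟩ ⟨W, hW⟩ e :)
  haveI : Algebra.IsStandardSmoothOfRelativeDimension p Γ(Y, V) Γ(U', W') :=
    (RingHom.isStandardSmoothOfRelativeDimension_algebraMap p).1 hstd
  have key : g.appLE V W' e' ≫ i.appLE W' W₀ le_rfl = f.appLE V W e := by
    rw [Scheme.Hom.appLE_comp_appLE]
    have h1 : (i ≫ g).appLE V W₀ (i.preimage_mono e') = (U.ι ≫ f).appLE V W₀ e0 := by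
      simp only [hcomp]
    rw [h1, Scheme.Hom.comp_appLE]
    simp only [Scheme.Hom.appLE, Scheme.Opens.ι_app]
    refine congrArg (f.app V ≫ ·) ?_
    exact (X.presheaf.map_comp _ _).symm.trans (congrArg X.presheaf.map (Subsingleton.elim _ _))
  let ψ : Γ(U', W') →ₐ[Γ(Y, V)] Γ(X, W) :=
    { (i.appLE W' W₀ le_rfl).hom with
      commutes' := fun r => ConcreteCategory.congr_hom key r }
  have hψ : Function.Surjective ψ := by
    have := i.app_surjective W' hW'
    rw [Scheme.Hom.app_eq_appLE] at this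
    exact this
  rw [notMem_support_iff_chart f p hW hV e hxW, JacSmooth.fitting_eq_top_of_quotient ψ hψ]
  exact fun hle => (hW.primeIdealOf ⟨x, hxW⟩).2.ne_top (top_le_iff.1 hle)

end Groth.Agent.Div89.JacScheme
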