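import Groth.Agent.Div89.JacLci
import Groth.Agent.Div89.JacScheme
import Groth.Agent.Div89.KoszulH1
import Groth.Agent.RegImmB94.Koszul
import Groth.Agent.Unr55.StalkCrit
import Groth.Prelude.Def_RegImm

/-!
Smoothness of a local complete intersection morphism through the Jacobian locus.
-/

set_option autoImplicit false
set_option linter.style.haveILetI false
set_option backward.isDefEq.respectTransparency.types false

universe u

open CategoryTheory CategoryTheory.Limits AlgebraicGeometry TopologicalSpace Opposite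

namespace Groth.Agent.Div89.JacScheme

theorem trivRel_coeff_mem {A : Type u} [CommRing A] {c : ℕ} (f : Fin c → A) (h : CAlgX.IsH1Regular f)
    (a : Fin c → A) (ha : ∑ i, a i * f i = 0) (i : Fin c) : a i ∈ Ideal.span (Set.range f) := by
  have hle : Submodule.span A {v : Fin c → A | ∃ i j : Fin c, v = Pi.single i (f j) - Pi.single j (f i)} ≤
      Submodule.pi Set.univ (fun _ => (Ideal.span (Set.range f) : Submodule A A)) := by
    refine Submodule.span_le.2 ?_
    rintro _ ⟨k, l, rfl⟩ t -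
    show Pi.single (M := fun _ => A) k (f l) t - Pi.single (M := fun _ => A) l (f k) t ∈ Ideal.span (Set.range f)
    refine sub_mem ?_ ?_ <;> rw [Pi.single_apply] <;> split <;>
      first | exact zero_mem _ | exact Ideal.subset_span ⟨_, rfl⟩
  exact hle (h a ha) i trivial

variable {Y X : Scheme.{u}}

theorem smooth_iff_notMem_of_lci (f : Y ⟶ X) [LocallyOfFinitePresentation f] [QuasiSeparated f] (m : ℕ) (y : Y)
    {U : Y.Opens} {P : Scheme.{u}} (i : (U : Scheme.{u}) ⟶ P) (π : P ⟶ X) (c : ℕ) (hy : y ∈ U)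
    (hi : RegImm.IsRegularImmersionOfCodim RegImm.Kind.koszul c i) (hπ : SmoothOfRelativeDimension (m + c) π)
    (hcomp : i ≫ π = U.ι ≫ f) :
    (∃ V : Y.Opens, y ∈ V ∧ Smooth (V.ι ≫ f)) ↔ y ∉ (Fitt.sheafIdeal (Omega.sheaf f) m).support := by
  obtain ⟨W, hyW, hWcl, rs, hlen, hrs, hker⟩ := hi.2 ⟨y, hy⟩
  haveI := hWcl
  obtain ⟨V, hV, W', hW', hyW', eW', hstd⟩ := hπ.exists_isStandardSmoothOfRelativeDimension (i ⟨y, hy⟩)
  obtain ⟨s, t, hst, hyD⟩ := exists_basicOpen_le_affine_inter W.2 hW' (i ⟨y, hy⟩) ⟨hyW, hyW'⟩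
  let D : P.Opens := P.basicOpen s
  have hDW : D ≤ W.1 := P.basicOpen_le s
  have hDW' : D ≤ W' := hst.trans_le (P.basicOpen_le t)
  have hD : IsAffineOpen D := W.2.basicOpen s
  have eD : D ≤ π ⁻¹ᵁ V := hDW'.trans eW'
  haveI : IsClosedImmersion (i ∣_ D) := RegImmB94.isClosedImmersion_restrict_of_le i hDW
  let W₀ : (U : Scheme.{u}).Opens := i ⁻¹ᵁ D
  have hW₀ : IsAffineOpen W₀ := RegImmB94.isAffineOpen_preimage_of_restrict i hD
  let O : Y.Opens := U.ι ''ᵁ W₀
  have hO : IsAffineOpen O := hW₀.image_of_isOpenImmersion U.ι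
  have hyO : y ∈ O := ⟨⟨y, hy⟩, hyD, rfl⟩
  have e0 : W₀ ≤ (U.ι ≫ f) ⁻¹ᵁ V := by
    rw [← hcomp]; exact i.preimage_mono eD
  have eO : O ≤ f ⁻¹ᵁ V := by
    rintro _ ⟨w, hw, rfl⟩
    exact e0 hw
  letI := (f.appLE V O eO).hom.toAlgebra
  letI := (π.appLE V D eD).hom.toAlgebra
  haveI : Algebra.FinitePresentation Γ(X, V) Γ(Y, O) :=
    (HasRingHomProperty.appLE @LocallyOfFinitePresentation f inferInstance ⟨V, hV⟩ ⟨O, hO⟩ eO :)
  haveI : Algebra.IsStandardSmoothOfRelativeDimension (m + c) Γ(X, V) Γ(P, D) := by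
    refine (RingHom.isStandardSmoothOfRelativeDimension_algebraMap (m + c)).1 ?_
    show RingHom.IsStandardSmoothOfRelativeDimension (m + c) (π.appLE V D eD).hom
    rw [← Scheme.Hom.appLE_map π eW' (homOfLE hDW').op, CommRingCat.hom_comp]
    letI := (P.presheaf.map (homOfLE hDW').op).hom.toAlgebra
    haveI : IsLocalization.Away t Γ(P, D) := hW'.isLocalization_of_eq_basicOpen t (homOfLE hDW') hst
    have h0 : RingHom.IsStandardSmoothOfRelativeDimension 0 (P.presheaf.map (homOfLE hDW').op).hom :=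
      (RingHom.isStandardSmoothOfRelativeDimension_algebraMap 0).2
        (Algebra.IsStandardSmoothOfRelativeDimension.localization_away t)
    have := hstd
    have h1 := RingHom.IsStandardSmoothOfRelativeDimension.comp h0 this
    rwa [Nat.zero_add] at h1
  have key : π.appLE V D eD ≫ i.appLE D W₀ le_rfl = f.appLE V O eO := by
    rw [Scheme.Hom.appLE_comp_appLE]
    have h1 : (i ≫ π).appLE V W₀ (i.preimage_mono eD) = (U.ι ≫ f).appLE V W₀ e0 := by
      simp only [hcomp]
    rw [h1, Scheme.Hom.comp_appLE]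
    simp only [Scheme.Hom.appLE, Scheme.Opens.ι_app]
    refine congrArg (f.app V ≫ ·) ?_
    exact (Y.presheaf.map_comp _ _).symm.trans (congrArg Y.presheaf.map (Subsingleton.elim _ _))
  let ψ : Γ(P, D) →+* Γ(Y, O) := (i.appLE D W₀ le_rfl).hom
  letI := ψ.toAlgebra
  haveI : IsScalarTower Γ(X, V) Γ(P, D) Γ(Y, O) :=
    IsScalarTower.of_algebraMap_eq fun r => (ConcreteCategory.congr_hom key r).symm
  have hψapp : i.appLE D W₀ le_rfl = i.app D := (Scheme.Hom.app_eq_appLE i).symm
  have hs : Function.Surjective (algebraMap Γ(P, D) Γ(Y, O)) := by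
    show Function.Surjective (i.appLE D W₀ le_rfl)
    rw [hψapp]; exact RegImmB94.app_surjective_of_restrict i hD
  let rs' := rs.map (P.presheaf.map (homOfLE hDW).op).hom
  have hkR : Koszul19.KR rs' := RegImmB94.kR_res W.2 s rfl ((Koszul19.kR_iff rs).2 hrs)
  have hk : RingHom.ker (algebraMap Γ(P, D) Γ(Y, O)) = Ideal.ofList rs' := by
    show RingHom.ker (i.appLE D W₀ le_rfl).hom = _
    rw [hψapp, RegImmB94.ker_app_basicOpen' i W.2 s, hker, Ideal.map_ofList]
  have hlen' : rs'.length = c := by simp [rs', hlen]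
  subst hlen'
  have hrange : Ideal.ofList rs' = Ideal.span (Set.range rs'.get) := by
    rw [Set.range_list_get]
  rw [Unr55.exists_smooth_iff f, notMem_support_iff_chart f m hO hV eO hyO]
  have hpt : (f.stalkMap y).hom.FormallySmooth ↔
      (f.stalkMap (hO.fromSpec (hO.primeIdealOf ⟨y, hyO⟩))).hom.FormallySmooth :=
    (congrArg (fun z : Y => (f.stalkMap z).hom.FormallySmooth) (hO.fromSpec_primeIdealOf ⟨y, hyO⟩)).symm.to_iff
  rw [hpt, Unr55.formallySmooth_stalkMap_iff_chart f hV hO eO]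
  exact JacSmooth.isSmoothAt_iff_fitting hs rs'.get (hk.trans hrange)
    (fun a ha => trivRel_coeff_mem _ (isH1Regular_of_koszul rs' ((Koszul19.kR_iff rs').1 hkR)) a ha) _

end Groth.Agent.Div89.JacScheme
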