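import Groth.Agent.Fit14.Local
import Groth.Agent.Fit14.Props
import Mathlib.RingTheory.Smooth.StandardSmooth
import Mathlib.RingTheory.Smooth.StandardSmoothCotangent
import Mathlib.RingTheory.Kaehler.Polynomial
import Mathlib.RingTheory.Localization.Away.Basic
import Mathlib.Algebra.MvPolynomial.PDeriv
import Mathlib.LinearAlgebra.Matrix.Rank

/-!
A finitely presented algebra whose differentials need at most `p` generators at a prime is, near that prime,
a quotient of a standard smooth algebra of relative dimension `p`.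
-/

set_option autoImplicit false
set_option linter.style.haveILetI false

universe u

open MvPolynomial Algebra TensorProduct KaehlerDifferential

namespace Groth.Agent.Div89.JacSmooth

/-- A family spanning a space of dimension at least `c` contains `c` independent members. -/
theorem exists_indep_of_le_finrank {K V : Type u} [Field K] [AddCommGroup V] [Module K V] [FiniteDimensional K V]
    {ι : Type*} (v : ι → V) {c : ℕ} (h : c ≤ Module.finrank K (Submodule.span K (Set.range v))) :
    ∃ k : Fin c → ι, LinearIndependent K (v ∘ k) := by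
  obtain ⟨κ, a, ha, hsp, hli⟩ := exists_linearIndependent' K v
  have : Finite κ := hli.finite
  have := Fintype.ofFinite κ
  have hc : c ≤ Fintype.card κ := by
    rw [← hsp, finrank_span_eq_card hli] at h; exact h
  refine ⟨a ∘ (Fintype.equivFin κ).symm ∘ Fin.castLE hc, ?_⟩
  exact hli.comp _ ((Fintype.equivFin κ).symm.injective.comp (Fin.castLE_injective hc))

/-- Independent vectors in a coordinate space have a nonzero maximal minor. -/
theorem exists_det_ne_zero {K : Type u} [Field K] {n c : ℕ} (w : Fin c → Fin n → K) (h : LinearIndependent K w) :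
    ∃ e : Fin c → Fin n, Function.Injective e ∧ (Matrix.of fun i j => w j (e i)).det ≠ 0 := by
  classical
  let M : Matrix (Fin c) (Fin n) K := (Matrix.of w : Matrix (Fin c) (Fin n) K)
  have hrank : Module.finrank K (Submodule.span K (Set.range M.col)) = c := by
    rw [← Matrix.rank_eq_finrank_span_cols M, (show LinearIndependent K M.row from h).rank_matrix, Fintype.card_fin]
  obtain ⟨e, he⟩ := exists_indep_of_le_finrank M.col hrank.ge
  have heinj : Function.Injective e := fun a b hab => he.injective (show M.col (e a) = M.col (e b) by rw [hab])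
  refine ⟨e, heinj, ?_⟩
  have hu : IsUnit (Matrix.of fun i j => w j (e i)) :=
    Matrix.linearIndependent_rows_iff_isUnit.1 he
  exact ((Matrix.isUnit_iff_isUnit_det _).1 hu).ne_zero

/-- The dimension of the fibre of the differentials bounds the corank of the Jacobian of the kernel. -/
theorem exists_relations {R A : Type u} [CommRing R] [CommRing A] [Algebra R A] [Algebra.FiniteType R A]
    {n p : ℕ} (φ : MvPolynomial (Fin n) R →ₐ[R] A) (hφ : Function.Surjective φ)
    (q : Ideal A) [q.IsPrime] (hq : ¬ Fitt.ideal A Ω[A⁄R] p ≤ q) :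
    ∃ (g : Fin (n - p) → MvPolynomial (Fin n) R) (e : Fin (n - p) → Fin n),
      (∀ j, φ (g j) = 0) ∧ Function.Injective e ∧
        φ (Matrix.of fun i j => pderiv (e i) (g j)).det ∉ q := by
  classical
  let κ := q.ResidueField
  have hle : Module.finrank κ (κ ⊗[A] Ω[A⁄R]) ≤ p := (Fit14.not_le_iff_finrank_le q p).1 hq
  let ρ : A →+* κ := algebraMap A κ
  let gr : MvPolynomial (Fin n) R → (Fin n → κ) := fun x i => ρ (φ (pderiv i x))
  let I := {x : MvPolynomial (Fin n) R // φ x = 0}
  let W : Submodule κ (Fin n → κ) := Submodule.span κ (Set.range fun x : I => gr x.1)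
  have : IsScalarTower R A κ := inferInstance
  have hgr_add : ∀ x y, gr (x + y) = gr x + gr y := fun x y => by
    funext i; simp [gr]
  have hgr_mul : ∀ x y, gr (x * y) = ρ (φ x) • gr y + ρ (φ y) • gr x := fun x y => by
    funext i; simp [gr]
  have hgr_sub : ∀ x y, gr (x - y) = gr x - gr y := fun x y => by
    funext i; simp [gr]
  have hgr_C : ∀ r, gr (C r) = 0 := fun r => by funext i; simp [gr]
  have hwd : ∀ x y, φ x = φ y → Submodule.Quotient.mk (p := W) (gr x) = Submodule.Quotient.mk (gr y) := by
    intro x y hxy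
    rw [Submodule.Quotient.eq, ← hgr_sub]
    exact Submodule.subset_span ⟨⟨x - y, by rw [map_sub, hxy, sub_self]⟩, rfl⟩
  let s := Function.surjInv hφ
  have hs : ∀ a, φ (s a) = a := Function.surjInv_eq hφ
  let lin : A →ₗ[R] (Fin n → κ) ⧸ W :=
    { toFun := fun a => Submodule.Quotient.mk (gr (s a))
      map_add' := fun a b => by
        rw [← Submodule.Quotient.mk_add, ← hgr_add]; exact hwd _ _ (by simp [hs])
      map_smul' := fun r a => by
        rw [RingHom.id_apply, hwd (s (r • a)) (C r * s a) (by rw [hs, map_mul, hs, ← MvPolynomial.algebraMap_eq,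
          φ.commutes, Algebra.smul_def]), hgr_mul, hgr_C, smul_zero, add_zero, Submodule.Quotient.mk_smul,
          ← MvPolynomial.algebraMap_eq, φ.commutes, ← algebraMap_smul κ r]
        rfl }
  let d : Derivation R A ((Fin n → κ) ⧸ W) :=
    Derivation.mk' lin fun a b => by
      show Submodule.Quotient.mk (gr (s (a * b))) = a • _ + b • _
      rw [hwd (s (a * b)) (s a * s b) (by simp [hs]), hgr_mul, hs, hs, Submodule.Quotient.mk_add,
        Submodule.Quotient.mk_smul, Submodule.Quotient.mk_smul, ← algebraMap_smul κ a, ← algebraMap_smul κ b]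
      rfl
  let L : κ ⊗[A] Ω[A⁄R] →ₗ[κ] (Fin n → κ) ⧸ W := LinearMap.liftBaseChange κ d.liftKaehlerDifferential
  have hL : Function.Surjective L := by
    rw [← LinearMap.range_eq_top, ← top_le_iff,
      ← (show Submodule.map W.mkQ ⊤ = ⊤ by rw [Submodule.map_top, Submodule.range_mkQ]),
      ← (Pi.basisFun κ (Fin n)).span_eq, Submodule.map_span, Submodule.span_le]
    rintro _ ⟨_, ⟨i, rfl⟩, rfl⟩
    refine ⟨1 ⊗ₜ D R A (φ (X i)), ?_⟩
    simp only [L, LinearMap.liftBaseChange_tmul, one_smul, Derivation.liftKaehlerDifferential_comp_D]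
    show Submodule.Quotient.mk (gr (s (φ (X i)))) = _
    rw [hwd _ (X i) (hs _)]
    refine congrArg Submodule.Quotient.mk (funext fun j => ?_)
    rcases eq_or_ne i j with rfl | hij
    · simp [gr, ρ]
    · simp [gr, hij, hij.symm]
  have hW : n - p ≤ Module.finrank κ W := by
    have h1 := LinearMap.finrank_range_le L
    rw [LinearMap.range_eq_top.2 hL, finrank_top] at h1
    have h2 := Submodule.finrank_quotient_add_finrank W
    rw [Module.finrank_fin_fun] at h2
    have h3 := h1.trans hle
    omega
  obtain ⟨k, hk⟩ := exists_indep_of_le_finrank (fun x : I => gr x.1) hW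
  obtain ⟨e, he, hdet⟩ := exists_det_ne_zero _ hk
  refine ⟨fun j => (k j).1, e, fun j => (k j).2, he, fun hmem => hdet ?_⟩
  have h0 : ρ (φ (Matrix.of fun i j => pderiv (e i) (k j).1).det) = 0 :=
    Ideal.algebraMap_residueField_eq_zero.2 hmem
  rw [AlgHom.map_det, RingHom.map_det] at h0
  exact h0

/-- Near a prime where the differentials need at most `p` generators, a finitely presented algebra is a
quotient of a standard smooth algebra of relative dimension `p`. -/
theorem exists_standardSmooth_cover {R A : Type u} [CommRing R] [CommRing A] [Algebra R A]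
    [Algebra.FiniteType R A] {p : ℕ} (q : Ideal A) [q.IsPrime] (hq : ¬ Fitt.ideal A Ω[A⁄R] p ≤ q) :
    ∃ a : A, a ∉ q ∧ ∃ (B : Type u) (_ : CommRing B) (_ : Algebra R B),
      Algebra.IsStandardSmoothOfRelativeDimension p R B ∧
        ∃ ψ : B →ₐ[R] Localization.Away a, Function.Surjective ψ := by
  classical
  obtain ⟨n₀, φ₀, hφ₀⟩ := Algebra.FiniteType.iff_quotient_mvPolynomial''.1 ‹Algebra.FiniteType R A›
  let φ : MvPolynomial (Fin (n₀ + p)) R →ₐ[R] A := aeval (Fin.append (fun i => φ₀ (X i)) 0)
  have hφ : Function.Surjective φ := by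
    intro a
    obtain ⟨x, rfl⟩ := hφ₀ a
    refine ⟨rename (Fin.castAdd p) x, ?_⟩
    have : φ.comp (rename (Fin.castAdd p)) = φ₀ :=
      MvPolynomial.algHom_ext fun i => by simp [φ]
    exact AlgHom.congr_fun this x
  obtain ⟨g, e, hg, he, hdet⟩ := exists_relations φ hφ q hq
  set h := (Matrix.of fun i j => pderiv (e i) (g j)).det with hh
  refine ⟨φ h, hdet, ?_⟩
  let S0 := MvPolynomial (Fin (n₀ + p)) R ⧸ Ideal.span (Set.range g)
  let B := Localization.Away (Ideal.Quotient.mk (Ideal.span (Set.range g)) h)
  refine ⟨B, inferInstance, inferInstance, ?_, ?_⟩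
  · let P0 : PreSubmersivePresentation R S0 (Fin (n₀ + p)) (Fin (n₀ + p - p)) :=
      PreSubmersivePresentation.naive e he
    let P1 := SubmersivePresentation.localizationAway B (Ideal.Quotient.mk (Ideal.span (Set.range g)) h)
    let P2 := P1.toPreSubmersivePresentation.comp P0
    have hjac : IsUnit P2.jacobian := by
      rw [PreSubmersivePresentation.comp_jacobian_eq_jacobian_smul_jacobian, Algebra.smul_def, IsUnit.mul_iff]
      refine ⟨?_, P1.jacobian_isUnit⟩
      have hval : ∀ z, algebraMap P0.Ring S0 z = Ideal.Quotient.mk _ z := fun z => by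
        rw [P0.algebraMap_apply]
        exact AlgHom.congr_fun (show aeval P0.val = Ideal.Quotient.mkₐ R _ from
          MvPolynomial.algHom_ext fun i => by rw [aeval_X]; simp [P0, PreSubmersivePresentation.naive,
            Presentation.naive, Generators.naive]; rfl) z
      have hJ : P0.jacobian = Ideal.Quotient.mk _ h := by
        rw [PreSubmersivePresentation.jacobian_eq_jacobiMatrix_det, hval, hh]
        congr 2
        ext i j : 1
        rw [PreSubmersivePresentation.jacobiMatrix_naive]
        rfl
      rw [hJ]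
      exact IsLocalization.Away.algebraMap_isUnit _
    refine SubmersivePresentation.isStandardSmoothOfRelativeDimension ⟨P2, hjac⟩ ?_
    show Nat.card (Unit ⊕ Fin (n₀ + p)) - Nat.card (Unit ⊕ Fin (n₀ + p - p)) = p
    simp only [Nat.card_sum, Nat.card_fin, Nat.card_unique]
    omega
  · let π : S0 →ₐ[R] A := Ideal.Quotient.liftₐ _ φ fun x hx => by
      show x ∈ RingHom.ker φ.toRingHom
      exact (Ideal.span_le.2 (by rintro _ ⟨j, rfl⟩; exact hg j) :
        Ideal.span (Set.range g) ≤ RingHom.ker φ.toRingHom) hx
    let ψ : B →ₐ[R] Localization.Away (φ h) :=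
      IsLocalization.liftAlgHom (M := Submonoid.powers (Ideal.Quotient.mk (Ideal.span (Set.range g)) h))
        (f := (IsScalarTower.toAlgHom R A (Localization.Away (φ h))).comp π) (by
          rintro ⟨_, m, rfl⟩
          show IsUnit (algebraMap A (Localization.Away (φ h)) (π (Ideal.Quotient.mk _ h ^ m)))
          rw [map_pow, map_pow]
          exact (IsLocalization.Away.algebraMap_isUnit (φ h)).pow m)
    refine ⟨ψ, fun z => ?_⟩
    obtain ⟨m, x, hx⟩ := IsLocalization.Away.surj (φ h) z
    obtain ⟨x', rfl⟩ := hφ x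
    have hkey : ∀ y, ψ (algebraMap S0 B (Ideal.Quotient.mk _ y)) = algebraMap A _ (φ y) := fun y => by
      show IsLocalization.liftAlgHom _ (algebraMap S0 B _) = _
      rw [IsLocalization.liftAlgHom_apply, IsLocalization.lift_eq]
      rfl
    refine ⟨IsLocalization.mk' B (Ideal.Quotient.mk _ x')
      (⟨Ideal.Quotient.mk _ h ^ m, m, rfl⟩ : Submonoid.powers (Ideal.Quotient.mk (Ideal.span (Set.range g)) h)), ?_⟩
    have h1 := congrArg ψ (IsLocalization.mk'_spec B (Ideal.Quotient.mk (Ideal.span (Set.range g)) x')
      (⟨Ideal.Quotient.mk _ h ^ m, m, rfl⟩ : Submonoid.powers (Ideal.Quotient.mk (Ideal.span (Set.range g)) h)))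
    rw [map_mul, hkey] at h1
    simp only [map_pow] at h1
    rw [hkey] at h1
    exact (((IsLocalization.Away.algebraMap_isUnit (φ h)).pow m).mul_right_cancel (hx.trans h1.symm)).symm

/-- The differentials of a quotient of a standard smooth algebra of relative dimension `p` need at most
`p` generators. -/
theorem fitting_eq_top_of_quotient {R B A : Type u} [CommRing R] [CommRing B] [CommRing A] [Algebra R B]
    [Algebra R A] {p : ℕ} [Algebra.IsStandardSmoothOfRelativeDimension p R B]
    [Algebra.FiniteType R A] (ψ : B →ₐ[R] A) (hψ : Function.Surjective ψ) :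
    Fitt.ideal A Ω[A⁄R] p = ⊤ := by
  classical
  rcases subsingleton_or_nontrivial A with hA | hA
  · exact Ideal.eq_top_iff_one _ |>.2 (by rw [Subsingleton.elim (1 : A) 0]; exact zero_mem _)
  letI : Algebra B A := ψ.toRingHom.toAlgebra
  haveI : IsScalarTower R B A := IsScalarTower.of_algebraMap_eq fun r => (ψ.commutes r).symm
  haveI : Nontrivial B := ψ.toRingHom.domain_nontrivial
  haveI : Algebra.IsStandardSmooth R B := IsStandardSmoothOfRelativeDimension.isStandardSmooth p
  have hr : Module.finrank B Ω[B⁄R] = p :=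
    Module.finrank_eq_of_rank_eq (IsStandardSmoothOfRelativeDimension.rank_kaehlerDifferential p)
  let b := Module.finBasisOfFinrankEq B Ω[B⁄R] hr
  refine Fit14.ideal_eq_top_of_gens (fun i => KaehlerDifferential.mapBaseChange R B A (1 ⊗ₜ b i)) ?_ le_rfl
  rw [← top_le_iff, ← LinearMap.range_eq_top.2 (KaehlerDifferential.mapBaseChange_surjective R B A hψ)]
  rintro _ ⟨t, rfl⟩
  rw [← (b.baseChange A).sum_repr t, map_sum]
  refine Submodule.sum_mem _ fun i _ => ?_
  rw [map_smul, Module.Basis.baseChange_apply]
  exact Submodule.smul_mem _ _ (Submodule.subset_span ⟨i, rfl⟩)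

end Groth.Agent.Div89.JacSmooth
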