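import Groth.Agent.Koszul19.Reduce
import Mathlib

/-! A Koszul regular sequence becomes regular after adjoining generic coefficients. -/

set_option autoImplicit false
set_option backward.isDefEq.respectTransparency.types false
universe u

noncomputable section

open Groth.Agent.Koszul19 MvPolynomial

namespace Groth.Agent.Div89.KoszulGeneric

variable {A : Type u} [CommRing A]

/-- The lowest degree of the Koszul complex contains the common annihilator as cycles. -/
theorem exists_top : ∀ l : List A, ∃ τ : A →ₗ[A] (Koszul.koszul A l).X (-(l.length : ℤ)),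
    Function.Injective τ ∧ ∀ a, (∀ x ∈ l, x * a = 0) → ∀ j, -(l.length : ℤ) + 1 = j →
      dd (Koszul.koszul A l) (-(l.length : ℤ)) j (τ a) = 0
  | [] => by
    refine ⟨(nilZero (A := A)).symm.toLinearMap, (nilZero (A := A)).symm.injective, fun a _ j hj => ?_⟩
    exact (subsingleton_X ([] : List A) j (Or.inl (by simp at hj; omega))).elim _ _
  | f :: l => by
    obtain ⟨τ, hτ, hc⟩ := exists_top l
    have h : -((f :: l).length : ℤ) + 1 = -(l.length : ℤ) := by simp
    refine ⟨((consData f l).e _ _ h).symm.toLinearMap.comp ((LinearMap.inl A _ _).comp τ),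
      ((consData f l).e _ _ h).symm.injective.comp (LinearMap.inl_injective.comp hτ), fun a ha j hj => ?_⟩
    obtain rfl : j = -(l.length : ℤ) := by omega
    refine ((consData f l).cycle_iff _ _ (-(l.length : ℤ) + 1) h rfl _).2 ?_
    simp only [LinearMap.comp_apply, LinearEquiv.coe_coe, LinearEquiv.apply_symm_apply,
      LinearMap.inl_apply, map_zero, add_zero]
    refine ⟨hc a (fun x hx => ha x (List.mem_cons_of_mem _ hx)) _ rfl, ?_⟩
    rw [← map_smul, smul_eq_mul, ha f List.mem_cons_self, map_zero]

/-- The common annihilator of a nonempty Koszul regular sequence is zero. -/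
theorem eq_zero_of_kR {l : List A} (h : KR l) (hl : l ≠ []) {a : A} (ha : ∀ x ∈ l, x * a = 0) : a = 0 := by
  obtain ⟨τ, hτ, hc⟩ := exists_top l
  have hpos : 0 < l.length := List.length_pos_iff.2 hl
  obtain ⟨w, hw⟩ := h (-(l.length : ℤ)) (by omega) (-(l.length : ℤ) - 1) _ (by omega) rfl _ (hc a ha _ rfl)
  haveI := subsingleton_X l (-(l.length : ℤ) - 1) (Or.inr (by omega))
  apply hτ
  rw [← hw, Subsingleton.elim w 0, map_zero, map_zero]

theorem eq_zero_of_pow {G : List A} (h : ∀ a : A, (∀ x ∈ G, x * a = 0) → a = 0) :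
    ∀ (s : List A) (a : A), (∀ x ∈ G, x ∉ s → x * a = 0) → (∀ x ∈ s, ∃ N, x ^ N * a = 0) → a = 0 := by
  classical
  intro s
  induction s with
  | nil => exact fun a h1 _ => h a fun x hx => h1 x hx List.not_mem_nil
  | cons y s ih =>
    intro a h1 h2
    obtain ⟨N, hN⟩ := h2 y List.mem_cons_self
    suffices ∀ (N : ℕ) (b : A), (∀ x ∈ G, x ∉ y :: s → x * b = 0) → (∀ x ∈ s, ∃ M, x ^ M * b = 0) →
        y ^ N * b = 0 → b = 0 from this N a h1 (fun x hx => h2 x (List.mem_cons_of_mem _ hx)) hN
    intro N
    induction N with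
    | zero => intro b _ _ hb; simpa using hb
    | succ N ihN =>
      intro b hb1 hb2 hb
      refine ihN b hb1 hb2 (ih _ (fun x hx hxs => ?_) fun x hx => ?_)
      · by_cases hxy : x = y
        · subst hxy; rw [← mul_assoc, ← pow_succ']; exact hb
        · rw [mul_left_comm, hb1 x hx (by simp [hxy, hxs]), mul_zero]
      · obtain ⟨M, hM⟩ := hb2 x hx
        exact ⟨M, by rw [mul_left_comm, hM, mul_zero]⟩

/-- `f + ∑ r i * X i` is a non-zero-divisor when only `0` is killed by `f` and all the `r i`. -/
theorem generic_mem_nonZeroDivisors {n : ℕ} (f : A) (r : Fin n → A)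
    (h : ∀ a, f * a = 0 → (∀ i, r i * a = 0) → a = 0) :
    (C f + ∑ i, C (r i) * X (ULift.up.{u} i) : MvPolynomial (ULift.{u} (Fin n)) A) ∈
      nonZeroDivisors (MvPolynomial (ULift.{u} (Fin n)) A) := by
  classical
  rw [mem_nonZeroDivisors_iff_left]
  intro p hp
  have hco : ∀ m, f * coeff m p + ∑ i, r i * coeff m (X (ULift.up.{u} i) * p) = 0 := fun m => by
    have h0 := congrArg (coeff m) hp
    simp only [add_mul, Finset.sum_mul, coeff_add, coeff_sum, mul_assoc, coeff_C_mul, coeff_zero] at h0
    exact h0
  have hX : ∀ (i : Fin n) (m : ULift.{u} (Fin n) →₀ ℕ), coeff m (X (ULift.up.{u} i) * p) =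
      if ULift.up.{u} i ∈ m.support then coeff (m - Finsupp.single (ULift.up.{u} i) 1) p else 0 :=
    fun i m => coeff_X_mul' m _ p
  have hf : ∀ (k : ℕ) (m : ULift.{u} (Fin n) →₀ ℕ), m.degree < k → f ^ k * coeff m p = 0 := by
    intro k
    induction k with
    | zero => omega
    | succ k ih =>
      intro m hm
      rw [pow_succ, mul_assoc, eq_neg_of_add_eq_zero_left (hco m), mul_neg, Finset.mul_sum, neg_eq_zero]
      refine Finset.sum_eq_zero fun i _ => ?_
      rw [hX]
      split_ifs with hi
      · rw [mul_left_comm, ih _ ?_, mul_zero]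
        have he : m - Finsupp.single (ULift.up.{u} i) 1 + Finsupp.single (ULift.up.{u} i) 1 = m :=
          Finsupp.sub_add_single_one_cancel (Finsupp.mem_support_iff.1 hi)
        have hd := congrArg Finsupp.degree he
        rw [map_add, Finsupp.degree_single] at hd
        omega
      · simp
  let D : ℕ := p.support.sup Finsupp.degree
  have hD : ∀ m, coeff m p ≠ 0 → m.degree ≤ D := fun m hm => Finset.le_sup (f := Finsupp.degree) (mem_support_iff.2 hm)
  have hr : ∀ (i : Fin n) (k : ℕ) (m : ULift.{u} (Fin n) →₀ ℕ),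
      (D + 1 - m.degree) * (D + 1) + (D - m (ULift.up.{u} i)) < k → r i ^ k * coeff m p = 0 := by
    intro i k
    induction k with
    | zero => omega
    | succ k ih =>
      intro m hm
      by_cases hm0 : coeff m p = 0
      · simp [hm0]
      have hmD := hD m hm0
      have hc : r i * coeff m p = -(f * coeff (Finsupp.single (ULift.up.{u} i) 1 + m) p +
          ∑ j ∈ Finset.univ.erase i, r j * coeff (Finsupp.single (ULift.up.{u} i) 1 + m) (X (ULift.up.{u} j) * p)) := by
        have h0 := hco (Finsupp.single (ULift.up.{u} i) 1 + m)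
        rw [← Finset.add_sum_erase _ _ (Finset.mem_univ i), coeff_X_mul] at h0
        linear_combination h0
      rw [pow_succ, mul_assoc, hc, mul_neg, neg_eq_zero, mul_add, Finset.mul_sum]
      have hmi : m (ULift.up.{u} i) ≤ m.degree := Finsupp.le_degree _ _
      have e1 : (D + 1 - m.degree) * (D + 1) = (D - m.degree) * (D + 1) + (D + 1) := by
        rw [show D + 1 - m.degree = (D - m.degree) + 1 by omega, Nat.succ_mul]
      have e0 : r i ^ k * coeff (Finsupp.single (ULift.up.{u} i) 1 + m) p = 0 := by
        refine ih _ ?_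
        rw [map_add, Finsupp.degree_single, Finsupp.add_apply, Finsupp.single_eq_same,
          show D + 1 - (1 + m.degree) = D - m.degree by omega]
        omega
      rw [mul_left_comm, e0, mul_zero, zero_add]
      refine Finset.sum_eq_zero fun j hj => ?_
      have hji : ULift.up.{u} j ≠ ULift.up.{u} i := by
        simpa [ULift.up_inj] using (Finset.mem_erase.1 hj).1
      rw [hX]
      split_ifs with hs
      · rw [mul_left_comm, ih _ ?_, mul_zero]
        clear hc
        have he : Finsupp.single (ULift.up.{u} i) 1 + m - Finsupp.single (ULift.up.{u} j) 1 +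
            Finsupp.single (ULift.up.{u} j) 1 = Finsupp.single (ULift.up.{u} i) 1 + m :=
          Finsupp.sub_add_single_one_cancel (Finsupp.mem_support_iff.1 hs)
        have hd := congrArg Finsupp.degree he
        rw [map_add, map_add, Finsupp.degree_single, Finsupp.degree_single] at hd
        have hi' : (Finsupp.single (ULift.up.{u} i) 1 + m - Finsupp.single (ULift.up.{u} j) 1 : ULift.{u} (Fin n) →₀ ℕ) (ULift.up.{u} i) =
            m (ULift.up.{u} i) + 1 := by
          rw [Finsupp.tsub_apply, Finsupp.add_apply, Finsupp.single_eq_same,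
            Finsupp.single_eq_of_ne hji.symm]
          omega
        have hle := Finsupp.le_degree (ULift.up.{u} i) (Finsupp.single (ULift.up.{u} i) 1 + m - Finsupp.single (ULift.up.{u} j) 1)
        rw [hi'] at hle
        have hdeg : (Finsupp.single (ULift.up.{u} i) 1 + m - Finsupp.single (ULift.up.{u} j) 1 : ULift.{u} (Fin n) →₀ ℕ).degree = m.degree := by omega
        rw [hi', hdeg]
        omega
      · simp
  ext m
  rw [coeff_zero]
  refine eq_zero_of_pow (G := f :: List.ofFn r) (fun a ha => h a (ha f List.mem_cons_self)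
    fun i => ha _ (List.mem_cons_of_mem _ (List.mem_ofFn.2 ⟨i, rfl⟩))) (f :: List.ofFn r) _
    (fun x hx hx' => absurd hx hx') fun x hx => ?_
  rcases List.mem_cons.1 hx with rfl | hx
  · exact ⟨_, hf _ m (Nat.lt_succ_self _)⟩
  · obtain ⟨i, rfl⟩ := List.mem_ofFn.1 hx
    exact ⟨_, hr i _ m (Nat.lt_succ_self _)⟩

open RingTheory.Sequence in
theorem isWeaklyRegular_map_ringEquiv {B : Type u} [CommRing B] (e : A ≃+* B) {l : List A}
    (h : IsWeaklyRegular A l) : IsWeaklyRegular B (l.map e) :=
  (e.toAddEquiv.isWeaklyRegular_congr (List.forall₂_map_right_iff.mpr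
    (List.forall₂_same.mpr fun r _ x => map_mul e r x))).1 h

open RingTheory.Sequence Pointwise in
theorem isWeaklyRegular_cons_of_quotient (h : A) (hh : h ∈ nonZeroDivisors A) {Q : Type u} [CommRing Q]
    (π : A →+* Q) (hπ : Function.Surjective π) (hker : RingHom.ker π = Ideal.span {h})
    (m : List A) (hm : IsWeaklyRegular Q (m.map π)) : IsWeaklyRegular A (h :: m) := by
  refine (isWeaklyRegular_cons_iff A h m).2 ⟨?_, ?_⟩
  · intro a b hab
    exact sub_eq_zero.1 ((mem_nonZeroDivisors_iff_left.1 hh) _ (by
      rw [mul_sub, sub_eq_zero]; exact hab))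
  · letI : Module A Q := Module.compHom Q π
    let L : A →ₗ[A] Q :=
      { toFun := π
        map_add' := map_add π
        map_smul' := fun r x => map_mul π r x }
    have hL : LinearMap.ker L = h • (⊤ : Submodule A A) := by
      ext x
      rw [LinearMap.mem_ker, Submodule.mem_smul_pointwise_iff_exists]
      show π x = 0 ↔ _
      rw [← RingHom.mem_ker, hker, Ideal.mem_span_singleton']
      constructor
      · rintro ⟨a, rfl⟩; exact ⟨a, trivial, mul_comm _ _⟩
      · rintro ⟨a, -, rfl⟩; exact ⟨a, mul_comm _ _⟩
    let e : QuotSMulTop h A ≃ₗ[A] Q :=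
      (Submodule.quotEquivOfEq _ _ hL.symm).trans (L.quotKerEquivOfSurjective hπ)
    refine (e.toAddEquiv.isWeaklyRegular_congr (List.forall₂_map_right_iff.mpr
      (List.forall₂_same.mpr fun r _ x => ?_))).2 hm
    exact e.map_smul r x

/-- Generic coefficients make a Koszul regular sequence weakly regular. -/
theorem exists_weaklyRegular : ∀ (n : ℕ) (A : Type u) [CommRing A] (l : List A), l.length = n → KR l →
    ∃ (σ : Type u) (_ : Finite σ) (l' : List (MvPolynomial σ A)),
      RingTheory.Sequence.IsWeaklyRegular (MvPolynomial σ A) l' ∧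
        Ideal.ofList l' = (Ideal.ofList l).map (C : A →+* MvPolynomial σ A) := by
  intro n
  induction n with
  | zero =>
    intro A _ l hl _
    obtain rfl : l = [] := List.length_eq_zero_iff.1 hl
    exact ⟨PEmpty, inferInstance, [], RingTheory.Sequence.IsWeaklyRegular.nil _ _, by simp⟩
  | succ n ih =>
    intro A _ l hl hKR
    obtain ⟨f, rest, rfl⟩ : ∃ f rest, l = f :: rest := by
      cases l with
      | nil => simp at hl
      | cons f rest => exact ⟨f, rest, rfl⟩
    let B := MvPolynomial (ULift.{u} (Fin rest.length)) A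
    let h : B := C f + ∑ i, C (rest.get i) * X (ULift.up.{u} i)
    have hnzd : h ∈ nonZeroDivisors B := generic_mem_nonZeroDivisors f rest.get fun a h1 h2 =>
      eq_zero_of_kR hKR (List.cons_ne_nil _ _) fun x hx => by
        rcases List.mem_cons.1 hx with rfl | hx
        · exact h1
        · obtain ⟨i, rfl⟩ := List.mem_iff_get.1 hx; exact h2 i
    have hB : KR ((f :: rest).map (algebraMap A B)) := hKR.map (A := A) (B := B)
    have hmem : (∑ i, C (rest.get i) * X (ULift.up.{u} i) : B) ∈ Ideal.ofList (rest.map (algebraMap A B)) :=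
      Ideal.sum_mem _ fun i _ => Ideal.mul_mem_right _ _
        (Ideal.subset_span (List.mem_map.2 ⟨_, List.get_mem rest i, rfl⟩))
    have hid : Ideal.ofList (h :: rest.map (algebraMap A B)) = Ideal.ofList ((f :: rest).map (algebraMap A B)) := by
      simp only [List.map_cons, Ideal.ofList_cons]
      refine le_antisymm (sup_le ((Ideal.span_singleton_le_iff_mem _).2 ?_) le_sup_right)
        (sup_le ((Ideal.span_singleton_le_iff_mem _).2 ?_) le_sup_right)
      · exact add_mem (Ideal.mem_sup_left (Ideal.mem_span_singleton_self _)) (Ideal.mem_sup_right hmem)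
      · have e : (algebraMap A B) f = h - ∑ i, C (rest.get i) * X (ULift.up.{u} i) := by
          simp [h, B, MvPolynomial.algebraMap_eq]
        rw [e]
        exact sub_mem (Ideal.mem_sup_left (Ideal.mem_span_singleton_self _)) (Ideal.mem_sup_right hmem)
    let Q := B ⧸ Ideal.span {h}
    have hQ : KR ((rest.map (algebraMap A B)).map (algebraMap B Q)) :=
      (kR_cons_iff_map (A := B) (B := Q) Ideal.Quotient.mk_surjective hnzd Ideal.mk_ker _).1
        (kR_of_length_le hB hid (by simp))
    obtain ⟨σ, hσ, m', hm', hid'⟩ := ih Q _ (by simp at hl ⊢; omega) hQ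
    let π : MvPolynomial σ B →+* MvPolynomial σ Q := MvPolynomial.map (Ideal.Quotient.mk (Ideal.span {h}))
    have hπ : Function.Surjective π := map_surjective _ Ideal.Quotient.mk_surjective
    have hker : RingHom.ker π = Ideal.span {C h} := by
      rw [ker_map, Ideal.mk_ker, Ideal.map_span, Set.image_singleton]
    obtain ⟨m, hm⟩ : ∃ m : List (MvPolynomial σ B), m.map π = m' := by
      clear hm' hid'
      induction m' with
      | nil => exact ⟨[], rfl⟩
      | cons a t iht =>
        obtain ⟨m, rfl⟩ := iht
        obtain ⟨b, rfl⟩ := hπ a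
        exact ⟨b :: m, rfl⟩
    have hCh : (C h : MvPolynomial σ B) ∈ nonZeroDivisors (MvPolynomial σ B) := by
      rw [mem_nonZeroDivisors_iff_left]
      intro p hp
      refine MvPolynomial.ext _ _ fun d => ?_
      rw [coeff_zero]
      exact mem_nonZeroDivisors_iff_left.1 hnzd _ (by rw [← coeff_C_mul, hp, coeff_zero])
    have hreg : RingTheory.Sequence.IsWeaklyRegular (MvPolynomial σ B) (C h :: m) :=
      isWeaklyRegular_cons_of_quotient (A := MvPolynomial σ B) (Q := MvPolynomial σ Q) (C h) hCh π hπ hker m (by rw [hm]; exact hm')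
    let e : MvPolynomial (σ ⊕ ULift.{u} (Fin rest.length)) A ≃ₐ[A] MvPolynomial σ B :=
      sumAlgEquiv A σ (ULift.{u} (Fin rest.length))
    refine ⟨σ ⊕ ULift.{u} (Fin rest.length), inferInstance, (C h :: m).map e.symm.toRingEquiv,
      isWeaklyRegular_map_ringEquiv e.symm.toRingEquiv hreg, ?_⟩
    have hall : Ideal.ofList (C h :: m) =
        (Ideal.ofList (h :: rest.map (algebraMap A B))).map (C : B →+* MvPolynomial σ B) := by
      have h1 : (Ideal.ofList m).map π = ((Ideal.ofList (rest.map (algebraMap A B))).map C).map π := by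
        rw [Ideal.map_ofList π m, hm, hid', Ideal.map_map, ← Ideal.map_ofList, Ideal.map_map]
        congr 1
        exact RingHom.ext fun x => (map_C (Ideal.Quotient.mk (Ideal.span {h})) x).symm
      have key : ∀ I J : Ideal (MvPolynomial σ B), I.map π = J.map π → I ≤ Ideal.span {C h} ⊔ J := fun I J hIJ x hx => by
        have h2 : π x ∈ J.map π := hIJ ▸ Ideal.mem_map_of_mem π hx
        rw [← Ideal.mem_comap, Ideal.comap_map_of_surjective' π hπ, hker, sup_comm] at h2
        exact h2
      rw [Ideal.ofList_cons, Ideal.ofList_cons, Ideal.map_sup, Ideal.map_span, Set.image_singleton]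
      exact le_antisymm (sup_le le_sup_left (key _ _ h1)) (sup_le le_sup_left (key _ _ h1.symm))
    refine (Ideal.map_ofList e.symm.toRingEquiv.toRingHom (C h :: m)).symm.trans ?_
    rw [hall, hid, ← Ideal.map_ofList, Ideal.map_map, Ideal.map_map]
    congr 1
    exact RingHom.ext fun a => sumAlgEquiv_symm_C_C A σ (ULift.{u} (Fin rest.length)) a

end Groth.Agent.Div89.KoszulGeneric
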