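import Groth.Agent.TopDim50.Basic
import Groth.Agent.Div89.Cartier
import Mathlib.RingTheory.KrullDimension.NonZeroDivisors
import Mathlib.RingTheory.Spectrum.Prime.Topology

/-! Local dimension drops on an effective Cartier divisor. -/

set_option autoImplicit false
set_option linter.style.haveILetI false
set_option backward.isDefEq.respectTransparency.types false

noncomputable section

universe u

open CategoryTheory AlgebraicGeometry TopologicalSpace

namespace Groth.Agent.Div89

lemma topologicalKrullDim_affine {X : Scheme.{u}} {U : X.Opens} (hU : IsAffineOpen U) :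
    topologicalKrullDim (U : Set X) = ringKrullDim Γ(X, U) := by
  rw [← PrimeSpectrum.topologicalKrullDim_eq_ringKrullDim Γ(X, U)]
  exact IsHomeomorph.topologicalKrullDim_eq hU.isoSpec.hom (hU.isoSpec.hom.homeomorph.isHomeomorph)

/-- The local dimension of an effective divisor is smaller. -/
theorem localDim_effCartier_lt (S : Scheme.{u}) (I : S.IdealSheafData) (hI : BlowUp.IsEffCartierIdeal I)
    (d : I.subscheme) (hfin : FlatMor.localDim S (I.subschemeι d) ≠ ⊤) :
    FlatMor.localDim I.subscheme d < FlatMor.localDim S (I.subschemeι d) := by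
  obtain ⟨U, hsU, hU⟩ := TopDim50.exists_localDim_eq (I.subschemeι d)
  obtain ⟨W, hsW, f, hf, hfI⟩ := hI (I.subschemeι d)
  obtain ⟨g, hgU, hgs⟩ := W.2.exists_basicOpen_le ⟨I.subschemeι d, hsU⟩ hsW
  let V : S.affineOpens := ⟨S.basicOpen g, W.2.basicOpen g⟩
  let r : Γ(S, V.1) := S.presheaf.map (homOfLE (S.basicOpen_le g)).op f
  have hr : r ∈ nonZeroDivisors Γ(S, V.1) := by
    haveI := W.2.isLocalization_basicOpen g
    exact IsLocalization.map_nonZeroDivisors_le (Submonoid.powers g) Γ(S, S.basicOpen g) ⟨f, hf, rfl⟩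
  have hrI : I.ideal V = Ideal.span {r} := Div89.ideal_res_span (S.basicOpen_le g) hfI
  let P : I.subscheme.affineOpens := ⟨I.subschemeι ⁻¹ᵁ V.1, V.2.preimage I.subschemeι⟩
  have hker : RingHom.ker (I.subschemeι.app V.1).hom = Ideal.span {r} := (I.ker_subschemeι_app V).trans hrI
  have e : (Γ(S, V.1) ⧸ Ideal.span {r}) ≃+* Γ(I.subscheme, P.1) :=
    (Ideal.quotEquivOfEq hker.symm).trans
      (RingHom.quotientKerEquivOfSurjective (I.subschemeι_app_surjective V))
  have h1 : FlatMor.localDim I.subscheme d + 1 ≤ FlatMor.localDim S (I.subschemeι d) := by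
    refine (add_le_add_left ((TopDim50.localDim_le P.1 hgs).trans ?_) 1).trans
      ((ringKrullDim_quotient_succ_le_of_nonZeroDivisor hr).trans ?_)
    · rw [topologicalKrullDim_affine P.2, ringKrullDim_eq_of_ringEquiv e]
    · rw [hU, ← topologicalKrullDim_affine V.2]
      exact TopDim50.dim_mono (hgU)
  have hne : FlatMor.localDim I.subscheme d ≠ ⊥ := by
    haveI : Nonempty I.subscheme := ⟨d⟩
    obtain ⟨U', hdU', hU'⟩ := TopDim50.exists_localDim_eq d
    haveI : Nonempty (U' : Set I.subscheme) := ⟨⟨d, hdU'⟩⟩
    intro h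
    have := TopDim50.dim_nonneg (X := (U' : Set I.subscheme))
    rw [← hU', h] at this
    exact absurd this (by simp)
  generalize FlatMor.localDim I.subscheme d = a at h1 hne
  generalize FlatMor.localDim S (I.subschemeι d) = b at h1 hfin
  obtain ⟨a, rfl⟩ := WithBot.ne_bot_iff_exists.1 hne
  induction b using WithBot.recBotCoe with
  | bot => exact absurd h1 (by simp)
  | coe b =>
    induction b using ENat.recTopCoe with
    | top => exact absurd rfl hfin
    | coe n =>
      rw [← WithBot.coe_one, ← WithBot.coe_add, WithBot.coe_le_coe] at h1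
      rw [WithBot.coe_lt_coe]
      exact (ENat.add_one_le_iff (fun h => by rw [h, top_add] at h1; exact absurd h1 (by simp))).1 h1

end Groth.Agent.Div89
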