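import Groth.Agent.Curves2.IdealFrame
import Groth.Agent.WC97.Fixed
import Groth.Prelude.Def_Neron
import Mathlib.AlgebraicGeometry.Morphisms.Proper

/-! Linearly equivalent nested effective divisors on a projective scheme are equal. -/

set_option autoImplicit false
set_option linter.style.haveILetI false
set_option backward.isDefEq.respectTransparency.types false

noncomputable section

universe u

open CategoryTheory AlgebraicGeometry TopologicalSpace Opposite
open Groth.Agent.QC70

namespace Groth.Agent.Div89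

variable {X : Scheme.{u}} (I J : X.IdealSheafData)

lemma resO_mul' {U V : X.Opens} (h : V ≤ U) (a b : Γ(X, U)) : resO X h (a * b) = resO X h a * resO X h b :=
  (X.presheaf.map (homOfLE h).op).hom.map_mul a b

lemma resO_zero' {U V : X.Opens} (h : V ≤ U) : resO X h (0 : Γ(X, U)) = 0 :=
  (X.presheaf.map (homOfLE h).op).hom.map_zero

/-- A homomorphism of ideal modules into a smaller invertible ideal is multiplication by a global function. -/
theorem exists_mul_of_hom (hI : BlowUp.IsEffCartierIdeal I) (hJI : J ≤ I)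
    (φ : ClSub.idealMod I ⟶ ClSub.idealMod J) :
    ∃ h : Γ(X, ⊤), ∀ (V : X.Opens) (m : Γ(ClSub.idealMod I, V)),
      OmegaSh.idealSect J V (φ.app V m) = resO X le_top h * OmegaSh.idealSect I V m := by
  choose U hxU f hf hfI using hI
  choose e he using fun x => Curves2.exists_idealSect_of_mem I (U x) (hfI x ▸ Ideal.mem_span_singleton_self (f x))
  have hfr := fun x => Curves2.isFrame_of_span I (U x) (hf x) (hfI x) (e x) (he x)
  have huniq : ∀ (x : X) (V : X.Opens) (hV : V ≤ (U x).1) (a b : Γ(X, V)),
      a * resO X hV (f x) = b * resO X hV (f x) → a = b := fun x V hV a b hab => by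
    have hsm : ∀ c : Γ(X, V), OmegaSh.idealSect I V (c • Var76.LineBundle.res (ClSub.idealMod I) hV (e x)) =
        c * resO X hV (f x) := fun c => by
      rw [Omega57.idealSect_smul, Curves2.idealSect_res, he]
    exact (hfr x V hV).1 (Omega57.idealSect_injective I V ((hsm a).trans (hab.trans (hsm b).symm)))
  have hex : ∀ x : X, ∃ c : Γ(X, (U x).1), c * f x = OmegaSh.idealSect J (U x).1 (φ.app (U x).1 (e x)) := fun x => by
    have h1 : OmegaSh.idealSect J (U x).1 (φ.app (U x).1 (e x)) ∈ I.ideal (U x) :=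
      hJI (U x) (Curves2.idealSect_mem_ideal J (U x) _)
    rw [hfI x, Ideal.mem_span_singleton'] at h1
    exact h1
  choose c hc using hex
  have hloc : ∀ (x : X) (V : X.Opens) (hV : V ≤ (U x).1) (m : Γ(ClSub.idealMod I, V)),
      OmegaSh.idealSect J V (φ.app V m) = resO X hV (c x) * OmegaSh.idealSect I V m := fun x V hV m => by
    obtain ⟨a, rfl⟩ := (hfr x V hV).2 m
    rw [show φ.app V (a • Var76.LineBundle.res (ClSub.idealMod I) hV (e x)) =
        a • Var76.LineBundle.res (ClSub.idealMod J) hV (φ.app (U x).1 (e x)) from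
      ((QC70.appLinear φ V).map_smul a _).trans (congrArg (a • ·) (QC70.app_res φ hV (e x)))]
    rw [Omega57.idealSect_smul, Omega57.idealSect_smul, Curves2.idealSect_res, Curves2.idealSect_res, he, ← hc]
    refine Eq.trans (congrArg (a * ·) (resO_mul' hV _ _)) ?_
    exact mul_left_comm _ _ _
  have hcompat : TopCat.Presheaf.IsCompatible X.sheaf.obj (fun x : X => (U x).1) c := by
    intro x y
    refine huniq x _ inf_le_left _ _ ?_
    have h1 := hloc x ((U x).1 ⊓ (U y).1) inf_le_left
      (Var76.LineBundle.res (ClSub.idealMod I) inf_le_left (e x))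
    rw [hloc y ((U x).1 ⊓ (U y).1) inf_le_right, Curves2.idealSect_res, he] at h1
    exact h1.symm
  obtain ⟨(h : Γ(X, ⊤)), hh, -⟩ := X.sheaf.existsUnique_gluing' (fun x : X => (U x).1) ⊤
    (fun _ => homOfLE le_top) (fun x _ => Opens.mem_iSup.2 ⟨x, hxU x⟩) c hcompat
  refine ⟨h, fun V m => ?_⟩
  refine TopCat.Sheaf.eq_of_locally_eq' X.sheaf (fun x : X => V ⊓ (U x).1) V (fun x => homOfLE inf_le_left)
    (fun x hx => Opens.mem_iSup.2 ⟨x, hx, hxU x⟩) _ _ fun x => ?_
  change resO X inf_le_left (OmegaSh.idealSect J V (φ.app V m)) =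
    resO X inf_le_left (resO X le_top h * OmegaSh.idealSect I V m)
  rw [resO_mul', show resO X inf_le_left (OmegaSh.idealSect J V (φ.app V m)) =
      OmegaSh.idealSect J (V ⊓ (U x).1) (Var76.LineBundle.res _ inf_le_left (φ.app V m)) from
      (Curves2.idealSect_res J _ _).symm,
    show Var76.LineBundle.res (ClSub.idealMod J) (inf_le_left : V ⊓ (U x).1 ≤ V) (φ.app V m) =
      φ.app (V ⊓ (U x).1) (Var76.LineBundle.res _ inf_le_left m) from (QC70.app_res φ _ m).symm,
    hloc x (V ⊓ (U x).1) inf_le_right, Curves2.idealSect_res, resO_resO,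
    show c x = resO X le_top h from (hh x).symm, resO_resO]

/-- Nested effective divisors with isomorphic ideals are equal once global functions are integral over a field. -/
theorem eq_of_le_of_iso {k : Type u} [Field k] (g : X ⟶ Spec (CommRingCat.of k)) [UniversallyClosed g]
    (hI : BlowUp.IsEffCartierIdeal I) (hJI : J ≤ I) (φ : ClSub.idealMod I ≅ ClSub.idealMod J) : I = J := by
  obtain ⟨h, hh⟩ := exists_mul_of_hom I J hI hJI φ.hom
  have hnzd : ∀ a : Γ(X, ⊤), h * a = 0 → a = 0 := fun a ha => by
    choose U hxU f hf hfI using hI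
    refine TopCat.Sheaf.eq_of_locally_eq' X.sheaf (fun x : X => (U x).1) ⊤ (fun x => homOfLE le_top)
      (fun x _ => Opens.mem_iSup.2 ⟨x, hxU x⟩) _ _ fun x => ?_
    change resO X le_top a = resO X le_top 0
    obtain ⟨e, he⟩ := Curves2.exists_idealSect_of_mem I (U x) (hfI x ▸ Ideal.mem_span_singleton_self (f x))
    rw [resO_zero']
    refine mem_nonZeroDivisors_iff_right.1 (hf x) _ ?_
    have h1 := hh (U x).1 (resO X (le_top : (U x).1 ≤ ⊤) a • e)
    rw [Omega57.idealSect_smul, he, ← mul_assoc, ← resO_mul', ha, resO_zero', zero_mul] at h1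
    have h2 : φ.hom.app (U x).1 (resO X le_top a • e) = 0 :=
      Omega57.idealSect_injective J (U x).1 (h1.trans (by simp [OmegaSh.idealSect_apply]))
    have h3 := congrArg (φ.inv.app (U x).1) h2
    rw [map_zero, show φ.inv.app (U x).1 (φ.hom.app (U x).1 (resO X le_top a • e)) = resO X le_top a • e from by
      rw [← ConcreteCategory.comp_apply, ← Scheme.Modules.Hom.comp_app, φ.hom_inv_id, Scheme.Modules.Hom.id_app, ConcreteCategory.id_apply]] at h3
    have h4 := congrArg (OmegaSh.idealSect I (U x).1) h3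
    rw [Omega57.idealSect_smul, he] at h4
    exact h4.trans (by simp [OmegaSh.idealSect_apply])
  have hint := isIntegral_appTop_of_universallyClosed g h
  have hu : IsUnit h := by
    let F : k →+* Γ(X, ⊤) := g.appTop.hom.comp (Scheme.ΓSpecIso (CommRingCat.of k)).inv.hom
    letI := F.toAlgebra
    have hi : IsIntegral k h := by
      obtain ⟨p, hp, hp'⟩ := hint
      refine ⟨p.map (Scheme.ΓSpecIso (CommRingCat.of k)).hom.hom, hp.map _, ?_⟩
      rw [Polynomial.eval₂_map]
      refine Eq.trans ?_ hp'
      refine congrArg (fun q => Polynomial.eval₂ q h p) (RingHom.ext fun r => ?_)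
      exact congrArg g.appTop.hom ((Scheme.ΓSpecIso (CommRingCat.of k)).hom_inv_id_apply r)
    obtain ⟨r, hr, d, hd⟩ := IsAlgebraic.exists_nonzero_dvd hi.isAlgebraic
      (mem_nonZeroDivisors_iff_right.2 fun a ha => hnzd a ((mul_comm _ _).trans ha))
    exact isUnit_of_dvd_unit ⟨d, hd⟩ ((IsUnit.mk0 r hr).map (algebraMap k Γ(X, ⊤)))
  refine le_antisymm (fun V r hr => ?_) hJI
  obtain ⟨m, rfl⟩ := Curves2.exists_idealSect_of_mem I V hr
  have h1 := hh V.1 m
  have h2 : resO X le_top h * OmegaSh.idealSect I V.1 m ∈ J.ideal V :=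
    h1 ▸ Curves2.idealSect_mem_ideal J V _
  exact (Ideal.unit_mul_mem_iff_mem _ (hu.map (X.presheaf.map (homOfLE (le_top : V.1 ≤ ⊤)).op).hom)).1 h2

end Groth.Agent.Div89
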