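import Groth.Agent.EGA73.IntegralNormal
import Groth.Agent.EGA73.NrmDescent
import Groth.Agent.QC70.DevissageAux
import Mathlib.RingTheory.Norm.Transitivity
import Mathlib.FieldTheory.Minpoly.IsIntegrallyClosed

/-!
The norm of a finite surjective morphism to a normal integral scheme (no Noetherian hypothesis).
-/

set_option autoImplicit false
set_option linter.style.haveILetI false
set_option backward.isDefEq.respectTransparency.types false

noncomputable section

universe u

open CategoryTheory AlgebraicGeometry TopologicalSpace IsLocalRing Polynomial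

namespace Groth.Agent.Div89.NormalNrm

open Var76.ZeroScheme

section Algebra

variable {R K L : Type*} [CommRing R] [IsDomain R] [IsIntegrallyClosed R] [Field K] [Field L] [Algebra R K]
  [IsFractionRing R K] [Algebra R L] [Algebra K L] [IsScalarTower R K L] [FiniteDimensional K L]

/-- The norm is a power of the constant coefficient of the minimal polynomial over a normal ring. -/
theorem norm_eq_coeff_pow {x : L} (hx : IsIntegral R x) :
    ∃ n k : ℕ, 0 < k ∧ Algebra.norm K x = algebraMap R K (((-1) ^ n * (minpoly R x).coeff 0) ^ k) := by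
  have hxK : IsIntegral K x := Algebra.IsIntegral.isIntegral x
  refine ⟨(IntermediateField.adjoin.powerBasis hxK).dim, Module.finrank (IntermediateField.adjoin K {x}) L,
    Module.finrank_pos, ?_⟩
  rw [Algebra.norm_eq_norm_adjoin K x, ← IntermediateField.adjoin.powerBasis_gen hxK,
    Algebra.PowerBasis.norm_gen_eq_coeff_zero_minpoly, IntermediateField.adjoin.powerBasis_gen hxK,
    IntermediateField.minpoly_gen, minpoly.isIntegrallyClosed_eq_field_fractions' K hx, Polynomial.coeff_map]
  simp only [map_pow, map_mul, map_neg, map_one]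

end Algebra

section Generic

variable {X Y : Scheme.{u}} (π : X ⟶ Y) [IsFinite π] [Surjective π] [IsIntegral X] [IsIntegral Y]

instance : IsDominant π := ⟨π.surjective.denseRange⟩

lemma generic_eq : π (genericPoint X) = genericPoint Y := EGA73.genericPoint_of_isDominant π

lemma generic_mem {U : Y.Opens} (h : genericPoint Y ∈ U) : genericPoint X ∈ π ⁻¹ᵁ U := by
  show π (genericPoint X) ∈ U
  rw [generic_eq π]; exact h

/-- The extension of function fields. -/
def ff : Y.functionField ⟶ X.functionField :=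
  Y.presheaf.stalkSpecializes (specializes_of_eq (generic_eq π)) ≫ π.stalkMap (genericPoint X)

lemma ff_germ (U : Y.Opens) (hU : genericPoint Y ∈ U) (a : Γ(Y, U)) :
    (ff π).hom (Y.presheaf.germ U (genericPoint Y) hU a) =
      X.presheaf.germ (π ⁻¹ᵁ U) (genericPoint X) (generic_mem π hU) (π.app U a) := by
  have h : (Y.presheaf.stalkSpecializes (specializes_of_eq (generic_eq π))).hom
      (Y.presheaf.germ U (genericPoint Y) hU a) = Y.presheaf.germ U (π (genericPoint X)) (generic_mem π hU) a :=
    congr($(TopCat.Presheaf.germ_stalkSpecializes Y.presheaf hU (specializes_of_eq (generic_eq π))) a)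
  show (π.stalkMap (genericPoint X)).hom ((Y.presheaf.stalkSpecializes _).hom _) = _
  rw [h]
  exact Scheme.Hom.germ_stalkMap_apply π U (genericPoint X) (generic_mem π hU) a

theorem ff_finite : (ff π).hom.Finite := by
  refine RingHom.Finite.comp ((EGA73.stalkMap_generic π).2 inferInstance) (RingHom.Finite.of_surjective _ ?_)
  haveI : IsIso (Y.presheaf.stalkSpecializes (specializes_of_eq (generic_eq π))) :=
    ⟨Y.presheaf.stalkSpecializes (specializes_of_eq (generic_eq π).symm), by simp, by simp⟩
  exact (ConcreteCategory.bijective_of_isIso (Y.presheaf.stalkSpecializes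
    (specializes_of_eq (generic_eq π)))).2

/-- The norm of the extension of function fields. -/
def ffNorm : X.functionField →* Y.functionField :=
  letI := (ff π).hom.toAlgebra
  Algebra.norm Y.functionField

/-- Its degree. -/
def deg : ℕ :=
  letI := (ff π).hom.toAlgebra
  Module.finrank Y.functionField X.functionField

theorem deg_pos : 1 ≤ deg π := by
  letI := (ff π).hom.toAlgebra
  haveI : Module.Finite Y.functionField X.functionField := ff_finite π
  exact Module.finrank_pos

theorem ffNorm_ff (a : Y.functionField) : ffNorm π ((ff π).hom a) = a ^ deg π :=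
  letI := (ff π).hom.toAlgebra
  Algebra.norm_algebraMap a

variable {π} (hY : Pi1.IsNormalScheme Y)

include hY in
/-- On a normal affine open the norm of a section is a power of a coefficient killing it modulo itself. -/
theorem exists_local {V : Y.Opens} (hV : IsAffineOpen V) (hηV : genericPoint Y ∈ V) (z : Γ(X, π ⁻¹ᵁ V)) :
    ∃ (c : Γ(Y, V)) (k : ℕ) (w : Γ(X, π ⁻¹ᵁ V)), 0 < k ∧ π.app V c = z * w ∧
      ffNorm π (X.presheaf.germ (π ⁻¹ᵁ V) (genericPoint X) (generic_mem π hηV) z) =
        Y.presheaf.germ V (genericPoint Y) hηV (c ^ k) := by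
  haveI : Nonempty V := ⟨⟨_, hηV⟩⟩
  haveI : Nonempty (π ⁻¹ᵁ V : X.Opens) := ⟨⟨_, generic_mem π hηV⟩⟩
  haveI := functionField_isFractionRing_of_isAffineOpen Y V hV
  haveI := EGA73.isIntegrallyClosed_sections hY hV
  letI := (ff π).hom.toAlgebra
  letI : Algebra Γ(Y, V) X.functionField :=
    ((ff π).hom.comp (algebraMap Γ(Y, V) Y.functionField)).toAlgebra
  haveI : IsScalarTower Γ(Y, V) Y.functionField X.functionField := IsScalarTower.of_algebraMap_eq fun _ => rfl
  haveI : Module.Finite Y.functionField X.functionField := ff_finite π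
  let ρ := (X.presheaf.germ (π ⁻¹ᵁ V) (genericPoint X) (generic_mem π hηV)).hom
  have hρ : algebraMap Γ(Y, V) X.functionField = ρ.comp (π.app V).hom :=
    RingHom.ext fun a => ff_germ π V hηV a
  have hint : IsIntegral Γ(Y, V) (ρ z) := by
    obtain ⟨p, hp, hpz⟩ := IsIntegralHom.isIntegral_app π V hV z
    refine ⟨p, hp, ?_⟩
    rw [hρ, ← Polynomial.hom_eval₂, hpz, map_zero]
  obtain ⟨n, k, hk, hN⟩ := norm_eq_coeff_pow (K := Y.functionField) hint
  let P := minpoly Γ(Y, V) (ρ z)
  refine ⟨(-1) ^ n * P.coeff 0, k, π.app V ((-1) ^ n) * (-(P.divX.eval₂ (π.app V).hom z)), hk, ?_, hN⟩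
  have h0 : P.eval₂ (π.app V).hom z = 0 := by
    apply germ_injective_of_isIntegral X (genericPoint X) (generic_mem π hηV)
    show ρ _ = ρ 0
    rw [map_zero, Polynomial.hom_eval₂, ← hρ]
    exact minpoly.aeval Γ(Y, V) (ρ z)
  rw [← Polynomial.X_mul_divX_add P, eval₂_add, eval₂_mul, eval₂_X, eval₂_C] at h0
  rw [map_mul, mul_left_comm]
  refine congrArg (π.app V ((-1) ^ n) * ·) ?_
  rw [eq_neg_of_add_eq_zero_right h0]
  ring

include hY in
theorem existsUnique_norm (U : Y.Opens) (s : Γ(X, π ⁻¹ᵁ U)) :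
    ∃! b : Γ(Y, U), ∀ hη : genericPoint Y ∈ U, Y.presheaf.germ U (genericPoint Y) hη b =
      ffNorm π (X.presheaf.germ (π ⁻¹ᵁ U) (genericPoint X) (generic_mem π hη) s) := by
  have uniq : ∀ (W : Y.Opens) (a b : Γ(Y, W)), (∀ hη : genericPoint Y ∈ W,
      Y.presheaf.germ W (genericPoint Y) hη a = Y.presheaf.germ W (genericPoint Y) hη b) → a = b := by
    intro W a b h
    refine TopCat.Presheaf.section_ext Y.sheaf W a b fun y hy => ?_
    have hη : genericPoint Y ∈ W := (genericPoint_specializes y).mem_open W.2 hy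
    rw [germ_injective_of_isIntegral Y (genericPoint Y) hη (h hη)]
  have ex : ∀ y : U, ∃ (V : Y.Opens) (_ : y.1 ∈ V) (hVU : V ≤ U) (b : Γ(Y, V)), ∀ hη : genericPoint Y ∈ V,
      Y.presheaf.germ V (genericPoint Y) hη b =
        ffNorm π (X.presheaf.germ (π ⁻¹ᵁ U) (genericPoint X) (generic_mem π (hVU hη)) s) := by
    intro y
    obtain ⟨V, hV, hyV, hVU'⟩ := exists_isAffineOpen_mem_and_subset y.2
    have hVU : V ≤ U := hVU'
    have hηV : genericPoint Y ∈ V := (genericPoint_specializes y.1).mem_open V.2 hyV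
    obtain ⟨c, k, w, -, -, hN⟩ := exists_local hY hV hηV (fres (π.preimage_mono hVU) s)
    refine ⟨V, hyV, hVU, c ^ k, fun hη => ?_⟩
    rw [← hN, fres, TopCat.Presheaf.germ_res_apply]
  choose V hyV hVU b hb using ex
  have compat : TopCat.Presheaf.IsCompatible Y.sheaf.obj V b := by
    intro y y'
    refine uniq _ _ _ fun hη => ?_
    show Y.presheaf.germ _ _ hη (Y.presheaf.map (homOfLE inf_le_left).op (b y)) =
      Y.presheaf.germ _ _ hη (Y.presheaf.map (homOfLE inf_le_right).op (b y'))
    rw [TopCat.Presheaf.germ_res_apply, TopCat.Presheaf.germ_res_apply, hb y hη.1, hb y' hη.2]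
  obtain ⟨(a : Γ(Y, U)), ha, -⟩ := Y.sheaf.existsUnique_gluing' V U (fun y => homOfLE (hVU y))
    (fun y hy => Opens.mem_iSup.2 ⟨⟨y, hy⟩, hyV ⟨y, hy⟩⟩) b compat
  have hspec : ∀ hη : genericPoint Y ∈ U, Y.presheaf.germ U (genericPoint Y) hη a =
      ffNorm π (X.presheaf.germ (π ⁻¹ᵁ U) (genericPoint X) (generic_mem π hη) s) := fun hη => by
    have h1 : Y.presheaf.map (homOfLE (hVU ⟨_, hη⟩)).op a = b ⟨_, hη⟩ := ha ⟨_, hη⟩
    rw [← hb ⟨_, hη⟩ (hyV ⟨_, hη⟩), ← h1, TopCat.Presheaf.germ_res_apply]
  exact ⟨a, hspec, fun a' ha' => uniq U a' a fun hη => (ha' hη).trans (hspec hη).symm⟩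

variable (π) in
/-- The norm of a section. -/
def nrmFun (U : Y.Opens) (s : Γ(X, π ⁻¹ᵁ U)) : Γ(Y, U) := (existsUnique_norm hY U s).choose

include hY in
lemma nrmFun_spec (U : Y.Opens) (s : Γ(X, π ⁻¹ᵁ U)) (hη : genericPoint Y ∈ U) :
    Y.presheaf.germ U (genericPoint Y) hη (nrmFun π hY U s) =
      ffNorm π (X.presheaf.germ (π ⁻¹ᵁ U) (genericPoint X) (generic_mem π hη) s) :=
  (existsUnique_norm hY U s).choose_spec.1 hη

include hY in
lemma eq_nrmFun (U : Y.Opens) (s : Γ(X, π ⁻¹ᵁ U)) (b : Γ(Y, U))
    (h : ∀ hη : genericPoint Y ∈ U, Y.presheaf.germ U (genericPoint Y) hη b =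
      ffNorm π (X.presheaf.germ (π ⁻¹ᵁ U) (genericPoint X) (generic_mem π hη) s)) : b = nrmFun π hY U s :=
  (existsUnique_norm hY U s).choose_spec.2 b h

/-- The norm of a finite surjective morphism to a normal integral scheme. -/
def normOfDegree : Nrm.NormOfDegree π (deg π) where
  one_le := deg_pos π
  norm U :=
    { toFun := nrmFun π hY U
      map_one' := (eq_nrmFun hY U 1 1 fun hη => by rw [map_one, map_one, map_one]).symm
      map_mul' := fun a b => (eq_nrmFun hY U _ _ fun hη => by
        rw [map_mul, map_mul, map_mul, nrmFun_spec hY U a hη, nrmFun_spec hY U b hη]).symm }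
  norm_res {U V} i s := by
    refine eq_nrmFun hY V _ _ fun hη => ?_
    rw [TopCat.Presheaf.germ_res_apply]
    refine (nrmFun_spec hY U s (i.le hη)).trans (congrArg (ffNorm π) ?_)
    exact (TopCat.Presheaf.germ_res_apply _ _ _ _ _).symm
  norm_app U g := by
    refine (eq_nrmFun hY U _ _ fun hη => ?_).symm
    rw [map_pow, ← ffNorm_ff π, ff_germ π U hη g]
  norm_mem U s x hx hm := by
    obtain ⟨V, hV, hxV, hVU'⟩ := exists_isAffineOpen_mem_and_subset hx
    have hVU : V ≤ U := hVU'
    have hηV : genericPoint Y ∈ V := (genericPoint_specializes _).mem_open V.2 hxV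
    obtain ⟨c, k, w, hk, hw, hN⟩ := exists_local hY hV hηV (fres (π.preimage_mono hVU) s)
    have hc : fres hVU (nrmFun π hY U s) = c ^ k := by
      apply germ_injective_of_isIntegral Y (genericPoint Y) hηV
      rw [← hN, fres, fres, TopCat.Presheaf.germ_res_apply, TopCat.Presheaf.germ_res_apply,
        nrmFun_spec hY U s (hVU hηV)]
    have hmem : Y.presheaf.germ V (π.base x) hxV c ∈ maximalIdeal (Y.presheaf.stalk (π.base x)) := by
      rw [mem_maximalIdeal, mem_nonunits_iff]
      intro hu
      have h1 := hu.map (π.stalkMap x).hom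
      rw [Scheme.Hom.germ_stalkMap_apply, hw, map_mul, fres, TopCat.Presheaf.germ_res_apply] at h1
      exact hm (isUnit_of_mul_isUnit_left h1)
    show Y.presheaf.germ U (π.base x) hx (nrmFun π hY U s) ∈ _
    rw [← Y.presheaf.germ_res_apply (homOfLE hVU) (π.base x) hxV,
      show Y.presheaf.map (homOfLE hVU).op (nrmFun π hY U s) = c ^ k from hc, map_pow]
    exact Ideal.pow_mem_of_mem _ hmem k hk

include hY in
theorem exists_hasNorm : ∃ d : ℕ, Nrm.HasNorm π d := ⟨_, ⟨normOfDegree hY⟩⟩

end Generic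

/-- A finite surjective morphism to a normal integral scheme carries a weak norm, whatever the source. -/
theorem exists_wnorm {X Y : Scheme.{u}} (π : X ⟶ Y) [IsFinite π] [Surjective π] [IsIntegral Y]
    (hY : Pi1.IsNormalScheme Y) : Nonempty (EGA73.WNorm π) := by
  obtain ⟨x₀, hx₀⟩ := π.surjective (genericPoint Y)
  obtain ⟨Z, i, _, _, hr, -⟩ := QC70.exists_integral_closed x₀
  haveI : Surjective (i ≫ π) := by
    refine ⟨Set.range_eq_univ.1 ((Set.range_comp (π : X → Y) (i : Z → X)).trans ?_)⟩
    rw [hr]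
    refine Set.eq_univ_of_univ_subset ?_
    rw [← genericPoint_closure (α := Y)]
    exact closure_minimal (Set.singleton_subset_iff.2 ⟨x₀, subset_closure rfl, hx₀⟩)
      (π.isClosedMap _ isClosed_closure)
  let N := EGA73.fnormOfNorm (normOfDegree (π := i ≫ π) hY)
  refine ⟨{ norm := fun U => (N.norm U).comp (i.app (π ⁻¹ᵁ U)).hom.toMonoidHom
            norm_res := fun {U V} h s => ?_
            norm_fibre := fun U s y hy => ?_ }⟩
  · refine (N.norm_res h _).trans (congrArg (N.norm V) ?_)
    exact congr($(i.naturality (homOfLE (π.preimage_mono h)).op).hom s).symm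
  · obtain ⟨z, hz, hzy⟩ := N.norm_fibre U _ y hy
    refine ⟨i z, ?_, hzy⟩
    have : z ∈ i ⁻¹ᵁ X.basicOpen s := (Scheme.preimage_basicOpen i s).ge hz
    exact this

end Groth.Agent.Div89.NormalNrm
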