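import Groth.Agent.Div89.NormalNrm
import Groth.Agent.EGA73.DetNorm
import Groth.Agent.EGA73.MorDetNorm
import Mathlib.AlgebraicGeometry.QuasiAffine

/-! Quasi-affineness descends along finite morphisms with norms. -/

set_option autoImplicit false
set_option linter.style.haveILetI false

noncomputable section

universe u

open CategoryTheory AlgebraicGeometry TopologicalSpace

namespace Groth.Agent.Div89.NrmQuasiAffine

variable {X Y : Scheme.{u}}

/-- A finite set of a quasi-affine scheme lies in an affine basic open inside any given neighbourhood. -/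
theorem exists_affine_basicOpen_of_finite [X.IsQuasiAffine] (W : X.Opens) {E : Set X} (hE : E.Finite)
    (hEW : E ⊆ W) : ∃ f : Γ(X, ⊤), IsAffineOpen (X.basicOpen f) ∧ E ⊆ X.basicOpen f ∧ X.basicOpen f ≤ W := by
  classical
  let φ := X.toSpecΓ
  obtain ⟨C, hC⟩ := (PrimeSpectrum.isClosed_iff_zeroLocus_ideal _).1 (φ ''ᵁ W).2.isClosed_compl
  have hnot : ¬ (C : Set Γ(X, ⊤)) ⊆ ⋃ x ∈ (hE.toFinset : Set X), ((φ x).asIdeal : Set Γ(X, ⊤)) := by
    intro h
    by_cases he : hE.toFinset = ∅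
    · have := h C.zero_mem
      simp [he] at this
    obtain ⟨x₀, hx₀⟩ := Finset.nonempty_iff_ne_empty.2 he
    obtain ⟨x, hx, hle⟩ :=
      (Ideal.subset_union_prime (f := fun x => (φ x).asIdeal) x₀ x₀ fun x _ _ _ => (φ x).isPrime).1 h
    have h1 : φ x ∈ ((φ ''ᵁ W : (Spec Γ(X, ⊤)).Opens) : Set (Spec Γ(X, ⊤)))ᶜ := by
      erw [hC, PrimeSpectrum.mem_zeroLocus]
      exact hle
    exact h1 ⟨x, hEW (hE.mem_toFinset.1 hx), rfl⟩
  obtain ⟨f, hfC, hf⟩ := Set.not_subset.1 hnot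
  have hle : PrimeSpectrum.basicOpen f ≤ φ ''ᵁ W := fun p hp => by
    by_contra h
    have h1 : p ∈ ((φ ''ᵁ W : (Spec Γ(X, ⊤)).Opens) : Set (Spec Γ(X, ⊤)))ᶜ := h
    erw [hC, PrimeSpectrum.mem_zeroLocus] at h1
    exact hp (h1 hfC)
  refine ⟨f, ?_, fun x hx => ?_, ?_⟩
  · rw [← X.toSpecΓ_preimage_basicOpen, ← Scheme.Hom.isAffineOpen_iff_of_isOpenImmersion X.toSpecΓ]
    have e : X.toSpecΓ ''ᵁ X.toSpecΓ ⁻¹ᵁ PrimeSpectrum.basicOpen f =
        (PrimeSpectrum.basicOpen f : (Spec Γ(X, ⊤)).Opens) :=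
      Opens.ext (Set.image_preimage_eq_of_subset (Set.Subset.trans hle (Set.image_subset_range _ _)))
    erw [e]
    exact IsAffineOpen.Spec_basicOpen f
  · rw [← X.toSpecΓ_preimage_basicOpen]
    intro hm
    exact hf (Set.mem_biUnion (hE.mem_toFinset.2 hx) hm)
  · rw [← X.toSpecΓ_preimage_basicOpen]
    intro x hx
    obtain ⟨x', hx', he⟩ := hle hx
    rwa [← X.toSpecΓ.isOpenEmbedding.injective he]

theorem isQuasiAffine_of_wnorm (π : X ⟶ Y) [IsFinite π] (hX : X.IsQuasiAffine) (N : EGA73.WNorm π) :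
    Y.IsQuasiAffine := by
  haveI := hX
  have := N.surjective
  haveI : CompactSpace Y := π.surjective.compactSpace π.continuous
  refine .of_forall_exists_mem_basicOpen _ fun y => ?_
  obtain ⟨V, hV, hyV, -⟩ := exists_isAffineOpen_mem_and_subset (U := (⊤ : Y.Opens)) (x := y) trivial
  obtain ⟨f, -, hEf, hfV⟩ := exists_affine_basicOpen_of_finite (π ⁻¹ᵁ V) (π.finite_preimage_singleton y)
    (fun x hx => show π x ∈ V from (show π x = y from hx).symm ▸ hyV)
  let r : Γ(Y, ⊤) := N.norm ⊤ f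
  refine ⟨r, ?_, @EGA73.WNorm.mem_basicOpen_norm _ _ _ N π.isClosedMap ⊤ f y trivial fun x hx => hEf hx⟩
  have hle : Y.basicOpen r ≤ V := fun z hz => by
    obtain ⟨x, hx, rfl⟩ := N.norm_fibre ⊤ f z hz
    exact hfV hx
  rw [← inf_eq_right.2 hle, ← Y.basicOpen_res r (homOfLE le_top).op]
  exact hV.basicOpen _

theorem exists_wnorm_of_isFinLocFree (π : X ⟶ Y) [Surjective π] (h : Mor2.IsFinLocFree π) :
    Nonempty (EGA73.WNorm π) := by
  haveI := h.1
  haveI := h.2.1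
  haveI := h.2.2
  exact ⟨(EGA73.exists_chartOK π (EGA73.exists_isChart_of_isFinLocFree π (EGA73.isFinLocFree_push π))).wnorm⟩

end Groth.Agent.Div89.NrmQuasiAffine
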