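import Groth.Agent.An92.WeilPar.Parafactorial

/-! Rational functions on open subschemes and their divisors. -/

set_option autoImplicit false
set_option linter.style.haveILetI false
set_option backward.isDefEq.respectTransparency.types false

noncomputable section

universe u

open CategoryTheory AlgebraicGeometry TopologicalSpace
open Groth.Agent.An92

namespace Groth.Agent.Div89

variable {X : Scheme.{u}}

lemma eq_of_specializes_of_coheight_one {z x : X} (h : z ⤳ x) (hz : Order.coheight z = 1)
    (hx : Order.coheight x = 1) : x = z := by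
  by_contra hne
  have hlt : x < z := lt_of_le_not_ge h fun h' => hne (Specializes.antisymm h h').eq.symm
  have := Order.coheight_add_one_le hlt
  rw [hz, hx] at this
  exact absurd this (by decide)

variable [IsIntegral X] [IsLocallyNoetherian X] (U : X.Opens) [Nonempty U]

/-- The divisors of rational functions on a nonempty open are those of rational functions. -/
theorem exists_function_of_open (D : X → ℤ) :
    (∃ f : X.functionField, f ≠ 0 ∧ ∀ x ∈ U, Order.coheight x = 1 → Scheme.ord f x = D x) ↔
      ∃ g : (U : Scheme.{u}).functionField, g ≠ 0 ∧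
        ∀ u : ↥(U : Scheme.{u}), Order.coheight u = 1 → Scheme.ord g u = D u.1 := by
  have hη : U.ι (genericPoint (U : Scheme.{u})) = genericPoint X := genericPoint_eq_of_isOpenImmersion U.ι
  have hsurj : ∀ u, Function.Surjective (U.ι.stalkMap u) := fun u =>
    (ConcreteCategory.bijective_of_isIso (U.ι.stalkMap u)).2
  constructor
  · rintro ⟨f, hf, h⟩
    refine ⟨WeilPar.ffMap U.ι hη f, (map_ne_zero _).2 hf, fun u hu => ?_⟩
    rw [WeilPar.ord_ffMap U.ι hη hsurj f hf]
    exact h _ u.2 ((WeilPar.coheight_map U.ι hη hsurj u).trans hu)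
  · rintro ⟨g, hg, h⟩
    obtain ⟨f, hf⟩ := WeilPar.ffMap_surjective U.ι hη hsurj g
    have hf0 : f ≠ 0 := fun h0 => hg (by rw [← hf, h0, map_zero])
    refine ⟨f, hf0, fun x hx hc => ?_⟩
    have hu := h ⟨x, hx⟩ ((WeilPar.coheight_map U.ι hη hsurj ⟨x, hx⟩).symm.trans hc)
    rw [← hf, WeilPar.ord_ffMap U.ι hη hsurj f hf0] at hu
    exact hu

/-- Exactness of the sequence of class groups for removing a prime divisor. -/
theorem exists_multiple (z : X) (hz : Order.coheight z = 1) (hU : (U : Set X) = (closure {z})ᶜ) (D : X → ℤ)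
    (h : ∃ g : (U : Scheme.{u}).functionField, g ≠ 0 ∧
      ∀ u : ↥(U : Scheme.{u}), Order.coheight u = 1 → Scheme.ord g u = D u.1) :
    ∃ (m : ℤ) (f : X.functionField), f ≠ 0 ∧ Scheme.ord f z = D z - m ∧
      ∀ x : X, x ≠ z → Order.coheight x = 1 → Scheme.ord f x = D x := by
  obtain ⟨f, hf, hfD⟩ := (exists_function_of_open U D).2 h
  refine ⟨D z - Scheme.ord f z, f, hf, (sub_sub_cancel _ _).symm, fun x hne hc => hfD x ?_ hc⟩
  by_contra hxU
  rw [← SetLike.mem_coe, hU, Set.mem_compl_iff, not_not] at hxU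
  exact hne (eq_of_specializes_of_coheight_one (specializes_iff_mem_closure.2 hxU) hz hc)

/-- Removing a closed set of codimension two keeps principality. -/
theorem principal_iff_restrict (hcod : ∀ x : X, x ∉ U → 2 ≤ Order.coheight x) (D : X → ℤ) :
    (∃ f : X.functionField, f ≠ 0 ∧ ∀ x : X, Order.coheight x = 1 → Scheme.ord f x = D x) ↔
      ∃ g : (U : Scheme.{u}).functionField, g ≠ 0 ∧
        ∀ u : ↥(U : Scheme.{u}), Order.coheight u = 1 → Scheme.ord g u = D u.1 := by
  refine Iff.trans ⟨fun ⟨f, hf, h⟩ => ⟨f, hf, fun x _ hc => h x hc⟩, fun ⟨f, hf, h⟩ => ⟨f, hf, fun x hc => h x ?_ hc⟩⟩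
    (exists_function_of_open U D)
  by_contra hxU
  exact absurd (hc ▸ hcod x hxU) (by decide)

end Groth.Agent.Div89
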