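import Groth.Agent.Om3.OmegaPn
import Groth.Agent.Var76.RegMulX
import Groth.Agent.Var76.ZeroScheme
import Groth.Agent.Curves2.Glue.Descend
import Groth.Agent.ParaF26.Spread
import Groth.Agent.ASB64.PicProj
import Groth.Agent.S0233
import Mathlib.RingTheory.UniqueFactorizationDomain.GCDMonoid
import Mathlib.RingTheory.Polynomial.UniqueFactorization

/-! Invertible modules on projective space over a unique factorization domain are twists
(after `ASB64.PicProj`, which is over a field). -/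

set_option autoImplicit false
set_option backward.isDefEq.respectTransparency.types false

universe u

open CategoryTheory CategoryTheory.Limits AlgebraicGeometry TopologicalSpace Opposite HomogeneousLocalization

noncomputable section

namespace Groth.Agent.Div89.PicProjUFD

open Om3.OmegaPn Approx60.ProjCharts Var76.LineBundle

variable {k : Type u} [CommRing k] [IsDomain k] [UniqueFactorizationMonoid k] {n : ℕ}

local notation "𝓟" => CohB1.polyGrading n k
local notation "P" => CohB1.ProjSpace n k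

/-- The value of a function at a point, in the localization. -/
def valHom {V : Scheme.Opens P} (x : V) :
    Γ(P, V) →+* Localization x.1.asHomogeneousIdeal.toIdeal.primeCompl where
  toFun s := ((s : Twist.O (𝒜 := 𝓟) (op V)).1 x).val
  map_one' := HomogeneousLocalization.val_one
  map_mul' _ _ := HomogeneousLocalization.val_mul _ _
  map_zero' := HomogeneousLocalization.val_zero
  map_add' _ _ := HomogeneousLocalization.val_add _ _

theorem valHom_res {V V' : Scheme.Opens P} (h : V' ≤ V) (x : V') (s : Γ(P, V)) :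
    valHom x ((P).presheaf.map (homOfLE h).op s) = valHom ⟨x.1, h x.2⟩ s := rfl

theorem ext_valHom {V : Scheme.Opens P} {s t : Γ(P, V)} (h : ∀ x : V, valHom x s = valHom x t) : s = t :=
  Subtype.ext (funext fun x => HomogeneousLocalization.val_injective _ (h x))

/-- A coordinate not vanishing at a point, as a unit of the localization. -/
def xUnit (x : P) (l : Fin (n + 1)) (h : x ∈ U k n l) :
    (Localization x.asHomogeneousIdeal.toIdeal.primeCompl)ˣ where
  val := Localization.mk (MvPolynomial.X l) 1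
  inv := Localization.mk 1 ⟨MvPolynomial.X l, h⟩
  val_inv := by
    rw [Localization.mk_mul, ← Localization.mk_one, Localization.mk_eq_mk_iff, Localization.r_iff_exists]
    exact ⟨1, by simp⟩
  inv_val := by
    rw [Localization.mk_mul, ← Localization.mk_one, Localization.mk_eq_mk_iff, Localization.r_iff_exists]
    exact ⟨1, by simp⟩

theorem val_zpow_xUnit (x : P) (l : Fin (n + 1)) (h : x ∈ U k n l) (a : ℤ) :
    ((xUnit x l h ^ a : (Localization x.asHomogeneousIdeal.toIdeal.primeCompl)ˣ) :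
        Localization x.asHomogeneousIdeal.toIdeal.primeCompl) =
      Localization.mk ((MvPolynomial.X l : MvPolynomial (Fin (n + 1)) k) ^ a.toNat)
        ((⟨MvPolynomial.X l, h⟩ : x.asHomogeneousIdeal.toIdeal.primeCompl) ^ (-a).toNat) := by
  rcases le_or_gt 0 a with ha | ha
  · obtain ⟨m, rfl⟩ := Int.eq_ofNat_of_zero_le ha
    rw [zpow_natCast, Units.val_pow_eq_pow_val]
    show Localization.mk (MvPolynomial.X l) 1 ^ m = _
    rw [Localization.mk_pow, one_pow, Int.toNat_natCast, show (-(m : ℤ)).toNat = 0 by omega, pow_zero]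
  · obtain ⟨m, hm⟩ : ∃ m : ℕ, a = -(m : ℤ) := ⟨(-a).toNat, by omega⟩
    subst hm
    rw [zpow_neg, zpow_natCast, ← inv_pow, Units.val_pow_eq_pow_val]
    show Localization.mk 1 ⟨MvPolynomial.X l, h⟩ ^ m = _
    rw [Localization.mk_pow, one_pow, show (-(m : ℤ)).toNat = 0 by omega, pow_zero, neg_neg, Int.toNat_natCast]

theorem valHom_coord (j l : Fin (n + 1)) (x : U k n j) :
    valHom x (coord k n j l) =
      Localization.mk (MvPolynomial.X l) 1 * ((xUnit x.1 j x.2)⁻¹ : Units _).val := by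
  refine (val_coord k n j l x).trans ?_
  show _ = Localization.mk (MvPolynomial.X l) 1 * Localization.mk 1 _
  rw [Localization.mk_mul, one_mul, mul_one]

/-- `x_i / x_j` as a unit of the functions on an open where both are invertible. -/
def quot (i j : Fin (n + 1)) {V : Scheme.Opens P} (hi : V ≤ U k n i) (hj : V ≤ U k n j) : Γ(P, V)ˣ where
  val := (P).presheaf.map (homOfLE hj).op (coord k n j i)
  inv := (P).presheaf.map (homOfLE hi).op (coord k n i j)
  val_inv := ext_valHom fun x => by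
    rw [map_mul, map_one, valHom_res, valHom_res, valHom_coord, valHom_coord]
    show (xUnit x.1 i (hi x.2)).val * _ * ((xUnit x.1 j (hj x.2)).val * _) = 1
    rw [← Units.val_mul, ← Units.val_mul, ← Units.val_mul]
    rw [show xUnit x.1 i (hi x.2) * (xUnit x.1 j (hj x.2))⁻¹ * (xUnit x.1 j (hj x.2) * (xUnit x.1 i (hi x.2))⁻¹) = 1 by group]
    rfl
  inv_val := ext_valHom fun x => by
    rw [map_mul, map_one, valHom_res, valHom_res, valHom_coord, valHom_coord]
    show (xUnit x.1 j (hj x.2)).val * _ * ((xUnit x.1 i (hi x.2)).val * _) = 1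
    rw [← Units.val_mul, ← Units.val_mul, ← Units.val_mul]
    rw [show xUnit x.1 j (hj x.2) * (xUnit x.1 i (hi x.2))⁻¹ * (xUnit x.1 i (hi x.2) * (xUnit x.1 j (hj x.2))⁻¹) = 1 by group]
    rfl

theorem valHom_quot_zpow (i j : Fin (n + 1)) {V : Scheme.Opens P} (hi : V ≤ U k n i) (hj : V ≤ U k n j) (a : ℤ)
    (x : V) :
    valHom x ((quot i j hi hj ^ a : Γ(P, V)ˣ) : Γ(P, V)) =
      (((xUnit x.1 i (hi x.2) * (xUnit x.1 j (hj x.2))⁻¹) ^ a : Units _) : Localization _) := by
  have h : Units.map (valHom x : Γ(P, V) →* _) (quot i j hi hj) =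
      xUnit x.1 i (hi x.2) * (xUnit x.1 j (hj x.2))⁻¹ := by
    refine Units.ext ?_
    show valHom x ((P).presheaf.map (homOfLE hj).op (coord k n j i)) = _
    rw [valHom_res, valHom_coord]
    rfl
  rw [← h, ← map_zpow]
  rfl

set_option maxHeartbeats 1600000 in
/-- Twist frames differ by powers of the coordinate quotients. -/
theorem quot_zpow_smul_frame (i j : Fin (n + 1)) {V : Scheme.Opens P} (hi : V ≤ U k n i) (hj : V ≤ U k n j)
    (a : ℤ) :
    ((quot i j hi hj ^ a : Γ(P, V)ˣ) : Γ(P, V)) •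
        Var76.LineBundle.res (Twist.twistProjSpace n k a) hj (Var76.Reg.gUnit (X₁ k n j) a).fwd =
      Var76.LineBundle.res (Twist.twistProjSpace n k a) hi (Var76.Reg.gUnit (X₁ k n i) a).fwd := by
  have hval : ∀ (l : Fin (n + 1)) (x : U k n l),
      (((Var76.Reg.gUnit (X₁ k n l) a).fwd).1 x).1 =
        ((xUnit x.1 l x.2 ^ a : Units _) : Localization _) := fun l x => by
    rw [val_zpow_xUnit, Var76.Reg.gUnit, EGA73.castTwist_apply]
    show Localization.mk ((X₁ k n l).1 ^ a.toNat) _ = _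
    rw [Localization.mk_eq_mk_iff, Localization.r_iff_exists]
    exact ⟨1, by simp [X₁]⟩
  refine Subtype.ext (funext fun x => Subtype.ext ?_)
  refine (Twist.coe_smul_val _ _ _ _).trans ?_
  show valHom x ((quot i j hi hj ^ a : Γ(P, V)ˣ) : Γ(P, V)) *
      (((Var76.Reg.gUnit (X₁ k n j) a).fwd).1 ⟨x.1, hj x.2⟩).1 =
    (((Var76.Reg.gUnit (X₁ k n i) a).fwd).1 ⟨x.1, hi x.2⟩).1
  refine ((congrArg₂ (· * ·) (valHom_quot_zpow i j hi hj a x) (hval j ⟨x.1, hj x.2⟩)).trans ?_).trans
    (hval i ⟨x.1, hi x.2⟩).symm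
  dsimp only
  rw [← Units.val_mul, mul_zpow, inv_zpow, mul_assoc, inv_mul_cancel, mul_one]

theorem C_mem_degree_zero (b : k) : (MvPolynomial.C b : MvPolynomial (Fin (n + 1)) k) ∈ 𝓟 (0 • 1) := by
  simpa using MvPolynomial.isHomogeneous_C (Fin (n + 1)) b

/-- A constant on a standard open. -/
def sc (i : Fin (n + 1)) (b : k) : Γ(P, U k n i) :=
  Proj.awayToSection 𝓟 (MvPolynomial.X i) (Away.mk 𝓟 (MvPolynomial.isHomogeneous_X k i) 0 _ (C_mem_degree_zero b))

theorem valHom_sc (i : Fin (n + 1)) (b : k) (x : U k n i) :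
    valHom x (sc i b) = Localization.mk (MvPolynomial.C b) 1 := by
  show ((sc i b : Twist.O (𝒜 := 𝓟) (op (U k n i))).1 x).val = _
  refine (ProjectiveSpectrum.Proj.awayToSection_apply 𝓟 _ _ x).trans ?_
  rw [Away.val_mk, Localization.mk_eq_mk', IsLocalization.map_mk', ← Localization.mk_eq_mk']
  simp only [RingHom.id_apply, Localization.mk_eq_mk_iff, Localization.r_iff_exists]
  exact ⟨1, by simp⟩

theorem sc_mul_sc (i : Fin (n + 1)) {b b' : k} (h : b * b' = 1) : sc (n := n) i b * sc i b' = 1 :=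
  ext_valHom fun x => by
    rw [map_mul, map_one, valHom_sc, valHom_sc, Localization.mk_mul, ← map_mul, h, map_one, mul_one,
      Localization.mk_one]

/-- An invertible constant on a standard open. -/
def scUnit (i : Fin (n + 1)) (v : kˣ) : Γ(P, U k n i)ˣ :=
  ⟨sc i (v : k), sc i ((v⁻¹ : kˣ) : k), sc_mul_sc i (Units.mul_inv v), sc_mul_sc i (Units.inv_mul v)⟩

theorem valHom_scUnit (i : Fin (n + 1)) (v : kˣ) (x : U k n i) :
    valHom x (scUnit i v : Γ(P, U k n i)ˣ) = Localization.mk (MvPolynomial.C (v : k)) 1 := valHom_sc i (v : k) x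

/-- The invertible functions on the intersection of two standard opens. -/
theorem exists_eq_quot_zpow (i j : Fin (n + 1)) (hij : i ≠ j) (c : Γ(P, U k n i ⊓ U k n j)) (hc : IsUnit c) :
    ∃ (κ : kˣ) (a : ℤ), c = (P).presheaf.map (homOfLE (inf_le_left : U k n i ⊓ U k n j ≤ U k n i)).op (scUnit i κ : Γ(P, U k n i)ˣ) *
      ((quot i j inf_le_left inf_le_right ^ a : Γ(P, U k n i ⊓ U k n j)ˣ) : Γ(P, U k n i ⊓ U k n j)) := by
  classical
  let f : MvPolynomial (Fin (n + 1)) k := MvPolynomial.X i * MvPolynomial.X j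
  have hf : f ∈ 𝓟 2 := (MvPolynomial.isHomogeneous_X k i).mul (MvPolynomial.isHomogeneous_X k j)
  have heq : U k n i ⊓ U k n j = Proj.basicOpen 𝓟 f := (Proj.basicOpen_mul 𝓟 _ _).symm
  obtain ⟨z, hz⟩ := (ConcreteCategory.bijective_of_isIso (Proj.basicOpenIsoAway 𝓟 f hf two_pos).hom).surjective
    ((P).presheaf.map (eqToHom heq.symm).op c)
  obtain ⟨z', hz'⟩ := (ConcreteCategory.bijective_of_isIso (Proj.basicOpenIsoAway 𝓟 f hf two_pos).hom).surjective
    ((P).presheaf.map (eqToHom heq.symm).op (hc.unit⁻¹ : Γ(P, U k n i ⊓ U k n j)ˣ).val)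
  have hzz : z * z' = 1 := by
    refine (ConcreteCategory.bijective_of_isIso (Proj.basicOpenIsoAway 𝓟 f hf two_pos).hom).injective ?_
    have h1 := congrArg ((P).presheaf.map (eqToHom heq.symm).op) hc.mul_val_inv
    rw [map_mul, map_one] at h1
    exact (map_mul _ _ _).trans ((congrArg₂ (· * ·) hz hz').trans (h1.trans (map_one _).symm))
  obtain ⟨r, A, hA, rfl⟩ := Away.mk_surjective 𝓟 hf z
  obtain ⟨s, B, hB, rfl⟩ := Away.mk_surjective 𝓟 hf z'
  have hf0 : f ≠ 0 := mul_ne_zero (MvPolynomial.X_ne_zero i) (MvPolynomial.X_ne_zero j)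
  have hAB : A * B = f ^ (r + s) := by
    have h := congrArg HomogeneousLocalization.val hzz
    rw [val_mul, Away.val_mk, Away.val_mk, val_one, Localization.mk_mul, ← Localization.mk_one,
      Localization.mk_eq_mk_iff, Localization.r_iff_exists] at h
    obtain ⟨⟨_, m, rfl⟩, hm⟩ := h
    simp only [Submonoid.coe_mul, OneMemClass.coe_one, one_mul, mul_one] at hm
    rw [pow_add]
    exact mul_left_cancel₀ (pow_ne_zero m hf0) hm
  obtain ⟨d₁, d₂, hd₁, hd₂, hAd⟩ := dvd_mul.mp (show A ∣ MvPolynomial.X i ^ (r + s) * MvPolynomial.X j ^ (r + s) by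
    rw [← mul_pow]; exact ⟨B, hAB.symm⟩)
  obtain ⟨p, -, hp⟩ := (dvd_prime_pow MvPolynomial.X_prime _).mp hd₁
  obtain ⟨q, -, hq⟩ := (dvd_prime_pow MvPolynomial.X_prime _).mp hd₂
  obtain ⟨u, hu⟩ := (hp.mul_mul hq).symm
  obtain ⟨κ, hκ, hκu⟩ := MvPolynomial.isUnit_iff_eq_C_of_isReduced.mp u.isUnit
  have hA' : A = MvPolynomial.C κ * (MvPolynomial.X i ^ p * MvPolynomial.X j ^ q) := by
    rw [hAd, ← hu, hκu]; ring
  have hpq : p + q = r * 2 := by
    have h1 : (A : MvPolynomial (Fin (n + 1)) k).IsHomogeneous (p + q) := by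
      rw [hA']
      simpa using (MvPolynomial.isHomogeneous_C (Fin (n + 1)) κ).mul
        (((MvPolynomial.isHomogeneous_X k i).pow p).mul ((MvPolynomial.isHomogeneous_X k j).pow q))
    refine h1.inj_right (by simpa using hA) ?_
    rw [hA']
    exact mul_ne_zero (by simpa using hκ.ne_zero)
      (mul_ne_zero (pow_ne_zero _ (MvPolynomial.X_ne_zero i)) (pow_ne_zero _ (MvPolynomial.X_ne_zero j)))
  obtain ⟨v, rfl⟩ := hκ
  refine ⟨v, (p : ℤ) - r, ext_valHom fun x => ?_⟩
  rw [map_mul, valHom_res, valHom_scUnit, valHom_quot_zpow]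
  have hxf : x.1 ∈ Proj.basicOpen 𝓟 f := heq.le x.2
  have hx : valHom x c = valHom (⟨x.1, hxf⟩ : (Proj.basicOpen 𝓟 f))
      ((P).presheaf.map (eqToHom heq.symm).op c) := rfl
  rw [hx, ← hz]
  show ((Proj.awayToSection 𝓟 f (Away.mk 𝓟 hf r A hA) : Twist.O (𝒜 := 𝓟) (op (Proj.basicOpen 𝓟 f))).1 ⟨x.1, hxf⟩).val = _
  refine (ProjectiveSpectrum.Proj.awayToSection_apply 𝓟 f _ ⟨x.1, hxf⟩).trans ?_
  rw [Away.val_mk, Localization.mk_eq_mk', IsLocalization.map_mk', ← Localization.mk_eq_mk']
  have hXi := x.2.1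
  have hXj := x.2.2
  have hmk : ∀ (N : MvPolynomial (Fin (n + 1)) k) (D : x.1.asHomogeneousIdeal.toIdeal.primeCompl)
      (w : Localization x.1.asHomogeneousIdeal.toIdeal.primeCompl),
      Localization.mk N 1 = w * Localization.mk D.1 1 → Localization.mk N D = w := fun N D w h => by
    have hD : Localization.mk D.1 1 * Localization.mk 1 D = (1 : Localization _) := by
      rw [Localization.mk_mul, mul_one, one_mul, Localization.mk_self]
    have : Localization.mk N D = Localization.mk N 1 * Localization.mk 1 D := by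
      rw [Localization.mk_mul, mul_one, one_mul]
    rw [this, h, mul_assoc, hD, mul_one]
  refine hmk _ _ _ ?_
  simp only [RingHom.id_apply]
  rw [hA']
  let ι := algebraMap (MvPolynomial (Fin (n + 1)) k) (Localization x.1.asHomogeneousIdeal.toIdeal.primeCompl)
  have hι : ∀ N, Localization.mk N 1 = ι N := fun N => Localization.mk_one_eq_algebraMap N
  rw [hι, hι, hι]
  have hi' : ι (MvPolynomial.X i) = (xUnit x.1 i hXi).val := (hι _).symm
  have hj' : ι (MvPolynomial.X j) = (xUnit x.1 j hXj).val := (hι _).symm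
  show ι (_ * _) = ι _ * _ * ι (f ^ r)
  simp only [f, map_mul, map_pow, hi', hj', ← Units.val_pow_eq_pow_val, ← Units.val_mul, mul_assoc]
  congr 2
  rw [← zpow_natCast, ← zpow_natCast (xUnit x.1 j hXj), mul_pow, ← zpow_natCast, ← zpow_natCast (xUnit x.1 j hXj),
    mul_zpow, inv_zpow', mul_mul_mul_comm, ← zpow_add, ← zpow_add]
  congr 2 <;> omega

/-- The generic point. -/
def genericPt : P :=
  ⟨⊥, (by show (⊥ : HomogeneousIdeal 𝓟).toIdeal.IsPrime
          rw [HomogeneousIdeal.toIdeal_bot]; exact Ideal.isPrime_bot), fun h => by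
    have : (MvPolynomial.X (0 : Fin (n + 1)) : MvPolynomial (Fin (n + 1)) k) ∈ (⊥ : HomogeneousIdeal 𝓟) :=
      h (HomogeneousIdeal.mem_irrelevant_of_mem _ one_pos (MvPolynomial.isHomogeneous_X k 0))
    exact MvPolynomial.X_ne_zero 0 (Ideal.mem_bot.mp this)⟩

theorem genericPt_mem {F : MvPolynomial (Fin (n + 1)) k} (hF : F ≠ 0) :
    genericPt ∈ Proj.basicOpen 𝓟 F := fun h => hF (Ideal.mem_bot.mp h)

theorem isDomain_chart (j : Fin (n + 1)) : IsDomain Γ(P, U k n j) :=
  MulEquiv.isDomain _ (RingEquiv.ofBijective _ (bijective_eval₂ k n j)).symm.toMulEquiv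

theorem isIntegral_proj : IsIntegral P := by
  haveI : IrreducibleSpace P := by
    have : IrreducibleSpace (ProjectiveSpectrum 𝓟) := by
      rw [irreducibleSpace_def]
      have h : closure ({genericPt (k := k) (n := n)} : Set (ProjectiveSpectrum 𝓟)) = Set.univ :=
        Set.eq_univ_of_forall fun x =>
          (ProjectiveSpectrum.le_iff_mem_closure _ _ x).mp ((ProjectiveSpectrum.as_ideal_le_as_ideal _ _ x).mp bot_le)
      show IsIrreducible (Set.univ : Set (ProjectiveSpectrum 𝓟))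
      rw [← h]
      exact isIrreducible_singleton.closure
    exact this
  have : ∀ x : P, _root_.IsReduced ((P).presheaf.stalk x) := fun x => by
    obtain ⟨j, hj⟩ := exists_mem_U k n x
    have := isDomain_chart (k := k) j
    let := TopCat.Presheaf.algebra_section_stalk (P).presheaf ⟨x, hj⟩
    have := (isAffineOpen_U k n j).isLocalization_stalk ⟨x, hj⟩
    have := IsLocalization.isDomain_of_le_nonZeroDivisors (R := Γ(P, U k n j)) ((P).presheaf.stalk x)
      (M := ((isAffineOpen_U k n j).primeIdealOf ⟨x, hj⟩).asIdeal.primeCompl)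
      ((isAffineOpen_U k n j).primeIdealOf ⟨x, hj⟩).asIdeal.primeCompl_le_nonZeroDivisors
    exact inferInstance
  have : IsReduced P := isReduced_of_isReduced_stalk _
  exact isIntegral_of_irreducibleSpace_of_isReduced _

theorem exists_frame (M : (P).Modules) (hM : PicF.IsInvertible M) (i : Fin (n + 1)) :
    ∃ e : Γ(M, U k n i), IsFrame M (U k n i) e := by
  let R := Γ(P, U k n i)
  let ε := RingEquiv.ofBijective _ (bijective_eval₂ k n i)
  haveI : IsDomain R := isDomain_chart i
  haveI : UniqueFactorizationMonoid R := MulEquiv.uniqueFactorizationMonoid ε.toMulEquiv inferInstance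
  haveI : IsAffine (U k n i : Scheme.{u}) := isAffineOpen_U k n i
  let j : (U k n i : Scheme.{u}) ≅ ((⊤ : (Spec (CommRingCat.of R)).Opens) : Scheme.{u}) :=
    (isAffineOpen_U k n i).isoSpec ≪≫ (Scheme.topIso _).symm
  obtain ⟨t⟩ := Groth.Agent.S0233.result R ⊤ _ (Amp73.isInvertible_pullback (j.inv ≫ (U k n i).ι) hM)
  have φ : M.restrict (U k n i).ι ≅ Coh.structureModule (U k n i : Scheme.{u}) :=
    (Scheme.Modules.restrictFunctorIsoPullback (U k n i).ι).app M ≪≫
      (Scheme.Modules.pullbackCongr (Iso.hom_inv_id_assoc j (U k n i).ι).symm).app M ≪≫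
      ((Scheme.Modules.pullbackComp j.hom (j.inv ≫ (U k n i).ι)).app M).symm ≪≫
      (Scheme.Modules.pullback j.hom).mapIso t ≪≫ PicLoc.pullbackStructureIso j.hom
  exact ParaF26.exists_frame_of_restrict_iso φ

/-- The point of the hyperplane `x_l = 0`. -/
def hypPt (l i : Fin (n + 1)) (h : l ≠ i) : P :=
  ⟨⟨Ideal.span {(MvPolynomial.X l : MvPolynomial (Fin (n + 1)) k)}, Ideal.homogeneous_span _ _ (by
      rintro _ rfl
      exact ⟨1, MvPolynomial.isHomogeneous_X k l⟩)⟩,
    (Ideal.span_singleton_prime (MvPolynomial.X_ne_zero l)).2 MvPolynomial.X_prime,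
    fun hir => by
      have : MvPolynomial.X i ∈ Ideal.span {(MvPolynomial.X l : MvPolynomial (Fin (n + 1)) k)} :=
        hir (HomogeneousIdeal.mem_irrelevant_of_mem _ one_pos (MvPolynomial.isHomogeneous_X k i))
      rw [Ideal.mem_span_singleton, MvPolynomial.X_dvd_X] at this
      exact h this⟩

theorem mem_U_hypPt {l i : Fin (n + 1)} (h : l ≠ i) {m : Fin (n + 1)} (hm : l ≠ m) :
    hypPt (k := k) l i h ∈ U k n m := fun hmem => by
  have : MvPolynomial.X m ∈ Ideal.span {(MvPolynomial.X l : MvPolynomial (Fin (n + 1)) k)} := hmem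
  rw [Ideal.mem_span_singleton, MvPolynomial.X_dvd_X] at this
  exact hm this

theorem res_injective {V V' : Scheme.Opens P} (h : V' ≤ V) (hne : Nonempty V') :
    Function.Injective ((P).presheaf.map (homOfLE h).op) := by
  haveI := isIntegral_proj (k := k) (n := n)
  haveI := hne
  intro a b hab
  refine AlgebraicGeometry.map_injective_of_isIntegral (P) (homOfLE h) hab

/-- A power of a coordinate quotient extends invertibly across the hyperplane only for exponent zero. -/
theorem exponent_eq_zero {i j l : Fin (n + 1)} (hli : l ≠ i) (hlj : l ≠ j) (m : ℤ)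
    (w : Γ(P, U k n i ⊓ U k n j)ˣ)
    (h : Units.map ((P).presheaf.map (homOfLE (inf_le_left : U k n i ⊓ U k n j ⊓ U k n l ≤ U k n i ⊓ U k n j)).op).hom.toMonoidHom w =
      quot i l (inf_le_left.trans inf_le_left) inf_le_right ^ m) : m = 0 := by
  by_contra hm
  wlog hneg : 0 < m generalizing m w
  · refine this (-m) w⁻¹ (by rw [map_inv, h, zpow_neg]) (neg_ne_zero.mpr hm) (by omega)
  obtain ⟨p, rfl⟩ := Int.eq_ofNat_of_zero_le hneg.le
  have hp : 0 < p := by omega
  let V := U k n i ⊓ U k n j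
  let W := V ⊓ U k n l
  have hx : hypPt (k := k) l i hli ∈ V := ⟨mem_U_hypPt hli hli, mem_U_hypPt hli hlj⟩
  let c : Γ(P, V) := (P).presheaf.map (homOfLE (inf_le_left : V ≤ U k n i)).op (coord k n i l) ^ p * (w : Γ(P, V))
  have hne : Nonempty W := ⟨⟨genericPt,
    ⟨genericPt_mem (MvPolynomial.X_ne_zero i), genericPt_mem (MvPolynomial.X_ne_zero j)⟩,
    genericPt_mem (MvPolynomial.X_ne_zero l)⟩⟩
  have hc : c = 1 := by
    refine res_injective (inf_le_left : W ≤ V) hne (ext_valHom fun x => ?_)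
    have hw := congrArg (fun z : Γ(P, W)ˣ => valHom x (z : Γ(P, W))) h
    simp only [Units.coe_map] at hw
    show valHom x ((P).presheaf.map _ c) = valHom x ((P).presheaf.map _ 1)
    rw [map_one, map_one]
    show valHom x ((P).presheaf.map (homOfLE (inf_le_left : W ≤ V)).op (_ * (w : Γ(P, V)))) = 1
    rw [map_mul, map_mul]
    refine (congrArg (_ * ·) hw).trans ?_
    rw [valHom_res, map_pow, valHom_res, valHom_coord, valHom_quot_zpow, zpow_natCast, Units.val_pow_eq_pow_val,
      Units.val_mul, ← mul_pow]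
    show ((xUnit x.1 l x.2.2).val * _ * ((xUnit x.1 i x.2.1.1).val * _)) ^ p = 1
    rw [← Units.val_mul, ← Units.val_mul, ← Units.val_mul,
      show xUnit x.1 l x.2.2 * (xUnit x.1 i x.2.1.1)⁻¹ * (xUnit x.1 i x.2.1.1 * (xUnit x.1 l x.2.2)⁻¹) = 1 by group,
      Units.val_one, one_pow]
  have h1 : IsUnit (valHom (⟨hypPt l i hli, hx⟩ : V) ((P).presheaf.map (homOfLE (inf_le_left : V ≤ U k n i)).op (coord k n i l))) := by
    have h2 : IsUnit (valHom (⟨hypPt l i hli, hx⟩ : V) c) := by rw [hc, map_one]; exact isUnit_one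
    rw [map_mul, map_pow, IsUnit.mul_iff] at h2
    exact (isUnit_pow_iff hp.ne').mp h2.1
  rw [valHom_res, valHom_coord, IsUnit.mul_iff, Localization.mk_one_eq_algebraMap] at h1
  have h3 := (IsLocalization.AtPrime.isUnit_to_map_iff (Localization (hypPt l i hli).asHomogeneousIdeal.toIdeal.primeCompl)
    (hypPt l i hli).asHomogeneousIdeal.toIdeal (MvPolynomial.X l)).mp h1.1
  exact h3 (Ideal.mem_span_singleton_self _)

theorem exists_unit_coeff {M : (P).Modules} {V : Scheme.Opens P} {e e' : Γ(M, V)} (he : IsFrame M V e)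
    (he' : IsFrame M V e') : ∃ c : Γ(P, V)ˣ, (c : Γ(P, V)) • e = e' := by
  obtain ⟨c, hc⟩ := (he V le_rfl).2 e'
  obtain ⟨d, hd⟩ := (he' V le_rfl).2 e
  dsimp only at hc hd
  rw [Amp73.res_self] at hc hd
  have h1 : d * c = 1 := by
    refine (he V le_rfl).1 ?_
    dsimp only
    rw [Amp73.res_self, mul_smul, hc, hd, one_smul]
  exact ⟨⟨c, d, mul_comm d c ▸ h1, h1⟩, hc⟩

theorem isFrame_unit_smul {M : (P).Modules} {V : Scheme.Opens P} {e : Γ(M, V)} (he : IsFrame M V e)
    (c : Γ(P, V)ˣ) : IsFrame M V ((c : Γ(P, V)) • e) := fun W hW => by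
  have hw : IsUnit ((P).presheaf.map (homOfLE hW).op (c : Γ(P, V))) := c.isUnit.map _
  refine (congrArg Function.Bijective (funext fun a => ?_)).mp ((he W hW).comp hw.unit.mulRight.bijective)
  show (a * _) • _ = a • res M hW ((c : Γ(P, V)) • e)
  rw [res_smul, mul_smul]
  rfl

theorem exists_iso_twist (M : (P).Modules) (hM : PicF.IsInvertible M) :
    ∃ d : ℤ, Nonempty (M ≅ Twist.twistProjSpace n k d) := by
  classical
  choose e₀ he₀ using exists_frame M hM
  have h : ∀ i : Fin (n + 1), ∃ (e : Γ(M, U k n i)) (_ : IsFrame M (U k n i) e) (a : ℤ),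
      ((quot i 0 (inf_le_left : U k n i ⊓ U k n 0 ≤ U k n i) inf_le_right ^ a : Γ(P, U k n i ⊓ U k n 0)ˣ) : Γ(P, U k n i ⊓ U k n 0)) •
          res M inf_le_right (e₀ 0) = res M inf_le_left e := by
    intro i
    by_cases hi : i = 0
    · subst hi
      exact ⟨e₀ 0, he₀ 0, 0, by rw [zpow_zero, Units.val_one, one_smul]⟩
    obtain ⟨c, hc⟩ := exists_unit_coeff ((he₀ 0).res (inf_le_right : U k n i ⊓ U k n 0 ≤ U k n 0))
      ((he₀ i).res (inf_le_left : U k n i ⊓ U k n 0 ≤ U k n i))
    obtain ⟨κ', a, hκ⟩ := exists_eq_quot_zpow i 0 hi (c : Γ(P, _)) c.isUnit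
    let κ := scUnit (n := n) i κ'
    refine ⟨((κ⁻¹ : Γ(P, U k n i)ˣ) : Γ(P, U k n i)) • e₀ i, isFrame_unit_smul (he₀ i) κ⁻¹, a, ?_⟩
    rw [res_smul, ← hc, smul_smul, hκ, ← mul_assoc, ← map_mul, Units.inv_mul, map_one, one_mul]
  choose e he a ha using h
  have key : ∀ i j : Fin (n + 1), i ≠ 0 → j ≠ 0 → a i = a j := by
    intro i j hi hj
    let W := U k n i ⊓ U k n j ⊓ U k n 0
    obtain ⟨c, hc⟩ := exists_unit_coeff ((he j).res (inf_le_right : U k n i ⊓ U k n j ≤ U k n j))
      ((he i).res (inf_le_left : U k n i ⊓ U k n j ≤ U k n i))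
    have hA := congrArg (res M (inf_le_inf inf_le_left le_rfl : W ≤ U k n i ⊓ U k n 0)) (ha i)
    have hB := congrArg (res M (inf_le_inf inf_le_right le_rfl : W ≤ U k n j ⊓ U k n 0)) (ha j)
    have hC := congrArg (res M (inf_le_left : W ≤ U k n i ⊓ U k n j)) hc
    simp only [res_smul, res_res] at hA hB hC
    rw [← hA, ← hB, smul_smul] at hC
    have h4 := (he₀ 0 W inf_le_right).1 hC
    let w : Γ(P, U k n i ⊓ U k n j)ˣ := c * (quot i j inf_le_left inf_le_right ^ a j)⁻¹
    refine sub_eq_zero.mp (exponent_eq_zero (Ne.symm hi) (Ne.symm hj) (a i - a j) w (Units.ext (ext_valHom fun x => ?_)))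
    have h5 := congrArg (valHom x) h4
    have hinv : valHom x ((P).presheaf.map (homOfLE (inf_le_left : W ≤ U k n i ⊓ U k n j)).op
        (((quot i j inf_le_left inf_le_right ^ a j)⁻¹ : Γ(P, U k n i ⊓ U k n j)ˣ) : Γ(P, _))) =
        (((xUnit x.1 i x.2.1.1 * (xUnit x.1 j x.2.1.2)⁻¹) ^ (-(a j)) : Units _) : Localization _) := by
      rw [← zpow_neg, valHom_res, valHom_quot_zpow]
    simp only [map_mul, valHom_res, valHom_quot_zpow] at h5
    simp only [w, Units.coe_map, Units.val_mul]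
    show valHom x ((P).presheaf.map _ ((c : Γ(P, U k n i ⊓ U k n j)) * _)) = _
    rw [map_mul, map_mul, hinv, valHom_quot_zpow, valHom_res]
    rw [← Units.eq_mul_inv_iff_mul_eq] at h5
    rw [h5, ← Units.val_mul, ← Units.val_mul]
    congr 1
    apply Additive.ofMul.injective
    simp only [ofMul_mul, ofMul_inv, ofMul_zpow]
    module
  obtain ⟨A, hA⟩ : ∃ A : ℤ, ∀ i, i ≠ 0 → a i = A := by
    by_cases hn : ∃ i : Fin (n + 1), i ≠ 0
    · obtain ⟨i, hi⟩ := hn
      exact ⟨a i, fun j hj => key j i hj hi⟩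
    · exact ⟨0, fun i hi => absurd ⟨i, hi⟩ hn⟩
  have hA' : ∀ i, ((quot i 0 (inf_le_left : U k n i ⊓ U k n 0 ≤ U k n i) inf_le_right ^ A : Γ(P, U k n i ⊓ U k n 0)ˣ) : Γ(P, U k n i ⊓ U k n 0)) •
      res M inf_le_right (e₀ 0) = res M inf_le_left (e i) := by
    intro i
    by_cases hi : i = 0
    · subst hi
      have h1 : quot (k := k) (0 : Fin (n + 1)) 0 (inf_le_left : U k n 0 ⊓ U k n 0 ≤ U k n 0) inf_le_right = 1 :=
        Units.ext (by show (P).presheaf.map _ (coord k n 0 0) = 1; rw [coord_self, map_one])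
      have h2 := ha 0
      rw [h1, one_zpow] at h2
      rwa [h1, one_zpow]
    · rw [← hA i hi]; exact ha i
  refine ⟨A, Curves2.Glue.nonempty_iso_of_frames (U k n) (fun x => Approx60.ProjCharts.exists_mem_U k n x) e
    (fun i => (Var76.Reg.gUnit (X₁ k n i) A).fwd) he (fun i => Var76.Reg.isFrame_unit _) fun i j c hc => ?_⟩
  let W := U k n i ⊓ U k n j ⊓ U k n 0
  obtain ⟨(d : Γ(P, U k n i ⊓ U k n j)), hd⟩ := (Var76.Reg.isFrame_unit (Var76.Reg.gUnit (X₁ k n j) A) (U k n i ⊓ U k n j) inf_le_right).2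
    (res (Twist.twistProjSpace n k A) inf_le_left (Var76.Reg.gUnit (X₁ k n i) A).fwd)
  dsimp only at hd
  refine Eq.trans (congrArg (· • _) ?_) hd
  have hne : Nonempty W := ⟨⟨genericPt,
    ⟨genericPt_mem (MvPolynomial.X_ne_zero i), genericPt_mem (MvPolynomial.X_ne_zero j)⟩,
    genericPt_mem (MvPolynomial.X_ne_zero _)⟩⟩
  refine res_injective (inf_le_left : W ≤ U k n i ⊓ U k n j) hne ?_
  have hAi := congrArg (res M (inf_le_inf inf_le_left le_rfl : W ≤ U k n i ⊓ U k n 0)) (hA' i)
  have hBj := congrArg (res M (inf_le_inf inf_le_right le_rfl : W ≤ U k n j ⊓ U k n 0)) (hA' j)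
  have hC := congrArg (res M (inf_le_left : W ≤ U k n i ⊓ U k n j)) hc
  simp only [res_smul, res_res] at hAi hBj hC
  rw [← hAi, ← hBj, smul_smul] at hC
  have h4 := (he₀ 0 W inf_le_right).1 hC
  have hT := congrArg (res (Twist.twistProjSpace n k A) (inf_le_left : W ≤ U k n i ⊓ U k n j)) hd
  replace hT : (P).presheaf.map (homOfLE (inf_le_left : W ≤ U k n i ⊓ U k n j)).op d •
      res (Twist.twistProjSpace n k A) (inf_le_left.trans inf_le_right : W ≤ U k n j) (Var76.Reg.gUnit (X₁ k n j) A).fwd =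
      res (Twist.twistProjSpace n k A) (inf_le_left.trans inf_le_left : W ≤ U k n i) (Var76.Reg.gUnit (X₁ k n i) A).fwd :=
    (congrArg (_ • ·) (res_res _ _ _ _).symm).trans ((res_smul _ _ _ _).symm.trans (hT.trans (res_res _ _ _ _)))
  rw [← quot_zpow_smul_frame i j (inf_le_left.trans inf_le_left) (inf_le_left.trans inf_le_right) A] at hT
  refine Eq.trans ?_ ((Var76.Reg.isFrame_unit (Var76.Reg.gUnit (X₁ k n j) A) W (inf_le_left.trans inf_le_right)).1 hT).symm
  refine ext_valHom fun x => ?_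
  have h5 := congrArg (valHom x) h4
  simp only [map_mul, valHom_res, valHom_quot_zpow] at h5
  rw [← Units.eq_mul_inv_iff_mul_eq] at h5
  rw [valHom_res, valHom_quot_zpow, h5, ← Units.val_mul]
  congr 1
  apply Additive.ofMul.injective
  simp only [ofMul_mul, ofMul_inv, ofMul_zpow]
  module

end Groth.Agent.Div89.PicProjUFD
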