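import Groth.Agent.Div89.Cartier

/-!
Locally proportional effective Cartier divisors with connected support are proportional.
-/

set_option autoImplicit false
set_option linter.style.haveILetI false

universe u

open CategoryTheory AlgebraicGeometry TopologicalSpace Opposite

namespace Groth.Agent.Div89.Proportional

variable {X : Scheme.{u}}

theorem span_pow_eq_top {R : Type*} [CommRing R] {g : R} (hg : g ∈ nonZeroDivisors R) {a b : ℕ}
    (h : Ideal.span {g ^ a} = Ideal.span {g ^ b}) (hab : a ≠ b) : IsUnit g := by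
  wlog hlt : a < b generalizing a b
  · exact this h.symm hab.symm (lt_of_le_of_ne (not_lt.1 hlt) hab.symm)
  obtain ⟨c, hc⟩ := Ideal.mem_span_singleton'.1 (h ▸ Ideal.mem_span_singleton_self (g ^ a) :
    g ^ a ∈ Ideal.span {g ^ b})
  have h1 : (c * g ^ (b - a)) * g ^ a = 1 * g ^ a := by
    rw [mul_assoc, ← pow_add, Nat.sub_add_cancel hlt.le, one_mul, hc]
  have h2 := (mul_cancel_right_mem_nonZeroDivisors (pow_mem hg a)).1 h1
  exact (isUnit_pow_iff (by omega)).1 (IsUnit.of_mul_eq_one_right c h2)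

/-- On the union of the supports the exponents are unique up to scaling. -/
theorem ratio_unique {D E : X.IdealSheafData} (hD : BlowUp.IsEffCartierIdeal D)
    (hE : BlowUp.IsEffCartierIdeal E) {x : X}
    (hx : x ∈ (D.support : Set X) ∪ (E.support : Set X)) {m n m' n' : ℕ}
    (h : stalkIdeal D x ^ m = stalkIdeal E x ^ n) (h' : stalkIdeal D x ^ m' = stalkIdeal E x ^ n') :
    m * n' = m' * n := by
  obtain ⟨g, hg, hgD⟩ := exists_stalk_generator hD x
  obtain ⟨g', hg', hgE⟩ := exists_stalk_generator hE x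
  by_contra hne
  rcases hx with hx | hx
  · have e : stalkIdeal D x ^ (m * n') = stalkIdeal D x ^ (m' * n) := by
      rw [pow_mul, h, ← pow_mul, mul_comm n, pow_mul, ← h', ← pow_mul]
    rw [hgD, Ideal.span_singleton_pow, Ideal.span_singleton_pow] at e
    have := span_pow_eq_top hg e hne
    exact (notMem_support_iff_stalkIdeal D x).2 (by rw [hgD, Ideal.span_singleton_eq_top]; exact this) hx
  · have e : stalkIdeal E x ^ (n * m') = stalkIdeal E x ^ (n' * m) := by
      rw [pow_mul, ← h, ← pow_mul, mul_comm m, pow_mul, h', ← pow_mul]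
    rw [hgE, Ideal.span_singleton_pow, Ideal.span_singleton_pow] at e
    have hne' : n * m' ≠ n' * m := fun hh => hne (by linarith)
    exact (notMem_support_iff_stalkIdeal E x).2
      (by rw [hgE, Ideal.span_singleton_eq_top]; exact span_pow_eq_top hg' e hne') hx

theorem cancel_ratio {m n m' n' m'' n'' : ℕ} (h0 : (m', n') ≠ (0, 0)) (h : m * n' = m' * n)
    (h' : m' * n'' = m'' * n') : m * n'' = m'' * n := by
  by_cases hn : n' = 0
  · have hm : m' ≠ 0 := fun hm => h0 (by rw [hm, hn])
    subst hn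
    simp only [mul_zero, mul_eq_zero, hm, false_or] at h h'
    rw [show n'' = 0 from h', show n = 0 by simpa [hm] using h.symm, mul_zero, mul_zero]
  · refine mul_right_cancel₀ hn ?_
    calc m * n'' * n' = (m * n') * n'' := by ring
      _ = (m' * n) * n'' := by rw [h]
      _ = (m' * n'') * n := by ring
      _ = (m'' * n') * n := by rw [h']
      _ = m'' * n * n' := by ring

/-- Two effective Cartier divisors proportional near every point, with connected total support,
are proportional. -/
theorem exists_pow_eq_pow [CompactSpace X] {D E : X.IdealSheafData}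
    (hD : BlowUp.IsEffCartierIdeal D) (hE : BlowUp.IsEffCartierIdeal E)
    (hconn : IsPreconnected ((D.support : Set X) ∪ (E.support : Set X)))
    (hloc : ∀ x : X, ∃ U : X.affineOpens, x ∈ (U : X.Opens) ∧
      ∃ m n : ℕ, (m, n) ≠ (0, 0) ∧ D.ideal U ^ m = E.ideal U ^ n) :
    ∃ m n : ℕ, (m, n) ≠ (0, 0) ∧ D ^ m = E ^ n := by
  choose U hU m n hmn heq using hloc
  have hst : ∀ x y : X, y ∈ (U x).1 → stalkIdeal D y ^ m x = stalkIdeal E y ^ n x := fun x y hy => by
    rw [stalkIdeal_eq D (U x) y hy, stalkIdeal_eq E (U x) y hy, ← Ideal.map_pow, ← Ideal.map_pow,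
      heq x]
  set S := (D.support : Set X) ∪ (E.support : Set X)
  have hP : ∀ x ∈ S, ∀ y ∈ S, m x * n y = m y * n x := by
    intro x hx y hy
    refine hconn.induction₂ (fun a b => m a * n b = m b * n a) (fun a ha => ?_)
      (fun a b c _ hb _ hab hbc => cancel_ratio (hmn b) hab hbc) (fun a b _ _ hab => hab.symm) hx hy
    filter_upwards [mem_nhdsWithin_of_mem_nhds ((U a).1.isOpen.mem_nhds (hU a)),
      self_mem_nhdsWithin] with b hb hbS
    exact ratio_unique hD hE hbS (hst a b hb) (hst b b (hU b))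
  by_cases hS : S.Nonempty
  swap
  · refine ⟨1, 1, by simp, ext_stalkIdeal fun y => ?_⟩
    rw [pow_one, pow_one, (notMem_support_iff_stalkIdeal D y).1 fun h => hS ⟨y, Or.inl h⟩,
      (notMem_support_iff_stalkIdeal E y).1 fun h => hS ⟨y, Or.inr h⟩]
  obtain ⟨x₀, hx₀⟩ := hS
  obtain ⟨t, ht⟩ := isCompact_univ.elim_finite_subcover (fun x : X => ((U x).1 : Set X))
    (fun x => (U x).1.isOpen) (fun x _ => Set.mem_iUnion.2 ⟨x, hU x⟩)
  let d : X → ℕ := fun x => if m x = 0 then n x else m x
  have hd : ∀ x, d x ≠ 0 := fun x => by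
    by_cases h : m x = 0
    · simp only [d, h, if_true]
      exact fun hn => hmn x (by rw [h, hn])
    · simp [d, h]
  let K := ∏ x ∈ t, d x
  have hK : K ≠ 0 := Finset.prod_ne_zero_iff.2 fun x _ => hd x
  refine ⟨K * m x₀, K * n x₀, ?_, ext_stalkIdeal fun y => ?_⟩
  · intro h
    rw [Prod.mk.injEq, mul_eq_zero, mul_eq_zero] at h
    exact hmn x₀ (by rw [h.1.resolve_left hK, h.2.resolve_left hK])
  rw [stalkIdeal_pow, stalkIdeal_pow]
  by_cases hy : y ∈ S
  swap
  · rw [(notMem_support_iff_stalkIdeal D y).1 fun h => hy (Or.inl h),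
      (notMem_support_iff_stalkIdeal E y).1 fun h => hy (Or.inr h), Ideal.top_pow, Ideal.top_pow]
  obtain ⟨x, hxt, hyx⟩ : ∃ x ∈ t, y ∈ (U x).1 := by
    simpa using ht (Set.mem_univ y)
  have hr : m x * n x₀ = m x₀ * n x :=
    cancel_ratio (hmn y) (ratio_unique hD hE hy (hst x y hyx) (hst y y (hU y))) (hP y hy x₀ hx₀)
  obtain ⟨j, hj, hj'⟩ : ∃ j, K * m x₀ = m x * j ∧ K * n x₀ = n x * j := by
    obtain ⟨c, hc⟩ : d x ∣ K := Finset.dvd_prod_of_mem d hxt
    by_cases h : m x = 0
    · have hn : n x ≠ 0 := fun hn => hmn x (by rw [h, hn])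
      have h0 : m x₀ = 0 := by simpa [h, hn] using hr.symm
      exact ⟨c * n x₀, by rw [h, h0]; simp, by rw [hc, show d x = n x by simp [d, h]]; ring⟩
    · refine ⟨c * m x₀, by rw [hc, show d x = m x by simp [d, h]]; ring, ?_⟩
      rw [hc, show d x = m x by simp [d, h]]
      linear_combination c * hr
  rw [hj, hj', pow_mul, pow_mul, hst x y hyx]

end Groth.Agent.Div89.Proportional
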