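import Groth.Agent.CAlg1.Complete
import Groth.Agent.CAlg1.Regular

/-!
Algebraic form of: an affine punctured spectrum forces dimension at most one.
-/

set_option autoImplicit false
set_option linter.style.haveILetI false

universe u

open IsLocalRing

namespace Groth.Agent.Div89

section Complete

variable {R : Type u} [CommRing R] [IsNoetherianRing R] [IsLocalRing R]
  [IsAdicComplete (maximalIdeal R) R] {K : Type u} [Field K] [Algebra R K]

theorem false_of_punctured_complete (B : Subalgebra R K) (hB : B.FG)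
    (hm : (maximalIdeal R).map (algebraMap R B) = ⊤)
    (tors : ∀ θ ∈ B, ∃ k : ℕ, ∀ x ∈ maximalIdeal R ^ k, x • θ ∈ (algebraMap R K).range)
    (a : R) (ham : a ∈ maximalIdeal R) (ha0 : algebraMap R K a ≠ 0)
    (hanu : ¬ IsUnit (algebraMap R B a)) : False := by
  classical
  let N : Submodule R K := LinearMap.range (Algebra.linearMap R K)
  have hNfg : N.FG := by
    rw [show N = Submodule.map (Algebra.linearMap R K) ⊤ from (Submodule.map_top _).symm]
    exact (IsNoetherian.noetherian ⊤).map _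
  have hNB : ∀ n ∈ N, n ∈ B := by rintro _ ⟨r, rfl⟩; exact B.algebraMap_mem r
  have hmemN : ∀ θ : K, θ ∈ (algebraMap R K).range → θ ∈ N := fun θ ⟨r, hr⟩ => ⟨r, hr⟩
  let μ : K →ₗ[R] K := LinearMap.lsmul R K a
  have hμ : Function.Injective μ := fun x y h => by
    simp only [μ, LinearMap.lsmul_apply, Algebra.smul_def] at h
    exact mul_left_cancel₀ ha0 h
  let E : ℕ → Submodule R K := fun t => B.toSubmodule.map (μ ^ t) ⊔ N
  let S : ℕ → Submodule R K := fun t => E t ⊓ N.comap μ
  have hμpow : ∀ (t : ℕ) (x : K), (μ ^ t) x = a ^ t • x := by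
    intro t
    induction t with
    | zero => intro x; simp
    | succ t ih =>
      intro x
      rw [pow_succ', Module.End.mul_apply, ih, pow_succ', mul_smul]
      rfl
  have hEB : ∀ t, ∀ x ∈ E t, x ∈ B := by
    intro t x hx
    obtain ⟨p, ⟨β, hβ, rfl⟩, n, hn, rfl⟩ := Submodule.mem_sup.1 hx
    rw [hμpow, Algebra.smul_def]
    exact B.add_mem (B.mul_mem (B.algebraMap_mem _) hβ) (hNB n hn)
  have hEanti : ∀ {s t}, s ≤ t → E t ≤ E s := by
    intro s t hst
    refine sup_le ?_ le_sup_right
    rintro _ ⟨β, hβ, rfl⟩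
    refine Submodule.mem_sup_left ⟨a ^ (t - s) • β, ?_, ?_⟩
    · exact B.toSubmodule.smul_mem _ hβ
    · rw [hμpow, hμpow, ← mul_smul, ← pow_add, Nat.add_sub_cancel' hst]
  have hN_S : ∀ t, N ≤ S t := fun t => le_inf le_sup_right
    fun n hn => N.smul_mem a hn
  -- stabilisation of the chain `S`
  obtain ⟨t₀, ht₀⟩ : ∃ t₀, ∀ t, t₀ ≤ t → S t = S t₀ := by
    let aN := N.map μ
    let q := aN.mkQ
    let T : ℕ → Submodule R (K ⧸ aN) := fun t => (S t).map (q.comp μ)
    have hT0fg : (T 0).FG := by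
      have h1 : T 0 ≤ N.map q := by
        rintro _ ⟨x, hx, rfl⟩
        exact ⟨μ x, hx.2, rfl⟩
      haveI : IsNoetherian R (N.map q) := isNoetherian_of_fg_of_noetherian _ (hNfg.map q)
      haveI : Module.Finite R (N.map q) := Module.Finite.of_fg (hNfg.map q)
      exact Submodule.FG.of_le (hNfg.map q) h1
    obtain ⟨gens, hgens⟩ := hT0fg
    have hkill : ∀ g ∈ gens, ∃ k : ℕ, ∀ x ∈ maximalIdeal R ^ k, x • g = 0 := by
      intro g hg
      have hgT : g ∈ T 0 := hgens ▸ Submodule.subset_span hg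
      obtain ⟨θ, hθ, rfl⟩ := hgT
      obtain ⟨k, hk⟩ := tors θ (hEB 0 θ hθ.1)
      refine ⟨k, fun x hx => ?_⟩
      rw [← map_smul, LinearMap.comp_apply]
      exact (Submodule.Quotient.mk_eq_zero aN).2 ⟨x • θ, hmemN _ (hk x hx), rfl⟩
    choose! kf hkf using hkill
    let k := gens.sup kf + 1
    have hkT : maximalIdeal R ^ k ≤ Module.annihilator R (T 0) := by
      intro x hx
      rw [Module.mem_annihilator]
      rintro ⟨y, hy⟩
      refine Subtype.ext ?_
      show x • y = 0
      rw [← hgens] at hy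
      induction hy using Submodule.span_induction with
      | mem y hy => exact hkf y hy x (Ideal.pow_le_pow_right (Nat.le_succ_of_le (Finset.le_sup hy)) hx)
      | zero => simp
      | add y z _ _ h1 h2 => rw [smul_add, h1, h2, add_zero]
      | smul c y _ h => rw [smul_comm, h, smul_zero]
    haveI : Module.Finite R (T 0) := Module.Finite.of_fg ⟨gens, hgens⟩
    haveI : IsArtinianRing (R ⧸ maximalIdeal R ^ k) := by
      refine IsLocalRing.quotient_artinian_of_mem_minimalPrimes_of_isLocalRing _ ?_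
      refine ⟨⟨inferInstance, Ideal.pow_le_self (Nat.succ_ne_zero _)⟩, fun p hp _ => ?_⟩
      exact fun x hx => hp.1.mem_of_pow_mem k (hp.2 (Ideal.pow_mem_pow hx k))
    haveI : IsArtinian R (T 0) := by
      have htor : Module.IsTorsionBySet R (T 0) (maximalIdeal R ^ k : Ideal R) :=
        fun y x => Module.mem_annihilator.1 (hkT x.2) y
      letI := htor.module
      haveI : Module.Finite (R ⧸ maximalIdeal R ^ k) (T 0) :=
        Module.Finite.of_restrictScalars_finite R _ _
      haveI : IsArtinian (R ⧸ maximalIdeal R ^ k) (T 0) := isArtinian_of_fg_of_artinian'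
      exact isArtinian_of_surjective_algebraMap (R := R ⧸ maximalIdeal R ^ k) (S := R)
        Ideal.Quotient.mk_surjective
    have hTanti : ∀ {s t}, s ≤ t → T t ≤ T s := fun {s t} h =>
      Submodule.map_mono (inf_le_inf_right _ (hEanti h))
    let f : ℕ →o (Submodule R (T 0))ᵒᵈ :=
      ⟨fun t => OrderDual.toDual ((T t).comap (T 0).subtype),
        fun s t h => Submodule.comap_mono (hTanti h)⟩
    obtain ⟨t₀, ht₀⟩ := IsArtinian.monotone_stabilizes f
    refine ⟨t₀, fun t ht => le_antisymm (inf_le_inf_right _ (hEanti ht)) fun x hx => ?_⟩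
    have he : (T t₀).comap (T 0).subtype = (T t).comap (T 0).subtype := ht₀ t ht
    have hx0 : (q.comp μ) x ∈ T 0 := hTanti (Nat.zero_le _) ⟨x, hx, rfl⟩
    have : (⟨_, hx0⟩ : T 0) ∈ (T t₀).comap (T 0).subtype := ⟨x, hx, rfl⟩
    rw [he] at this
    obtain ⟨y, hy, hyx⟩ := this
    have hd : μ x - μ y ∈ aN := (Submodule.Quotient.eq aN).1 hyx.symm
    obtain ⟨n, hn, hnd⟩ := hd
    rw [← map_sub] at hnd
    have : x = y + n := by rw [hμ hnd]; abel
    rw [this]
    exact add_mem hy (hN_S t hn)
  -- the divisible part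
  have hstep : ∀ r : ℕ, ∀ θ ∈ E t₀, a ^ r • θ ∈ N → θ ∈ E (t₀ + 1) := by
    intro r
    induction r with
    | zero => intro θ _ h; rw [pow_zero, one_smul] at h; exact Submodule.mem_sup_right h
    | succ r ih =>
      intro θ hθ h
      obtain ⟨p, ⟨β, hβ, rfl⟩, n, hn, rfl⟩ := Submodule.mem_sup.1 hθ
      have h1 : a ^ r • ((μ ^ t₀) β + n) ∈ S (t₀ + r) := by
        refine ⟨?_, ?_⟩
        · rw [smul_add]
          refine add_mem (Submodule.mem_sup_left ⟨β, hβ, ?_⟩)
            (Submodule.mem_sup_right (N.smul_mem _ hn))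
          rw [hμpow, hμpow, ← mul_smul, ← pow_add, add_comm]
        · show a • (a ^ r • _) ∈ N
          rwa [← mul_smul, ← pow_succ']
      rw [ht₀ _ (Nat.le_add_right _ _), ← ht₀ _ (show t₀ ≤ t₀ + r + 1 by omega)] at h1
      obtain ⟨p', ⟨β', hβ', rfl⟩, n', hn', he⟩ := Submodule.mem_sup.1 h1.1
      have hsub : (μ ^ t₀) β + n - (μ ^ (t₀ + 1)) β' ∈ E (t₀ + 1) := by
        refine ih _ (sub_mem hθ (hEanti (Nat.le_succ _) (Submodule.mem_sup_left ⟨β', hβ', rfl⟩))) ?_
        rw [smul_sub, ← he]
        have h2 : a ^ r • (μ ^ (t₀ + 1)) β' = (μ ^ (t₀ + r + 1)) β' := by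
          rw [hμpow, hμpow, ← mul_smul, ← pow_add]
          congr 2; omega
        rw [h2]
        simpa using hn'
      have := add_mem hsub (show (μ ^ (t₀ + 1)) β' ∈ E (t₀ + 1) from
        Submodule.mem_sup_left ⟨β', hβ', rfl⟩)
      rwa [sub_add_cancel] at this
  have hdiv : ∀ β ∈ B, ∃ (r : R) (β' : K), β' ∈ B ∧
      a ^ t₀ • β = algebraMap R K r + a • (a ^ t₀ • β') := by
    intro β hβ
    obtain ⟨k, hk⟩ := tors (a ^ t₀ • β) (B.toSubmodule.smul_mem _ hβ)
    have hmem : a ^ t₀ • β ∈ E t₀ := Submodule.mem_sup_left ⟨β, hβ, hμpow _ _⟩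
    have := hstep k _ hmem (hmemN _ (hk _ (Ideal.pow_mem_pow ham k)))
    obtain ⟨p, ⟨β', hβ', rfl⟩, n, ⟨r, rfl⟩, he⟩ := Submodule.mem_sup.1 this
    refine ⟨r, β', hβ', ?_⟩
    rw [← he, hμpow, pow_succ', mul_smul, Algebra.linearMap_apply, add_comm]
  haveI : IsNoetherianRing B := by
    haveI : Algebra.FiniteType R B := (Subalgebra.fg_iff_finiteType B).1 hB
    exact Algebra.FiniteType.isNoetherianRing R B
  haveI : IsAdicComplete (Ideal.span {a}) R :=
    CAlg1.isAdicComplete_of_le (J := maximalIdeal R)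
      ((Ideal.span_singleton_le_iff_mem _).2 ham) ⟨{a}, by simp⟩
  have hAN : ∀ β ∈ B, a ^ t₀ • β ∈ N := by
    intro β hβ
    choose r next hnext hre using hdiv
    let seq : ℕ → {β : K // β ∈ B} := fun i =>
      Nat.rec ⟨β, hβ⟩ (fun _ x => ⟨next x.1 x.2, hnext x.1 x.2⟩) i
    let c : ℕ → R := fun t => ∑ i ∈ Finset.range t, a ^ i * r (seq i).1 (seq i).2
    have hsum : ∀ t, a ^ t₀ • β =
        algebraMap R K (c t) + a ^ t • (a ^ t₀ • (seq t).1) := by
      intro t
      induction t with
      | zero => simp [c, seq]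
      | succ t ih =>
        rw [ih, hre (seq t).1 (seq t).2]
        simp only [c, Finset.sum_range_succ, map_add, map_mul, smul_add, ← mul_smul, pow_succ]
        rw [Algebra.smul_def (a ^ t) (algebraMap R K _)]
        simp only [seq, mul_assoc]
        ring
    obtain ⟨L, hL⟩ := IsPrecomplete.prec (inferInstance : IsPrecomplete (Ideal.span {a}) R)
      (f := c) (by
        intro s t hst
        rw [SModEq.sub_mem, smul_eq_mul, Ideal.mul_top, Ideal.span_singleton_pow,
          Ideal.mem_span_singleton]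
        simp only [c]
        rw [← Finset.sum_range_add_sum_Ico _ hst, sub_add_cancel_left, dvd_neg]
        exact Finset.dvd_sum fun i hi => dvd_mul_of_dvd_left (pow_dvd_pow a (Finset.mem_Ico.1 hi).1) _)
    let θ : B := ⟨a ^ t₀ • β - algebraMap R K L,
      sub_mem (B.toSubmodule.smul_mem _ hβ) (B.algebraMap_mem _)⟩
    have hθ : θ ∈ ⨅ t : ℕ, Ideal.span {algebraMap R B a} ^ t := by
      rw [Ideal.mem_iInf]
      intro t
      have := hL t
      rw [SModEq.sub_mem, smul_eq_mul, Ideal.mul_top, Ideal.span_singleton_pow,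
        Ideal.mem_span_singleton] at this
      obtain ⟨d, hd⟩ := this
      rw [Ideal.span_singleton_pow, Ideal.mem_span_singleton]
      refine ⟨⟨algebraMap R K d + a ^ t₀ • (seq t).1,
        add_mem (B.algebraMap_mem _) (B.toSubmodule.smul_mem _ (seq t).2)⟩, Subtype.ext ?_⟩
      show a ^ t₀ • β - algebraMap R K L = (algebraMap R B a ^ t : B).1 * _
      rw [hsum t, add_sub_right_comm, ← map_sub, hd, map_mul, SubmonoidClass.coe_pow, mul_add]
      congr 1
      · rw [map_pow]; rfl
      · rw [Algebra.smul_def, map_pow]; rfl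
    rw [Ideal.iInf_pow_eq_bot_of_isDomain] at hθ
    · refine ⟨L, ?_⟩
      rw [Algebra.linearMap_apply]
      exact (sub_eq_zero.1 (congrArg Subtype.val (Ideal.mem_bot.1 hθ))).symm
    · rwa [Ne, Ideal.span_singleton_eq_top]
  -- `B` is finite, contradicting Nakayama
  haveI : Module.Finite R B := by
    haveI : IsNoetherian R N := isNoetherian_of_fg_of_noetherian _ hNfg
    let g : B →ₗ[R] N := LinearMap.codRestrict N ((μ ^ t₀).comp B.val.toLinearMap) fun β => by
      rw [LinearMap.comp_apply, hμpow]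
      exact hAN β.1 β.2
    refine Module.Finite.of_injective g fun x y h => Subtype.ext ?_
    have h2 : (μ ^ t₀) x.1 = (μ ^ t₀) y.1 := congrArg Subtype.val h
    simp only [hμpow, Algebra.smul_def] at h2
    exact mul_left_cancel₀ (by rw [map_pow]; exact pow_ne_zero _ ha0) h2
  have htop : (⊤ : Submodule R B) ≤ maximalIdeal R • ⊤ := by
    rw [Ideal.smul_top_eq_map, hm]
    simp
  have hbot := Submodule.eq_bot_of_le_smul_of_le_jacobson_bot (maximalIdeal R) ⊤
    Module.Finite.fg_top htop (maximalIdeal_le_jacobson ⊥)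
  exact one_ne_zero ((Submodule.mem_bot R).1 (hbot.le (Submodule.mem_top (x := (1 : B)))))

end Complete

theorem ringKrullDim_le_one_of_punctured (A : Type u) [CommRing A] [IsNoetherianRing A]
    [IsLocalRing A] (B : Type u) [CommRing B] [Algebra A B] [Algebra.FiniteType A B]
    (hm : (maximalIdeal A).map (algebraMap A B) = ⊤)
    (tors : ∀ θ : B, ∀ f ∈ maximalIdeal A, ∃ (k : ℕ) (c : A), f ^ k • θ = algebraMap A B c)
    (hom : ∀ f ∈ maximalIdeal A, Nonempty (B →ₐ[A] Localization.Away f)) :
    ringKrullDim A ≤ 1 := by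
  classical
  let R := AdicCompletion (maximalIdeal A) A
  haveI : IsNoetherianRing R :=
    CAlg1.isNoetherianRing_adicCompletion (maximalIdeal A) (Ideal.fg_of_isNoetherianRing _)
  by_contra hdim
  rw [not_le, ← CAlg1.ringKrullDim_adicCompletion A, ← IsLocalRing.maximalIdeal_height_eq_ringKrullDim]
    at hdim
  have hh : (2 : ℕ) ≤ (maximalIdeal R).height := by
    have h1 : (1 : ℕ∞) < (maximalIdeal R).height := by exact_mod_cast hdim
    exact Order.add_one_le_of_lt h1
  rw [show (maximalIdeal R).height = Order.height (IsLocalRing.closedPoint R) from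
    PrimeSpectrum.height_eq_orderHeight (IsLocalRing.closedPoint R)] at hh
  obtain ⟨p, hplast, hplen⟩ := Order.exists_series_of_le_height _ hh
  let P₀ : Ideal R := (p.head).asIdeal
  let P₁ : Ideal R := (p ⟨1, by omega⟩).asIdeal
  have h01 : P₀ < P₁ := p.strictMono (show (0 : Fin (p.length + 1)) < ⟨1, by omega⟩ from
    Fin.lt_def.2 (by simp))
  have h1m : P₁ < maximalIdeal R := by
    have : p ⟨1, by omega⟩ < p.last := p.strictMono (Fin.lt_def.2 (by simp; omega))
    rw [hplast] at this
    exact this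
  obtain ⟨a, ha1, ha0⟩ := SetLike.exists_of_lt h01
  obtain ⟨f, hfm, hf1⟩ : ∃ f ∈ maximalIdeal A, algebraMap A R f ∉ P₁ := by
    by_contra! hall
    refine h1m.not_ge ?_
    rw [AdicCompletion.maximalIdeal_eq_map, Ideal.map_le_iff_le_comap]
    exact hall
  haveI : P₁.IsPrime := (p ⟨1, by omega⟩).isPrime
  haveI : P₀.IsPrime := p.head.isPrime
  let K := FractionRing (R ⧸ P₀)
  have hzero : ∀ x : R, algebraMap R K x = 0 ↔ x ∈ P₀ := fun x => by
    rw [IsScalarTower.algebraMap_apply R (R ⧸ P₀) K, Ideal.Quotient.algebraMap_eq]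
    rw [map_eq_zero_iff _ (IsFractionRing.injective (R ⧸ P₀) K), Ideal.Quotient.eq_zero_iff_mem]
  haveI : IsScalarTower A R K := inferInstance
  have hfu : IsUnit (algebraMap A K f) := by
    rw [isUnit_iff_ne_zero, Ne]
    exact fun h => hf1 (h01.le ((hzero _).1 h))
  obtain ⟨φ⟩ := hom f hfm
  let ψ : B →ₐ[A] K := (IsLocalization.liftAlgHom (M := Submonoid.powers f)
    (f := Algebra.ofId A K) (S := Localization.Away f) (by
      rintro ⟨_, n, rfl⟩
      rw [map_pow]; exact hfu.pow n)).comp φ
  obtain ⟨s, hs⟩ := (inferInstance : Algebra.FiniteType A B).out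
  let B' : Subalgebra R K := Algebra.adjoin R (ψ '' (s : Set B))
  have hrange : ∀ b : B, ψ b ∈ B' := by
    intro b
    have hb : b ∈ Algebra.adjoin A (s : Set B) := hs ▸ Algebra.mem_top
    induction hb using Algebra.adjoin_induction with
    | mem x hx => exact Algebra.subset_adjoin ⟨x, hx, rfl⟩
    | algebraMap r =>
      rw [AlgHom.commutes, IsScalarTower.algebraMap_apply A R K]
      exact B'.algebraMap_mem _
    | add x y _ _ hx hy => rw [map_add]; exact add_mem hx hy
    | mul x y _ _ hx hy => rw [map_mul]; exact mul_mem hx hy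
  have htors : ∀ θ ∈ B', ∃ k : ℕ, ∀ x ∈ maximalIdeal R ^ k, x • θ ∈ (algebraMap R K).range := by
    intro θ hθ
    induction hθ using Algebra.adjoin_induction with
    | mem x hx =>
      obtain ⟨b, -, rfl⟩ := hx
      obtain ⟨G, hG⟩ := (maximalIdeal A).fg_of_isNoetherianRing
      choose kg cg hcg using fun g : G => tors b g.1 (hG ▸ Ideal.subset_span g.2)
      let J : Ideal A := Ideal.span (Set.range fun g : G => g.1 ^ kg g)
      have hrad : maximalIdeal A ≤ J.radical := by
        rw [← hG, Ideal.span_le]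
        exact fun g hg => ⟨kg ⟨g, hg⟩, Ideal.subset_span ⟨⟨g, hg⟩, rfl⟩⟩
      obtain ⟨k, hk⟩ := Ideal.exists_pow_le_of_le_radical_of_fg hrad
        (maximalIdeal A).fg_of_isNoetherianRing
      refine ⟨k, fun x hx => ?_⟩
      have hx' : x ∈ J.map (algebraMap A R) := by
        refine Ideal.map_mono hk ?_
        rwa [Ideal.map_pow, ← AdicCompletion.maximalIdeal_eq_map]
      rw [Ideal.map_span] at hx'
      clear hx
      induction hx' using Submodule.span_induction with
      | mem y hy =>
        obtain ⟨_, ⟨g, rfl⟩, rfl⟩ := hy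
        refine ⟨algebraMap A R (cg g), ?_⟩
        rw [← IsScalarTower.algebraMap_apply A R K, ← ψ.commutes, ← hcg, map_smul,
          Algebra.smul_def, Algebra.smul_def, IsScalarTower.algebraMap_apply A R K]
      | zero => exact ⟨0, by simp⟩
      | add y z _ _ h1 h2 => rw [add_smul]; exact add_mem h1 h2
      | smul c y _ h =>
        obtain ⟨d, hd⟩ := h
        exact ⟨c * d, by rw [map_mul, smul_assoc, ← hd, Algebra.smul_def]⟩
    | algebraMap r => exact ⟨0, fun x _ => ⟨x * r, by rw [map_mul, Algebra.smul_def]⟩⟩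
    | add x y _ _ hx hy =>
      obtain ⟨k, hk⟩ := hx
      obtain ⟨l, hl⟩ := hy
      exact ⟨max k l, fun z hz => by
        rw [smul_add]
        exact add_mem (hk z (Ideal.pow_le_pow_right (le_max_left _ _) hz))
          (hl z (Ideal.pow_le_pow_right (le_max_right _ _) hz))⟩
    | mul x y _ _ hx hy =>
      obtain ⟨k, hk⟩ := hx
      obtain ⟨l, hl⟩ := hy
      refine ⟨k + l, fun z hz => ?_⟩
      rw [pow_add] at hz
      induction hz using Submodule.mul_induction_on' with
      | mem_mul_mem u hu v hv =>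
        obtain ⟨c, hc⟩ := hk u hu
        obtain ⟨d, hd⟩ := hl v hv
        exact ⟨c * d, by rw [map_mul, hc, hd, ← smul_mul_smul_comm]⟩
      | add u _ v _ h1 h2 => rw [add_smul]; exact add_mem h1 h2
  refine false_of_punctured_complete B' (Subalgebra.fg_adjoin_finset (s.image ψ) |> fun h => by
    simpa [B', Finset.coe_image] using h) ?_ htors a (h1m.le ha1) (fun h => ha0 ((hzero a).1 h)) ?_
  · have h1 := congrArg (Ideal.map (ψ.toRingHom.codRestrict B'.toSubsemiring hrange)) hm
    rw [Ideal.map_top, Ideal.map_map] at h1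
    have e : (ψ.toRingHom.codRestrict B'.toSubsemiring hrange).comp (algebraMap A B) =
        (algebraMap R B').comp (algebraMap A R) :=
      RingHom.ext fun x => Subtype.ext ((ψ.commutes x).trans (IsScalarTower.algebraMap_apply A R K x))
    rw [AdicCompletion.maximalIdeal_eq_map, Ideal.map_map, ← e]
    exact h1
  · intro hu
    obtain ⟨v, hv⟩ := hu.exists_right_inv
    obtain ⟨k, hk⟩ := htors v.1 v.2
    have hfk : algebraMap A R f ^ k ∈ maximalIdeal R ^ k := by
      rw [AdicCompletion.maximalIdeal_eq_map]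
      exact Ideal.pow_mem_pow (Ideal.mem_map_of_mem _ hfm) k
    obtain ⟨r, hr⟩ := hk _ hfk
    have hav : algebraMap R K a * v.1 = 1 := congrArg Subtype.val hv
    have : algebraMap R K (a * r - algebraMap A R f ^ k) = 0 := by
      rw [map_sub, map_mul, hr, Algebra.smul_def, mul_left_comm, hav, mul_one, sub_self]
    have hmem := h01.le ((hzero _).1 this)
    exact hf1 (Ideal.IsPrime.mem_of_pow_mem inferInstance k
      ((P₁.sub_mem_iff_right (P₁.mul_mem_right r ha1)).1 hmem))

end Groth.Agent.Div89
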