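import Groth.Agent.Div89.Reflexive
import Groth.Agent.Div89.StalkOpen

/-!
Extension of reflexive modules across points of depth two: coherence of the pushforward.
-/

set_option autoImplicit false
set_option linter.style.haveILetI false
set_option backward.isDefEq.respectTransparency.types false

noncomputable section

universe u

open CategoryTheory AlgebraicGeometry Opposite TopologicalSpace IsLocalRing
open Groth.Agent.QC70 Groth.Agent.Props58.LocFree

namespace Groth.Agent.Div89

variable {Y : Scheme.{u}}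

lemma genericPoint_mem [IrreducibleSpace Y] {V : Y.Opens} {y : Y} (hy : y ∈ V) : genericPoint Y ∈ V :=
  ((genericPoint_spec Y).specializes trivial).mem_open V.2 hy

/-- A section of a torsion free module is determined by its germ at the generic point. -/
lemma eq_zero_of_germ_generic [IsIntegral Y] (G : Y.Modules) (hG : Coh.IsQCoh G)
    (htf : ∀ y : Y, Module.IsTorsionFree (Y.presheaf.stalk y) (G.presheaf.stalk y))
    {O : Y.Opens} (hη : genericPoint Y ∈ O) (s : Γ(G, O))
    (h : germM G O (genericPoint Y) hη s = 0) : s = 0 := by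
  refine TopCat.Presheaf.section_ext (⟨G.presheaf, G.isSheaf⟩ : TopCat.Sheaf Ab Y) O _ _ fun y hy => ?_
  show germM G O y hy s = germM G O y hy 0
  rw [germM_zero]
  obtain ⟨V, hyV, hVO⟩ := exists_affine_le hy
  have hηV : genericPoint Y ∈ V.1 := genericPoint_mem hyV
  have h' : germM G V.1 (genericPoint Y) hηV (res G hVO s) = 0 := by rw [germM_res]; exact h
  obtain ⟨t, ht, hts⟩ := (germ_eq_zero_iff G hG V _ hηV _).1 h'
  have h2 := congrArg (germM G V.1 y hyV) hts
  rw [germM_smul, germM_res, germM_zero] at h2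
  haveI : Nonempty V.1 := ⟨⟨y, hyV⟩⟩
  haveI := htf y
  refine (smul_eq_zero.1 h2).resolve_left fun h0 => ht ?_
  rw [(injective_iff_map_eq_zero _).1 (germ_injective_of_isIntegral Y y hyV) t h0]
  exact zero_mem _

/-- Sections over a quasi-compact open of a torsion free module of finite type form a finite module,
when the sections of the structure sheaf have denominators for rational functions. -/
theorem finite_sections_of_torsionFree [IsIntegral Y] (G : Y.Modules) [G.IsQuasicoherent]
    [G.IsFiniteType] (htf : ∀ y : Y, Module.IsTorsionFree (Y.presheaf.stalk y) (G.presheaf.stalk y))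
    (O : Y.Opens) (hOc : IsCompact (O : Set Y)) (hη : genericPoint Y ∈ O) [IsNoetherianRing Γ(Y, O)]
    (hfrac : ∀ k : Y.functionField, ∃ b a : Γ(Y, O), b ≠ 0 ∧
      Y.presheaf.germ O (genericPoint Y) hη b * k = Y.presheaf.germ O (genericPoint Y) hη a) :
    Module.Finite Γ(Y, O) Γ(G, O) := by
  classical
  let η := genericPoint Y
  let R := Γ(Y, O)
  let K := Y.presheaf.stalk η
  letI : Field K := inferInstanceAs (Field Y.functionField)
  haveI := finite_stalk_of_isFiniteType (M := G) η
  let B := Module.finBasis K (G.presheaf.stalk η)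
  let n := Module.finrank K (G.presheaf.stalk η)
  let ι₀ : R →+* K := (Y.presheaf.germ O η hη).hom
  haveI : Nonempty O := ⟨⟨η, hη⟩⟩
  have hι : Function.Injective ι₀ := germ_injective_of_isIntegral Y η hη
  haveI : IsDomain R := hι.isDomain ι₀
  letI := ι₀.toAlgebra
  have hfrac' : ∀ k : K, ∃ b : R, b ≠ 0 ∧ ∃ a : R, ι₀ b * k = ι₀ a := fun k => by
    obtain ⟨b, a, hb, h⟩ := hfrac k
    exact ⟨b, hb, a, h⟩
  -- a finite affine cover
  have loc : ∀ y : O, ∃ V : Y.affineOpens, y.1 ∈ V.1 ∧ V.1 ≤ O := fun y => exists_affine_le y.2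
  choose V hyV hVO using loc
  obtain ⟨T, hT⟩ := hOc.elim_finite_subcover (fun y : O => ((V y).1 : Set Y)) (fun y => (V y).1.isOpen)
    (fun y hy => Set.mem_iUnion.2 ⟨⟨y, hy⟩, hyV ⟨y, hy⟩⟩)
  have hηV : ∀ y : O, η ∈ (V y).1 := fun y => genericPoint_mem (hyV y)
  choose k g hg using fun y : O => (finite_sections_of_isFiniteType G (V y).2).exists_fin
  let I := Σ y : T, Fin (k y.1) × Fin n
  choose den hden num hnum using fun i : I =>
    hfrac' (B.repr (germM G (V i.1.1).1 η (hηV _) (g i.1.1 i.2.1)) i.2.2)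
  let b := ∏ i : I, den i
  have hb : b ≠ 0 := Finset.prod_ne_zero_iff.2 fun i _ => hden i
  let Φ : Γ(G, O) →ₗ[R] (Fin n → K) :=
    { toFun := fun s j => ι₀ b * B.repr (germM G O η hη s) j
      map_add' := fun s t => funext fun j => by simp [germM_add, mul_add]
      map_smul' := fun r s => funext fun j => by
        show ι₀ b * B.repr (germM G O η hη (r • s)) j = r • (ι₀ b * B.repr (germM G O η hη s) j)
        rw [germM_smul, LinearEquiv.map_smul, Finsupp.smul_apply, smul_eq_mul, mul_left_comm]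
        rfl }
  have hΦ : Function.Injective Φ := (injective_iff_map_eq_zero Φ).2 fun s hs =>
    eq_zero_of_germ_generic G ‹_› htf hη s (B.repr.injective (Finsupp.ext fun j => by
      rw [map_zero]
      exact ((mul_eq_zero.1 (congrFun hs j)).resolve_left fun h0 => hb ((map_eq_zero_iff ι₀ hι).1 h0))))
  let ρ : (Fin n → R) →ₗ[R] (Fin n → K) := LinearMap.pi fun j => (Algebra.linearMap R K) ∘ₗ LinearMap.proj j
  haveI : Module.Finite R (LinearMap.range ρ) := Module.Finite.range ρ
  haveI : IsNoetherian R (LinearMap.range ρ) := isNoetherian_of_isNoetherianRing_of_finite R _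
  suffices hle : LinearMap.range Φ ≤ LinearMap.range ρ from
    Module.Finite.of_injective (Φ.codRestrict _ fun s => hle ⟨s, rfl⟩) fun p q h =>
      hΦ (congrArg Subtype.val h)
  rintro _ ⟨s, rfl⟩
  suffices hc : ∀ j, ∃ c : R, ι₀ c = Φ s j by
    choose c hc using hc
    exact ⟨c, funext hc⟩
  intro j
  have hloc : ∀ y : T, ∃ a : Γ(Y, (V y.1).1), Y.presheaf.germ (V y.1).1 η (hηV _) a = Φ s j := by
    intro y
    obtain ⟨c, hc⟩ := (Submodule.mem_span_range_iff_exists_fun Γ(Y, (V y.1).1)).1
      (show res G (hVO y.1) s ∈ _ from hg y.1 ▸ Submodule.mem_top)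
    have hd : ∀ l : Fin (k y.1), ∃ q : R, b = den ⟨y, l, j⟩ * q := fun l =>
      Finset.dvd_prod_of_mem den (Finset.mem_univ _)
    choose q hq using hd
    refine ⟨∑ l, c l * Y.presheaf.map (homOfLE (hVO y.1)).op (q l * num ⟨y, l, j⟩), ?_⟩
    have hs : germM G O η hη s = ∑ l, Y.presheaf.germ (V y.1).1 η (hηV _) (c l) •
        germM G (V y.1).1 η (hηV _) (g y.1 l) := by
      rw [← germM_res (hVO y.1) (hηV _) s, ← hc]
      refine (map_sum _ _ _).trans (Finset.sum_congr rfl fun l _ => ?_)
      exact germM_smul _ _ _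
    show _ = ι₀ b * B.repr (germM G O η hη s) j
    rw [hs, map_sum, map_sum, Finsupp.finsetSum_apply, Finset.mul_sum]
    refine Finset.sum_congr rfl fun l _ => ?_
    rw [map_mul, TopCat.Presheaf.germ_res_apply, LinearEquiv.map_smul, Finsupp.smul_apply, smul_eq_mul,
      hq l]
    show _ * ι₀ (q l * num ⟨y, l, j⟩) = ι₀ (den ⟨y, l, j⟩ * q l) * _
    rw [map_mul, map_mul, ← hnum ⟨y, l, j⟩]
    ring
  choose a ha using hloc
  let F : TopCat.Sheaf CommRingCat Y := Y.sheaf
  obtain ⟨c, hc, -⟩ := F.existsUnique_gluing' (fun y : T => (V y.1).1) O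
    (fun y => homOfLE (hVO y.1)) (fun y hy => by
      obtain ⟨i, hiT, hi⟩ := Set.mem_iUnion₂.1 (hT hy)
      exact Opens.mem_iSup.2 ⟨⟨i, hiT⟩, hi⟩) a (fun p q => by
      have hpq : η ∈ (V p.1).1 ⊓ (V q.1).1 := ⟨hηV _, hηV _⟩
      haveI : Nonempty ((V p.1).1 ⊓ (V q.1).1 : Y.Opens) := ⟨⟨η, hpq⟩⟩
      refine germ_injective_of_isIntegral Y η hpq ?_
      exact (TopCat.Presheaf.germ_res_apply _ _ η hpq (a p)).trans
        ((ha p).trans ((ha q).symm.trans (TopCat.Presheaf.germ_res_apply _ _ η hpq (a q)).symm)))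
  obtain ⟨y₀, hy₀, -⟩ := Set.mem_iUnion₂.1 (hT hη)
  refine ⟨c, ?_⟩
  rw [← ha ⟨y₀, hy₀⟩, ← hc ⟨y₀, hy₀⟩]
  exact (TopCat.Presheaf.germ_res_apply Y.presheaf _ η _ c).symm

variable {X : Scheme.{u}}

theorem pushforward_reflexive [IsIntegral X] [IsLocallyNoetherian X] (U : X.Opens)
    (hU : ∀ x : X, x ∉ U → (2 : ℕ∞) ≤ LocCoh.depth (X.presheaf.stalk x) (X.presheaf.stalk x))
    (G : (U : Scheme.{u}).Modules) (hG : Coh.IsCoh G)
    (hr : ∀ y : (U : Scheme.{u}), Module.IsReflexive ((U : Scheme.{u}).presheaf.stalk y) (G.presheaf.stalk y)) :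
    Coh.IsCoh ((Scheme.Modules.pushforward U.ι).obj G) ∧
      ∀ x : X, Module.IsReflexive (X.presheaf.stalk x)
        (((Scheme.Modules.pushforward U.ι).obj G).presheaf.stalk x) := by
  classical
  let η := genericPoint X
  haveI : G.IsQuasicoherent := hG.1
  haveI : G.IsFiniteType := hG.2
  have hηU : η ∈ U := by
    by_contra h
    have h2 := hU η h
    have h0 : ringKrullDim (X.presheaf.stalk η) = 0 :=
      ringKrullDim_eq_zero_of_isField (Field.toIsField X.functionField)
    have h3 := EGA4Alg4.depth_le_supportDim (A := X.presheaf.stalk η) (M := X.presheaf.stalk η)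
    rw [Module.supportDim_self_eq_ringKrullDim, h0] at h3
    have h4 : LocCoh.depth (X.presheaf.stalk η) (X.presheaf.stalk η) ≤ 0 := WithBot.coe_le_coe.1 h3
    exact absurd (h2.trans h4) (by norm_num)
  haveI : Nonempty U := ⟨⟨η, hηU⟩⟩
  haveI : IsIntegral (U : Scheme.{u}) := isIntegral_of_isOpenImmersion U.ι
  have htf : ∀ y, Module.IsTorsionFree ((U : Scheme.{u}).presheaf.stalk y) (G.presheaf.stalk y) :=
    fun y => by haveI := hr y; infer_instance
  let H := (Scheme.Modules.pushforward U.ι).obj G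
  have hHq : Coh.IsQCoh H := isQCoh_pushforward U.ι G hG.1
  haveI : H.IsQuasicoherent := hHq
  have hO : Coh.IsCoh (unitMod X) := ⟨inferInstance, isFiniteType_unit X⟩
  have hOb : ∀ V : X.Opens, Function.Bijective (res (unitMod X) (inf_le_left : V ⊓ U ≤ V)) := by
    intro V
    refine res_bijective_of_depth_two (unitMod X) hO U (fun x hx => ?_) V
    rw [← EGA4Alg4.depth_eq_of_equiv (unitStalkEquiv x)]
    exact hU x hx
  have happ : ∀ V : X.Opens, Function.Bijective (U.ι.app V) := by
    intro V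
    rw [Scheme.Opens.ι_app]
    have e : ⇑(X.presheaf.map (homOfLE (U.ι.image_preimage_le V)).op) =
        resO X (himage U V).le ∘ resO X (inf_le_left : V ⊓ U ≤ V) :=
      funext fun a => (resO_resO _ _ a).symm
    have hb : Function.Bijective (resO X (himage U V).le) :=
      ⟨fun a b hab => by simpa only [resO_resO, resO_self] using congrArg (resO X (himage U V).ge) hab,
       fun b => ⟨resO X (himage U V).ge b, by rw [resO_resO, resO_self]⟩⟩
    exact (congrArg Function.Bijective e).mpr (hb.comp (hOb V))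
  choose W hW using fun x : X => exists_affine_mem x
  have hfin : Coh.IsCoh H := by
    refine ⟨hHq, isFiniteType_of_finite_sections H (fun x => (W x).1)
      (IsOpenCover.mk (top_le_iff.mp fun y _ => Opens.mem_iSup.mpr ⟨y, hW y⟩)) (fun x => (W x).2) fun x => ?_⟩
    let O : (U : Scheme.{u}).Opens := U.ι ⁻¹ᵁ (W x).1
    have hηW : η ∈ (W x).1 := genericPoint_mem (hW x)
    have hιη : U.ι (genericPoint (U : Scheme.{u})) = η := genericPoint_eq_of_isOpenImmersion U.ι
    have hη : genericPoint (U : Scheme.{u}) ∈ O := by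
      show U.ι _ ∈ (W x).1
      rw [hιη]; exact hηW
    haveI : IsNoetherianRing Γ(X, (W x).1) := isNoetherianRing_sections (W x)
    let φ : Γ(X, (W x).1) ≃+* Γ(U, O) := RingEquiv.ofBijective (U.ι.app (W x).1).hom (happ (W x).1)
    haveI : IsNoetherianRing Γ(U, O) := isNoetherianRing_of_ringEquiv _ φ
    have hfin := finite_sections_of_torsionFree G htf O (U.ι.isCompact_preimage (W x).2.isCompact) hη (by
      intro k
      haveI : Nonempty (W x).1 := ⟨⟨x, hW x⟩⟩
      have hηW' : U.ι (genericPoint (U : Scheme.{u})) ∈ (W x).1 := hη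
      letI := stalkAlg (W x).1 _ hηW'
      haveI := isLocalization_stalk (W x) _ hηW'
      obtain ⟨k', rfl⟩ := (ConcreteCategory.bijective_of_isIso (U.ι.stalkMap (genericPoint (U : Scheme.{u})))).2 k
      obtain ⟨⟨a, b⟩, hab⟩ := IsLocalization.surj (primeAt (W x) _ hηW').primeCompl k'
      refine ⟨φ b.1, φ a, fun h0 => b.2 ?_, ?_⟩
      · rw [(map_eq_zero_iff φ φ.injective).1 h0]; exact zero_mem _
      · have e : ∀ c, (U : Scheme.{u}).presheaf.germ O (genericPoint (U : Scheme.{u})) hη (φ c) =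
            U.ι.stalkMap (genericPoint (U : Scheme.{u})) (X.presheaf.germ (W x).1 _ hηW' c) :=
          fun c => (Scheme.Hom.germ_stalkMap_apply U.ι (W x).1 _ hη c).symm
        rw [e, e, ← map_mul, mul_comm]
        exact congrArg _ hab)
    letI := (U.ι.app (W x).1).hom.toAlgebra
    letI : Module Γ(U, O) Γ(H, (W x).1) := (inferInstance : Module Γ(U, O) Γ(G, O))
    haveI : IsScalarTower Γ(X, (W x).1) Γ(U, O) Γ(H, (W x).1) :=
      IsScalarTower.of_algebraMap_smul fun _ _ => rfl
    haveI : Module.Finite Γ(U, O) Γ(H, (W x).1) := hfin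
    haveI : Module.Finite Γ(X, (W x).1) Γ(U, O) :=
      Module.Finite.of_surjective (Algebra.linearMap Γ(X, (W x).1) Γ(U, O)) (happ (W x).1).2
    exact Module.Finite.trans Γ(U, O) Γ(H, (W x).1)
  refine ⟨hfin, isReflexive_stalks_of_depth H hfin fun x => ?_⟩
  by_cases hx : x ∈ U
  · refine Or.inl ?_
    let y : U := ⟨x, hx⟩
    let c := (Scheme.Modules.restrictAdjunction U.ι).counit.app G
    let l : (H.restrict U.ι).presheaf.stalk y ≃ₗ[(U : Scheme.{u}).presheaf.stalk y] G.presheaf.stalk y :=
      LinearEquiv.ofBijective (stalkLinear c y) ⟨injective_stalkMapM_of_mono c y, surjective_stalkMapM_of_epi c y⟩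
    let σ := (asIso (U.ι.stalkMap y)).commRingCatIsoToRingEquiv
    let e := (FBase64.AssSheaf.restrictStalkEquiv U.ι H y).trans l.toAddEquiv
    have he : ∀ a m, e (a • m) = σ a • e m := fun a m => by
      show l (FBase64.AssSheaf.restrictStalkEquiv U.ι H y (a • m)) = _
      rw [FBase64.AssSheaf.restrictStalkEquiv_smul]
      exact l.map_smul _ _
    exact isReflexive_of_semilinear σ.symm e.symm (fun b n => by
      apply e.injective
      refine Eq.trans ?_ (he (σ.symm b) (e.symm n)).symm
      exact ((e.apply_symm_apply _).trans (congrArg₂ (· • ·) (σ.apply_symm_apply b).symm (e.apply_symm_apply n).symm))) (hr y)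
  · refine Or.inr ⟨two_le_depth_of_res_bijective H hfin U (fun V => ?_) x hx, fun h => hx (h ▸ hηU)⟩
    have heq : U.ι ⁻¹ᵁ (V ⊓ U) = U.ι ⁻¹ᵁ V :=
      le_antisymm (U.ι.preimage_mono inf_le_left) fun y hy => ⟨hy, y.2⟩
    show Function.Bijective (G.presheaf.map ((Opens.map U.ι.base).map (homOfLE (inf_le_left : V ⊓ U ≤ V))).op)
    rw [show ((Opens.map U.ι.base).map (homOfLE (inf_le_left : V ⊓ U ≤ V))).op = (eqToHom heq).op from rfl]
    exact ConcreteCategory.bijective_of_isIso _

end Groth.Agent.Div89
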