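import Groth.Agent.FlatMor68.FlatInfNbhd
import Groth.Agent.Div89.Basic
import Groth.Prelude.Def_Fitting
import Mathlib.AlgebraicGeometry.Noetherian
import Mathlib.Algebra.CharP.Lemmas

/-! The `p^e`-th power norm of the reduction in characteristic `p`. -/

set_option autoImplicit false
set_option linter.style.haveILetI false
set_option backward.isDefEq.respectTransparency.types false

noncomputable section

universe u

open CategoryTheory AlgebraicGeometry TopologicalSpace IsLocalRing

namespace Groth.Agent.Div89.RedNorm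

variable {X : Scheme.{u}}

theorem exists_nilradical_bound [IsNoetherian X] :
    ∃ n : ℕ, ∀ y : X, ∀ t ∈ stalkIdeal X.nilradical y, t ^ n = 0 := by
  classical
  choose U hU using fun y : X => exists_affine_mem y
  obtain ⟨T, hT⟩ := isCompact_univ.elim_finite_subcover (fun y => ((U y).1 : Set X)) (fun y => (U y).1.2)
    (fun y _ => Set.mem_iUnion.2 ⟨y, hU y⟩)
  have hn : ∀ y, ∃ k : ℕ, X.nilradical.ideal (U y) ^ k = ⊥ := fun y => by
    haveI := IsLocallyNoetherian.component_noetherian (U y)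
    exact IsNoetherianRing.isNilpotent_nilradical Γ(X, (U y).1)
  choose k hk using hn
  refine ⟨T.sup k, fun x t ht => ?_⟩
  obtain ⟨y, hyT, hxy⟩ := Set.mem_iUnion₂.1 (hT (Set.mem_univ x))
  rw [stalkIdeal_eq _ (U y) x hxy] at ht
  have h := Ideal.pow_mem_pow ht (k y)
  rw [← Ideal.map_pow, hk y, Ideal.map_bot, Ideal.mem_bot] at h
  exact pow_eq_zero_of_le (Finset.le_sup hyT) h

lemma exists_lift_point (x : X) : ∃ z, X.nilradical.subschemeι z = x := by
  have : x ∈ Set.range X.nilradical.subschemeι := by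
    rw [Scheme.IdealSheafData.range_subschemeι, Scheme.support_nilradical]
    trivial
  exact this

variable [IsNoetherian X] (p : ℕ) (hp : p.Prime) (hpX : (p : Γ(X, ⊤)) = 0) (e : ℕ)
  (he : ∀ y : X, ∀ t ∈ stalkIdeal X.nilradical y, t ^ p ^ e = 0)

include hp hpX he in
/-- Germs with the same image have the same power. -/
lemma pow_eq (z : X.nilradical.subscheme) (a a' : X.presheaf.stalk (X.nilradical.subschemeι z))
    (h : (X.nilradical.subschemeι.stalkMap z).hom a = (X.nilradical.subschemeι.stalkMap z).hom a') :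
    a ^ p ^ e = a' ^ p ^ e := by
  have h0 : (p : X.presheaf.stalk (X.nilradical.subschemeι z)) = 0 := by
    have := congrArg (X.presheaf.germ ⊤ (X.nilradical.subschemeι z) trivial).hom hpX
    rwa [map_natCast, map_zero] at this
  haveI : Fact p.Prime := ⟨hp⟩
  haveI : CharP (X.presheaf.stalk (X.nilradical.subschemeι z)) p :=
    ringChar.of_eq (CharP.ringChar_of_prime_eq_zero hp h0)
  have hk : a - a' ∈ RingHom.ker (X.nilradical.subschemeι.stalkMap z).hom := by
    rw [RingHom.mem_ker, map_sub, h, sub_self]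
  rw [FlatMor68.FlatInfNbhd.ker_stalkMap_closedImmersion, Scheme.IdealSheafData.ker_subschemeι] at hk
  have := he _ _ hk
  rwa [sub_pow_char_pow, sub_eq_zero] at this

/-- The characterising property of the norm. -/
def Spec' (U : X.Opens) (s : Γ(X.nilradical.subscheme, X.nilradical.subschemeι ⁻¹ᵁ U)) (b : Γ(X, U)) : Prop :=
  ∀ (z : X.nilradical.subscheme) (hz : X.nilradical.subschemeι z ∈ U)
    (a : X.presheaf.stalk (X.nilradical.subschemeι z)),
    (X.nilradical.subschemeι.stalkMap z).hom a =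
      X.nilradical.subscheme.presheaf.germ (X.nilradical.subschemeι ⁻¹ᵁ U) z hz s →
    X.presheaf.germ U (X.nilradical.subschemeι z) hz b = a ^ p ^ e

include hp hpX he in
theorem existsUnique (U : X.Opens) (s : Γ(X.nilradical.subscheme, X.nilradical.subschemeι ⁻¹ᵁ U)) :
    ∃! b, Spec' p e U s b := by
  let ι := X.nilradical.subschemeι
  have surj : ∀ (z : X.nilradical.subscheme) (r), ∃ a, (ι.stalkMap z).hom a = r := fun z r =>
    ι.stalkMap_surjective z r
  have uniq : ∀ (W : X.Opens) (hW : W ≤ U) (b b' : Γ(X, W)),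
      (∀ (z : X.nilradical.subscheme) (hz : ι z ∈ W) (a : X.presheaf.stalk (ι z)),
        (ι.stalkMap z).hom a = X.nilradical.subscheme.presheaf.germ (ι ⁻¹ᵁ U) z (hW hz) s →
          X.presheaf.germ W (ι z) hz b = a ^ p ^ e) →
      (∀ (z : X.nilradical.subscheme) (hz : ι z ∈ W) (a : X.presheaf.stalk (ι z)),
        (ι.stalkMap z).hom a = X.nilradical.subscheme.presheaf.germ (ι ⁻¹ᵁ U) z (hW hz) s →
          X.presheaf.germ W (ι z) hz b' = a ^ p ^ e) → b = b' := by
    intro W hW b b' hb hb'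
    refine TopCat.Presheaf.section_ext X.sheaf W b b' fun y hy => ?_
    obtain ⟨z, rfl⟩ := exists_lift_point y
    obtain ⟨a, ha⟩ := surj z (X.nilradical.subscheme.presheaf.germ (ι ⁻¹ᵁ U) z (hW hy) s)
    exact (hb z hy a ha).trans (hb' z hy a ha).symm
  have ex : ∀ y : U, ∃ (O : X.Opens) (_ : y.1 ∈ O) (hOU : O ≤ U) (b : Γ(X, O)),
      ∀ (z : X.nilradical.subscheme) (hz : ι z ∈ O) (a : X.presheaf.stalk (ι z)),
        (ι.stalkMap z).hom a = X.nilradical.subscheme.presheaf.germ (ι ⁻¹ᵁ U) z (hOU hz) s →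
          X.presheaf.germ O (ι z) hz b = a ^ p ^ e := by
    rintro ⟨y, hy⟩
    obtain ⟨z, rfl⟩ := exists_lift_point y
    obtain ⟨a, ha⟩ := surj z (X.nilradical.subscheme.presheaf.germ (ι ⁻¹ᵁ U) z hy s)
    obtain ⟨W, hW, a₀, rfl⟩ := X.presheaf.exists_germ_eq a
    rw [Scheme.Hom.germ_stalkMap_apply] at ha
    obtain ⟨O', hzO', i₁, i₂, hO'⟩ := X.nilradical.subscheme.presheaf.germ_eq z _ _ _ _ ha
    obtain ⟨O, hO, hOeq⟩ := ι.isEmbedding.isInducing.isOpen_iff.1 O'.2
    have hOO : (ι ⁻¹ᵁ ((⟨O, hO⟩ : X.Opens) ⊓ (W ⊓ U))) ≤ O' := fun w hw => (Set.ext_iff.1 hOeq w).1 hw.1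
    refine ⟨(⟨O, hO⟩ : X.Opens) ⊓ (W ⊓ U), ⟨(Set.ext_iff.1 hOeq z).2 hzO', hW, hy⟩,
      inf_le_right.trans inf_le_right, (X.presheaf.map (homOfLE (inf_le_right.trans inf_le_left)).op).hom a₀ ^ p ^ e,
      fun w hw a' ha' => ?_⟩
    rw [map_pow, TopCat.Presheaf.germ_res_apply]
    refine pow_eq p hp hpX e he w _ a' ?_
    rw [ha', Scheme.Hom.germ_stalkMap_apply]
    have := congrArg (X.nilradical.subscheme.presheaf.germ O' w (hOO hw)).hom hO'
    rwa [TopCat.Presheaf.germ_res_apply, TopCat.Presheaf.germ_res_apply] at this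
  choose O hyO hOU b hb using ex
  have compat : TopCat.Presheaf.IsCompatible X.sheaf.obj O b := by
    intro y y'
    refine uniq (O y ⊓ O y') (inf_le_left.trans (hOU y)) _ _ (fun z hz a ha => ?_) (fun z hz a ha => ?_)
    · exact (TopCat.Presheaf.germ_res_apply X.presheaf _ _ _ _).trans (hb y z hz.1 a ha)
    · exact (TopCat.Presheaf.germ_res_apply X.presheaf _ _ _ _).trans (hb y' z hz.2 a ha)
  obtain ⟨(c : Γ(X, U)), hc, -⟩ := X.sheaf.existsUnique_gluing' O U (fun y => homOfLE (hOU y))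
    (fun y hy => Opens.mem_iSup.2 ⟨⟨y, hy⟩, hyO ⟨y, hy⟩⟩) b compat
  have hspec : Spec' p e U s c := fun z hz a ha => by
    have h1 : X.presheaf.map (homOfLE (hOU ⟨_, hz⟩)).op c = b ⟨_, hz⟩ := hc ⟨_, hz⟩
    rw [← hb ⟨_, hz⟩ z (hyO ⟨_, hz⟩) a ha, ← h1, TopCat.Presheaf.germ_res_apply]
  exact ⟨c, hspec, fun c' hc' => uniq U le_rfl c' c hc' hspec⟩

include hp hpX he in
theorem hasNorm (hq : 1 ≤ p ^ e) : Nrm.HasNorm X.nilradical.subschemeι (p ^ e) := by
  choose N hN hN' using fun U s => existsUnique p hp hpX e he U s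
  refine ⟨{ one_le := hq
            norm := fun U => { toFun := N U, map_one' := ?_, map_mul' := fun a b => ?_ }
            norm_res := fun {U V} i s => ?_
            norm_app := fun U g => ?_
            norm_mem := fun U s x hx hm => ?_ }⟩
  · refine (hN' U 1 1 fun z hz a ha => ?_).symm
    rw [map_one] at ha
    rw [map_one, pow_eq p hp hpX e he z a 1 (by rw [ha, map_one]), one_pow]
  · refine (hN' U (a * b) _ fun z hz c hc => ?_).symm
    obtain ⟨a', ha'⟩ := X.nilradical.subschemeι.stalkMap_surjective z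
      (X.nilradical.subscheme.presheaf.germ (X.nilradical.subschemeι ⁻¹ᵁ U) z hz a)
    obtain ⟨b', hb'⟩ := X.nilradical.subschemeι.stalkMap_surjective z
      (X.nilradical.subscheme.presheaf.germ (X.nilradical.subschemeι ⁻¹ᵁ U) z hz b)
    rw [map_mul] at hc ⊢
    rw [pow_eq p hp hpX e he z c (a' * b') (by rw [hc, map_mul, ha', hb']), mul_pow]
    exact congr_arg₂ (· * ·) (hN U a z hz a' ha') (hN U b z hz b' hb')
  · refine hN' V _ _ fun z hz a ha => ?_
    rw [TopCat.Presheaf.germ_res_apply]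
    exact hN U s z (i.le hz) a (ha.trans (TopCat.Presheaf.germ_res_apply _ _ _ _ _))
  · refine (hN' U _ _ fun z hz a ha => ?_).symm
    rw [map_pow]
    exact pow_eq p hp hpX e he z _ a ((Scheme.Hom.germ_stalkMap_apply _ U z hz g).trans ha.symm)
  · obtain ⟨a, ha⟩ := X.nilradical.subschemeι.stalkMap_surjective x
      (X.nilradical.subscheme.presheaf.germ (X.nilradical.subschemeι ⁻¹ᵁ U) x hx s)
    show X.presheaf.germ U (X.nilradical.subschemeι x) hx (N U s) ∈ _
    rw [hN U s x hx a ha]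
    have hmem : a ∈ maximalIdeal (X.presheaf.stalk (X.nilradical.subschemeι x)) := by
      intro hu
      apply hm
      rw [← ha]
      exact hu.map (X.nilradical.subschemeι.stalkMap x).hom
    exact Ideal.pow_mem_of_mem _ hmem _ hq

end Groth.Agent.Div89.RedNorm
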