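import Groth.Agent.EGAProj74.AlgExtend
import Groth.Agent.EGAProj74.Exists
import Groth.Agent.EGAProj74.RelMap
import Groth.Agent.Div89.BlowRees
import Groth.Agent.MP99.Ops
import Groth.Prelude.Def_RelProj
import Groth.Prelude.Def_Rees
import Mathlib

/-! The Rees algebra of a quasi-coherent ideal and the blow-up as its relative Proj. -/

set_option autoImplicit false
set_option backward.isDefEq.respectTransparency.types false
set_option linter.style.haveILetI false

universe u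

open CategoryTheory CategoryTheory.Limits AlgebraicGeometry TopologicalSpace Opposite
open scoped HomogeneousIdeal

noncomputable section

namespace Groth.Agent.Div89.ReesRelProj

section Transfer

theorem map_toSpecZero {A B σ τ : Type u} [CommRing A] [SetLike σ A] [AddSubgroupClass σ A] [CommRing B]
    [SetLike τ B] [AddSubgroupClass τ B] {𝒜 : ℕ → σ} [GradedRing 𝒜] {ℬ : ℕ → τ} [GradedRing ℬ]
    (ψ : 𝒜 →+*ᵍ ℬ) (hψ : ℬ₊ ≤ (𝒜₊).map ψ) :
    Proj.map ψ hψ ≫ Proj.toSpecZero 𝒜 = Proj.toSpecZero ℬ ≫ Spec.map (CommRingCat.ofHom (EGAProj74.zeroHom ψ)) := by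
  have : IsIso (RelCone.domOpen ψ).ι := by
    rw [EGAProj74.domOpen_eq_top_of_le _ hψ]
    exact inferInstanceAs (IsIso (Scheme.topIso _).hom)
  rw [← cancel_epi (RelCone.domOpen ψ).ι, ← Category.assoc, EGAProj74.ι_map_eq_domMap, EGAProj74.domMap_toSpecZero]

variable {R R' : Type u} [CommRing R] [CommRing R'] (e : R ≃+* R') {σ : Type u} [SetLike σ R'] [AddSubgroupClass σ R']
  (ℬ : ℕ → σ) [GradedRing ℬ]

/-- A grading pulled back along a ring isomorphism. -/
def comapDeg (i : ℕ) : AddSubgroup R where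
  carrier := {x | e x ∈ ℬ i}
  zero_mem' := by simp [zero_mem]
  add_mem' := fun {a b} ha hb => by simp only [Set.mem_setOf_eq, map_add] at *; exact add_mem ha hb
  neg_mem' := fun {a} ha => by simp only [Set.mem_setOf_eq, map_neg] at *; exact neg_mem ha

theorem mem_comapDeg {i : ℕ} {x : R} : x ∈ comapDeg e ℬ i ↔ e x ∈ ℬ i := Iff.rfl

/-- The pieces correspond. -/
def pieceEquiv (i : ℕ) : comapDeg e ℬ i ≃+ ℬ i where
  toFun x := ⟨e x.1, x.2⟩
  invFun y := ⟨e.symm y.1, by rw [mem_comapDeg, e.apply_symm_apply]; exact y.2⟩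
  left_inv x := Subtype.ext (e.symm_apply_apply _)
  right_inv y := Subtype.ext (e.apply_symm_apply _)
  map_add' x y := Subtype.ext (map_add e _ _)

theorem isInternal_comapDeg : DirectSum.IsInternal (comapDeg e ℬ) := by
  classical
  let φ : (DirectSum ℕ fun i => comapDeg e ℬ i) ≃+ DirectSum ℕ fun i => ℬ i :=
    DFinsupp.mapRange.addEquiv (fun i => pieceEquiv e ℬ i)
  have hφ : ∀ z, e (DirectSum.coeAddMonoidHom (comapDeg e ℬ) z) = DirectSum.coeAddMonoidHom ℬ (φ z) := by
    intro z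
    induction z using DirectSum.induction_on with
    | zero => simp
    | of i x =>
      have hx : φ (DirectSum.of _ i x) = DirectSum.of (fun i => ℬ i) i (pieceEquiv e ℬ i x) :=
        DFinsupp.mapRange_single (hf := fun _ => map_zero _)
      rw [hx, DirectSum.coeAddMonoidHom_of, DirectSum.coeAddMonoidHom_of]
      rfl
    | add a b ha hb => simp only [map_add, ha, hb]
  have hb : Function.Bijective (DirectSum.coeAddMonoidHom ℬ) := DirectSum.Decomposition.isInternal ℬ
  refine ⟨fun z z' h => φ.injective (hb.1 ?_), fun x => ?_⟩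
  · rw [← hφ, ← hφ, h]
  · obtain ⟨w, hw⟩ := hb.2 (e x)
    refine ⟨φ.symm w, e.injective ?_⟩
    rw [hφ, φ.apply_symm_apply, hw]

theorem gradedMonoid_comapDeg : SetLike.GradedMonoid (comapDeg e ℬ) where
  one_mem := by rw [mem_comapDeg, map_one]; exact SetLike.one_mem_graded _
  mul_mem := fun {i j a b} ha hb => by rw [mem_comapDeg, map_mul]; exact SetLike.mul_mem_graded ha hb

/-- The graded ring. -/
@[implicit_reducible] def gradedRing_comapDeg : GradedRing (comapDeg e ℬ) :=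
  { toGradedMonoid := gradedMonoid_comapDeg e ℬ
    toDecomposition := (isInternal_comapDeg e ℬ).chooseDecomposition }

theorem exists_projIso [GradedRing (comapDeg e ℬ)] :
    ∃ φ : Proj ℬ ≅ Proj (comapDeg e ℬ), ∀ (S : CommRingCat.{u}) (ψ : S →+* comapDeg e ℬ 0) (ψ' : S →+* ℬ 0),
      (∀ s, e (ψ s : R) = (ψ' s : R')) →
      φ.hom ≫ Proj.toSpecZero (comapDeg e ℬ) ≫ Spec.map (CommRingCat.ofHom ψ) =
        Proj.toSpecZero ℬ ≫ Spec.map (CommRingCat.ofHom ψ') := by
  let f : comapDeg e ℬ →+*ᵍ ℬ := { e.toRingHom with map_mem := fun hx => hx }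
  let g : ℬ →+*ᵍ comapDeg e ℬ :=
    { e.symm.toRingHom with
      map_mem := fun {i x} hx => (mem_comapDeg e ℬ).2 ((e.apply_symm_apply x).symm ▸ hx : e (e.symm x) ∈ ℬ i) }
  have hf : ℬ₊ ≤ (comapDeg e ℬ)₊.map f := by
    rw [HomogeneousIdeal.irrelevant_le]
    intro i hi b hb
    have h : f (e.symm b) ∈ ((comapDeg e ℬ)₊.map f).toIdeal := by
      refine Ideal.mem_map_of_mem _ (HomogeneousIdeal.mem_irrelevant_of_mem _ hi ?_)
      rw [mem_comapDeg, e.apply_symm_apply]; exact hb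
    rwa [show f (e.symm b) = b from e.apply_symm_apply b] at h
  have hg : (comapDeg e ℬ)₊ ≤ ℬ₊.map g := by
    rw [HomogeneousIdeal.irrelevant_le]
    intro i hi b hb
    have h : g (e b) ∈ (ℬ₊.map g).toIdeal :=
      Ideal.mem_map_of_mem _ (HomogeneousIdeal.mem_irrelevant_of_mem _ hi hb)
    rwa [show g (e b) = b from e.symm_apply_apply b] at h
  have key : ∀ {A : Type u} {τ : Type u} [CommRing A] [SetLike τ A] [AddSubgroupClass τ A] (𝒜 : ℕ → τ)
      [GradedRing 𝒜] (k : 𝒜 →+*ᵍ 𝒜) (hk : 𝒜₊ ≤ 𝒜₊.map k), (∀ a, k a = a) → Proj.map k hk = 𝟙 _ := by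
    intro A τ _ _ _ 𝒜 _ k hk h
    have : k = .id 𝒜 := GradedRingHom.ext fun a => h a
    subst this
    exact Proj.map_id
  refine ⟨⟨Proj.map f hf, Proj.map g hg, ?_, ?_⟩, fun S ψ ψ' hψ => ?_⟩
  · rw [← Proj.map_comp g f hg hf]
    exact key _ _ _ fun a => e.apply_symm_apply a
  · rw [← Proj.map_comp f g hf hg]
    exact key _ _ _ fun a => e.symm_apply_apply a
  · show Proj.map f hf ≫ _ = _
    rw [← Category.assoc, map_toSpecZero f hf, Category.assoc, ← Spec.map_comp]
    congr 2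
    ext s
    exact hψ s

end Transfer

variable {X : Scheme.{u}} (𝓘 : X.IdealSheafData)

/-- The ideal on an affine open. -/
abbrev idl (U : X.AffineZariskiSite) : Ideal Γ(X, U.1) := 𝓘.ideal ⟨U.1, U.2⟩

/-- Restriction of functions. -/
abbrev rs {U V : X.Opens} (h : V ≤ U) : Γ(X, U) →+* Γ(X, V) := (X.presheaf.map (homOfLE h).op).hom

theorem map_idl {U V : X.AffineZariskiSite} (h : V.1 ≤ U.1) : (idl 𝓘 U).map (rs h) = idl 𝓘 V :=
  𝓘.map_ideal (U := ⟨V.1, V.2⟩) (V := ⟨U.1, U.2⟩) h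

theorem rees_map_mem {U V : X.AffineZariskiSite} (h : V.1 ≤ U.1) {p : Polynomial Γ(X, U.1)}
    (hp : p ∈ reesAlgebra (idl 𝓘 U)) : p.map (rs h) ∈ reesAlgebra (idl 𝓘 V) := by
  rw [mem_reesAlgebra_iff] at hp ⊢
  intro i
  rw [Polynomial.coeff_map, ← map_idl 𝓘 h, ← Ideal.map_pow]
  exact Ideal.mem_map_of_mem _ (hp i)

/-- Restriction of Rees algebras. -/
def reesRes {U V : X.AffineZariskiSite} (h : V.1 ≤ U.1) :
    reesAlgebra (idl 𝓘 U) →+* reesAlgebra (idl 𝓘 V) where
  toFun p := ⟨p.1.map (rs h), rees_map_mem 𝓘 h p.2⟩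
  map_one' := Subtype.ext (Polynomial.map_one _)
  map_zero' := Subtype.ext (Polynomial.map_zero _)
  map_add' p q := Subtype.ext (Polynomial.map_add _)
  map_mul' p q := Subtype.ext (Polynomial.map_mul _)

theorem reesRes_coe {U V : X.AffineZariskiSite} (h : V.1 ≤ U.1) (p : reesAlgebra (idl 𝓘 U)) :
    (reesRes 𝓘 h p : Polynomial Γ(X, V.1)) = p.1.map (rs h) := rfl

theorem isLocalization_reesRes (U : X.AffineZariskiSite) (f : Γ(X, U.1)) :
    letI := (reesRes 𝓘 (U := U) (V := U.basicOpen f) (X.basicOpen_le f)).toAlgebra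
    IsLocalization.Away (algebraMap Γ(X, U.1) (reesAlgebra (idl 𝓘 U)) f)
      (reesAlgebra (idl 𝓘 (U.basicOpen f))) := by
  classical
  let h : (U.basicOpen f).1 ≤ U.1 := X.basicOpen_le f
  letI := (reesRes 𝓘 h).toAlgebra
  letI : Algebra Γ(X, U.1) Γ(X, (U.basicOpen f).1) := (rs h).toAlgebra
  haveI : IsLocalization.Away f Γ(X, (U.basicOpen f).1) := U.2.isLocalization_basicOpen f
  let c := algebraMap Γ(X, U.1) (reesAlgebra (idl 𝓘 U)) f
  have hc : ∀ k : ℕ, (reesRes 𝓘 h (c ^ k) : Polynomial Γ(X, (U.basicOpen f).1)) = Polynomial.C (rs h (f ^ k)) := by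
    intro k
    rw [map_pow, map_pow, SubmonoidClass.coe_pow, map_pow]
    exact congrArg (· ^ k) (Polynomial.map_C (rs h))
  constructor; constructor
  · rintro ⟨_, k, rfl⟩
    rw [map_pow]
    refine IsUnit.pow k ?_
    obtain ⟨b, hb⟩ := (IsLocalization.Away.algebraMap_isUnit (S := Γ(X, (U.basicOpen f).1)) f).exists_right_inv
    refine IsUnit.of_mul_eq_one (algebraMap Γ(X, (U.basicOpen f).1) (reesAlgebra (idl 𝓘 (U.basicOpen f))) b) ?_
    refine Subtype.ext ?_
    show (Polynomial.C f).map (rs h) * Polynomial.C b = 1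
    rw [Polynomial.map_C, ← map_mul, show rs h f * b = 1 from hb, map_one]
  · intro z
    suffices ∃ (k : ℕ) (p : reesAlgebra (idl 𝓘 U)), z * reesRes 𝓘 h (c ^ k) = reesRes 𝓘 h p by
      obtain ⟨k, p, hkp⟩ := this
      exact ⟨⟨p, ⟨c ^ k, k, rfl⟩⟩, hkp⟩
    have hmon : ∀ i : ℕ, ∃ (k : ℕ) (p : reesAlgebra (idl 𝓘 U)),
        Polynomial.monomial i (z.1.coeff i) * Polynomial.C (rs h (f ^ k)) = p.1.map (rs h) := by
      intro i
      have hz : z.1.coeff i ∈ ((idl 𝓘 U) ^ i).map (rs h) := by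
        rw [Ideal.map_pow, map_idl 𝓘 h]
        exact (mem_reesAlgebra_iff _ _).1 z.2 i
      obtain ⟨⟨a, s⟩, hs⟩ := (IsLocalization.mem_map_algebraMap_iff (Submonoid.powers f)
        Γ(X, (U.basicOpen f).1)).1 hz
      obtain ⟨k, hk⟩ := s.2
      refine ⟨k, ⟨Polynomial.monomial i a.1, reesAlgebra.monomial_mem.2 a.2⟩, ?_⟩
      rw [Polynomial.monomial_mul_C, Polynomial.map_monomial,
        show f ^ k = (s : Γ(X, U.1)) from hk]
      exact congrArg _ hs
    choose k p hkp using hmon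
    let K := z.1.support.sup k
    refine ⟨K, ∑ i ∈ z.1.support, p i * c ^ (K - k i), Subtype.ext ?_⟩
    rw [Subalgebra.coe_mul, hc]
    conv_lhs => rw [z.1.as_sum_support, Finset.sum_mul]
    rw [reesRes_coe, AddSubmonoidClass.coe_finset_sum, Polynomial.map_sum]
    refine Finset.sum_congr rfl fun i hi => ?_
    rw [Subalgebra.coe_mul, Polynomial.map_mul, ← hkp i, ← reesRes_coe 𝓘 h (c ^ (K - k i)), hc, mul_assoc,
      ← map_mul, ← map_mul, ← pow_add, Nat.add_sub_cancel' (Finset.le_sup (f := k) hi)]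
  · intro p q hpq
    have hi : ∀ i, ∃ k : ℕ, f ^ k * p.1.coeff i = f ^ k * q.1.coeff i := by
      intro i
      have h1 := congrArg (fun r : reesAlgebra (idl 𝓘 (U.basicOpen f)) => r.1.coeff i) hpq
      simp only [RingHom.algebraMap_toAlgebra, reesRes_coe, Polynomial.coeff_map] at h1
      obtain ⟨⟨_, k, rfl⟩, hk⟩ := IsLocalization.exists_of_eq (M := Submonoid.powers f)
        (S := Γ(X, (U.basicOpen f).1)) h1
      exact ⟨k, hk⟩
    choose k hk using hi
    let K := (p.1.support ∪ q.1.support).sup k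
    refine ⟨⟨c ^ K, K, rfl⟩, Subtype.ext (Polynomial.ext fun i => ?_)⟩
    have e : ∀ r : reesAlgebra (idl 𝓘 U), ((c ^ K * r : reesAlgebra (idl 𝓘 U)) : Polynomial Γ(X, U.1)).coeff i =
        f ^ K * r.1.coeff i := fun r => by
      rw [Subalgebra.coe_mul, SubmonoidClass.coe_pow]
      show (Polynomial.C f ^ K * r.1).coeff i = _
      rw [← map_pow, Polynomial.coeff_C_mul]
    show ((c ^ K * p : reesAlgebra (idl 𝓘 U)) : Polynomial Γ(X, U.1)).coeff i =
      ((c ^ K * q : reesAlgebra (idl 𝓘 U)) : Polynomial Γ(X, U.1)).coeff i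
    rw [e, e]
    by_cases hm : i ∈ p.1.support ∪ q.1.support
    · rw [← Nat.sub_add_cancel (show k i ≤ K from Finset.le_sup (f := k) hm), pow_add, mul_assoc, mul_assoc, hk i]
    · simp only [Finset.mem_union, Polynomial.mem_support_iff, not_or, not_not] at hm
      rw [hm.1, hm.2]

/-- The Rees algebras on affine opens. -/
def data : EGAProj74.AffAlgData X where
  F :=
    { obj := fun U => CommRingCat.of (reesAlgebra (idl 𝓘 U.unop))
      map := fun {U V} i => CommRingCat.ofHom (reesRes 𝓘 (Scheme.AffineZariskiSite.toOpens_mono i.unop.le))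
      map_id := fun U => CommRingCat.hom_ext (RingHom.ext fun p => Subtype.ext (Polynomial.ext fun n => by
        show (p.1.map (rs _)).coeff n = p.1.coeff n
        rw [Polynomial.coeff_map]
        exact congr(CommRingCat.Hom.hom $(X.presheaf.map_id (op U.unop.1)) (p.1.coeff n))))
      map_comp := fun {U V W} i j => CommRingCat.hom_ext (RingHom.ext fun p => Subtype.ext (Polynomial.ext fun n => by
        show (p.1.map (rs _)).coeff n = ((p.1.map (rs _)).map (rs _)).coeff n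
        rw [Polynomial.coeff_map, Polynomial.coeff_map, Polynomial.coeff_map]
        exact congr(CommRingCat.Hom.hom $(X.presheaf.map_comp
          (homOfLE (Scheme.AffineZariskiSite.toOpens_mono i.unop.le)).op
          (homOfLE (Scheme.AffineZariskiSite.toOpens_mono j.unop.le)).op) (p.1.coeff n)))) }
  α :=
    { app := fun U => CommRingCat.ofHom (algebraMap Γ(X, U.unop.1) (reesAlgebra (idl 𝓘 U.unop)))
      naturality := fun U V i => CommRingCat.hom_ext (RingHom.ext fun a => Subtype.ext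
        (Polynomial.map_C (rs (Scheme.AffineZariskiSite.toOpens_mono i.unop.le))).symm) }
  coeq := Scheme.AffineZariskiSite.coequifibered_iff_forall_isLocalizationAway.2
    fun U f => isLocalization_reesRes 𝓘 U f

/-- Sections over an affine open. -/
def secEquiv (U : X.AffineZariskiSite) : (data 𝓘).alg.presheaf.obj (op U.1) ≃+* reesAlgebra (idl 𝓘 U) :=
  (asIso ((data 𝓘).gamma U)).commRingCatIsoToRingEquiv

theorem secEquiv_str (U : X.AffineZariskiSite) (r : Γ(X, U.1)) :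
    secEquiv 𝓘 U (((data 𝓘).alg.str.app (op U.1)).hom r) = algebraMap _ _ r :=
  congr($((data 𝓘).str_gamma U).hom r)

theorem secEquiv_res {U V : X.AffineZariskiSite} (i : V ≤ U) (x : (data 𝓘).alg.presheaf.obj (op U.1)) :
    secEquiv 𝓘 V (((data 𝓘).alg.presheaf.map (homOfLE (Scheme.AffineZariskiSite.toOpens_mono i)).op).hom x) =
      reesRes 𝓘 (Scheme.AffineZariskiSite.toOpens_mono i) (secEquiv 𝓘 U x) :=
  congr($((data 𝓘).gamma_res (homOfLE i)).hom x)

theorem res_mem_deg {U V : X.AffineZariskiSite} (h : V.1 ≤ U.1) {d : ℕ} {p : reesAlgebra (idl 𝓘 U)}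
    (hp : p ∈ Rees.deg (reesAlgebra (idl 𝓘 U)) d) : reesRes 𝓘 h p ∈ Rees.deg (reesAlgebra (idl 𝓘 V)) d := by
  intro m hm
  show (p.1.map (rs h)).coeff m = 0
  rw [Polynomial.coeff_map, hp m hm, map_zero]

theorem reesRes_reesRes {U V W : X.AffineZariskiSite} (h : V.1 ≤ U.1) (h' : W.1 ≤ V.1) (p : reesAlgebra (idl 𝓘 U)) :
    reesRes 𝓘 h' (reesRes 𝓘 h p) = reesRes 𝓘 (h'.trans h) p := by
  refine Subtype.ext (Polynomial.ext fun n => ?_)
  rw [reesRes_coe, reesRes_coe, reesRes_coe, Polynomial.coeff_map, Polynomial.coeff_map, Polynomial.coeff_map]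
  exact (congr(CommRingCat.Hom.hom $(X.presheaf.map_comp (homOfLE h).op (homOfLE h').op) (p.1.coeff n))).symm

/-- Compatibility with every inclusion of affine opens. -/
theorem secEquiv_res_of_le {U V : X.AffineZariskiSite} (h : V.1 ≤ U.1) (x : (data 𝓘).alg.presheaf.obj (op U.1)) :
    secEquiv 𝓘 V (((data 𝓘).alg.presheaf.map (homOfLE h).op).hom x) = reesRes 𝓘 h (secEquiv 𝓘 U x) := by
  have hW : ∀ z : V.1, ∃ W : X.AffineZariskiSite, z.1 ∈ W.1 ∧ W ≤ U ∧ W ≤ V := by
    rintro ⟨z, hz⟩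
    obtain ⟨f, g, hfg, hzf⟩ := exists_basicOpen_le_affine_inter U.2 V.2 z ⟨h hz, hz⟩
    refine ⟨U.basicOpen f, hzf, U.basicOpen_le f, ?_⟩
    have e : U.basicOpen f = V.basicOpen g := Subtype.ext hfg
    rw [e]; exact V.basicOpen_le g
  choose W hzW hWU hWV using hW
  refine Subtype.ext (Polynomial.ext fun n => ?_)
  refine TopCat.Sheaf.eq_of_locally_eq' X.sheaf (fun z => (W z).1) V.1
    (fun z => homOfLE (Scheme.AffineZariskiSite.toOpens_mono (hWV z)))
    (fun z hz => Opens.mem_iSup.2 ⟨⟨z, hz⟩, hzW ⟨z, hz⟩⟩) _ _ fun z => ?_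
  have h1 := secEquiv_res 𝓘 (hWV z) (((data 𝓘).alg.presheaf.map (homOfLE h).op).hom x)
  have h2 := secEquiv_res 𝓘 (hWU z) x
  have h3 : ((data 𝓘).alg.presheaf.map (homOfLE (Scheme.AffineZariskiSite.toOpens_mono (hWV z))).op).hom
      (((data 𝓘).alg.presheaf.map (homOfLE h).op).hom x) =
      ((data 𝓘).alg.presheaf.map (homOfLE (Scheme.AffineZariskiSite.toOpens_mono (hWU z))).op).hom x :=
    (congr(CommRingCat.Hom.hom $((data 𝓘).alg.presheaf.map_comp (homOfLE h).op
      (homOfLE (Scheme.AffineZariskiSite.toOpens_mono (hWV z))).op) x)).symm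
  rw [h3, h2, ← reesRes_reesRes 𝓘 h (Scheme.AffineZariskiSite.toOpens_mono (hWV z))] at h1
  have h4 := congrArg (fun r : reesAlgebra (idl 𝓘 (W z)) => r.1.coeff n) h1
  simp only [reesRes_coe, Polynomial.coeff_map] at h4
  rw [reesRes_coe, Polynomial.coeff_map]
  exact h4.symm

/-- The graded Rees algebra sheaf. -/
def grAlg : RelProj.QCGrAlg X where
  toQCAlg := (data 𝓘).alg
  deg U hU := comapDeg (secEquiv 𝓘 ⟨U, hU⟩) (Rees.deg (reesAlgebra (idl 𝓘 ⟨U, hU⟩)))
  graded U hU := gradedRing_comapDeg _ _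
  map_mem := fun {U V} hU hV i {d x} hx => by
    rw [mem_comapDeg] at hx ⊢
    rw [secEquiv_res_of_le 𝓘 (U := ⟨U, hU⟩) (V := ⟨V, hV⟩) i]
    exact res_mem_deg 𝓘 _ hx
  str_mem U hU r := by
    rw [mem_comapDeg, secEquiv_str 𝓘 ⟨U, hU⟩]
    intro m hm
    show (algebraMap Γ(X, U) (Polynomial Γ(X, U)) r).coeff m = 0
    rw [Polynomial.algebraMap_eq, Polynomial.coeff_C, if_neg (show ¬ m = 0 from hm)]

section Abstract

variable {A R : Type u} [CommRing A] [CommRing R] {I : Ideal A} (e : R ≃+* reesAlgebra I) (st : A →+* R)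
  (hst : ∀ a, e (st a) = algebraMap A (reesAlgebra I) a)

omit [CommRing R] in
theorem subring_eq_top (T : Subring (reesAlgebra I))
    (h1 : ∀ (a : A) (ha : Polynomial.monomial 1 a ∈ reesAlgebra I), (⟨Polynomial.monomial 1 a, ha⟩ : reesAlgebra I) ∈ T)
    (h0 : ∀ a : A, algebraMap A (reesAlgebra I) a ∈ T) (x : reesAlgebra I) : x ∈ T := by
  let S : Subalgebra A (reesAlgebra I) := { T with algebraMap_mem' := h0 }
  let Q : Subalgebra A (Polynomial A) := S.map (reesAlgebra I).val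
  have hQ : reesAlgebra I ≤ Q := by
    conv_lhs => rw [← adjoin_monomial_eq_reesAlgebra I]
    refine Algebra.adjoin_le ?_
    rintro _ ⟨a, ha, rfl⟩
    exact ⟨⟨Polynomial.monomial 1 a, reesAlgebra.monomial_mem.2 (by rwa [pow_one])⟩, h1 a _, rfl⟩
  obtain ⟨y, hy, hyx⟩ := hQ x.2
  exact (Subtype.ext hyx : y = x) ▸ hy

theorem closure_deg_eq_top :
    Subring.closure ((comapDeg e (Rees.deg (reesAlgebra I)) 0 : Set R) ∪
      (comapDeg e (Rees.deg (reesAlgebra I)) 1 : Set R)) = ⊤ := by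
  refine top_unique fun x _ => ?_
  obtain ⟨p, rfl⟩ := e.symm.surjective x
  refine subring_eq_top ((Subring.closure _).comap e.symm.toRingHom) (fun a ha => ?_) (fun a => ?_) p
  · refine Subring.subset_closure (Or.inr ((mem_comapDeg e _).2 ?_))
    rw [show e (e.symm.toRingHom ⟨Polynomial.monomial 1 a, ha⟩) = ⟨Polynomial.monomial 1 a, ha⟩ from e.apply_symm_apply _]
    intro m hm1
    show (Polynomial.monomial 1 a).coeff m = 0
    rw [Polynomial.coeff_monomial]; exact if_neg fun h => hm1 h.symm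
  · refine Subring.subset_closure (Or.inl ((mem_comapDeg e _).2 ?_))
    rw [show e (e.symm.toRingHom (algebraMap A (reesAlgebra I) a)) = algebraMap A (reesAlgebra I) a from e.apply_symm_apply _]
    intro m hm0
    show (algebraMap A (Polynomial A) a).coeff m = 0
    rw [Polynomial.algebraMap_eq, Polynomial.coeff_C, if_neg (show ¬ m = 0 from hm0)]

include hst in
theorem exists_gen_deg_one (hI : I.FG) : ∃ S : Finset R, (↑S : Set R) ⊆ (comapDeg e (Rees.deg (reesAlgebra I)) 1 : Set R) ∧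
    ∀ x ∈ comapDeg e (Rees.deg (reesAlgebra I)) 1, ∃ c : R → A, x = ∑ t ∈ S, st (c t) * t := by
  classical
  obtain ⟨T, hT⟩ := hI
  have hTI : ∀ a : T, a.1 ∈ I := fun a => hT.le (Submodule.subset_span a.2)
  let gen : T → R := fun a =>
    e.symm ⟨Polynomial.monomial 1 a.1, reesAlgebra.monomial_mem.2 (by rw [pow_one]; exact hTI a)⟩
  have hinj : Function.Injective gen := fun a b hab => Subtype.ext (by
    have := congrArg (fun r : reesAlgebra I => r.1.coeff 1) (e.symm.injective hab)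
    simpa using this)
  refine ⟨T.attach.image gen, ?_, fun x hx => ?_⟩
  · intro y hy
    obtain ⟨a, -, rfl⟩ := Finset.mem_image.1 (Finset.mem_coe.1 hy)
    refine (mem_comapDeg e _).2 ?_
    simp only [gen, e.apply_symm_apply]
    intro m hm1
    show (Polynomial.monomial 1 a.1).coeff m = 0
    rw [Polynomial.coeff_monomial]; exact if_neg fun h => hm1 h.symm
  · rw [mem_comapDeg] at hx
    have hc1 : (e x).1.coeff 1 ∈ I := by simpa using (mem_reesAlgebra_iff _ _).1 (e x).2 1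
    obtain ⟨c, -, hc⟩ := Submodule.mem_span_finset.1 (hT.ge hc1)
    refine ⟨fun y => c ((e y).1.coeff 1), e.injective ?_⟩
    rw [map_sum, Finset.sum_image (fun a _ b _ h => hinj h)]
    refine Subtype.ext (Polynomial.ext fun m => ?_)
    rw [AddSubmonoidClass.coe_finset_sum, Polynomial.finsetSum_coeff]
    have key : ∀ a : T, (e (st (c ((e (gen a)).1.coeff 1)) * gen a) : Polynomial A) =
        Polynomial.monomial 1 (c a.1 * a.1) := fun a => by
      rw [map_mul, hst]
      simp only [gen, e.apply_symm_apply, Polynomial.coeff_monomial_same, Subalgebra.coe_mul]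
      show Polynomial.C (c a.1) * Polynomial.monomial 1 a.1 = _
      rw [Polynomial.C_mul_monomial]
    rw [Finset.sum_congr rfl fun a _ => congrArg (fun q => q.coeff m) (key a)]
    simp only [Polynomial.coeff_monomial]
    by_cases hm : 1 = m
    · subst hm
      simp only [if_true]
      rw [Finset.sum_attach T (fun a => c a * a)]
      rw [← hc]
      rfl
    · simp only [if_neg hm, Finset.sum_const_zero]
      exact hx m (fun h => hm h.symm)

include hst in
theorem exists_str_iso [GradedRing (comapDeg e (Rees.deg (reesAlgebra I)))]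
    (ψ : A →+* comapDeg e (Rees.deg (reesAlgebra I)) 0) (hψ : ∀ a, (ψ a : R) = st a) :
    ∃ φ : Proj (Rees.deg (reesAlgebra I)) ≅ Proj (comapDeg e (Rees.deg (reesAlgebra I))),
      Proj.toSpecZero (comapDeg e (Rees.deg (reesAlgebra I))) ≫ Spec.map (CommRingCat.ofHom ψ) =
        φ.inv ≫ ReesChart.str I := by
  obtain ⟨φ, hφ⟩ := exists_projIso e (Rees.deg (reesAlgebra I))
  refine ⟨φ, ?_⟩
  rw [Iso.eq_inv_comp]
  exact hφ (CommRingCat.of A) ψ (algebraMap A (Rees.deg (reesAlgebra I) 0)) fun a => by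
    rw [hψ, hst]
    rfl

end Abstract

theorem isGenDegOne : (grAlg 𝓘).IsGenDegOne := fun U hU => closure_deg_eq_top (secEquiv 𝓘 ⟨U, hU⟩)

theorem isFTDeg_one (hI : BlowUp.IsFiniteTypeIdeal 𝓘) : (grAlg 𝓘).IsFTDeg 1 := fun U hU =>
  exists_gen_deg_one (secEquiv 𝓘 ⟨U, hU⟩) ((data 𝓘).alg.str.app (op U)).hom (secEquiv_str 𝓘 ⟨U, hU⟩)
    (hI ⟨U, hU⟩)

/-- Over an affine open, a relative Proj of the Rees algebra is the blow-up. -/
theorem exists_chart {P : Scheme.{u}} {p : P ⟶ X}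
    {chart : ∀ (U : X.Opens) (hU : IsAffineOpen U), (((p ⁻¹ᵁ U : P.Opens) : Scheme.{u}) ≅ Proj ((grAlg 𝓘).deg U hU))}
    (hp : RelProj.IsRelProj (grAlg 𝓘) p chart) (U : X.AffineZariskiSite) :
    ∃ φ : (p ⁻¹ᵁ U.1).toScheme ≅ Proj (Rees.deg (reesAlgebra (idl 𝓘 U))),
      φ.hom ≫ ReesChart.str (idl 𝓘 U) ≫ U.2.fromSpec = (p ⁻¹ᵁ U.1).ι ≫ p := by
  obtain ⟨U, hU⟩ := U
  obtain ⟨φ, hφ⟩ := @exists_str_iso _ _ _ _ _ (secEquiv 𝓘 ⟨U, hU⟩) ((data 𝓘).alg.str.app (op U)).hom
    (secEquiv_str 𝓘 ⟨U, hU⟩) ((grAlg 𝓘).graded U hU) ((grAlg 𝓘).strZero U hU).hom (fun _ => rfl)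
  refine ⟨chart U hU ≪≫ φ.symm, ?_⟩
  refine Eq.trans ?_ (hp.chart_over U hU)
  exact (Category.assoc _ _ _).trans (congrArg ((chart U hU).hom ≫ ·)
    ((Category.assoc _ _ _).symm.trans ((congrArg (· ≫ hU.fromSpec) hφ.symm).trans (Category.assoc _ _ _))))

end Groth.Agent.Div89.ReesRelProj
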