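import Groth.Prelude.Def_Mor2
import Groth.Agent.Div89.SectionChart
import Groth.Agent.S2886

/-!
Composites and lifts of regular closed immersions.
-/

set_option autoImplicit false
set_option linter.style.haveILetI false
set_option backward.isDefEq.respectTransparency.types false

universe u

open CategoryTheory CategoryTheory.Limits AlgebraicGeometry TopologicalSpace RingTheory.Sequence

namespace Groth.Agent.Div89.RegComp

theorem exists_append {R A : Type u} [CommRing R] [CommRing A] (φ : R →+* A) (hφ : Function.Surjective φ)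
    (rs : List R) (hker : RingHom.ker φ = Ideal.ofList rs) (hrs : IsWeaklyRegular R rs)
    (ss : List A) (hss : IsWeaklyRegular A ss) :
    ∃ ts : List R, IsWeaklyRegular R (rs ++ ts) ∧ Ideal.ofList (rs ++ ts) = (Ideal.ofList ss).comap φ := by
  obtain ⟨ts, rfl⟩ : ∃ ts : List R, ts.map φ = ss :=
    ⟨ss.map (Function.surjInv hφ), by
      rw [List.map_map, show φ ∘ Function.surjInv hφ = id from funext (Function.surjInv_eq hφ), List.map_id]⟩
  letI := φ.toAlgebra
  refine ⟨ts, (isWeaklyRegular_append_iff R rs ts).2 ⟨hrs, ?_⟩, ?_⟩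
  · let e : (R ⧸ (Ideal.ofList rs • ⊤ : Submodule R R)) ≃ₗ[R] A :=
      (Submodule.quotEquivOfEq _ (LinearMap.ker (Algebra.linearMap R A)) (by
        rw [smul_eq_mul, Ideal.mul_top, ← hker]; rfl)).trans
        ((Algebra.linearMap R A).quotKerEquivOfSurjective hφ)
    exact (e.isWeaklyRegular_congr ts).2 ((isWeaklyRegular_map_algebraMap_iff A A ts).1 hss)
  · rw [Ideal.ofList_append, ← hker, ← Ideal.map_ofList, Ideal.comap_map_of_surjective _ hφ, sup_comm]
    rfl

variable {Z Y X : Scheme.{u}}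

theorem flat_res {U V : X.Opens} (hU : IsAffineOpen U) (hV : IsAffineOpen V) (h : V ≤ U) :
    (X.presheaf.map (homOfLE h).op).hom.Flat := by
  have := Scheme.Hom.flat_appLE (𝟙 X) hU hV h
  simp only [Scheme.Hom.appLE, Scheme.Hom.id_app] at this
  exact (Category.id_comp (X.presheaf.map (homOfLE h).op)) ▸ this

/-- Composite of regular closed immersions. -/
theorem isRegularClosedImmersion_comp (i : Z ⟶ Y) (j : Y ⟶ X) (hi : Mor2.IsRegularClosedImmersion i)
    (hj : Mor2.IsRegularClosedImmersion j) : Mor2.IsRegularClosedImmersion (i ≫ j) := by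
  haveI := hi.1
  haveI := hj.1
  refine ⟨inferInstance, fun z => ?_⟩
  obtain ⟨W, hW, hzW, rs, hrs, hkerW⟩ := hj.2 (i z)
  obtain ⟨U, hU, hzU, ss, hss, hkerU⟩ := hi.2 z
  let O : X.Opens := W ⊓ ⟨(j '' (U : Set Y)ᶜ)ᶜ,
    (j.isClosedEmbedding.isClosedMap _ U.isOpen.isClosed_compl).isOpen_compl⟩
  have hzO : (i ≫ j) z ∈ O := ⟨hzW, fun ⟨y, hy, hyz⟩ => hy (by rw [j.isClosedEmbedding.injective hyz]; exact hzU)⟩
  obtain ⟨_, ⟨D, hD, rfl⟩, hzD, hDO⟩ := X.isBasis_affineOpens.exists_subset_of_mem_open hzO O.isOpen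
  have hDW : D ≤ W := fun x hx => (hDO hx).1
  have hDU : j ⁻¹ᵁ D ≤ U := fun y hy => by
    by_contra h
    exact (hDO hy).2 ⟨y, h, rfl⟩
  have hE : IsAffineOpen (j ⁻¹ᵁ D) := hD.preimage j
  let _ := (X.presheaf.map (homOfLE hDW).op).hom.toAlgebra
  let _ := (Y.presheaf.map (homOfLE hDU).op).hom.toAlgebra
  haveI : Module.Flat Γ(X, W) Γ(X, D) := flat_res hW hD hDW
  haveI : Module.Flat Γ(Y, U) Γ(Y, j ⁻¹ᵁ D) := flat_res hU hE hDU
  have hkD : RingHom.ker (j.app D).hom = Ideal.ofList (rs.map (algebraMap Γ(X, W) Γ(X, D))) := by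
    rw [← j.ker_apply ⟨D, hD⟩, ← j.ker.map_ideal (U := ⟨D, hD⟩) (V := ⟨W, hW⟩) hDW, hkerW, Ideal.map_ofList]
    rfl
  have hkE : RingHom.ker (i.app (j ⁻¹ᵁ D)).hom = Ideal.ofList (ss.map (algebraMap Γ(Y, U) Γ(Y, j ⁻¹ᵁ D))) := by
    rw [← i.ker_apply ⟨_, hE⟩, ← i.ker.map_ideal (U := ⟨_, hE⟩) (V := ⟨U, hU⟩) hDU, hkerU, Ideal.map_ofList]
    rfl
  obtain ⟨ts, hts, heq⟩ := exists_append (j.app D).hom (j.app_surjective D hD) _ hkD
    hrs.toIsWeaklyRegular.of_flat _ hss.toIsWeaklyRegular.of_flat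
  have hker : RingHom.ker ((i ≫ j).app D).hom = Ideal.ofList (rs.map (algebraMap Γ(X, W) Γ(X, D)) ++ ts) := by
    rw [heq, ← hkE, Scheme.Hom.comp_app]
    exact (RingHom.comap_ker _ _).symm
  refine ⟨D, hD, hzD, _, ⟨hts, fun ht => ?_⟩, ((i ≫ j).ker_apply ⟨D, hD⟩).trans hker⟩
  rw [smul_eq_mul, Ideal.mul_top] at ht
  have h1 : (1 : Γ(X, D)) ∈ RingHom.ker ((i ≫ j).app D).hom := by rw [hker, ← ht]; trivial
  rw [RingHom.mem_ker, map_one] at h1
  have h2 := congrArg (Z.presheaf.germ ((i ≫ j) ⁻¹ᵁ D) z hzD).hom h1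
  rw [map_one, map_zero] at h2
  exact one_ne_zero h2

/-- A lift of a regular closed immersion to a smooth scheme is regular. -/
theorem isRegularClosedImmersion_lift {S : Scheme.{u}} (p : X ⟶ S) [Smooth p] (i : Y ⟶ X) (j : Y ⟶ S)
    [IsClosedImmersion i] [IsClosedImmersion j] (h : i ≫ p = j) (hj : Mor2.IsRegularClosedImmersion j) :
    Mor2.IsRegularClosedImmersion i := by
  let σ : Y ⟶ pullback j p := pullback.lift (𝟙 Y) i (by rw [Category.id_comp, h])
  have hσ : σ ≫ pullback.fst j p = 𝟙 Y := pullback.lift_fst _ _ _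
  have hσ' : σ ≫ pullback.snd j p = i := pullback.lift_snd _ _ _
  haveI : IsClosedImmersion (σ ≫ pullback.snd j p) := by rw [hσ']; infer_instance
  haveI : IsClosedImmersion σ := IsClosedImmersion.of_comp σ (pullback.snd j p)
  rw [← hσ']
  exact isRegularClosedImmersion_comp σ _
    (SectionReg.isRegularClosedImmersion_section (pullback.fst j p) σ hσ) (S2886.result j p hj)

end Groth.Agent.Div89.RegComp
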