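import Groth.Agent.Div89.RelH1Stage
import Groth.Agent.Div89.KoszulH1
import Groth.Agent.CAlg9.TransRegImm

/-!
Relative `H_1`-regular immersions into schemes of finite presentation: flatness nearby, regularity.
-/

set_option autoImplicit false
set_option linter.style.haveILetI false
set_option backward.isDefEq.respectTransparency.types false

universe u

open CategoryTheory CategoryTheory.Limits AlgebraicGeometry TopologicalSpace RegImm

namespace Groth.Agent.Div89.RelH1

variable {Z X S : Scheme.{u}}

/-- A relatively `H_1`-regular immersion is relatively quasi-regular. -/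
theorem quasi_of_h1 (f : X ⟶ S) (i : Z ⟶ X) (hi : IsRelRegularImmersion .h1 f i) :
    IsRelRegularImmersion .quasi f i := by
  refine ⟨⟨hi.1.1, fun z => ?_⟩, hi.2⟩
  obtain ⟨U, hz, hcl, rs, hrs, hker⟩ := hi.1.2 z
  exact ⟨U, hz, hcl, rs, (seq_implications rs).2.2 hrs, hker⟩

/-- Finitely presented morphisms are flat along relatively `H_1`-regular immersions. -/
theorem flat_stalkMap (f : X ⟶ S) [LocallyOfFinitePresentation f] (i : Z ⟶ X)
    (hi : IsRelRegularImmersion .h1 f i) (z : Z) : (f.stalkMap (i z)).hom.Flat := by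
  obtain ⟨T, U, e, hT, hU, hz, hcl, rs, hrs, hker, hfl⟩ := RelQuasi.exists_chart f i (Or.inr rfl) hi z
  letI := (f.appLE T U e).hom.toAlgebra
  haveI : Algebra.FinitePresentation Γ(S, T) Γ(X, U) := f.finitePresentation_appLE hT hU e
  exact (FlatMor66.flat_stalkMap_iff_localization f hT hU e hz).2
    (flat_localization hrs hfl _ (hker.symm.trans_le (RelQuasi.ker_le_primeIdealOf i hU hz)))

/-- A relatively `H_1`-regular immersion into a finitely presented scheme is regular. -/
theorem regular (f : X ⟶ S) [LocallyOfFinitePresentation f] (i : Z ⟶ X)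
    (hi : IsRelRegularImmersion .h1 f i) : IsRegularImmersion .regular i :=
  ⟨hi.1.1, fun z => RelQuasi.regularAt_of_flat f i (quasi_of_h1 f i hi) z (flat_stalkMap f i hi z)⟩

/-- Finitely presented morphisms are flat near relatively `H_1`-regular immersions. -/
theorem exists_flat_nhd (f : X ⟶ S) [LocallyOfFinitePresentation f] (i : Z ⟶ X)
    (hi : IsRelRegularImmersion .h1 f i) :
    ∃ U : X.Opens, Set.range (fun z : ↥Z => i z) ⊆ (U : Set ↥X) ∧ Flat (U.ι ≫ f) := by
  let U : X.Opens := ⟨{x | (f.stalkMap x).hom.Flat}, isOpen_iff_forall_mem_open.2 fun x hx => by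
    obtain ⟨W, hxW, hW⟩ := (CAlg9.TransRegImm.exists_flat_open f x).2 hx
    exact ⟨W, fun y hy => (CAlg9.TransRegImm.exists_flat_open f y).1 ⟨W, hy, hW⟩, W.2, hxW⟩⟩
  refine ⟨U, fun x hx => ?_, (Flat.iff_flat_stalkMap _).2 fun w => ?_⟩
  · obtain ⟨z, rfl⟩ := hx
    exact flat_stalkMap f i hi z
  · rw [Scheme.Hom.stalkMap_comp]
    exact (RingHom.Flat.respectsIso.cancel_right_isIso (f.stalkMap (U.ι w)) (U.ι.stalkMap w)).2 w.2

end Groth.Agent.Div89.RelH1
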