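import Groth.Agent.Div89.RelQuasi
import Groth.Agent.FlatStage64.Main
import Groth.Agent.Frg27.BaseChange
import Mathlib.RingTheory.TensorProduct.DirectLimitFG
import Mathlib.RingTheory.Extension.Presentation.Core

/-!
An `H_1`-regular sequence with flat quotient in a finitely presented algebra lies in the flat locus:
reduction to a Noetherian stage.
-/

set_option autoImplicit false
set_option linter.style.haveILetI false
set_option backward.isDefEq.respectTransparency.types false

universe u

open TensorProduct RegImm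

namespace Groth.Agent.Div89.RelH1

section Relations

variable {A B : Type u} [CommRing A] [CommRing B] [Algebra A B] {r : ℕ}

/-- The relations of a base change come from the relations, when the quotient is flat. -/
theorem relations_baseChange (A' : Type u) [CommRing A'] [Algebra A A'] (f : Fin r → B)
    [Module.Flat A (B ⧸ Ideal.span (Set.range f))] (x : Fin r → A' ⊗[A] B)
    (hx : ∑ i, x i * ((1 : A') ⊗ₜ[A] f i) = 0) :
    x ∈ Submodule.span (A' ⊗[A] B)
      ((fun a i => (1 : A') ⊗ₜ[A] (a i : B)) '' {a : Fin r → B | ∑ i, a i * f i = 0}) := by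
  classical
  let I := Ideal.span (Set.range f)
  let S := LinearMap.ker (Fintype.linearCombination B f)
  let φB : (Fin r → B) →ₗ[B] I := (Fintype.linearCombination B f).codRestrict (I.restrictScalars B) fun c =>
    (Fintype.linearCombination_apply B f c).symm ▸ (sum_mem fun i _ => Ideal.mul_mem_left I (c i) (Ideal.subset_span (Set.mem_range_self i)))
  let φ : (Fin r → B) →ₗ[A] I := φB.restrictScalars A
  have hφ : Function.Surjective φ := fun y => by
    obtain ⟨c, hc⟩ := Ideal.mem_span_range_iff_exists_fun.1 y.2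
    refine ⟨c, Subtype.ext ?_⟩
    change Fintype.linearCombination B f c = (y : B)
    rw [Fintype.linearCombination_apply]
    exact hc
  have hexact : Function.Exact (S.restrictScalars A).subtype φ := fun c => by
    constructor
    · intro h
      exact ⟨⟨c, (congrArg Subtype.val h : )⟩, rfl⟩
    · rintro ⟨⟨c, hc⟩, rfl⟩
      exact Subtype.ext hc
  let sgl : Fin r → B →ₗ[A] (Fin r → B) := fun i => LinearMap.single A (fun _ => B) i
  let T : A' ⊗[A] (Fin r → B) →ₗ[A] (Fin r → A' ⊗[A] B) :=
    LinearMap.pi fun i => (LinearMap.proj i : (Fin r → B) →ₗ[A] B).lTensor A'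
  let z : A' ⊗[A] (Fin r → B) := ∑ i, (sgl i).lTensor A' (x i)
  have hz : T z = x := by
    funext j
    simp only [T, LinearMap.pi_apply, z, map_sum, Finset.sum_apply]
    rw [Finset.sum_eq_single j (fun i _ hne => ?_) (by simp)]
    · rw [← LinearMap.lTensor_comp_apply, show (LinearMap.proj j : (Fin r → B) →ₗ[A] B) ∘ₗ sgl j = LinearMap.id from
        LinearMap.ext fun b => by simp [sgl], LinearMap.lTensor_id, LinearMap.id_apply]
    · rw [← LinearMap.lTensor_comp_apply, show (LinearMap.proj j : (Fin r → B) →ₗ[A] B) ∘ₗ sgl i = 0 from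
        LinearMap.ext fun b => by simp [sgl, Pi.single_eq_of_ne (Ne.symm hne)], LinearMap.lTensor_zero, LinearMap.zero_apply]
  let jI : I →ₗ[A] B := (I.subtype).restrictScalars A
  have hinj : Function.Injective (jI.lTensor A') :=
    QReg14.lTensor_injective_of_flat_coker jI (Ideal.Quotient.mkₐ A I).toLinearMap Subtype.val_injective
      (Ideal.Quotient.mkₐ_surjective A I) (fun y => by simp [jI, Ideal.Quotient.eq_zero_iff_mem]) A'
  have h0 : φ.lTensor A' z = 0 := by
    apply hinj
    rw [map_zero, ← LinearMap.lTensor_comp_apply, map_sum, ← hx]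
    refine Finset.sum_congr rfl fun i _ => ?_
    rw [← LinearMap.lTensor_comp_apply]
    induction x i using TensorProduct.induction_on with
    | zero => simp
    | add x y hx hy => rw [map_add, hx, hy, add_mul]
    | tmul a b =>
      simp [jI, φ, φB, sgl]
      congr 1
      exact Fintype.linearCombination_apply_single B f _ _
  obtain ⟨w, hw⟩ := (lTensor_exact A' hexact hφ z).1 h0
  rw [← hz, ← hw]
  clear hw
  induction w using TensorProduct.induction_on with
  | zero => simp
  | add x y hx hy => rw [map_add, map_add]; exact add_mem hx hy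
  | tmul a s =>
    obtain ⟨s, hs⟩ := s
    have : T ((S.restrictScalars A).subtype.lTensor A' (a ⊗ₜ[A] ⟨s, hs⟩)) =
        (a ⊗ₜ[A] (1 : B)) • fun i => (1 : A') ⊗ₜ[A] s i := by
      funext i
      simp [T]
    rw [this]
    refine Submodule.smul_mem _ _ (Submodule.subset_span ⟨s, ?_, rfl⟩)
    show ∑ i, s i * f i = 0
    exact (Fintype.linearCombination_apply B f s).symm.trans hs

end Relations

section Stage

variable {R A B : Type u} [CommRing R] [CommRing A] [Algebra R A] [CommRing B] [Algebra R B] {r : ℕ}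

/-- The map between two stages. -/
noncomputable abbrev stageMap {D E : Subalgebra R A} (h : D ≤ E) : ↥D ⊗[R] B →ₐ[R] ↥E ⊗[R] B :=
  Algebra.TensorProduct.map (Subalgebra.inclusion h) (AlgHom.id R B)

/-- The map of a stage to the limit. -/
noncomputable abbrev limMap (D : Subalgebra R A) : ↥D ⊗[R] B →ₐ[R] A ⊗[R] B :=
  Algebra.TensorProduct.map D.val (AlgHom.id R B)

theorem stageMap_apply {D E : Subalgebra R A} (h : D ≤ E) (x : ↥D ⊗[R] B) :
    stageMap h x = LinearMap.rTensor B (Subalgebra.inclusion h).toLinearMap x := rfl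

theorem limMap_apply (D : Subalgebra R A) (x : ↥D ⊗[R] B) :
    limMap D x = LinearMap.rTensor B D.val.toLinearMap x := rfl

theorem limMap_stageMap {D E : Subalgebra R A} (h : D ≤ E) (x : ↥D ⊗[R] B) :
    limMap E (stageMap h x) = limMap D x :=
  DFunLike.congr_fun (show (limMap E).comp (stageMap (B := B) h) = limMap D from
    Algebra.TensorProduct.ext' fun a b => by simp) x

/-- Finitely many elements descend. -/
theorem exists_stage_lift {ι : Type u} [Finite ι] (x : ι → A ⊗[R] B) :
    ∃ (D : Subalgebra R A), D.FG ∧ ∃ x' : ι → ↥D ⊗[R] B, ∀ k, limMap D (x' k) = x k := by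
  classical
  have := Fintype.ofFinite ι
  choose D hD hx using fun k => TensorProduct.Algebra.exists_of_fg (R := R) (S := A) (N := B) (x k)
  choose y hy using hx
  have hle : ∀ k, D k ≤ Finset.univ.sup D := fun k => Finset.le_sup (Finset.mem_univ k)
  refine ⟨Finset.univ.sup D, Finset.sup_induction Subalgebra.fg_bot (fun a ha b hb => ha.sup hb) (fun k _ => hD k),
    fun k => stageMap (hle k) (y k), fun k => ?_⟩
  rw [limMap_stageMap, limMap_apply]
  exact hy k

/-- Finitely many vanishing elements vanish at a stage. -/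
theorem exists_stage_zero {ι : Type u} [Finite ι] {D : Subalgebra R A} (hD : D.FG) (x : ι → ↥D ⊗[R] B)
    (hx : ∀ k, limMap D (x k) = 0) :
    ∃ (E : Subalgebra R A) (h : D ≤ E), E.FG ∧ ∀ k, stageMap h (x k) = 0 := by
  classical
  have := Fintype.ofFinite ι
  have key : ∀ k, ∃ (E : Subalgebra R A) (h : D ≤ E), E.FG ∧ stageMap h (x k) = 0 := fun k => by
    obtain ⟨E, h, hE, he⟩ := TensorProduct.Algebra.eq_of_fg_of_subtype_eq (N := B) hD (t := x k) (t' := 0)
      (by rw [map_zero]; exact hx k)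
    exact ⟨E, h, hE, by rw [stageMap_apply, he, map_zero]⟩
  choose E hDE hE he using key
  refine ⟨D ⊔ Finset.univ.sup E, le_sup_left,
    hD.sup (Finset.sup_induction Subalgebra.fg_bot (fun a ha b hb => ha.sup hb) (fun k _ => hE k)), fun k => ?_⟩
  have hle : E k ≤ D ⊔ Finset.univ.sup E := le_sup_of_le_right (Finset.le_sup (Finset.mem_univ k))
  have : stageMap (B := B) (le_sup_left : D ≤ D ⊔ Finset.univ.sup E) = (stageMap hle).comp (stageMap (hDE k)) :=
    Algebra.TensorProduct.ext' fun a b => by simp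
  rw [this, AlgHom.comp_apply, he k, map_zero]

/-- Trivial relations. -/
def triv {C : Type u} [CommRing C] (f : Fin r → C) : Fin r × Fin r → Fin r → C :=
  fun p => Pi.single p.1 (f p.2) - Pi.single p.2 (f p.1)

theorem triv_span {C : Type u} [CommRing C] (f : Fin r → C) :
    Submodule.span C {v : Fin r → C | ∃ i j : Fin r, v = Pi.single i (f j) - Pi.single j (f i)} =
      Submodule.span C (Set.range (triv f)) := by
  congr 1
  ext v
  constructor
  · rintro ⟨i, j, rfl⟩; exact ⟨(i, j), rfl⟩
  · rintro ⟨⟨i, j⟩, rfl⟩; exact ⟨i, j, rfl⟩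

theorem triv_map {C C' : Type u} [CommRing C] [CommRing C'] (φ : C →+* C') (f : Fin r → C) (p : Fin r × Fin r)
    (k : Fin r) : φ (triv f p k) = triv (fun i => φ (f i)) p k := by
  simp only [triv, Pi.sub_apply, Pi.single_apply, map_sub]
  split_ifs <;> simp

/-- `H_1`-regularity with flat quotient descends to a finitely generated stage. -/
theorem exists_stage [IsNoetherianRing R] [Algebra.FiniteType R B] (f : Fin r → B)
    [Module.Flat R (B ⧸ Ideal.span (Set.range f))]
    (h : CAlgX.IsH1Regular (fun i => (1 : A) ⊗ₜ[R] f i)) :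
    ∃ D : Subalgebra R A, D.FG ∧ CAlgX.IsH1Regular (fun i => (1 : ↥D) ⊗ₜ[R] f i) := by
  classical
  haveI : IsNoetherianRing B := Algebra.FiniteType.isNoetherianRing R B
  let Z := LinearMap.ker (Fintype.linearCombination B f)
  obtain ⟨G, hG⟩ := (IsNoetherian.noetherian Z : Z.FG)
  have hZ : ∀ a ∈ G, ∑ i, a i * f i = 0 := fun a ha => by
    have : a ∈ Z := hG ▸ Submodule.subset_span ha
    exact (Fintype.linearCombination_apply B f a).symm.trans this
  have hlim : ∀ a : G, ∃ c : Fin r × Fin r → A ⊗[R] B,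
      ∑ p, c p • triv (fun i => (1 : A) ⊗ₜ[R] f i) p = fun i => (1 : A) ⊗ₜ[R] (a : Fin r → B) i := fun a => by
    rw [← Submodule.mem_span_range_iff_exists_fun, ← triv_span]
    refine h _ ?_
    simp only [Algebra.TensorProduct.tmul_mul_tmul, mul_one, ← TensorProduct.tmul_sum, hZ a.1 a.2, TensorProduct.tmul_zero]
  choose c hc using hlim
  obtain ⟨D, hD, c', hc'⟩ := exists_stage_lift (R := R) (A := A) (B := B) (ι := G × (Fin r × Fin r))
    (fun q => c q.1 q.2)
  let d : G × Fin r → ↥D ⊗[R] B := fun q =>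
    ∑ p, c' (q.1, p) * triv (fun i => (1 : ↥D) ⊗ₜ[R] f i) p q.2 - (1 : ↥D) ⊗ₜ[R] (q.1 : Fin r → B) q.2
  have hd : ∀ q, limMap D (d q) = 0 := fun q => by
    have := congrFun (hc q.1) q.2
    rw [Finset.sum_apply] at this
    have h1 : ∀ p, limMap D (triv (fun i => (1 : ↥D) ⊗ₜ[R] f i) p q.2) = triv (fun i => (1 : A) ⊗ₜ[R] f i) p q.2 :=
      fun p => (triv_map (limMap (B := B) D).toRingHom _ p q.2).trans (by simp)
    simp only [d, map_sub, map_sum, map_mul, hc', h1]
    rw [sub_eq_zero]
    simpa using this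
  obtain ⟨E, hDE, hE, he⟩ := exists_stage_zero hD d hd
  refine ⟨E, hE, fun x hx => ?_⟩
  rw [triv_span]
  refine (Submodule.span_le.2 ?_ : _ ≤ Submodule.span (↥E ⊗[R] B) (Set.range (triv fun i => (1 : ↥E) ⊗ₜ[R] f i)))
    (relations_baseChange (↥E) f x hx)
  rintro _ ⟨a, ha, rfl⟩
  have hstage : ∀ a : G, (fun i => (1 : ↥E) ⊗ₜ[R] (a : Fin r → B) i) ∈
      Submodule.span (↥E ⊗[R] B) (Set.range (triv fun i => (1 : ↥E) ⊗ₜ[R] f i)) := fun a => by
    rw [Submodule.mem_span_range_iff_exists_fun]
    refine ⟨fun p => stageMap hDE (c' (a, p)), funext fun k => ?_⟩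
    have h2 := he (a, k)
    have h1 : ∀ p, stageMap hDE (triv (fun i => (1 : ↥D) ⊗ₜ[R] f i) p k) = triv (fun i => (1 : ↥E) ⊗ₜ[R] f i) p k :=
      fun p => (triv_map (stageMap (B := B) hDE).toRingHom _ p k).trans (by simp)
    simp only [d, map_sub, map_sum, map_mul, h1, sub_eq_zero] at h2
    rw [Finset.sum_apply]
    simpa using h2
  have haZ : a ∈ Submodule.span B (G : Set (Fin r → B)) := by
    rw [hG]
    exact (Fintype.linearCombination_apply B f a).trans ha
  clear ha hx
  induction haZ using Submodule.span_induction with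
  | mem a ha => exact hstage ⟨a, ha⟩
  | zero => simp only [Pi.zero_apply, TensorProduct.tmul_zero]; exact zero_mem _
  | add a b _ _ ha hb =>
    have := add_mem ha hb
    simp only [SetLike.mem_coe] at *
    simpa only [Pi.add_apply, TensorProduct.tmul_add] using! this
  | smul b a _ ha =>
    have := Submodule.smul_mem _ ((1 : ↥E) ⊗ₜ[R] b) ha
    simp only [SetLike.mem_coe] at *
    convert this using 1
    funext i
    simp

end Stage

/-- An `H_1`-regular sequence, from the list of its values. -/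
theorem of_seq_ofFn {C : Type u} [CommRing C] {n : ℕ} {f : Fin n → C} (h : Kind.h1.Seq C (List.ofFn f)) :
    CAlgX.IsH1Regular f := by
  have := (List.equivSigmaTuple (α := C)).apply_symm_apply ⟨n, f⟩
  change (⟨(List.ofFn f).length, (List.ofFn f).get⟩ : Σ c, Fin c → C) = ⟨n, f⟩ at this
  exact (congrArg (fun x : Σ c, Fin c → C => CAlgX.IsH1Regular x.2) this).mp h

section Flat

attribute [local instance] Algebra.TensorProduct.rightAlgebra

variable {R A C B : Type u} [CommRing R] [CommRing A] [Algebra R A] [CommRing C] [Algebra A C] [CommRing B] [Algebra R B]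
  {r : ℕ}

/-- The quotient of a base change. -/
theorem flat_quot_baseChange (S : Type u) [CommRing S] [Algebra R S] (f : Fin r → B)
    (h : Module.Flat S (S ⊗[R] (B ⧸ Ideal.span (Set.range f)))) :
    Module.Flat S ((S ⊗[R] B) ⧸ Ideal.span (Set.range fun i => (1 : S) ⊗ₜ[R] f i)) := by
  haveI := h
  rw [QReg14.span_tmul S f]
  exact Module.Flat.of_linearEquiv
    (Algebra.TensorProduct.tensorQuotientEquiv (R := R) S B S (Ideal.span (Set.range f))).toLinearEquiv.symm

/-- The model is flat along the sequence when it is `H_1`-regular at a Noetherian stage. -/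
theorem flat_of_stage [IsNoetherianRing R] [Algebra.FiniteType R B] (f : Fin r → B)
    [Module.Flat R (B ⧸ Ideal.span (Set.range f))] (h : CAlgX.IsH1Regular f) (e : A ⊗[R] B ≃ₐ[A] C)
    (P : PrimeSpectrum C) (hP : ∀ i, e ((1 : A) ⊗ₜ[R] f i) ∈ P.asIdeal) :
    Module.Flat A (Localization.AtPrime P.asIdeal) := by
  haveI : IsNoetherianRing B := Algebra.FiniteType.isNoetherianRing R B
  let φ : B →+* C := e.toAlgHom.toRingHom.comp (Algebra.TensorProduct.includeRight (R := R) (A := A)).toRingHom
  let Q : PrimeSpectrum B := PrimeSpectrum.comap φ P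
  have hq : Kind.quasi.Seq B (List.ofFn f) :=
    RegImm10.Fpqc.seq_ofFn (fun _ f => CAlgX.IsQuasiRegular f) (CAlg1.isQuasiRegular_of_isH1Regular f h)
  haveI : Module.Flat R (B ⧸ Ideal.ofList (List.ofFn f)) := by
    rw [RegImm10.Fpqc.ofList_ofFn]; infer_instance
  haveI := RelQuasi.flat_localization_of_quasi (A := R) hq Q (by
    rw [RegImm10.Fpqc.ofList_ofFn, Ideal.span_le]
    rintro _ ⟨i, rfl⟩
    exact hP i)
  let ι : A ⊗[R] B →+* Localization.AtPrime P.asIdeal :=
    (algebraMap C (Localization.AtPrime P.asIdeal)).comp e.toAlgHom.toRingHom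
  have hι : ι.Flat := RingHom.Flat.comp (RingHom.Flat.of_bijective e.bijective)
    (RingHom.flat_algebraMap_iff.2 inferInstance)
  have hu : ∀ b ∉ Q.asIdeal, IsUnit (ι ((1 : A) ⊗ₜ[R] b)) := fun b hb =>
    IsLocalization.map_units (Localization.AtPrime P.asIdeal) (⟨φ b, hb⟩ : P.asIdeal.primeCompl)
  have key := Frg27.flat_baseChange_localization (R := R) (C := A) Q.asIdeal
    (by rw [← IsScalarTower.algebraMap_eq]; exact RingHom.flat_algebraMap_iff.2 inferInstance) ι hι hu
  refine RingHom.flat_algebraMap_iff.1 ?_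
  rwa [show ι.comp (algebraMap A (A ⊗[R] B)) = algebraMap A (Localization.AtPrime P.asIdeal) from
    RingHom.ext fun a => by
      show algebraMap C _ (e (algebraMap A (A ⊗[R] B) a)) = _
      rw [e.commutes, ← IsScalarTower.algebraMap_apply]] at key

/-- The model is flat along the sequence when its quotient is flat. -/
theorem flat_of_model [IsNoetherianRing R] [Algebra.FiniteType R B] (f : Fin r → B)
    [Module.Flat R (B ⧸ Ideal.span (Set.range f))] (h : CAlgX.IsH1Regular (fun i => (1 : A) ⊗ₜ[R] f i))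
    (e : A ⊗[R] B ≃ₐ[A] C) (P : PrimeSpectrum C) (hP : ∀ i, e ((1 : A) ⊗ₜ[R] f i) ∈ P.asIdeal) :
    Module.Flat A (Localization.AtPrime P.asIdeal) := by
  obtain ⟨D, hD, hD1⟩ := exists_stage f h
  haveI : Algebra.FiniteType R D := (Subalgebra.fg_iff_finiteType D).1 hD
  haveI : IsNoetherianRing D := Algebra.FiniteType.isNoetherianRing R D
  haveI := flat_quot_baseChange (R := R) ↥D f inferInstance
  let e' : A ⊗[↥D] (↥D ⊗[R] B) ≃ₐ[A] C :=
    (Algebra.TensorProduct.cancelBaseChange R ↥D A A B).trans e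
  refine flat_of_stage (R := ↥D) (fun i => (1 : ↥D) ⊗ₜ[R] f i) hD1 e' P fun i => ?_
  simpa [e'] using hP i

/-- The flat locus, from a model with the same sequence. -/
theorem flat_of_base [IsNoetherianRing R] [Algebra.FiniteType R B] (e : A ⊗[R] B ≃ₐ[A] C) (f : Fin r → B)
    (hh : CAlgX.IsH1Regular (fun i => (1 : A) ⊗ₜ[R] f i))
    (hflat : Module.Flat A (C ⧸ Ideal.span (Set.range fun i => e ((1 : A) ⊗ₜ[R] f i))))
    (P : PrimeSpectrum C) (hP : ∀ i, e ((1 : A) ⊗ₜ[R] f i) ∈ P.asIdeal) :
    Module.Flat A (Localization.AtPrime P.asIdeal) := by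
  have hK : Ideal.span (Set.range fun i => e ((1 : A) ⊗ₜ[R] f i)) =
      Ideal.map e.toRingEquiv (Ideal.span (Set.range fun i => (1 : A) ⊗ₜ[R] f i)) := by
    rw [Ideal.map_span, ← Set.range_comp]
    rfl
  have hq : Module.Flat A ((A ⊗[R] B) ⧸ Ideal.span (Set.range fun i => (1 : A) ⊗ₜ[R] f i)) := by
    haveI := hflat
    exact Module.Flat.of_linearEquiv (Ideal.quotientEquivAlg (R₁ := A) _ _ e hK).toLinearEquiv
  rw [QReg14.span_tmul A f] at hq
  have hM : Module.Flat A (A ⊗[R] (B ⧸ Ideal.span (Set.range f))) :=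
    Module.Flat.of_linearEquiv
      (Algebra.TensorProduct.tensorQuotientEquiv (R := R) A B A (Ideal.span (Set.range f))).toLinearEquiv
  obtain ⟨D, hD, hDflat⟩ := FlatStage64.exists_fg_flat (R := R) (B := B) (M := B ⧸ Ideal.span (Set.range f)) (A := A) hM
  haveI : Algebra.FiniteType R ↥D := (Subalgebra.fg_iff_finiteType D).1 hD
  haveI : IsNoetherianRing ↥D := Algebra.FiniteType.isNoetherianRing R ↥D
  haveI := flat_quot_baseChange (R := R) ↥D f (hDflat D le_rfl)
  let c := Algebra.TensorProduct.cancelBaseChange R ↥D A A B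
  have hc : ∀ i, c ((1 : A) ⊗ₜ[↥D] ((1 : ↥D) ⊗ₜ[R] f i)) = (1 : A) ⊗ₜ[R] f i := fun i => by simp [c]
  refine flat_of_model (R := ↥D) (fun i => (1 : ↥D) ⊗ₜ[R] f i) ?_ (c.trans e) P fun i => ?_
  · have h1 := RegImm10.Fpqc.seq_equiv (S := A ⊗[↥D] (↥D ⊗[R] B)) c.symm.toRingEquiv (k := Kind.h1) (Or.inr rfl)
      (RegImm10.Fpqc.seq_ofFn (fun _ f => CAlgX.IsH1Regular f) hh)
    rw [List.map_ofFn] at h1
    have h2 : (fun i => (1 : A) ⊗ₜ[↥D] ((1 : ↥D) ⊗ₜ[R] f i)) =
        c.symm.toRingEquiv ∘ fun i => (1 : A) ⊗ₜ[R] f i := funext fun i =>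
      (c.symm_apply_apply _).symm.trans (congrArg c.symm (hc i))
    rw [h2]
    exact of_seq_ofFn h1
  · rw [AlgEquiv.trans_apply, hc]
    exact hP i

/-- An `H_1`-regular sequence with flat quotient in a finitely presented algebra lies in the flat locus. -/
theorem flat_localization [Algebra.FinitePresentation A C] {rs : List C} (h : Kind.h1.Seq C rs)
    (hflat : Module.Flat A (C ⧸ Ideal.ofList rs)) (P : PrimeSpectrum C) (hI : Ideal.ofList rs ≤ P.asIdeal) :
    Module.Flat A (Localization.AtPrime P.asIdeal) := by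
  let P₀ := Algebra.Presentation.ofFinitePresentation A C
  choose g hg using fun i => P₀.toGenerators.aeval_val_surjective (rs.get i)
  let s : Set A := P₀.coeffs ∪ ⋃ i, ((g i).coeffs : Set A)
  have hs : s.Finite := P₀.finite_coeffs.union (Set.finite_iUnion fun i => (g i).coeffs.finite_toSet)
  let R₀ := Algebra.adjoin ℤ s
  haveI : Algebra.FiniteType ℤ R₀ := .adjoin_of_finite hs
  haveI : IsNoetherianRing R₀ := Algebra.FiniteType.isNoetherianRing ℤ R₀
  haveI : P₀.HasCoeffs ↥R₀ := ⟨fun x hx => ⟨⟨x, Algebra.subset_adjoin (Or.inl hx)⟩, rfl⟩⟩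
  have hg' : ∀ i, ∃ g' : MvPolynomial _ ↥R₀, MvPolynomial.map (algebraMap ↥R₀ A) g' = g i := fun i => by
    refine MvPolynomial.mem_range_map_iff_coeffs_subset.2 fun x hx => ⟨⟨x, Algebra.subset_adjoin (Or.inr ?_)⟩, rfl⟩
    exact Set.mem_iUnion.2 ⟨i, hx⟩
  choose g' hgg using hg'
  let e := P₀.tensorModelOfHasCoeffsEquiv ↥R₀
  let f : Fin rs.length → P₀.ModelOfHasCoeffs ↥R₀ := fun i => Ideal.Quotient.mk _ (g' i)
  have he : ∀ i, e ((1 : A) ⊗ₜ[↥R₀] f i) = rs.get i := fun i => by
    simp only [e, f, Algebra.Presentation.tensorModelOfHasCoeffsEquiv_tmul, map_one, one_mul]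
    rw [← MvPolynomial.aeval_map_algebraMap A, hgg, hg]
  refine flat_of_base e f ?_ ?_ P fun i => ?_
  · have h2 := RegImm10.Fpqc.seq_equiv (S := A ⊗[↥R₀] P₀.ModelOfHasCoeffs ↥R₀) e.symm.toRingEquiv
      (k := Kind.h1) (Or.inr rfl) h
    rw [RegFlat.map_eq_ofFn] at h2
    have h1 : (fun i => (1 : A) ⊗ₜ[↥R₀] f i) = fun i => e.symm (rs.get i) := funext fun i =>
      ((congrArg e.symm (he i)).symm.trans (e.symm_apply_apply _)).symm
    rw [h1]
    exact of_seq_ofFn h2
  · rw [show (fun i => e ((1 : A) ⊗ₜ[↥R₀] f i)) = rs.get from funext he, ← RegImm10.Fpqc.ofList_eq_span]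
    exact hflat
  · rw [he]
    exact hI (Ideal.subset_span (rs.get_mem i))

end Flat

end Groth.Agent.Div89.RelH1
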