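import Groth.Agent.Div89.RegFlat
import Groth.Agent.Div89.Basic
import Groth.Agent.Div89.RelFlat
import Groth.Agent.Div89.RegStalk
import Groth.Agent.CAlg9.FibreDepthBC
import Groth.Agent.FlatMor66.FibCritScheme
import Groth.Agent.EGA4Alg4.QuasiReg
import Groth.Agent.CAlg9.TransRegNear
import Mathlib.RingTheory.Filtration

/-!
Relative quasi-regular immersions: flatness, and regularity in the flat finitely presented case.
-/

set_option autoImplicit false
set_option linter.style.haveILetI false
set_option backward.isDefEq.respectTransparency.types false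

universe u

open CategoryTheory CategoryTheory.Limits AlgebraicGeometry TopologicalSpace IsLocalRing TensorProduct

namespace Groth.Agent.Div89.RelQuasi

open RegImm RegImm10.Fpqc

attribute [local instance] Algebra.TensorProduct.rightAlgebra

section Alg

/-- A Noetherian local algebra with flat quotients by all powers of an ideal is flat. -/
theorem flat_of_flat_quot_powers {A B : Type u} [CommRing A] [CommRing B] [Algebra A B] [IsNoetherianRing B]
    [IsLocalRing B] (J : Ideal B) (hJ : J ≤ maximalIdeal B)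
    (h : ∀ n : ℕ, Module.Flat A (B ⧸ J ^ n)) : Module.Flat A B := by
  refine Module.Flat.iff_lTensor_injective.2 fun I hI => ?_
  haveI : Module.Finite A I := Module.Finite.of_fg hI
  let φ : B ⊗[A] I →ₗ[B] B ⊗[A] A := AlgebraTensorModule.lTensor B B I.subtype
  suffices LinearMap.ker φ = ⊥ from fun x y h => (LinearMap.ker_eq_bot.1 this :) h
  refine eq_bot_iff.2 fun t ht => ?_
  have hmem : t ∈ (⨅ n : ℕ, J ^ n • ⊤ : Submodule B (B ⊗[A] I)) := by
    rw [Submodule.mem_iInf]
    intro n
    haveI := h n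
    let π := (Ideal.Quotient.mkₐ A (J ^ n)).toLinearMap
    have h0 : π.rTensor I t = 0 := by
      apply Module.Flat.lTensor_preserves_injective_linearMap (M := B ⧸ J ^ n) I.subtype
        Subtype.val_injective
      rw [map_zero, ← LinearMap.comp_apply, LinearMap.lTensor_comp_rTensor, ← LinearMap.rTensor_comp_lTensor,
        LinearMap.comp_apply]
      rw [show I.subtype.lTensor B t = 0 from ht, map_zero]
    have hex : Function.Exact ((J ^ n).restrictScalars A).subtype π := fun y => by
      simp [π, Ideal.Quotient.eq_zero_iff_mem]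
    obtain ⟨t', rfl⟩ := (rTensor_exact I hex Ideal.Quotient.mk_surjective t).1 h0
    clear ht h0
    induction t' using TensorProduct.induction_on with
    | zero => rw [map_zero]; exact zero_mem _
    | tmul b i =>
      rw [LinearMap.rTensor_tmul,
        show (((J ^ n).restrictScalars A).subtype b) ⊗ₜ[A] i = (b : B) • ((1 : B) ⊗ₜ[A] i) by
          rw [TensorProduct.smul_tmul', smul_eq_mul, mul_one]; rfl]
      exact Submodule.smul_mem_smul b.2 Submodule.mem_top
    | add x y hx hy =>
      rw [map_add]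
      exact add_mem hx hy
  rwa [Ideal.iInf_pow_smul_eq_bot_of_le_jacobson J (hJ.trans (maximalIdeal_le_jacobson ⊥))] at hmem

open CAlg9.TransRegNear CAlg9.FibreDepth Fib62

variable {A C : Type u} [CommRing A] [CommRing C] [Algebra A C]

/-- A quasi-regular sequence with flat quotient lies in the flat locus where the local ring is Noetherian. -/
theorem flat_localization_of_quasi {rs : List C} (h : Kind.quasi.Seq C rs)
    [Module.Flat A (C ⧸ Ideal.ofList rs)] (P : PrimeSpectrum C) (hI : Ideal.ofList rs ≤ P.asIdeal)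
    [IsNoetherianRing (Localization.AtPrime P.asIdeal)] :
    Module.Flat A (Localization.AtPrime P.asIdeal) := by
  let O := Localization.AtPrime P.asIdeal
  haveI : Module.Flat A (C ⧸ Ideal.span (Set.range rs.get)) := by
    rw [← RegImm10.Fpqc.ofList_eq_span]; infer_instance
  refine flat_of_flat_quot_powers ((Ideal.span (Set.range rs.get)).map (algebraMap C O))
    (Ideal.map_le_iff_le_comap.2 fun c hc => ?_) fun n => ?_
  · rw [← RegImm10.Fpqc.ofList_eq_span] at hc
    exact (IsLocalization.AtPrime.to_map_mem_maximal_iff O P.asIdeal c).2 (hI hc)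
  · haveI := QReg14.flat_quotient_pow (A := A) rs.get h n
    rw [← Ideal.map_pow]
    exact (flat_tensor_quot_iff (A := A) (Cp := O) _).1
      (flat_tensor_of_flat (A := A) (C := C) (M := C ⧸ Ideal.span (Set.range rs.get) ^ n) (L := O))

/-- A quasi-regular sequence with flat quotient is regular on the fibres. -/
theorem fibre_isWeaklyRegular [Algebra.FiniteType A C] {rs : List C} (h : Kind.quasi.Seq C rs)
    (hflat : Module.Flat A (C ⧸ Ideal.ofList rs)) (P : PrimeSpectrum C) (hI : Ideal.ofList rs ≤ P.asIdeal) :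
    RingTheory.Sequence.IsWeaklyRegular (FibreLocal A P) rs := by
  let F := (P.asIdeal.under A).Fiber C
  let L := FibreLocal A P
  have h1 : Kind.quasi.Seq F (rs.map (algebraMap C F)) :=
    RegFlat.seq_baseChange (Or.inl rfl) h hflat
  have h2 : Kind.quasi.Seq L ((rs.map (algebraMap C F)).map (algebraMap F L)) :=
    RegFlat.seq_flat (Or.inl rfl) h1
  rw [List.map_map, ← RingHom.coe_comp, ← IsScalarTower.algebraMap_eq] at h2
  haveI := fibreLocal_noetherian (A := A) P
  have h3 := EGA4Alg4.isWeaklyRegular_of_isQuasiRegular _ L _ (fun i => ?_) h2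
  · rw [List.ofFn_get] at h3
    exact (RingTheory.Sequence.isWeaklyRegular_map_algebraMap_iff (S := L) (M := L) rs).1 h3
  · rw [IsLocalRing.ringJacobson_eq_maximalIdeal]
    obtain ⟨c, hc, hci⟩ := List.mem_map.1 ((rs.map (algebraMap C L)).get_mem i)
    exact hci ▸ map_le_maximalIdeal_fibreLocal _ P hI (Ideal.mem_map_of_mem _ (Ideal.subset_span hc))

end Alg

section Scheme

open Fib62

variable {Z X S : Scheme.{u}}

/-- Charts of relatively quasi- or `H_1`-regular immersions. -/
theorem exists_chart (f : X ⟶ S) (i : Z ⟶ X) {k : Kind} (hk : k = .quasi ∨ k = .h1)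
    (hi : IsRelRegularImmersion k f i) (z : Z) :
    ∃ (T : S.Opens) (U : X.Opens) (e : U ≤ f ⁻¹ᵁ T), IsAffineOpen T ∧ IsAffineOpen U ∧ i z ∈ U ∧
      IsClosedImmersion (i ∣_ U) ∧ ∃ rs : List Γ(X, U), k.Seq Γ(X, U) rs ∧
        RingHom.ker (i.app U).hom = Ideal.ofList rs ∧
        (letI := (f.appLE T U e).hom.toAlgebra
         Module.Flat Γ(S, T) (Γ(X, U) ⧸ Ideal.ofList rs)) := by
  obtain ⟨hreg, hflat⟩ := hi
  haveI := hreg.1
  obtain ⟨⟨A, hA⟩, hzA, hcl, rs, hrs, hker⟩ := hreg.2 z
  obtain ⟨_, ⟨T, hT, rfl⟩, hsT, -⟩ :=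
    S.isBasis_affineOpens.exists_subset_of_mem_open (Set.mem_univ (f (i z))) isOpen_univ
  haveI := hcl
  obtain ⟨b, hb, hzb⟩ := hA.exists_basicOpen_le (V := f ⁻¹ᵁ T) ⟨i z, hsT⟩ hzA
  have hseq := seq_res hA b rfl hk hrs
  have hkerA := ker_res (i := i) hA b rfl
  rw [hker, Ideal.map_ofList] at hkerA
  haveI hclA := RegImmB94.isClosedImmersion_restrict_of_le i (X.basicOpen_le b)
  refine ⟨T, X.basicOpen b, hb, hT, hA.basicOpen b, hzb, hclA, _, hseq, hkerA, ?_⟩
  letI := (f.appLE T (X.basicOpen b) hb).hom.toAlgebra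
  haveI := hflat
  have hB := RegImmB94.isAffineOpen_preimage_of_restrict i (hA.basicOpen b)
  have hs := RegImmB94.app_surjective_of_restrict i (hA.basicOpen b)
  have eB : i ⁻¹ᵁ X.basicOpen b ≤ (i ≫ f) ⁻¹ᵁ T := fun _ hy => hb hy
  letI := ((i ≫ f).appLE T (i ⁻¹ᵁ X.basicOpen b) eB).hom.toAlgebra
  haveI : Module.Flat Γ(S, T) Γ(Z, i ⁻¹ᵁ X.basicOpen b) := (i ≫ f).flat_appLE hT hB eB
  let φ : Γ(X, X.basicOpen b) →ₐ[Γ(S, T)] Γ(Z, i ⁻¹ᵁ X.basicOpen b) :=
    { (i.app (X.basicOpen b)).hom with
      commutes' := fun r => by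
        show (f.appLE T (X.basicOpen b) hb ≫ i.app (X.basicOpen b)) r = _
        rw [Scheme.Hom.app_eq_appLE, Scheme.Hom.appLE_comp_appLE]
        rfl }
  exact Module.Flat.of_linearEquiv
    (((Ideal.quotientEquivAlgOfEq Γ(S, T) (show RingHom.ker φ = _ from hkerA).symm).trans
      (Ideal.quotientKerAlgEquivOfSurjective (f := φ) hs)).toLinearEquiv)

/-- The ideal of a chart is contained in the prime of each of its points. -/
theorem ker_le_primeIdealOf (i : Z ⟶ X) {U : X.Opens} (hU : IsAffineOpen U) [IsClosedImmersion (i ∣_ U)]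
    {z : Z} (hz : i z ∈ U) : RingHom.ker (i.app U).hom ≤ (hU.primeIdealOf ⟨i z, hz⟩).asIdeal := by
  intro c hc
  by_contra hcP
  letI : Algebra Γ(X, U) (X.presheaf.stalk (i z)) := X.presheaf.algebra_section_stalk ⟨i z, hz⟩
  haveI : IsLocalization.AtPrime (X.presheaf.stalk (i z)) (hU.primeIdealOf ⟨i z, hz⟩).asIdeal :=
    hU.isLocalization_stalk ⟨i z, hz⟩
  have hu : IsUnit ((X.presheaf.germ U (i z) hz).hom c) :=
    IsLocalization.map_units (X.presheaf.stalk (i z)) (⟨c, hcP⟩ : (hU.primeIdealOf ⟨i z, hz⟩).asIdeal.primeCompl)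
  refine RingHom.ker_ne_top (i.stalkMap z).hom (Ideal.eq_top_of_isUnit_mem _ ?_ hu)
  rw [RegStalk.ker_stalkMap_chart i hU hz]
  exact Ideal.mem_map_of_mem _ hc

/-- Relatively quasi-regular immersions lie in the flat locus where the local ring is Noetherian. -/
theorem flat_stalkMap (f : X ⟶ S) (i : Z ⟶ X) (hi : IsRelRegularImmersion .quasi f i) (z : Z)
    [IsNoetherianRing (X.presheaf.stalk (i z))] : (f.stalkMap (i z)).hom.Flat := by
  obtain ⟨T, U, e, hT, hU, hz, hcl, rs, hrs, hker, hfl⟩ := exists_chart f i (Or.inl rfl) hi z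
  letI := (f.appLE T U e).hom.toAlgebra
  refine (FlatMor66.flat_stalkMap_iff_localization f hT hU e hz).2 ?_
  haveI := hfl
  let P := hU.primeIdealOf ⟨i z, hz⟩
  letI : Algebra Γ(X, U) (X.presheaf.stalk (i z)) := X.presheaf.algebra_section_stalk ⟨i z, hz⟩
  haveI : IsLocalization.AtPrime (X.presheaf.stalk (i z)) P.asIdeal := hU.isLocalization_stalk ⟨i z, hz⟩
  haveI : IsNoetherianRing (Localization.AtPrime P.asIdeal) :=
    isNoetherianRing_of_ringEquiv (X.presheaf.stalk (i z))
      (IsLocalization.algEquiv P.asIdeal.primeCompl (X.presheaf.stalk (i z)) _).toRingEquiv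
  exact flat_localization_of_quasi hrs P (hker.symm.trans_le (ker_le_primeIdealOf i hU hz))

/-- A relatively quasi-regular immersion is regular at the points where the finitely presented base is flat. -/
theorem regularAt_of_flat (f : X ⟶ S) [LocallyOfFinitePresentation f] (i : Z ⟶ X)
    (hi : IsRelRegularImmersion .quasi f i) (z : Z) (hflat : (f.stalkMap (i z)).hom.Flat) :
    IsRegularImmersionAt .regular i z := by
  obtain ⟨T, U, e, hT, hU, hz, hcl, rs, hrs, hker, hfl⟩ := exists_chart f i (Or.inl rfl) hi z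
  letI := (f.appLE T U e).hom.toAlgebra
  haveI : Algebra.FinitePresentation Γ(S, T) Γ(X, U) := f.finitePresentation_appLE hT hU e
  let P := hU.primeIdealOf ⟨i z, hz⟩
  have hIP : Ideal.ofList rs ≤ P.asIdeal := hker.symm.trans_le (ker_le_primeIdealOf i hU hz)
  have hflP : Module.Flat Γ(S, T) (Localization.AtPrime P.asIdeal) :=
    (FlatMor66.flat_stalkMap_iff_localization f hT hU e hz).1 hflat
  obtain ⟨g, hg, hR⟩ := CAlg9.TransRegNear.exists_away (A := Γ(S, T)) (Ideal.ofList rs) P hIP
    (Submodule.fg_span (List.finite_toSet rs)) rs (fun r hr => Ideal.subset_span hr) le_rfl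
    (fibre_isWeaklyRegular hrs hfl P hIP) hflP
  letI : Algebra Γ(X, U) Γ(X, X.basicOpen g) := (X.presheaf.map (homOfLE (X.basicOpen_le g)).op).hom.toAlgebra
  haveI : IsLocalization.Away g Γ(X, X.basicOpen g) := hU.isLocalization_basicOpen g
  obtain ⟨h1, h2⟩ := hR Γ(X, X.basicOpen g)
  haveI := hcl
  exact ⟨⟨_, hU.basicOpen g⟩,
    (X.mem_basicOpen g (i z) hz).2 ((germ_isUnit_iff ⟨U, hU⟩ (i z) hz g).2 hg),
    RegImmB94.isClosedImmersion_restrict_of_le i (X.basicOpen_le g),
    _, h1, (RegImmB94.ker_app_basicOpen' i hU g).trans (hker ▸ h2)⟩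

/-- Relatively quasi-regular immersions in flat finitely presented schemes are regular. -/
theorem regular_of_flat (f : X ⟶ S) [Flat f] [LocallyOfFinitePresentation f] (i : Z ⟶ X)
    (hi : IsRelRegularImmersion .quasi f i) : IsRegularImmersion .regular i :=
  ⟨hi.1.1, fun z => regularAt_of_flat f i hi z (Flat.stalkMap f (i z))⟩

end Scheme

end Groth.Agent.Div89.RelQuasi
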