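import Groth.Agent.Div89.RelQuasi
import Groth.Agent.Div89.CartierFibre
import Groth.Agent.Div89.KoszulH1
import Groth.Agent.An92.Nrm.RegIdeal

/-!
Relative quasi-regular immersions detected on the fibres of a flat finitely presented morphism.
-/

set_option autoImplicit false
set_option linter.style.haveILetI false
set_option backward.isDefEq.respectTransparency.types false

universe u

open CategoryTheory CategoryTheory.Limits AlgebraicGeometry TopologicalSpace RingTheory.Sequence

namespace Groth.Agent.Div89.RelQuasiFibres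

open CAlg9.TransRegImm

variable {Z X S : Scheme.{u}}

/-- The ideal of a regular immersion at a point is generated by a regular sequence. -/
theorem regularIdeal_stalk (i : Z ⟶ X) (z : Z) (h : RegImm.IsRegularImmersionAt RegImm.Kind.regular i z) :
    CInt.IsRegularIdeal (RingHom.ker (i.stalkMap z).hom) := by
  obtain ⟨U, hz, hcl, rs, hrs, hker⟩ := h
  haveI := hcl
  letI : Algebra Γ(X, U.1) (X.presheaf.stalk (i z)) := stalkAlg U.1 (i z) hz
  haveI := isLocalization_stalk U (i z) hz
  haveI := primeAt_isPrime U (i z) hz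
  have hK : RingHom.ker (i.stalkMap z).hom =
      Ideal.ofList (rs.map (algebraMap Γ(X, U.1) (X.presheaf.stalk (i z)))) := by
    rw [RegStalk.ker_stalkMap_chart i U.2 hz, hker, Ideal.map_ofList]
    rfl
  refine ⟨_, ⟨IsWeaklyRegular.of_isLocalization (X.presheaf.stalk (i z)) (primeAt U (i z) hz).primeCompl hrs.1, ?_⟩,
    hK.symm⟩
  rw [smul_eq_mul, Ideal.mul_top, ← hK]
  exact fun ht => RingHom.ker_ne_top (i.stalkMap z).hom ht.symm

variable (φ : X ⟶ S) (I : X.IdealSheafData)

/-- Quasi-regular fibres give regular fibre ideals. -/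
theorem fibReg_of_quasi_fibres [LocallyOfFiniteType φ]
    (hfib : ∀ s : S, RegImm.IsRegularImmersion RegImm.Kind.quasi (pullback.snd I.subschemeι (φ.fiberι s)))
    (y : I.subscheme) : FibReg I.subschemeι φ y := by
  have key : ∀ (s : S) (x : φ.fiber s), φ.fiberι s x ∈ I.support → CInt.IsRegularIdeal
      ((stalkIdeal I (φ.fiberι s x)).map (Ideal.Quotient.mk (fibJ φ (φ.fiberι s x)))) := fun s x hx => by
    haveI : LocallyOfFiniteType (φ.fiberToSpecResidueField s) := MorphismProperty.pullback_snd _ _ inferInstance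
    haveI : IsLocallyNoetherian (φ.fiber s) := LocallyOfFiniteType.isLocallyNoetherian (φ.fiberToSpecResidueField s)
    let i' := pullback.snd I.subschemeι (φ.fiberι s)
    have hreg := (An92.Nrm.isRegularImmersion_regular_iff_quasi i').2 (hfib s)
    have hki : i'.ker = I.comap (φ.fiberι s) := by
      show _ = (pullback.fst (φ.fiberι s) I.subschemeι).ker
      rw [← Scheme.Hom.ker_comp_of_isIso (pullbackSymmetry I.subschemeι (φ.fiberι s)).hom,
        pullbackSymmetry_hom_comp_fst]
    obtain ⟨y', hy'⟩ : φ.fiberι s x ∈ Set.range I.subschemeι := by rw [I.range_subschemeι]; exact hx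
    obtain ⟨w, -, hw⟩ := Scheme.Pullback.exists_preimage_pullback (f := I.subschemeι) (g := φ.fiberι s) y' x hy'
    have h1 := regularIdeal_stalk i' w (hreg.2 w)
    rw [FlatMor68.FlatInfNbhd.ker_stalkMap_closedImmersion, hki, show i' w = x from hw, stalkIdeal_comap] at h1
    let cB := ((φ.fiberι s).stalkMap x).hom
    have hkc : RingHom.ker cB = fibJ φ (φ.fiberι s x) := FlatMor68.FibreStalk.ker_fiberι_stalkMap φ s x
    let e : (X.presheaf.stalk (φ.fiberι s x) ⧸ fibJ φ (φ.fiberι s x)) ≃+* (φ.fiber s).presheaf.stalk x :=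
      (Ideal.quotEquivOfEq hkc.symm).trans
        (RingHom.quotientKerEquivOfSurjective (FlatMor68.FibreStalk.fiberι_stalkMap_surjective φ s x))
    rw [← CAlg9.CIT.isRegularIdeal_map_equiv e, Ideal.map_map]
    have hcomp : e.toRingHom.comp (Ideal.Quotient.mk (fibJ φ (φ.fiberι s x))) = cB := RingHom.ext fun a => rfl
    exact hcomp.symm ▸ h1
  have h := key (φ (I.subschemeι y)) (φ.asFiber (I.subschemeι y))
  rw [Scheme.Hom.fiberι_asFiber] at h
  unfold FibReg
  rw [FlatMor68.FlatInfNbhd.ker_stalkMap_closedImmersion, Scheme.IdealSheafData.ker_subschemeι]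
  exact h (subschemeι_mem_support I y)

variable [Flat φ] [LocallyOfFinitePresentation φ] [Flat (I.subschemeι ≫ φ)]
  [LocallyOfFinitePresentation (I.subschemeι ≫ φ)]

/-- A flat closed subscheme with quasi-regular fibres is relatively quasi-regular. -/
theorem relQuasiRegular
    (hfib : ∀ s : S, RegImm.IsRegularImmersion RegImm.Kind.quasi (pullback.snd I.subschemeι (φ.fiberι s))) :
    RegImm.IsRelRegularImmersion RegImm.Kind.quasi φ I.subschemeι := by
  refine ⟨⟨inferInstance, fun y => ?_⟩, inferInstance⟩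
  obtain ⟨⟨V, hyV, -, hV⟩, -⟩ := (near_flat_iff I.subschemeι φ y).2
    ⟨Flat.stalkMap φ _, Flat.stalkMap (I.subschemeι ≫ φ) y, fibReg_of_quasi_fibres φ I hfib y⟩
  obtain ⟨U, hU, hyU, rs, hrs, hker⟩ := hV ⟨y, hyV⟩
  rw [CAlg9.CIT.ker_restrict_eq] at hker
  have hW : IsAffineOpen (V.ι ''ᵁ U) := hU.image_of_isOpenImmersion V.ι
  rw [ker_app_eq I.subschemeι hW] at hker
  refine ⟨⟨_, hW⟩, ⟨(I.subschemeι ∣_ V) ⟨y, hyV⟩, hyU, morphismRestrict_base_coe I.subschemeι V ⟨y, hyV⟩⟩,
    inferInstance, rs, ?_, hker⟩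
  obtain ⟨h1, h2, h3⟩ := seq_implications (A := Γ(X, V.ι ''ᵁ U)) rs
  exact h3 (h2 (h1 hrs))

end Groth.Agent.Div89.RelQuasiFibres
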