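import Groth.Agent.SchBasics.SectionRegImm
import Groth.Agent.FlatMor66.SliceAlg
import Mathlib.RingTheory.RingHom.StandardSmooth
import Mathlib.RingTheory.Regular.Flat

/-!
A section of an algebra étale over a polynomial ring is cut out, near itself, by a regular sequence.
-/

set_option autoImplicit false
set_option linter.style.haveILetI false
set_option backward.isDefEq.respectTransparency.types false

universe u

open RingTheory.Sequence

namespace Groth.Agent.Div89.SectionReg

theorem exists_weaklyRegular_of_etale {R A : Type u} [CommRing R] [CommRing A] [Algebra R A]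
    [Algebra.FinitePresentation R A] {n : ℕ} (g : MvPolynomial (Fin n) R →ₐ[R] A) (hg : g.Etale)
    (ε : A →ₐ[R] R) :
    ∃ r : A, ε r = 1 ∧ ∀ (A' : Type u) [CommRing A'] [Algebra A A'] [IsLocalization.Away r A'],
      ∃ fs : List A', fs.length = n ∧ IsWeaklyRegular A' fs ∧
        Ideal.ofList fs = (RingHom.ker ε).map (algebraMap A A') := by
  classical
  let P := MvPolynomial (Fin n) R
  let a : Fin n → R := fun i => ε (g (MvPolynomial.X i))
  let τ : P →ₐ[R] P := MvPolynomial.aeval fun i => MvPolynomial.X i - MvPolynomial.C (a i)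
  let τ' : P →ₐ[R] P := MvPolynomial.aeval fun i => MvPolynomial.X i + MvPolynomial.C (a i)
  let e : P ≃ₐ[R] P := AlgEquiv.ofAlgHom τ τ'
    (MvPolynomial.algHom_ext fun i => by simp [τ, τ', P, MvPolynomial.algebraMap_eq])
    (MvPolynomial.algHom_ext fun i => by simp [τ, τ', P, MvPolynomial.algebraMap_eq])
  let ψ : P →ₐ[R] A := g.comp τ
  have hψX : ∀ i, ψ (MvPolynomial.X i) = g (MvPolynomial.X i) - algebraMap R A (a i) := fun i => by
    simp [ψ, τ, P, MvPolynomial.algebraMap_eq]
  have hψ : ψ.toRingHom.Etale := RingHom.Etale.respectsIso.2 g.toRingHom e.toRingEquiv hg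
  letI := ψ.toRingHom.toAlgebra
  haveI : Algebra.Etale P A := hψ
  let f : List A := List.ofFn fun i => ψ (MvPolynomial.X i)
  have hreg : IsWeaklyRegular A f := by
    have h := IsWeaklyRegular.of_flat (S := A) (FlatMor66.isWeaklyRegular_X (R := R) n)
    rw [List.map_ofFn] at h
    exact h
  let I : Ideal A := RingHom.ker ε
  let J : Ideal A := Ideal.ofList f
  have hεX : ∀ i, ε (ψ (MvPolynomial.X i)) = 0 := fun i => by
    rw [hψX, map_sub, ε.commutes]; exact sub_self _
  have hmemJ : ∀ i, ψ (MvPolynomial.X i) ∈ J := fun i =>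
    Ideal.subset_span (List.mem_ofFn.2 ⟨i, rfl⟩)
  have hJI : J ≤ I := Ideal.span_le.2 fun x hx => by
    obtain ⟨i, rfl⟩ := List.mem_ofFn.1 hx
    exact hεX i
  let K : Ideal A := J ⊔ I ^ 2
  let g₁ : A →ₐ[P] A ⧸ K := Ideal.Quotient.mkₐ P K
  have hP : ∀ p : P, Ideal.Quotient.mk K (algebraMap R A (ε (ψ p))) = Ideal.Quotient.mk K (ψ p) := by
    intro p
    refine DFunLike.congr_fun (f := (Ideal.Quotient.mkₐ R K).comp ((Algebra.ofId R A).comp (ε.comp ψ)))
      (g := (Ideal.Quotient.mkₐ R K).comp ψ) (MvPolynomial.algHom_ext fun i => ?_) p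
    show Ideal.Quotient.mk K (algebraMap R A (ε (ψ _))) = Ideal.Quotient.mk K (ψ _)
    rw [hεX, map_zero, map_zero, eq_comm, Ideal.Quotient.eq_zero_iff_mem]
    exact Ideal.mem_sup_left (hmemJ i)
  let g₂ : A →ₐ[P] A ⧸ K :=
    { ((Ideal.Quotient.mk K).comp ((algebraMap R A).comp ε.toRingHom)) with commutes' := hP }
  have hnil : IsNilpotent (I.map (Ideal.Quotient.mk K)) := ⟨2, by
    rw [← Ideal.map_pow, Ideal.zero_eq_bot, Ideal.map_eq_bot_iff_le_ker, Ideal.mk_ker]; exact le_sup_right⟩
  have heq : g₁ = g₂ := Algebra.FormallyUnramified.ext _ hnil fun x => by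
    rw [Ideal.Quotient.eq]
    show Ideal.Quotient.mk K x - Ideal.Quotient.mk K (algebraMap R A (ε x)) ∈ _
    rw [← map_sub]
    refine Ideal.mem_map_of_mem _ ?_
    show ε _ = 0
    rw [map_sub, ε.commutes]; exact sub_self _
  have hIJ : I ≤ J ⊔ I ^ 2 := fun x hx => by
    have h1 : Ideal.Quotient.mk K x = Ideal.Quotient.mk K (algebraMap R A (ε x)) := DFunLike.congr_fun heq x
    rw [show ε x = 0 from hx, map_zero, map_zero] at h1
    exact Ideal.Quotient.eq_zero_iff_mem.1 h1
  have hIfg : I.FG := Algebra.FinitePresentation.ker_fG_of_surjective ε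
    (fun r => ⟨algebraMap R A r, ε.commutes r⟩)
  obtain ⟨r, hr, hrI⟩ := Submodule.exists_sub_one_mem_and_smul_eq_zero_of_fg_of_le_smul I
    (Submodule.map J.mkQ I) (Submodule.FG.map _ hIfg) (by
      rintro _ ⟨a, ha, rfl⟩
      obtain ⟨y, hy, z, hz, rfl⟩ := Submodule.mem_sup.1 (hIJ ha)
      rw [map_add, show J.mkQ y = 0 from
        (Submodule.Quotient.mk_eq_zero _).2 hy, zero_add, ← Submodule.map_smul'']
      exact Submodule.mem_map_of_mem (by rw [smul_eq_mul, ← pow_two]; exact hz))
  have hεr : ε r = 1 := by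
    have : ε (r - 1) = 0 := hr
    rwa [map_sub, map_one, sub_eq_zero] at this
  refine ⟨r, hεr, fun A' _ _ _ => ⟨f.map (algebraMap A A'), by simp [f], ?_, ?_⟩⟩
  · haveI := IsLocalization.flat A' (Submonoid.powers r)
    exact hreg.of_flat
  · rw [← Ideal.map_ofList]
    refine le_antisymm (Ideal.map_mono hJI) (Ideal.map_le_iff_le_comap.2 fun x hx => ?_)
    have hrx : r * x ∈ J :=
      (Submodule.Quotient.mk_eq_zero _).1 (hrI _ ⟨x, hx, rfl⟩)
    have := Ideal.mem_map_of_mem (algebraMap A A') hrx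
    rw [map_mul] at this
    exact (Ideal.unit_mul_mem_iff_mem _ (IsLocalization.Away.algebraMap_isUnit (S := A') r)).1 this

end Groth.Agent.Div89.SectionReg
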