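import Groth.Agent.Div89.UFD
import Groth.Agent.CAlg1.FlatFibre
import Groth.Agent.CAlg1.SerreNormal
import Mathlib.RingTheory.KrullDimension.Regular

/-! Serre conditions pass to effective Cartier divisors with a shift. -/

set_option autoImplicit false
set_option linter.style.haveILetI false
set_option backward.isDefEq.respectTransparency.types false

noncomputable section

universe u

open CategoryTheory AlgebraicGeometry TopologicalSpace IsLocalRing Groth.Agent.EGA4Alg4

namespace Groth.Agent.Div89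

lemma depth_quotient_span_singleton {A : Type u} [CommRing A] [IsLocalRing A] [IsNoetherianRing A] {f : A}
    (hf : f ∈ maximalIdeal A) (hreg : f ∈ nonZeroDivisors A) :
    haveI : Nontrivial (A ⧸ Ideal.span {f}) := Ideal.Quotient.nontrivial_iff.2 fun h =>
      (mem_maximalIdeal f).1 hf (Ideal.span_singleton_eq_top.1 h)
    haveI := IsLocalRing.of_surjective' (Ideal.Quotient.mk (Ideal.span {f})) Ideal.Quotient.mk_surjective
    LocCoh.depth (A ⧸ Ideal.span {f}) (A ⧸ Ideal.span {f}) + 1 = LocCoh.depth A A := by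
  haveI : Nontrivial (A ⧸ Ideal.span {f}) := Ideal.Quotient.nontrivial_iff.2 fun h =>
      (mem_maximalIdeal f).1 hf (Ideal.span_singleton_eq_top.1 h)
  have hs : IsSMulRegular A f := IsSMulRegular.of_right_eq_zero_of_smul fun a ha =>
    mem_nonZeroDivisors_iff_right.1 hreg a ((mul_comm _ _).trans ha)
  rw [← CAlg1.depth_quotient_self A (Ideal.span {f}), ← depth_quotSMulTop_add_one hf hs]
  congr 1
  refine depth_eq_of_equiv (Submodule.quotEquivOfEq _ _ ?_).symm
  rw [← Submodule.ideal_span_singleton_smul, Ideal.smul_eq_mul, Ideal.mul_top]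

/-- Serre's condition drops by one on an effective divisor. -/
theorem serre_effCartier (X : Scheme.{u}) [IsLocallyNoetherian X] (k : ℕ)
    (hX : ∀ x : X, min (k : WithBot ℕ∞) (ringKrullDim (X.presheaf.stalk x)) ≤
      ((LocCoh.depth (X.presheaf.stalk x) (X.presheaf.stalk x) : ℕ∞) : WithBot ℕ∞))
    (I : X.IdealSheafData) (hI : BlowUp.IsEffCartierIdeal I) (d : I.subscheme) :
    min ((k - 1 : ℕ) : WithBot ℕ∞) (ringKrullDim (I.subscheme.presheaf.stalk d)) ≤
      ((LocCoh.depth (I.subscheme.presheaf.stalk d) (I.subscheme.presheaf.stalk d) : ℕ∞) : WithBot ℕ∞) := by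
  haveI : IsLocallyNoetherian I.subscheme := LocallyOfFiniteType.isLocallyNoetherian I.subschemeι
  obtain ⟨g, hg, hgI⟩ := exists_stalk_generator hI (I.subschemeι d)
  let A := X.presheaf.stalk (I.subschemeι d)
  let B := I.subscheme.presheaf.stalk d
  have hsurj : Function.Surjective (I.subschemeι.stalkMap d).hom := I.subschemeι.stalkMap_surjective d
  have hker : RingHom.ker (I.subschemeι.stalkMap d).hom = Ideal.span {g} := by
    ext e
    rw [RingHom.mem_ker, stalkMap_subschemeι_eq_zero_iff, hgI]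
  let e : A ⧸ Ideal.span {g} ≃+* B :=
    (Ideal.quotEquivOfEq hker.symm).trans (RingHom.quotientKerEquivOfSurjective hsurj)
  haveI : Nontrivial (A ⧸ Ideal.span {g}) := e.toEquiv.nontrivial
  have hgm : g ∈ maximalIdeal A := (mem_maximalIdeal g).2 fun h =>
    absurd (Ideal.span_singleton_eq_top.2 h) (Ideal.Quotient.nontrivial_iff.1 inferInstance)
  haveI := IsLocalRing.of_surjective' (Ideal.Quotient.mk (Ideal.span {g})) Ideal.Quotient.mk_surjective
  have hdep : LocCoh.depth B B + 1 = LocCoh.depth A A := by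
    rw [← CAlg1.depth_eq_of_ringEquiv e]
    exact depth_quotient_span_singleton hgm hg
  have hdim : ringKrullDim B + 1 ≤ ringKrullDim A := by
    rw [← ringKrullDim_eq_of_ringEquiv e]
    exact ringKrullDim_quotient_succ_le_of_nonZeroDivisor hg
  have h := hX (I.subschemeι d)
  change min ((k - 1 : ℕ) : WithBot ℕ∞) (ringKrullDim B) ≤ ((LocCoh.depth B B : ℕ∞) : WithBot ℕ∞)
  change min (k : WithBot ℕ∞) (ringKrullDim A) ≤ ((LocCoh.depth A A : ℕ∞) : WithBot ℕ∞) at h
  rw [← hdep] at h
  obtain ⟨b, hb⟩ := WithBot.ne_bot_iff_exists.1 (ringKrullDim_ne_bot (R := B))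
  obtain ⟨a, ha⟩ := WithBot.ne_bot_iff_exists.1 (ringKrullDim_ne_bot (R := A))
  rw [← hb, ← ha] at hdim
  rw [← ha] at h
  rw [← hb]
  have hd' : b + 1 ≤ a := WithBot.coe_le_coe.1 hdim
  rw [show (k : WithBot ℕ∞) = ((k : ℕ∞) : WithBot ℕ∞) from rfl, ← WithBot.coe_min, WithBot.coe_le_coe] at h
  rw [show ((k - 1 : ℕ) : WithBot ℕ∞) = (((k - 1 : ℕ) : ℕ∞) : WithBot ℕ∞) from rfl, ← WithBot.coe_min,
    WithBot.coe_le_coe]
  generalize LocCoh.depth B B = δ at h ⊢
  rcases k with _ | k
  · simp
  rw [Nat.add_sub_cancel]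
  refine (ENat.add_le_add_iff_right (show (1 : ℕ∞) ≠ ⊤ by simp)).1 (le_trans ?_ h)
  refine le_min ((add_le_add (min_le_left _ _) le_rfl).trans_eq (by push_cast; rfl)) ?_
  exact (add_le_add (min_le_right _ _) le_rfl).trans hd'

end Groth.Agent.Div89
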