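import Groth.Agent.Div89.Fitting
import Groth.Agent.Div89.BlowUp
import Groth.Agent.Fit14.Blow
import Groth.Agent.E4O.KernelFP
import Groth.Agent.RB70.FibreCrit
import Groth.Agent.Div89.DivProd
import Groth.Agent.CAlg8.Canon.Comp
import Groth.Agent.Div89.Comap

/-! Strict transforms along blow-ups in Fitting ideals. -/

set_option autoImplicit false
set_option linter.style.haveILetI false
set_option backward.isDefEq.respectTransparency.types false

noncomputable section

universe u

open CategoryTheory CategoryTheory.Limits AlgebraicGeometry TopologicalSpace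
open Groth.Agent Groth.Agent.QC70 Groth.Agent.Props58.LocFree
open scoped nonZeroDivisors

namespace Groth.Agent.Div89.StrictFit

variable {X : Scheme.{u}}

/-- Generators of the stalk of a finite type module generate nearby. -/
theorem exists_epi_of_span (F : X.Modules) [F.IsFiniteType] (x : X) {r : ℕ} (b : Fin r → F.presheaf.stalk x)
    (hb : Submodule.span (X.presheaf.stalk x) (Set.range b) = ⊤) :
    ∃ U : X.Opens, x ∈ U ∧ ∃ π : FlatMod.freeMod (↑U) r ⟶ F.restrict U.ι, Epi π := by
  obtain ⟨U, hx, s, hs⟩ := exists_lift_family x b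
  obtain ⟨W, hW, hxW, hWs⟩ := exists_nhd_surjective s hx
    ((germComb_surjective_iff s x hx).2 (by simpa only [hs] using hb))
  let N := F.restrict W.ι
  let t : Fin r → Γ(N, ⊤) := fun i =>
    (F.restrictAppIso W.ι ⊤).inv (res F (W.ι_image_top.le.trans hW) (s i))
  let g : ∀ _ : Fin r, Coh.structureModule W.toScheme ⟶ N := fun i =>
    N.unitHomEquiv.symm ⟨fun V => res N (le_top : V.unop ≤ ⊤) (t i),
      fun {V _} j => res_res (le_top : V.unop ≤ ⊤) (leOfHom j.unop) (t i)⟩
  let ψ : FlatMod.freeMod W.toScheme r ⟶ N := Sigma.desc g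
  have hg : ∀ i, ψ.app ⊤ (unitVec _ r i) = t i := by
    intro i
    change (Sigma.ι (fun _ : Fin r => Coh.structureModule W.toScheme) i ≫ ψ).app ⊤ (toUnit 1) = _
    rw [Sigma.ι_desc]
    refine (one_smul Γ(W.toScheme, ⊤) _).trans ?_
    exact res_self (t i)
  refine ⟨W, hxW, ψ, epi_of_locally_surjective ψ fun V z q hq => ?_⟩
  have hV : W.ι ''ᵁ V ≤ U := ((W.ι.image_mono le_top).trans W.ι_image_top.le).trans hW
  have hqV : q.1 ∈ W.ι ''ᵁ V := ⟨q, hq, rfl⟩
  obtain ⟨c, hc⟩ := hWs q.1 q.2 (germM F (W.ι ''ᵁ V) q.1 hqV ((F.restrictAppIso W.ι V).hom z))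
  obtain ⟨O, hO, hqO, a, ha⟩ := exists_common_lift (U := W.ι ''ᵁ V) hqV c
  obtain ⟨O', hO', hqO', e⟩ := exists_comb_eq (hO.trans hV) a
    (res F hO ((F.restrictAppIso W.ι V).hom z)) hqO (by rw [funext ha, germM_res]; exact hc)
  let V' := W.ι ⁻¹ᵁ O'
  have hV'O : W.ι ''ᵁ V' ≤ O' := W.ι.image_preimage_le O'
  have hV' : V' ≤ V := fun p hp => by
    obtain ⟨p', hp', hpp⟩ := hO (hO' hp)
    rwa [Subtype.ext hpp] at hp'
  refine ⟨V', hV', ∑ i, (W.ι.appIso V').hom (resO X (hV'O.trans hO') (a i)) •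
    res _ le_top (unitVec _ r i), hqO', ?_⟩
  apply (ConcreteCategory.bijective_of_isIso (F.restrictAppIso W.ι V').hom).1
  rw [map_sum]
  simp only [Scheme.Modules.Hom.app_smul, app_res, hg]
  rw [restrictAppIso_comb]
  simp only [Iso.hom_inv_id_apply, t, Iso.inv_hom_id_apply, res_res]
  have := congrArg (res F hV'O) e
  rw [res_res, res_res, res_sum] at this
  refine Eq.trans (Finset.sum_congr rfl fun i _ => ?_) (this.trans ?_)
  · rw [res_smul, resO_resO, res_res]
  · rfl

/-- Generators of the stalks with vanishing lower Fitting ideals form local frames. -/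
theorem isFinLocFreeOfRank_of_stalks (F : X.Modules) [F.IsFiniteType] {r : ℕ}
    (h2 : ∀ x : X, ∃ b : Fin r → F.presheaf.stalk x, Submodule.span (X.presheaf.stalk x) (Set.range b) = ⊤)
    (h1 : ∀ x : X, ∀ k < r, Fitt.ideal (X.presheaf.stalk x) (F.presheaf.stalk x) k = ⊥) :
    FlatMod.IsFinLocFreeOfRank r F := fun x => by
  obtain ⟨b, hb⟩ := h2 x
  obtain ⟨U, hx, s, hs⟩ := exists_lift_family x b
  obtain ⟨W, hW, hxW, hWs⟩ := exists_nhd_surjective s hx
    ((germComb_surjective_iff s x hx).2 (by simpa only [hs] using hb))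
  refine ⟨W, hxW, nonempty_iso_of_stalkBasis (s := fun i => res F hW (s i)) fun y hy => ?_⟩
  have hspan := (germComb_surjective_iff s y (hW hy)).1 (hWs y hy)
  obtain ⟨B⟩ := Fit14.free_of_gens_of_ideal_eq_bot _ hspan (h1 y)
  let e : F.presheaf.stalk y ≃ₗ[X.presheaf.stalk y] (Fin r → X.presheaf.stalk y) := B.equivFun
  let l := Fintype.linearCombination (X.presheaf.stalk y) fun i => germM F U y (hW hy) (s i)
  have hl : ⇑l = germComb s y (hW hy) := funext fun c => by
    rw [Fintype.linearCombination_apply]; rfl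
  have hsurj : Function.Surjective (e.toLinearMap ∘ₗ l) :=
    e.surjective.comp (by rw [hl]; exact hWs y hy)
  have hbij : Function.Bijective (e.toLinearMap ∘ₗ l) :=
    ⟨OrzechProperty.injective_of_surjective_endomorphism _ hsurj, hsurj⟩
  have : Function.Bijective l := (Function.Bijective.of_comp_iff' e.bijective l).1 hbij
  rw [funext (germComb_res s hW y hy), ← hl]
  exact this

section Stalks

variable {X' : Scheme.{u}} {b : X' ⟶ X} {I : X.IdealSheafData} {F : X.Modules} {G : X'.Modules}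
  {π : (Scheme.Modules.pullback b).obj F ⟶ G}

/-- Torsion for the local equation dies in the strict transform. -/
lemma strict_kills (hG : BlowUp.IsStrictTransform b I F G π) (hE : BlowUp.IsEffCartierIdeal (I.comap b))
    (y : X') {g : X'.presheaf.stalk y} (hg : stalkIdeal (I.comap b) y = Ideal.span {g})
    (m : ((Scheme.Modules.pullback b).obj F).presheaf.stalk y) (hm : g • m = 0) :
    stalkLinear π y m = 0 := by
  let N := (Scheme.Modules.pullback b).obj F
  obtain ⟨U, hyU, t, -, hI⟩ := hE y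
  obtain ⟨c, hc⟩ := Ideal.mem_span_singleton'.1
    ((hg.le.trans' le_rfl) ((stalkIdeal_eq_span hI y hyU).ge (Ideal.mem_span_singleton_self _)))
  obtain ⟨W, hyW, s, rfl⟩ := germM_exist m
  obtain ⟨V₀, hV₀, hyV₀, hle₀⟩ := exists_isAffineOpen_mem_and_subset (show y ∈ W ⊓ U.1 from ⟨hyW, hyU⟩)
  have hVW : V₀ ≤ W := fun z hz => (hle₀ hz).1
  have hVU : V₀ ≤ U.1 := fun z hz => (hle₀ hz).2
  have hzero : germM N V₀ y hyV₀ (resO X' hVU t • res N hVW s) = 0 := by
    rw [germM_smul, germ_resO, germM_res, ← hc, mul_smul, hm, smul_zero]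
  obtain ⟨W', hW', hyW', h0⟩ := germM_eq_zero hzero
  obtain ⟨V, hV, hyV, hle⟩ := exists_isAffineOpen_mem_and_subset hyW'
  have hVV : V ≤ V₀ := (show V ≤ W' from hle).trans hW'
  have hkill : BlowUp.KilledByPowerNear (BlowUp.exceptional b I) N ⟨V, hV⟩ (res N (hVV.trans hVW) s) := by
    refine ⟨1, fun a ha => ?_⟩
    rw [pow_one, BlowUp.exceptional, ideal_res_span (U := U) (V := ⟨V, hV⟩) (hVV.trans hVU) hI,
      Ideal.mem_span_singleton'] at ha
    obtain ⟨a', rfl⟩ := ha
    rw [mul_smul]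
    have h1 := congrArg (res N (show V ≤ W' from hle)) h0
    rw [res_res, res_smul, res_zero, resO_resO, res_res] at h1
    exact (congrArg (a' • ·) h1).trans (smul_zero a')
  have h0' := (hG.2 ⟨V, hV⟩ _).2 hkill
  show stalkMapM π y (germM N W y hyW s) = 0
  rw [← germM_res (hVV.trans hVW) hyV s, stalkMapM_germ, h0', germM_zero]

/-- Only torsion dies in the strict transform. -/
lemma strict_ker (hG : BlowUp.IsStrictTransform b I F G π) (y : X') {g : X'.presheaf.stalk y}
    (hg : stalkIdeal (I.comap b) y = Ideal.span {g})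
    (m : ((Scheme.Modules.pullback b).obj F).presheaf.stalk y) (hm : stalkLinear π y m = 0) :
    ∃ n : ℕ, g ^ n • m = 0 := by
  let N := (Scheme.Modules.pullback b).obj F
  obtain ⟨W, hyW, s, rfl⟩ := germM_exist m
  have hm' : germM G W y hyW (π.app W s) = 0 := (stalkMapM_germ π hyW s).symm.trans hm
  obtain ⟨W', hW', hyW', h0⟩ := germM_eq_zero hm'
  obtain ⟨V, hV, hyV, hle⟩ := exists_isAffineOpen_mem_and_subset hyW'
  have hVW : V ≤ W := (show V ≤ W' from hle).trans hW'
  have h1 : π.app V (res N hVW s) = 0 := by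
    have h2 := congrArg (res G (show V ≤ W' from hle)) h0
    rw [res_res, res_zero] at h2
    exact (app_res π hVW s).trans h2
  obtain ⟨n, hn⟩ := (hG.2 ⟨V, hV⟩ _).1 h1
  refine ⟨n, ?_⟩
  have hmem : g ^ n ∈ ((BlowUp.exceptional b I ^ n).ideal ⟨V, hV⟩).map (X'.presheaf.germ V y hyV).hom := by
    refine (stalkIdeal_eq (BlowUp.exceptional b I ^ n) ⟨V, hV⟩ y hyV).le ?_
    rw [stalkIdeal_pow]
    exact Ideal.pow_mem_pow (hg.ge (Ideal.mem_span_singleton_self g)) n
  have hle' : ((BlowUp.exceptional b I ^ n).ideal ⟨V, hV⟩).map (X'.presheaf.germ V y hyV).hom ≤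
      LinearMap.ker (LinearMap.toSpanSingleton (X'.presheaf.stalk y) _ (germM N W y hyW s)) :=
    Ideal.map_le_iff_le_comap.2 fun a ha => by
      rw [Ideal.mem_comap, LinearMap.mem_ker, LinearMap.toSpanSingleton_apply, ← germM_res hVW hyV s]
      exact (germM_smul hyV a _).symm.trans ((congrArg (germM N V y hyV) (hn a ha)).trans (germM_zero hyV))
  exact LinearMap.mem_ker.1 (hle' hmem)

end Stalks

section Fitting

variable {S' : Scheme.{u}} {b : S' ⟶ X} {F : X.Modules} {k : ℕ} {G : S'.Modules}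
  {π : (Scheme.Modules.pullback b).obj F ⟶ G}
  (hF : Coh.IsQCoh F) (hft : CohB1.IsFT F) (hb : BlowUp.IsBlowUp b (Fitt.sheafIdeal F k))
  (hG : BlowUp.IsStrictTransform b (Fitt.sheafIdeal F k) F G π)
include hF hft hb hG

theorem isFiniteType_target : G.IsFiniteType := by
  haveI : F.IsFiniteType := hft
  haveI : F.IsQuasicoherent := hF
  haveI := QCPull72.isFiniteType_pullback b F
  haveI := hG.1
  exact isFiniteType_of_epi π

theorem exists_gens (y : S') :
    ∃ v : Fin k → G.presheaf.stalk y, Submodule.span (S'.presheaf.stalk y) (Set.range v) = ⊤ := by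
  haveI : F.IsFiniteType := hft
  haveI : F.IsQuasicoherent := hF
  haveI := QCPull72.isFiniteType_pullback b F
  haveI := hG.1
  haveI := finite_stalk_of_isFiniteType (M := (Scheme.Modules.pullback b).obj F) y
  haveI := isFiniteType_target hF hft hb hG
  haveI := finite_stalk_of_isFiniteType (M := G) y
  obtain ⟨g, hg, hgI⟩ := exists_stalk_generator hb.1 y
  have hfit : Fitt.ideal (S'.presheaf.stalk y) (((Scheme.Modules.pullback b).obj F).presheaf.stalk y) k =
      Ideal.span {g} := by
    rw [← fitting_stalkIdeal _ (QCPull72.isQuasicoherent_pullback b F) (QCPull72.isFiniteType_pullback b F),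
      ← fitting_comap b F hF hft]
    exact hgI
  obtain ⟨n, x, hx⟩ := Fit14.exists_gens (S'.presheaf.stalk y) (((Scheme.Modules.pullback b).obj F).presheaf.stalk y)
  exact Fit14.exists_gens_of_ideal_eq_top (Fit14.ideal_eq_top_of_quotient_local x hx k g
    (nonZeroDivisors.ne_zero hg) hfit (stalkLinear π y) (surjective_stalkMapM_of_epi π y)
    fun m hm => strict_kills hG hb.1 y hgI m hm)

/-- The strict transform is free of rank `k` when the lower Fitting ideals die upstairs. -/
theorem isFinLocFreeOfRank (h0 : ∀ j < k, (Fitt.sheafIdeal F j).comap b = ⊥) :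
    FlatMod.IsFinLocFreeOfRank k G := by
  haveI : F.IsFiniteType := hft
  haveI : F.IsQuasicoherent := hF
  haveI := QCPull72.isFiniteType_pullback b F
  haveI := hG.1
  haveI := isFiniteType_target hF hft hb hG
  refine isFinLocFreeOfRank_of_stalks G (exists_gens hF hft hb hG) fun y j hj => ?_
  haveI := finite_stalk_of_isFiniteType (M := (Scheme.Modules.pullback b).obj F) y
  obtain ⟨g, hg, hgI⟩ := exists_stalk_generator hb.1 y
  refine Fit14.ideal_eq_bot_of_torsion j g hg (stalkLinear π y) (surjective_stalkMapM_of_epi π y)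
    (fun m hm => strict_ker hG y hgI m hm) ?_
  rw [← fitting_stalkIdeal _ (QCPull72.isQuasicoherent_pullback b F) (QCPull72.isFiniteType_pullback b F),
    ← fitting_comap b F hF hft, h0 j hj, stalkIdeal_bot]

end Fitting

/-- An ideal vanishing off an effective Cartier divisor vanishes. -/
lemma eq_bot_of_off_divisor {E J : X.IdealSheafData} (hE : BlowUp.IsEffCartierIdeal E)
    (h : ∀ y, y ∉ E.support → stalkIdeal J y = ⊥) : J = ⊥ := by
  refine ext_stalkIdeal fun x => ?_
  rw [stalkIdeal_bot]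
  obtain ⟨U, hx, t, ht, hI⟩ := hE x
  rw [stalkIdeal_eq J U x hx, Ideal.map_eq_bot_iff_le_ker]
  intro A hA
  have h0 : resO X (X.basicOpen_le t) A = 0 := by
    refine TopCat.Presheaf.section_ext X.sheaf _ _ _ fun y hy => ?_
    show (X.presheaf.germ _ y hy).hom (resO X (X.basicOpen_le t) A) = (X.presheaf.germ _ y hy).hom 0
    rw [map_zero, germ_resO]
    have hyU := X.basicOpen_le t hy
    have hys : y ∉ E.support := by
      rw [notMem_support_iff_stalkIdeal, stalkIdeal_eq_span hI y hyU, Ideal.span_singleton_eq_top]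
      exact (X.mem_basicOpen t y hyU).1 hy
    have hm : X.presheaf.germ U.1 y hyU A ∈ stalkIdeal J y := by
      rw [stalkIdeal_eq J U y hyU]; exact Ideal.mem_map_of_mem _ hA
    rw [h y hys] at hm
    exact hm
  obtain ⟨n, hn⟩ := exists_pow_mul_eq_zero_of_res_basicOpen_eq_zero_of_isAffineOpen X U.2 A t h0
  rw [RingHom.mem_ker, (mem_nonZeroDivisors_iff.1 (pow_mem ht n)).1 A hn, map_zero]

/-- Fitting ideals over an open where the module is free of rank `k`. -/
theorem stalkIdeal_fitting_of_free {F : X.Modules} (hF : Coh.IsQCoh F) (hft : CohB1.IsFT F) {k : ℕ}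
    (Z : X.Opens) (hfree : FlatMod.IsFinLocFreeOfRank k (F.restrict Z.ι)) (x : X) (hx : x ∈ Z) :
    (∀ j < k, stalkIdeal (Fitt.sheafIdeal F j) x = ⊥) ∧ x ∉ (Fitt.sheafIdeal F k).support := by
  haveI : F.IsQuasicoherent := hF
  haveI : F.IsFiniteType := hft
  have hfr : FlatMod.IsFinLocFreeOfRank k ((Scheme.Modules.pullback Z.ι).obj F) :=
    CAlg8.Canon.isFinLocFreeOfRank_of_iso ((Scheme.Modules.restrictFunctorIsoPullback Z.ι).app F) hfree
  have h := (finLocFreeOfRank_iff_fitting _ (QCPull72.isQuasicoherent_pullback Z.ι F)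
    (QCPull72.isFiniteType_pullback Z.ι F) k).1 hfr
  have hbij := ConcreteCategory.bijective_of_isIso (Z.ι.stalkMap ⟨x, hx⟩)
  constructor
  · intro j hj
    have h2 : stalkIdeal ((Fitt.sheafIdeal F j).comap Z.ι) ⟨x, hx⟩ = ⊥ := by
      rw [fitting_comap Z.ι F hF hft, h.1 j hj, stalkIdeal_bot]
    rw [stalkIdeal_comap, Ideal.map_eq_bot_iff_le_ker] at h2
    refine eq_bot_iff.2 (h2.trans ?_)
    rw [(RingHom.injective_iff_ker_eq_bot _).1 hbij.1]
    exact le_rfl
  · rw [notMem_support_iff_stalkIdeal]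
    have h2 : stalkIdeal ((Fitt.sheafIdeal F k).comap Z.ι) ⟨x, hx⟩ = ⊤ := by
      rw [fitting_comap Z.ι F hF hft, h.2 k le_rfl, stalkIdeal_top]
    rw [stalkIdeal_comap] at h2
    have h3 := congrArg (Ideal.comap (Z.ι.stalkMap ⟨x, hx⟩).hom) h2
    rw [Ideal.comap_map_of_bijective _ hbij, Ideal.comap_top] at h3
    exact h3

theorem comap_fitting_eq_bot {S' : Scheme.{u}} {b : S' ⟶ X} {F : X.Modules} {k : ℕ}
    (hF : Coh.IsQCoh F) (hft : CohB1.IsFT F)
    (hb : BlowUp.IsBlowUp b (Fitt.sheafIdeal F k))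
    (hfree : FlatMod.IsFinLocFreeOfRank k (F.restrict (Scheme.Opens.ι (Fitt.sheafIdeal F k).support.compl)))
    (j : ℕ) (hj : j < k) : (Fitt.sheafIdeal F j).comap b = ⊥ := by
  refine eq_bot_of_off_divisor hb.1 fun y hy => ?_
  have hby : b y ∉ (Fitt.sheafIdeal F k).support := fun h => hy (by
    rw [Scheme.IdealSheafData.support_comap]; exact h)
  rw [stalkIdeal_comap, (stalkIdeal_fitting_of_free hF hft _ hfree (b y) hby).1 j hj, Ideal.map_bot]

/-- On a schematically dense open the lower Fitting ideals vanish globally. -/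
theorem fitting_eq_bot_of_dense {F : X.Modules} (hF : Coh.IsQCoh F) (hft : CohB1.IsFT F) {U : X.Opens}
    (hU : CInt.IsSchematicallyDense U) {r : ℕ} (hfree : FlatMod.IsFinLocFreeOfRank r (F.restrict U.ι))
    (j : ℕ) (hj : j < r) : Fitt.sheafIdeal F j = ⊥ := by
  refine Scheme.IdealSheafData.ext (funext fun V => eq_bot_iff.2 fun A hA => ?_)
  rw [Ideal.mem_bot]
  refine hU V.1 (Eq.trans ?_ (map_zero (X.presheaf.map (homOfLE (inf_le_left : V.1 ⊓ U ≤ V.1)).op).hom).symm)
  refine TopCat.Presheaf.section_ext X.sheaf _ _ _ fun y hy => ?_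
  show (X.presheaf.germ _ y hy).hom (resO X inf_le_left A) = (X.presheaf.germ _ y hy).hom 0
  rw [map_zero, germ_resO]
  have hm : X.presheaf.germ V.1 y hy.1 A ∈ stalkIdeal (Fitt.sheafIdeal F j) y := by
    rw [stalkIdeal_eq _ V y hy.1]; exact Ideal.mem_map_of_mem _ hA
  rw [(stalkIdeal_fitting_of_free hF hft U hfree y hy.2).1 j hj] at hm
  exact hm

/-- The kernel of the strict transform vanishes off the exceptional divisor. -/
theorem isZero_kernel_restrict {S' : Scheme.{u}} {b : S' ⟶ X} {I : X.IdealSheafData} {F : X.Modules}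
    {G : S'.Modules} {π : (Scheme.Modules.pullback b).obj F ⟶ G} (hb : BlowUp.IsBlowUp b I)
    (hG : BlowUp.IsStrictTransform b I F G π) (V : S'.Opens) (hV : ∀ y ∈ V, y ∉ (I.comap b).support) :
    IsZero ((kernel π).restrict V.ι) := by
  refine isZero_restrict_of_sections_subsingleton fun W hW => subsingleton_of_forall_eq 0 fun z => ?_
  refine QC70.app_injective_of_mono (kernel.ι π) W (Eq.trans ?_ (map_zero _).symm)
  obtain ⟨c, hc⟩ : ∃ c, c = (kernel.ι π).app W z := ⟨_, rfl⟩
  rw [← hc]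
  have hπ : π.app W c = 0 := by
    rw [hc]
    have h := congr($(kernel.condition π).app W z)
    exact h
  refine TopCat.Presheaf.section_ext (⟨_, ((Scheme.Modules.pullback b).obj F).isSheaf⟩ : TopCat.Sheaf AddCommGrpCat S') W c 0 fun y hy => ?_
  show germM _ W y hy c = germM _ W y hy 0
  rw [germM_zero]
  obtain ⟨g, -, hgI⟩ := exists_stalk_generator hb.1 y
  obtain ⟨n, hn⟩ := strict_ker hG y hgI (germM _ W y hy c)
    ((stalkMapM_germ π hy c).trans ((congrArg (germM G W y hy) hπ).trans (germM_zero hy)))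
  have hu : IsUnit g := by
    have h := hV y (hW hy)
    rw [notMem_support_iff_stalkIdeal] at h
    exact Ideal.span_singleton_eq_top.1 (hgI.symm.trans h)
  exact (hu.pow n).smul_eq_zero.1 hn

end Groth.Agent.Div89.StrictFit
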