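import Groth.Agent.Div89.WeakAss
import Groth.Agent.Div89.BlowUp
import Groth.Agent.Div89.CartierFibre
import Groth.Agent.FlatMor68.PullbackStalk
import Mathlib.RingTheory.Flat.Stability
import Mathlib.RingTheory.Flat.TorsionFree

/-!
Modules flat along the centre are their own strict transforms.
-/

set_option autoImplicit false
set_option linter.style.haveILetI false
set_option backward.isDefEq.respectTransparency.types false

universe u

open CategoryTheory AlgebraicGeometry TopologicalSpace TensorProduct

namespace Groth.Agent.Div89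

/-- A module flat along the centre of a blow-up has no sections killed by powers of the exceptional ideal. -/
theorem isStrictTransform_of_flat {S S' : Scheme.{u}} (I : S.IdealSheafData) (b : S' ⟶ S) (hb : BlowUp.IsBlowUp b I)
    (F : S.Modules) (hF : Coh.IsQCoh F) (hflat : ∀ s : S, s ∈ I.support → FlatMod.IsFlatAt F s) :
    BlowUp.IsStrictTransform b I F ((Scheme.Modules.pullback b).obj F) (𝟙 _) := by
  haveI : F.IsQuasicoherent := hF
  have hG : Coh.IsQCoh ((Scheme.Modules.pullback b).obj F) := QCPull72.isQuasicoherent_pullback b F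
  refine ⟨inferInstance, fun V m => ?_⟩
  have hid : (𝟙 ((Scheme.Modules.pullback b).obj F) : _ ⟶ _).app V.1 m = m := by simp
  rw [hid]
  constructor
  · rintro rfl
    exact ⟨0, fun a _ => smul_zero a⟩
  rintro ⟨n, hn⟩
  refine section_eq_zero_of_germ_weakAss _ hG m fun x hx _ => ?_
  obtain ⟨g, hg, hgE⟩ := exists_stalk_generator hb.1 x
  set t := ((Scheme.Modules.pullback b).obj F).presheaf.germ V.1 x hx m
  have hkill : g ^ n • t = 0 := by
    have hmem : g ^ n ∈ ((BlowUp.exceptional b I ^ n).ideal V).map (S'.presheaf.germ V.1 x hx).hom := by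
      rw [← stalkIdeal_eq, stalkIdeal_pow]
      exact Ideal.pow_mem_pow (hgE.ge (Ideal.mem_span_singleton_self g)) n
    have hle : ((BlowUp.exceptional b I ^ n).ideal V).map (S'.presheaf.germ V.1 x hx).hom ≤
        LinearMap.ker (LinearMap.toSpanSingleton (S'.presheaf.stalk x) _ t) :=
      Ideal.map_le_iff_le_comap.2 fun a ha => by
        rw [Ideal.mem_comap, LinearMap.mem_ker, LinearMap.toSpanSingleton_apply, ← germ_smul, hn a ha]
        exact map_zero _
    exact LinearMap.mem_ker.1 (hle hmem)
  by_cases hxs : x ∈ (I.comap b).support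
  · have hbx : b x ∈ I.support := by
      rw [Scheme.IdealSheafData.support_comap] at hxs
      exact hxs
    obtain ⟨E⟩ := FlatMor68.PullbackStalk.nonempty_stalkPullbackEquiv b F x
    letI := (b.stalkMap x).hom.toAlgebra
    haveI : Module.Flat (S.presheaf.stalk (b x)) (F.presheaf.stalk (b x)) := hflat _ hbx
    haveI : Module.Flat (S'.presheaf.stalk x) (((Scheme.Modules.pullback b).obj F).presheaf.stalk x) :=
      Module.Flat.of_linearEquiv E
    exact (Module.Flat.isSMulRegular_of_nonZeroDivisors (pow_mem hg n)).right_eq_zero_of_smul hkill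
  · have hu : IsUnit (g ^ n) := by
      rw [notMem_support_iff_stalkIdeal] at hxs
      exact (Ideal.span_singleton_eq_top.1 (hgE.symm.trans hxs)).pow n
    exact (hu.smul_eq_zero).1 hkill

end Groth.Agent.Div89
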