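import Groth.Agent.Div89.Stalk

/-!
Weakly associated points of the sheaf attached to a module.
-/

set_option autoImplicit false
set_option linter.style.haveILetI false
set_option backward.isDefEq.respectTransparency.types false

noncomputable section

universe u v w

open CategoryTheory AlgebraicGeometry Opposite TopologicalSpace

namespace Groth.Agent.Div89

lemma mem_weakAss_iff_of_semilinear {A : Type u} {B : Type u} [CommRing A] [CommRing B]
    (σ : A ≃+* B) {M : Type v} {N : Type w} [AddCommGroup M] [AddCommGroup N] [Module A M]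
    [Module B N] (e : M → N) (he : Function.Bijective e) (h0 : e 0 = 0)
    (hs : ∀ (a : A) (m : M), e (a • m) = σ a • e m) (p : Ideal B) [hp : p.IsPrime] :
    p ∈ FlatCA.weakAss B N ↔ p.comap σ.toRingHom ∈ FlatCA.weakAss A M := by
  rw [CAlg5.mem_weakAss_iff, CAlg5.mem_weakAss_iff]
  have hz : ∀ (a : A) (m : M), a • m = 0 ↔ σ a • e m = 0 := fun a m => by
    rw [← hs, ← h0, he.1.eq_iff]
  constructor
  · rintro ⟨n, h1, h2⟩
    obtain ⟨m, rfl⟩ := he.2 n
    refine ⟨m, fun a ha => h1 _ ((hz a m).1 ha), fun a ha => ?_⟩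
    obtain ⟨s, hs', k, hk⟩ := h2 (σ a) ha
    refine ⟨σ.symm s, fun hh => hs' ?_, k, (hz _ m).2 ?_⟩
    · have hh' : σ (σ.symm s) ∈ p := hh
      rwa [σ.apply_symm_apply] at hh'
    rw [map_mul, map_pow, σ.apply_symm_apply]
    exact hk
  · rintro ⟨m, h1, h2⟩
    refine ⟨e m, fun b hb => ?_, fun b hb => ?_⟩
    · have := h1 (σ.symm b) ((hz _ m).2 (by rwa [σ.apply_symm_apply]))
      have h' : σ (σ.symm b) ∈ p := this
      rwa [σ.apply_symm_apply] at h'
    · obtain ⟨s, hs', k, hk⟩ := h2 (σ.symm b) (show σ (σ.symm b) ∈ p by rwa [σ.apply_symm_apply])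
      refine ⟨σ s, hs', k, ?_⟩
      have := (hz _ m).1 hk
      rwa [map_mul, map_pow, σ.apply_symm_apply] at this

theorem isWeakAssPoint_tilde (A : CommRingCat.{u}) (M : ModuleCat.{u} A) (p : Spec A) :
    Curv2.IsWeakAssPoint (tilde M) p ↔ p.asIdeal ∈ FlatCA.weakAss A M := by
  let U : (Spec A).affineOpens := ⟨⊤, isAffineOpen_top _⟩
  have hF : Coh.IsQCoh (tilde M) := inferInstance
  rw [isWeakAssPoint_iff (tilde M) hF U p trivial]
  let σ : A ≃+* Γ(Spec A, ⊤) := (Scheme.ΓSpecIso A).commRingCatIsoToRingEquiv.symm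
  let e : M → Γ(tilde M, ⊤) := fun m => (tilde.toOpen M ⊤).hom m
  have he : Function.Bijective e :=
    (ConcreteCategory.bijective_of_isIso (tilde.toOpen M ⊤) : _)
  have hs : ∀ (a : A) (m : M), e (a • m) = σ a • e m := fun a m => by
    refine (map_smul (tilde.toOpen M ⊤).hom a m).trans ?_
    refine (Scheme.Modules.smul_Spec_def a (e m)).trans ?_
    congr 1
  rw [mem_weakAss_iff_of_semilinear σ e he (map_zero (tilde.toOpen M ⊤).hom) hs (primeAt U p trivial)
    (hp := primeAt_isPrime U p trivial)]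
  have hc : (primeAt U p trivial).comap σ.toRingHom = p.asIdeal := by
    ext a
    rw [Ideal.mem_comap, mem_primeAt_iff]
    have : (Spec A).basicOpen (σ a) = PrimeSpectrum.basicOpen a :=
      AlgebraicGeometry.basicOpen_eq_of_affine a
    show p ∉ (Spec A).basicOpen (σ a) ↔ _
    rw [this]
    exact not_not
  rw [hc]

end Groth.Agent.Div89
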