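import Groth.Agent.CAlg5.WeakAss
import Groth.Agent.S1192
import Mathlib.RingTheory.TensorProduct.DirectLimitFG
import Mathlib.RingTheory.Flat.Stability
import Mathlib.RingTheory.Ideal.GoingDown
import Mathlib.RingTheory.Localization.FractionRing

/-!
Weakly associated primes under extensions of the ground field.
-/

set_option autoImplicit false
set_option linter.style.haveILetI false
set_option backward.isDefEq.respectTransparency.types false

universe u

open TensorProduct

namespace Groth.Agent.Div89.WeakAssField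

attribute [local instance] Algebra.TensorProduct.rightAlgebra

section FlatBase

variable {B₀ B : Type u} [CommRing B₀] [CommRing B] [Algebra B₀ B] [Module.Flat B₀ B]
  {W : Type u} [AddCommGroup W] [Module B₀ W]

/-- Annihilators extend along flat maps. -/
theorem ann_le_map (w : W) :
    (Submodule.span B {(1 : B) ⊗ₜ[B₀] w}).annihilator ≤ (Submodule.span B₀ {w}).annihilator.map (algebraMap B₀ B) := by
  intro b hb
  rw [CAlg5.mem_ann] at hb
  let f := LinearMap.toSpanSingleton B₀ W w
  have hex : Function.Exact (LinearMap.ker f).subtype f := f.exact_subtype_ker_map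
  obtain ⟨z, hz⟩ := (Module.Flat.lTensor_exact B hex (b ⊗ₜ (1 : B₀))).1 (by
    rw [LinearMap.lTensor_tmul]
    simpa [f, TensorProduct.smul_tmul'] using hb)
  have h1 : (TensorProduct.rid B₀ B) ((LinearMap.ker f).subtype.lTensor B z) ∈
      (Submodule.span B₀ {w}).annihilator.map (algebraMap B₀ B) := by
    clear hz
    induction z using TensorProduct.induction_on with
    | zero => simp
    | add x y hx hy => rw [map_add, map_add]; exact add_mem hx hy
    | tmul x a =>
      rw [LinearMap.lTensor_tmul, TensorProduct.rid_tmul, Algebra.smul_def]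
      refine Ideal.mul_mem_right _ _ (Ideal.mem_map_of_mem _ (CAlg5.mem_ann.2 ?_))
      exact a.2
  rw [hz] at h1
  simpa using h1

/-- Weakly associated primes of a flat base change contract to weakly associated primes, for elements from below. -/
theorem under_mem_weakAss (w : W) (q : Ideal B) [q.IsPrime]
    (hq : q ∈ (Submodule.span B {(1 : B) ⊗ₜ[B₀] w}).annihilator.minimalPrimes) :
    q.under B₀ ∈ FlatCA.weakAss B₀ W := by
  refine ⟨w, ⟨inferInstance, fun r hr => ?_⟩, fun Q hQ hle => ?_⟩
  · refine hq.1.2 (CAlg5.mem_ann.2 ?_)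
    rw [IsScalarTower.algebraMap_smul B, ← TensorProduct.tmul_smul, CAlg5.mem_ann.1 hr, TensorProduct.tmul_zero]
  · haveI := hQ.1
    obtain ⟨Q', hQ'q, hQ', hover⟩ := Ideal.exists_ideal_le_liesOver_of_le (p := Q) (q := q.under B₀) q hle
    have h1 : (Submodule.span B {(1 : B) ⊗ₜ[B₀] w}).annihilator ≤ Q' :=
      (ann_le_map w).trans (Ideal.map_le_iff_le_comap.2 (hQ.2.trans hover.over.le))
    have h2 : q ≤ Q' := hq.2 ⟨hQ', h1⟩ hQ'q
    rw [hover.over]
    exact Ideal.comap_mono h2

end FlatBase

section Pushout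

variable {R K B : Type u} [CommRing R] [CommRing K] [CommRing B] [Algebra R K] [Algebra R B]

/-- The second factor of a tensor product with a flat algebra is a flat extension. -/
theorem flat_includeRight [Module.Flat R K] :
    RingHom.Flat (R := B) (S := K ⊗[R] B) (Algebra.TensorProduct.includeRight (R := R) (A := K)).toRingHom := by
  have h := RingHom.Flat.comp (f := algebraMap B (B ⊗[R] K))
    (g := (Algebra.TensorProduct.comm R B K).toAlgHom.toRingHom) (RingHom.flat_algebraMap_iff.2 inferInstance)
    (RingHom.Flat.of_bijective (Algebra.TensorProduct.comm R B K).bijective)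
  have heq : (Algebra.TensorProduct.comm R B K).toAlgHom.toRingHom.comp (algebraMap B (B ⊗[R] K)) =
      (Algebra.TensorProduct.includeRight (R := R) (A := K)).toRingHom :=
    RingHom.ext fun b => Algebra.TensorProduct.comm_tmul R b (1 : K)
  rwa [heq] at h

end Pushout

section Field

variable {k K : Type u} [Field k] [Field K] [Algebra k K] {A : Type u} [CommRing A] [Algebra k A]
  {C : Type u} [CommRing C] [Algebra A C] {M : Type u} [AddCommGroup M] [Module A M]

/-- The map of a stage. -/
noncomputable abbrev stage (e : K ⊗[k] A ≃ₐ[A] C) (D : Subalgebra k K) : ↥D ⊗[k] A →ₐ[A] C :=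
  e.toAlgHom.comp
    { (Algebra.TensorProduct.map D.val (AlgHom.id k A)).toRingHom with
      commutes' := fun a => by
        show (Algebra.TensorProduct.map D.val (AlgHom.id k A)) ((1 : ↥D) ⊗ₜ[k] a) = (1 : K) ⊗ₜ[k] a
        rw [Algebra.TensorProduct.map_tmul, map_one, AlgHom.id_apply] }

/-- A finitely generated subalgebra of a field is a flat base. -/
theorem stage_flat (e : K ⊗[k] A ≃ₐ[A] C) (D : Subalgebra k K) : (stage e D).toRingHom.Flat := by
  haveI : Module.Flat ↥D (FractionRing ↥D) := IsLocalization.flat (FractionRing ↥D) (nonZeroDivisors ↥D)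
  letI : Algebra (FractionRing ↥D) K := FractionRing.liftAlgebra ↥D K
  haveI : IsScalarTower ↥D (FractionRing ↥D) K := inferInstance
  haveI : Module.Free (FractionRing ↥D) K := Module.Free.of_divisionRing _ _
  haveI : Module.Flat (FractionRing ↥D) K := Module.Flat.of_free
  haveI : Module.Flat ↥D K := Module.Flat.trans ↥D (FractionRing ↥D) K
  let φ : ↥D ⊗[k] A →+* K ⊗[k] A := (Algebra.TensorProduct.map D.val (AlgHom.id k A)).toRingHom
  let c := Algebra.TensorProduct.cancelBaseChange k ↥D K K A
  let ψ : ↥D ⊗[k] A →+* K ⊗[↥D] (↥D ⊗[k] A) :=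
    (Algebra.TensorProduct.includeRight (R := ↥D) (A := K)).toRingHom
  have hψ : RingHom.Flat (R := ↥D ⊗[k] A) (S := K ⊗[↥D] (↥D ⊗[k] A)) ψ :=
    flat_includeRight (R := ↥D) (K := K) (B := ↥D ⊗[k] A)
  have hφ : φ = c.toAlgHom.toRingHom.comp ψ := by
    refine Algebra.TensorProduct.ringHom_ext (RingHom.ext fun d => ?_) (RingHom.ext fun a => ?_) <;>
      simp [φ, c, ψ, Algebra.smul_def]
  show (e.toAlgHom.toRingHom.comp φ).Flat
  rw [hφ]
  exact RingHom.Flat.comp (RingHom.Flat.comp hψ (RingHom.Flat.of_bijective c.bijective)) (RingHom.Flat.of_bijective e.bijective)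

/-- Every element of the base change comes from a stage. -/
theorem exists_stage (e : K ⊗[k] A ≃ₐ[A] C) (w : C ⊗[A] M) :
    ∃ D : Subalgebra k K, D.FG ∧ ∃ w₀ : (↥D ⊗[k] A) ⊗[A] M, (stage e D).toLinearMap.rTensor M w₀ = w := by
  induction w using TensorProduct.induction_on with
  | zero => exact ⟨⊥, Subalgebra.fg_bot, 0, map_zero _⟩
  | tmul c m =>
    obtain ⟨D, hD, x, hx⟩ := TensorProduct.Algebra.exists_of_fg (R := k) (S := K) (N := A) (e.symm c)
    refine ⟨D, hD, x ⊗ₜ m, ?_⟩
    rw [LinearMap.rTensor_tmul]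
    congr 1
    show e (LinearMap.rTensor A D.val.toLinearMap x) = c
    rw [hx, e.apply_symm_apply]
  | add x y hx hy =>
    obtain ⟨D, hD, a, ha⟩ := hx
    obtain ⟨D', hD', b, hb⟩ := hy
    let ι : ∀ {E E' : Subalgebra k K}, E ≤ E' → (↥E ⊗[k] A →ₐ[A] ↥E' ⊗[k] A) := fun {E E'} h =>
      { (Algebra.TensorProduct.map (Subalgebra.inclusion h) (AlgHom.id k A)).toRingHom with
        commutes' := fun a => by
          show (Algebra.TensorProduct.map (Subalgebra.inclusion h) (AlgHom.id k A)) ((1 : ↥E) ⊗ₜ[k] a) = (1 : ↥E') ⊗ₜ[k] a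
          rw [Algebra.TensorProduct.map_tmul, map_one, AlgHom.id_apply] }
    have hι : ∀ {E E' : Subalgebra k K} (h : E ≤ E') (x : (↥E ⊗[k] A) ⊗[A] M),
        (stage e E').toLinearMap.rTensor M ((ι h).toLinearMap.rTensor M x) = (stage e E).toLinearMap.rTensor M x := by
      intro E E' h x
      rw [← LinearMap.rTensor_comp_apply]
      congr 2
      refine LinearMap.ext fun t => congrArg e ?_
      exact DFunLike.congr_fun (show (Algebra.TensorProduct.map E'.val (AlgHom.id k A)).comp
        (Algebra.TensorProduct.map (Subalgebra.inclusion h) (AlgHom.id k A)) =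
          Algebra.TensorProduct.map E.val (AlgHom.id k A) from Algebra.TensorProduct.ext' fun a b => by simp) t
    refine ⟨D ⊔ D', hD.sup hD', (ι le_sup_left).toLinearMap.rTensor M a + (ι le_sup_right).toLinearMap.rTensor M b, ?_⟩
    rw [map_add, hι, hι, ha, hb]

/-- Weakly associated primes of an extension of the ground field lie over weakly associated primes. -/
theorem under_mem_weakAss_of_field (e : K ⊗[k] A ≃ₐ[A] C) (q : Ideal C)
    (hq : q ∈ FlatCA.weakAss C (C ⊗[A] M)) : q.under A ∈ FlatCA.weakAss A M := by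
  haveI := CAlg5.weakAss_isPrime hq
  obtain ⟨w, hw⟩ := hq
  obtain ⟨D, hD, w₀, rfl⟩ := exists_stage e w
  let B₀ := ↥D ⊗[k] A
  letI : Algebra B₀ C := (stage e D).toRingHom.toAlgebra
  haveI : IsScalarTower A B₀ C := IsScalarTower.of_algebraMap_eq fun a => ((stage e D).commutes a).symm
  haveI : Module.Flat B₀ C := stage_flat e D
  let E := AlgebraTensorModule.cancelBaseChange A B₀ C C M
  have hE : E ((1 : C) ⊗ₜ[B₀] w₀) = (stage e D).toLinearMap.rTensor M w₀ := by
    clear hw
    induction w₀ using TensorProduct.induction_on with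
    | zero => rw [TensorProduct.tmul_zero, LinearEquiv.map_zero, LinearMap.map_zero]
    | add a b ha hb => rw [TensorProduct.tmul_add, LinearEquiv.map_add, LinearMap.map_add, ha, hb]
    | tmul b m =>
      simp only [E, AlgebraTensorModule.cancelBaseChange_tmul, LinearMap.rTensor_tmul, Algebra.smul_def, mul_one]
      rfl
  have hann : (Submodule.span C {(1 : C) ⊗ₜ[B₀] w₀}).annihilator =
      (Submodule.span C {(stage e D).toLinearMap.rTensor M w₀}).annihilator := by
    ext r
    rw [CAlg5.mem_ann, CAlg5.mem_ann, ← hE, ← LinearEquiv.map_smul, E.map_eq_zero_iff]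
  have h1 := under_mem_weakAss (B₀ := B₀) w₀ q (hann ▸ hw)
  haveI : Algebra.FiniteType k ↥D := (Subalgebra.fg_iff_finiteType D).1 hD
  haveI : Algebra.FinitePresentation k ↥D := Algebra.FinitePresentation.of_finiteType.1 inferInstance
  haveI : Algebra.FinitePresentation A B₀ := by
    haveI : Algebra.FinitePresentation A (A ⊗[k] ↥D) := inferInstance
    exact Algebra.FinitePresentation.equiv
      ({ (Algebra.TensorProduct.comm k A ↥D).toRingEquiv with
          commutes' := fun a => by rfl } : A ⊗[k] ↥D ≃ₐ[A] B₀)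
  haveI : Module.Flat A B₀ := by
    haveI : Module.Flat A (A ⊗[k] ↥D) := inferInstance
    exact Module.Flat.of_linearEquiv
      ({ (Algebra.TensorProduct.comm k A ↥D).toRingEquiv with
          commutes' := fun a => by rfl } : A ⊗[k] ↥D ≃ₐ[A] B₀).symm.toLinearEquiv
  haveI : Module.FinitePresentation B₀ B₀ := inferInstance
  have h2 := (S1192.result (R := A) (S := B₀) B₀ M ((q.under B₀).under A) (q.under B₀)).1 h1
  have h3 := h2.1
  rw [Ideal.under_under] at h3
  exact h3

end Field

end Groth.Agent.Div89.WeakAssField
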