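import Groth.Agent.Div89.WeakAss
import Groth.Agent.Div89.WeakAssField
import Groth.Agent.Div89.RegFlat
import Groth.Agent.FlatMor68.PullbackStalk

/-!
Weakly associated points of inverse images.
-/

set_option autoImplicit false
set_option linter.style.haveILetI false
set_option backward.isDefEq.respectTransparency.types false

universe u

open CategoryTheory CategoryTheory.Limits AlgebraicGeometry TopologicalSpace IsLocalRing TensorProduct

namespace Groth.Agent.Div89.WeakAssPull

attribute [local instance] Algebra.TensorProduct.rightAlgebra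

/-- A generic point of a fibre is a minimal prime of the fibre ideal. -/
theorem maximalIdeal_le_radical {X S : Scheme.{u}} (f : X ⟶ S) (x : X)
    (hgen : ∀ y : X, f y = f x → y ⤳ x → y = x) :
    maximalIdeal (X.presheaf.stalk x) ≤ ((maximalIdeal (S.presheaf.stalk (f x))).map (f.stalkMap x).hom).radical := by
  rw [Ideal.radical_eq_sInf]
  refine le_sInf fun q hq => ?_
  haveI := hq.2
  let Q : Spec (X.presheaf.stalk x) := ⟨q, hq.2⟩
  let y := X.fromSpecStalk x Q
  have hyx : y ⤳ x := by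
    have : y ∈ Set.range (X.fromSpecStalk x) := ⟨Q, rfl⟩
    rwa [Scheme.range_fromSpecStalk] at this
  have hfy : f y = f x := by
    have h1 : Spec.map (f.stalkMap x) Q = IsLocalRing.closedPoint (S.presheaf.stalk (f x)) :=
      PrimeSpectrum.ext (le_antisymm (le_maximalIdeal (Ideal.IsPrime.comap _ (hK := hq.2)).ne_top)
        (Ideal.map_le_iff_le_comap.1 hq.1))
    show (X.fromSpecStalk x ≫ f) Q = f x
    rw [← Scheme.SpecMap_stalkMap_fromSpecStalk f, Scheme.Hom.comp_apply, h1, Scheme.fromSpecStalk_closedPoint]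
  have hQ : Q = IsLocalRing.closedPoint (X.presheaf.stalk x) :=
    (X.fromSpecStalk x).isEmbedding.injective ((hgen y hfy hyx).trans (Scheme.fromSpecStalk_closedPoint).symm)
  exact (congrArg PrimeSpectrum.asIdeal hQ).ge

/-- Weakly associated points lift to generic points of flat fibres. -/
theorem isWeakAssPoint_pullback {X S : Scheme.{u}} (f : X ⟶ S) (G : S.Modules) (hG : Coh.IsQCoh G)
    (x : X) (hfl : (f.stalkMap x).hom.Flat) (hgen : ∀ y : X, f y = f x → y ⤳ x → y = x)
    (hs : Curv2.IsWeakAssPoint G (f x)) : Curv2.IsWeakAssPoint ((Scheme.Modules.pullback f).obj G) x := by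
  haveI : G.IsQuasicoherent := hG
  obtain ⟨E⟩ := FlatMor68.PullbackStalk.nonempty_stalkPullbackEquiv f G x
  letI := (f.stalkMap x).hom.toAlgebra
  haveI : Module.Flat (S.presheaf.stalk (f x)) (X.presheaf.stalk x) := hfl
  obtain ⟨m, hm⟩ := hs
  refine ⟨E.symm ((1 : X.presheaf.stalk x) ⊗ₜ m), ?_⟩
  let J : Ideal (S.presheaf.stalk (f x)) :=
    LinearMap.ker (LinearMap.toSpanSingleton (S.presheaf.stalk (f x)) (G.presheaf.stalk (f x)) m)
  have hJ : (Submodule.span (S.presheaf.stalk (f x)) {m}).annihilator = J := by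
    ext r
    rw [CAlg5.mem_ann, LinearMap.mem_ker, LinearMap.toSpanSingleton_apply]
  have hker : LinearMap.ker (LinearMap.toSpanSingleton (X.presheaf.stalk x) _ (E.symm ((1 : X.presheaf.stalk x) ⊗ₜ m))) =
      J.map (f.stalkMap x).hom := by
    refine le_antisymm (fun b hb => ?_) (Ideal.map_le_iff_le_comap.2 fun r hr => ?_)
    · have : b ∈ (Submodule.span (X.presheaf.stalk x) {(1 : X.presheaf.stalk x) ⊗ₜ[S.presheaf.stalk (f x)] m}).annihilator := by
        rw [CAlg5.mem_ann]
        rw [LinearMap.mem_ker, LinearMap.toSpanSingleton_apply, ← LinearEquiv.map_smul, E.symm.map_eq_zero_iff] at hb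
        exact hb
      have h1 := WeakAssField.ann_le_map m this
      rw [hJ] at h1
      exact h1
    · rw [LinearMap.mem_ker, LinearMap.toSpanSingleton_apply] at hr
      rw [Ideal.mem_comap, LinearMap.mem_ker, LinearMap.toSpanSingleton_apply, ← LinearEquiv.map_smul,
        E.symm.map_eq_zero_iff, show (f.stalkMap x).hom r = algebraMap _ (X.presheaf.stalk x) r from rfl,
        algebraMap_smul, ← TensorProduct.tmul_smul, hr, TensorProduct.tmul_zero]
  rw [hker]
  have hJm : J.radical = maximalIdeal (S.presheaf.stalk (f x)) := hm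
  refine le_antisymm ((Ideal.IsPrime.radical_le_iff inferInstance).2 (Ideal.map_le_iff_le_comap.2 fun r hr => ?_))
    ((maximalIdeal_le_radical f x hgen).trans (Ideal.radical_le_radical_iff.2 ?_))
  · rw [Ideal.mem_comap, IsLocalRing.mem_maximalIdeal]
    have hrm : r ∈ maximalIdeal (S.presheaf.stalk (f x)) := hJm ▸ Ideal.le_radical hr
    exact map_nonunit (f.stalkMap x).hom r hrm
  · rw [← hJm]
    exact Ideal.map_radical_le _

/-- Weakly associated points of an extension of the ground field lie over weakly associated points. -/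
theorem isWeakAssPoint_of_bc (k : Type u) [Field k] (K : Type u) [Field K] [Algebra k K] (X : Scheme.{u})
    [X.Over (Spec (CommRingCat.of k))] (F : X.Modules) (hF : Coh.IsQCoh F) (y : ↥(Curv2.bc k X K))
    (hy : Curv2.IsWeakAssPoint ((Scheme.Modules.pullback (Curv2.bcFst k X K)).obj F) y) :
    Curv2.IsWeakAssPoint F (Curv2.bcFst k X K y) := by
  let p := Curv2.bcFst k X K
  let σ := Spec.map (CommRingCat.ofHom (algebraMap k K))
  obtain ⟨U, hU, hxU, -⟩ := exists_isAffineOpen_mem_and_subset (X := X) (x := p y) (U := ⊤) trivial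
  have hk : IsField Γ(Spec (CommRingCat.of k), ⊤) :=
    MulEquiv.isField (Field.toIsField k) (Scheme.ΓSpecIso (CommRingCat.of k)).commRingCatIsoToRingEquiv.toMulEquiv
  have hK : IsField Γ(Spec (CommRingCat.of K), ⊤) :=
    MulEquiv.isField (Field.toIsField K) (Scheme.ΓSpecIso (CommRingCat.of K)).commRingCatIsoToRingEquiv.toMulEquiv
  letI : Field Γ(Spec (CommRingCat.of k), ⊤) := hk.toField
  letI : Field Γ(Spec (CommRingCat.of K), ⊤) := hK.toField
  have eU : U ≤ (X ↘ Spec (CommRingCat.of k)) ⁻¹ᵁ ⊤ := fun _ _ => trivial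
  have eK : (⊤ : (Spec (CommRingCat.of K)).Opens) ≤ σ ⁻¹ᵁ ⊤ := fun _ _ => trivial
  let W : (Curv2.bc k X K).Opens := p ⁻¹ᵁ U ⊓ (Curv2.bcSnd k X K) ⁻¹ᵁ ⊤
  have hWU : W ≤ p ⁻¹ᵁ U := inf_le_left
  have hyW : y ∈ W := ⟨hxU, trivial⟩
  obtain ⟨hW, e, he⟩ := RegFlat.chart' (IsPullback.of_hasPullback (X ↘ Spec (CommRingCat.of k)) σ)
    (isAffineOpen_top _) (isAffineOpen_top _) hU eK eU (W := W) rfl
  letI := (σ.appLE ⊤ ⊤ eK).hom.toAlgebra
  letI := ((X ↘ Spec (CommRingCat.of k)).appLE ⊤ U eU).hom.toAlgebra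
  letI := ((Curv2.bcSnd k X K).appLE ⊤ W inf_le_right).hom.toAlgebra
  letI := (p.appLE U W hWU).hom.toAlgebra
  let eA : Γ(Spec (CommRingCat.of K), ⊤) ⊗[Γ(Spec (CommRingCat.of k), ⊤)] Γ(X, U) ≃ₐ[Γ(X, U)]
      Γ(Curv2.bc k X K, W) :=
    { e.toRingEquiv with commutes' := fun a => he a }
  haveI : F.IsQuasicoherent := hF
  haveI hFQ := QCPull72.isQuasicoherent_pullback p F
  rw [isWeakAssPoint_iff _ hFQ ⟨W, hW⟩ y hyW] at hy
  let sE := QCPull72.sectionsPullbackEquiv p F hU hW hWU
  have h1 := CAlg5.weakAss_subset_of_injective sE.toLinearMap sE.injective hy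
  have h2 := WeakAssField.under_mem_weakAss_of_field eA (primeAt ⟨W, hW⟩ y hyW) h1
  rw [isWeakAssPoint_iff _ hF ⟨U, hU⟩ (p y) hxU]
  have h3 : (primeAt ⟨W, hW⟩ y hyW).under Γ(X, U) = primeAt ⟨U, hU⟩ (p y) hxU :=
    congr($(IsAffineOpen.comap_primeIdealOf_appLE (f := p) U hU W hW hWU hyW).asIdeal)
  exact h3 ▸ h2

end Groth.Agent.Div89.WeakAssPull
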